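import Cfsg.Agent.Fusion.Alperin

/-!
The automiser of a dihedral `2`-group of order at least eight in a saturated fusion system.
-/

set_option autoImplicit false

open Cfsg Cfsg.FusionSystem

namespace CfsgLib.Fusion

/-- The automorphism group of a dihedral `2`-group of order at least eight is a `2`-group. -/
theorem isPGroup_mulAut_dihedral {X : Type*} [Group X] [Finite X] {n : ℕ} (hn : 2 ≤ n)
    (e : X ≃* DihedralGroup (2 ^ n)) : IsPGroup 2 (MulAut X) := by
  haveI : NeZero (2 ^ n) := ⟨by positivity⟩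
  intro φ
  refine ⟨2 * n, ?_⟩
  set x := e.symm (DihedralGroup.r 1) with hxdef
  have hx : orderOf x = 2 ^ n := by rw [MulEquiv.orderOf_eq, DihedralGroup.orderOf_r_one]
  have hidx : (Subgroup.zpowers x).index = 2 := by
    have h1 := Subgroup.card_mul_index (Subgroup.zpowers x)
    rw [Nat.card_zpowers, hx, Nat.card_congr e.toEquiv, DihedralGroup.nat_card, mul_comm 2] at h1
    exact Nat.eq_of_mul_eq_mul_left (by positivity) h1
  have hout : ∀ g : X, g ∉ Subgroup.zpowers x → orderOf g ≠ 2 ^ n := by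
    intro g hg hgo
    rcases hge : e g with i | i
    · exact hg ⟨(i.val : ℤ), e.injective (by simp [hxdef, hge])⟩
    · have h3 := MulEquiv.orderOf_eq e g
      rw [hge, DihedralGroup.orderOf_sr, hgo] at h3
      have : 2 ^ 2 ≤ 2 ^ n := Nat.pow_le_pow_right two_pos hn
      omega
  have hφx : φ x ∈ Subgroup.zpowers x := by
    by_contra h
    exact hout _ h (by rw [MulEquiv.orderOf_eq, hx])
  obtain ⟨i, hi⟩ := mem_powers_iff_mem_zpowers.mpr hφx
  simp only at hi
  have hit : ∀ j : ℕ, (φ ^ j) x = x ^ i ^ j := by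
    intro j
    induction j with
    | zero => simp
    | succ j ih => rw [pow_succ', MulAut.mul_apply, ih, map_pow, ← hi, ← pow_mul, pow_succ']
  have hcop : Nat.Coprime i (2 ^ n) := by
    have h1 : orderOf (x ^ i) = 2 ^ n := by rw [hi, MulEquiv.orderOf_eq, hx]
    rw [orderOf_pow, hx] at h1
    have hd : Nat.gcd (2 ^ n) i ∣ 2 ^ n := Nat.gcd_dvd_left _ _
    have h3 := Nat.div_mul_cancel hd
    rw [h1] at h3
    exact Nat.coprime_comm.mp (Nat.eq_of_mul_eq_mul_left (Nat.two_pow_pos n) (by rw [h3, mul_one]))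
  set ψ := φ ^ (2 ^ n) with hψ
  have hψx : ψ x = x := by
    rw [hψ, hit]
    conv_rhs => rw [← pow_one x]
    rw [pow_eq_pow_iff_modEq, hx]
    have h1 := (Nat.ModEq.pow_totient hcop).pow 2
    rw [one_pow, ← pow_mul, Nat.totient_prime_pow Nat.prime_two (by omega)] at h1
    rwa [show 2 ^ (n - 1) * (2 - 1) * 2 = 2 ^ n by
      rw [show (2 : ℕ) - 1 = 1 from rfl, mul_one, ← pow_succ, Nat.sub_add_cancel (by omega)]] at h1
  have hψz : ∀ z ∈ Subgroup.zpowers x, ψ z = z := by
    rintro _ ⟨j, rfl⟩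
    simp [map_zpow, hψx]
  have hfix : ∀ g : X, (ψ ^ (2 ^ n)) g = g := by
    intro g
    have hd : g⁻¹ * ψ g ∈ Subgroup.zpowers x := by
      rw [Subgroup.mul_mem_iff_of_index_two hidx, inv_mem_iff]
      refine ⟨fun h => by rw [hψz g h]; exact h, fun h => ?_⟩
      have h2 := hψz _ h
      rwa [ψ.injective h2] at h
    obtain ⟨j, hj⟩ := mem_powers_iff_mem_zpowers.mpr hd
    simp only at hj
    have hg : ψ g = g * x ^ j := by rw [hj, mul_inv_cancel_left]
    have : ∀ m : ℕ, (ψ ^ m) g = g * x ^ (m * j) := by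
      intro m
      induction m with
      | zero => simp
      | succ m ih =>
        rw [pow_succ', MulAut.mul_apply, ih, map_mul, map_pow, hψx, hg, mul_assoc, ← pow_add,
          add_one_mul, add_comm]
    rw [this, pow_mul, ← hx, pow_orderOf_eq_one, one_pow, mul_one]
  ext g
  rw [MulAut.one_apply, two_mul, pow_add, pow_mul, ← hψ]
  exact hfix g

/-- If `Aut S` is a `p`-group then `S` has only inner automorphisms in a saturated system. -/
theorem autGroup_eq_inn {Ω : Type*} [Group Ω] {S : Subgroup Ω} [Finite S] (p : ℕ) [Fact p.Prime]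
    (hS : IsPGroup p S) (key : IsPGroup p (MulAut S)) (F : Cfsg.FusionSystem S)
    (hF : F.IsSaturated p) : F.autGroup S = Cfsg.Inn S := by
  obtain ⟨⟨-, R, hR⟩, -⟩ := good_of_fullyNormalized p hS hF isFullyNormalized_S
  refine le_antisymm (fun β hβ => ?_) (inn_le_autGroup le_rfl)
  have hR' : (R : Subgroup (F.autGroup S)) = ⊤ :=
    (R.3 (Q := ⊤) ((key.to_subgroup (F.autGroup S)).of_equiv Subgroup.topEquiv.symm) le_top).symm
  have : (⟨β, hβ⟩ : F.autGroup S) ∈ (R : Subgroup (F.autGroup S)) := hR'.symm ▸ Subgroup.mem_top _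
  rw [hR] at this
  rw [inn_eq_autInducedBy]
  exact this

end CfsgLib.Fusion
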