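import Cfsg.Agent.Fusion.AbelianType
import Cfsg.Agent.Fusion.DihedralAutGroup
import Cfsg.Agent.Solvable.TwoMaximalClass
import Cfsg.Agent.AutFrattini.Basic
import Cfsg.Agent.S4419

/-!
Metacyclic 2-groups with automorphisms of odd order: quaternion of order eight or homocyclic.
-/

set_option autoImplicit false
set_option linter.unusedSectionVars false
set_option linter.style.haveILetI false

open scoped commutatorElement

namespace CfsgLib.MetacyclicAut

universe u v

open Subgroup

/-- Subgroups of metacyclic groups are metacyclic. -/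
theorem isMetacyclic_of_injective {G : Type u} {H : Type v} [Group G] [Group H] (f : G →* H)
    (hf : Function.Injective f) (hH : Cfsg.IsMetacyclic H) : Cfsg.IsMetacyclic G := by
  obtain ⟨N, hNn, hN, hQ⟩ := hH
  haveI := hN
  haveI := hQ
  have hn : (N.comap f).Normal := hNn.comap f
  refine ⟨N.comap f, hn, ?_, ?_⟩
  · exact isCyclic_of_injective ((f.comp (N.comap f).subtype).codRestrict N fun x => x.2)
      fun a b h => Subtype.ext (hf (congrArg Subtype.val h))
  · refine isCyclic_of_injective (QuotientGroup.map (N.comap f) N f le_rfl) ?_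
    rw [injective_iff_map_eq_one]
    intro q hq
    induction q using QuotientGroup.induction_on with
    | H g =>
      rw [QuotientGroup.map_mk, QuotientGroup.eq_one_iff] at hq
      exact (QuotientGroup.eq_one_iff g).2 hq

/-- The automorphism group of a group of order at most four has order dividing six. -/
theorem card_mulAut_dvd_six {V : Type u} [Group V] [Finite V] (h : Nat.card V ≤ 4) :
    Nat.card (MulAut V) ∣ 6 := by
  classical
  have : Finite (MulAut V) := .of_injective _ DFunLike.coe_injective
  let f : MulAut V →* Equiv.Perm {v : V // v ≠ 1} :=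
    { toFun := fun a => a.toEquiv.subtypeEquiv fun v => by simp
      map_one' := by ext; rfl
      map_mul' := fun a b => by ext; rfl }
  have hf : Function.Injective f := by
    intro a b hab
    refine MulEquiv.ext fun v => ?_
    by_cases hv : v = 1
    · simp [hv]
    exact congrArg Subtype.val (Equiv.congr_fun hab ⟨v, hv⟩)
  refine (Subgroup.card_dvd_of_injective f hf).trans ?_
  rw [Nat.card_perm]
  have h3 : Nat.card {v : V // v ≠ 1} ≤ 3 := by
    have h1 : Nat.card {v : V // v ≠ 1} < Nat.card V :=
      Finite.card_subtype_lt (p := fun v : V => v ≠ 1) (x := 1) (by simp)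
    omega
  exact (Nat.factorial_dvd_factorial h3).trans (by simp [Nat.factorial])

/-- The automorphisms trivial on the Frattini quotient. -/
def frattiniKernel (X : Type u) [Group X] : Subgroup (MulAut X) where
  carrier := {α | ∀ x, α x * x⁻¹ ∈ frattini X}
  one_mem' := fun x => by simp
  mul_mem' := fun {α β} hα hβ x => by
    rw [MulAut.mul_apply, show α (β x) * x⁻¹ = (α (β x) * (β x)⁻¹) * (β x * x⁻¹) by group]
    exact mul_mem (hα _) (hβ x)
  inv_mem' := fun {α} hα x => by
    have := inv_mem (hα (α⁻¹ x))
    rwa [MulAut.apply_inv_self, mul_inv_rev, inv_inv] at this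

theorem mem_frattiniKernel {X : Type u} [Group X] {α : MulAut X} :
    α ∈ frattiniKernel X ↔ ∀ x, α x * x⁻¹ ∈ frattini X := Iff.rfl

theorem frattiniKernel_normal (X : Type u) [Group X] [Finite X] : (frattiniKernel X).Normal := by
  refine ⟨fun α hα β x => ?_⟩
  have h := hα (β⁻¹ x)
  have h2 : β (α (β⁻¹ x) * (β⁻¹ x)⁻¹) ∈ frattini X :=
    Subgroup.characteristic_iff_le_comap.1 frattini_characteristic β h
  rw [map_mul, map_inv, MulAut.apply_inv_self] at h2
  exact h2

theorem isPGroup_frattiniKernel {X : Type u} [Group X] [Finite X] {p : ℕ} [Fact p.Prime]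
    (hX : IsPGroup p X) : IsPGroup p (frattiniKernel X) := by
  have : Finite (MulAut X) := .of_injective _ DFunLike.coe_injective
  obtain ⟨n, hn⟩ := IsPGroup.iff_card.1 hX
  obtain ⟨r, hr⟩ := hX.index (frattini X)
  obtain ⟨j, -, hj⟩ := (Nat.dvd_prime_pow Fact.out).1
    (CfsgLib.AutFrattini.card_dvd_of_trivial_mod_frattini hn hr (frattiniKernel X) fun α hα => hα)
  exact IsPGroup.of_card hj

/-- The Frattini quotient of a metacyclic `p`-group. -/
theorem card_quotient_frattini_le {X : Type u} [Group X] [Finite X] {p : ℕ} [Fact p.Prime]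
    (hX : IsPGroup p X) (hm : Cfsg.IsMetacyclic X) : Nat.card (X ⧸ frattini X) ≤ p ^ 2 := by
  obtain ⟨a, -, b, -, h⟩ := Cfsg.Agent.S4419.two_generated hm ⊤
  obtain ⟨r, hr, hi⟩ := Cfsg.Agent.S4419.frattini_index_le hX (eq_top_iff.2 h)
  rw [← Subgroup.index_eq_card, hi]
  exact Nat.pow_le_pow_right (Fact.out : p.Prime).pos hr

/-- An automorphism of a 2-group of odd order fixes every element of an invariant cyclic subgroup. -/
theorem fix_of_cyclic {X : Type u} [Group X] [Finite X] (hX : IsPGroup 2 X) {θ : MulAut X}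
    (hodd : (orderOf θ).Coprime 2) {C : Subgroup X} (hC : IsCyclic C) (hinv : ∀ c ∈ C, θ c ∈ C)
    {c : X} (hc : c ∈ C) : θ c = c := by
  let φ : MulAut C := MulEquiv.ofBijective ((θ.toMonoidHom.comp C.subtype).codRestrict C
    fun x => hinv x x.2) (Finite.injective_iff_bijective.1 fun a b h =>
      Subtype.ext (θ.injective (congrArg Subtype.val h)))
  have hpow : ∀ (j : ℕ) (x : C), (((φ ^ j) x : C) : X) = (θ ^ j) x := by
    intro j
    induction j with
    | zero => intro x; rfl
    | succ j ih =>
      intro x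
      rw [pow_succ', pow_succ', MulAut.mul_apply, MulAut.mul_apply, ← ih]
      rfl
  have hφ : (orderOf φ).Coprime 2 := hodd.coprime_dvd_left (orderOf_dvd_of_pow_eq_one
    (MulEquiv.ext fun x => Subtype.ext (by rw [hpow, pow_orderOf_eq_one]; rfl)))
  letI : CommGroup C := IsCyclic.commGroup
  have h1 : φ = 1 := CfsgLib.Fusion.aut_eq_one_of_abelian (hX.to_subgroup C) hφ fun z hz => by
    by_contra hne
    have hz1 : z ≠ 1 := fun h => hne (by rw [h, map_one])
    have hφz : φ z ≠ 1 := fun h => hz1 (φ.injective (h.trans (map_one φ).symm))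
    haveI := Fintype.ofFinite C
    classical
    have hle := IsCyclic.card_pow_eq_one_le (α := C) two_pos
    have hsub : ({1, z, φ z} : Finset C) ⊆ Finset.univ.filter fun a => a ^ 2 = 1 := by
      intro a ha
      simp only [Finset.mem_insert, Finset.mem_singleton] at ha
      rcases ha with rfl | rfl | rfl <;> simp [← map_pow, hz]
    have h3 : ({1, z, φ z} : Finset C).card = 3 := by
      rw [Finset.card_insert_of_notMem (by simp [hz1.symm, hφz.symm]),
        Finset.card_insert_of_notMem (by simpa using Ne.symm hne), Finset.card_singleton]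
    have := (Finset.card_le_card hsub).trans hle
    omega
  exact congrArg Subtype.val (DFunLike.congr_fun h1 ⟨c, hc⟩)

/-- A metacyclic 2-group whose automorphism group is not a 2-group is quaternion of order eight
or homocyclic of rank two. -/
theorem quaternion_or_homocyclic {X : Type u} [Group X] [Finite X] (hX : IsPGroup 2 X)
    (hm : Cfsg.IsMetacyclic X) (hA : ¬ IsPGroup 2 (MulAut X)) :
    Nonempty (X ≃* QuaternionGroup 2) ∨
      ∃ n : ℕ, Nonempty (X ≃* Multiplicative (ZMod (2 ^ n)) × Multiplicative (ZMod (2 ^ n))) := by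
  have : Finite (MulAut X) := .of_injective _ DFunLike.coe_injective
  -- an automorphism of odd prime order
  obtain ⟨θ, hθ1, hθodd⟩ : ∃ θ : MulAut X, θ ≠ 1 ∧ (orderOf θ).Coprime 2 := by
    by_contra hcon
    push Not at hcon
    apply hA
    intro θ
    obtain ⟨a, m, hm', he⟩ := Nat.exists_eq_pow_mul_and_not_dvd (orderOf_pos θ).ne' 2 (by norm_num)
    refine ⟨a, by_contra fun hne => hcon _ hne ?_⟩
    rw [orderOf_pow_of_dvd (by positivity) (he ▸ dvd_mul_right _ _), he,
      Nat.mul_div_cancel_left _ (by positivity)]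
    exact (Nat.prime_two.coprime_iff_not_dvd.2 hm').symm
  -- its action on the Frattini quotient is fixed point free
  let π := QuotientGroup.mk' (frattini X)
  obtain ⟨hcomF, hsqF⟩ := CfsgLib.PGroupBasic.commutator_pow_le_frattini (p := 2) hX
  have hmapF : (frattini X).map θ.toMonoidHom = frattini X :=
    Subgroup.characteristic_iff_map_eq.1 frattini_characteristic θ
  let τ : MulAut (X ⧸ frattini X) := QuotientGroup.congr _ _ θ hmapF
  have hτ : ∀ x, τ (π x) = π (θ x) := fun _ => rfl
  have hτpow : ∀ (j : ℕ) (x : X), (τ ^ j) (π x) = π ((θ ^ j) x) := by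
    intro j
    induction j with
    | zero => intro x; rfl
    | succ j ih => intro x; rw [pow_succ', MulAut.mul_apply, ih, hτ, pow_succ', MulAut.mul_apply]
  have hτ1 : τ ≠ 1 := fun h => hθ1 (by
    have hθk : θ ∈ frattiniKernel X := fun x => by
      have h2 : π (θ x * x⁻¹) = 1 := by
        rw [map_mul, map_inv, ← hτ, h, MulAut.one_apply, mul_inv_cancel]
      exact (QuotientGroup.eq_one_iff _).1 h2
    obtain ⟨k, hk⟩ := isPGroup_frattiniKernel (p := 2) hX ⟨θ, hθk⟩
    exact orderOf_eq_one_iff.1 (Nat.eq_one_of_dvd_coprimes (hθodd.pow_right k) dvd_rfl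
      (orderOf_dvd_of_pow_eq_one (congrArg Subtype.val hk))))
  have hVcard : Nat.card (X ⧸ frattini X) ≤ 4 := card_quotient_frattini_le (p := 2) hX hm
  have hτodd : (orderOf τ).Coprime 2 := hθodd.coprime_dvd_left (orderOf_dvd_of_pow_eq_one
    (MulEquiv.ext fun q => by
      obtain ⟨x, rfl⟩ := QuotientGroup.mk'_surjective _ q
      rw [hτpow, pow_orderOf_eq_one]; rfl))
  have hV : ∀ q : X ⧸ frattini X, q ^ 2 = 1 := fun q => by
    obtain ⟨x, rfl⟩ := QuotientGroup.mk'_surjective _ q
    rw [← map_pow]; exact (QuotientGroup.eq_one_iff _).2 (hsqF x)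
  have hfree : ∀ q, τ q = q → q = 1 := by
    intro q hq
    by_contra hq1
    apply hτ1
    have h6 := (orderOf_dvd_natCard τ).trans (card_mulAut_dvd_six hVcard)
    have h3 : orderOf τ ∣ 3 := hτodd.dvd_of_dvd_mul_left (show orderOf τ ∣ 2 * 3 from h6)
    have hτ3 : τ ^ 3 = 1 := orderOf_dvd_iff_pow_eq_one.1 h3
    refine MulEquiv.ext fun r => ?_
    by_contra hr
    rw [MulAut.one_apply] at hr
    -- five distinct points in a group of order at most four
    have hr1 : r ≠ 1 := fun h => hr (by rw [h, map_one])
    have hrq : r ≠ q := fun h => hr (by rw [h, hq])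
    have ht2 : τ (τ r) ≠ r := fun h => by
      have h' := DFunLike.congr_fun hτ3 r
      rw [pow_succ, pow_two, MulAut.mul_apply, MulAut.mul_apply, MulAut.one_apply] at h'
      rw [h] at h'
      exact hr h'
    classical
    haveI := Fintype.ofFinite (X ⧸ frattini X)
    have h5 : ({1, q, r, τ r, τ (τ r)} : Finset (X ⧸ frattini X)).card = 5 := by
      have e1 : τ r ≠ 1 := fun h => hr1 (τ.injective (h.trans (map_one τ).symm))
      have e2 : τ r ≠ q := fun h => hrq (τ.injective (h.trans hq.symm))
      have e3 : τ (τ r) ≠ 1 := fun h => e1 (τ.injective (h.trans (map_one τ).symm))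
      have e4 : τ (τ r) ≠ q := fun h => e2 (τ.injective (h.trans hq.symm))
      have e5 : τ (τ r) ≠ τ r := fun h => hr (τ.injective h)
      rw [Finset.card_insert_of_notMem (by simp [Ne.symm hq1, hr1.symm, e1.symm, e3.symm]),
        Finset.card_insert_of_notMem (by simp [hrq.symm, e2.symm, e4.symm]),
        Finset.card_insert_of_notMem (by simp [Ne.symm hr, ht2.symm]),
        Finset.card_insert_of_notMem (by simp [e5.symm]), Finset.card_singleton]
    have hle := Finset.card_le_univ ({1, q, r, τ r, τ (τ r)} : Finset (X ⧸ frattini X))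
    rw [← Nat.card_eq_fintype_card] at hle
    omega
  have hVcomm : ∀ q r : X ⧸ frattini X, q * r = r * q :=
    (Subgroup.Normal.quotient_commutative_iff_commutator_le.2 hcomF).is_comm.comm
  -- displacements generate
  have hD : closure (Set.range fun x => x⁻¹ * θ x) = (⊤ : Subgroup X) := by
    refine frattini_nongenerating (eq_top_iff.2 fun x _ => ?_)
    have hinj : Function.Injective fun q : X ⧸ frattini X => q⁻¹ * τ q := by
      intro q r h
      refine mul_inv_eq_one.1 (hfree _ ?_)
      rw [map_mul, map_inv]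
      have h' : τ q = q * (r⁻¹ * τ r) := by rw [← show q⁻¹ * τ q = r⁻¹ * τ r from h, mul_inv_cancel_left]
      rw [h', mul_assoc, mul_assoc, mul_inv_cancel, mul_one]
    obtain ⟨q, hq⟩ := Finite.surjective_of_injective hinj (π x)
    obtain ⟨y, rfl⟩ := QuotientGroup.mk'_surjective _ q
    have hmem : (y⁻¹ * θ y)⁻¹ * x ∈ frattini X := by
      rw [← QuotientGroup.eq_one_iff]
      show π ((y⁻¹ * θ y)⁻¹ * x) = 1
      rw [map_mul, map_inv, map_mul, map_inv, ← hτ]
      exact inv_mul_eq_one.2 hq
    rw [show x = (y⁻¹ * θ y) * ((y⁻¹ * θ y)⁻¹ * x) by group]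
    exact mul_mem (Subgroup.mem_sup_left (subset_closure ⟨y, rfl⟩)) (Subgroup.mem_sup_right hmem)
  have hkill : ∀ {A : Type u} [Group A] (f : X →* A), (∀ x, f (θ x) = f x) → ∀ x, f x = 1 := by
    intro A _ f hf x
    have h : closure (Set.range fun x => x⁻¹ * θ x) ≤ f.ker := (closure_le _).2 (by
      rintro _ ⟨y, rfl⟩
      show f (y⁻¹ * θ y) = 1
      rw [map_mul, map_inv, hf, inv_mul_cancel])
    exact h (hD.ge trivial)
  -- the derived subgroup is cyclic, central and fixed
  obtain ⟨N, hNn, hN, hQ⟩ := hm
  haveI := hN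
  haveI := hQ
  have hcN : commutator X ≤ N :=
    Subgroup.Normal.quotient_commutative_iff_commutator_le.1
      ⟨⟨(IsCyclic.commGroup (α := X ⧸ N)).mul_comm⟩⟩
  have hccyc : IsCyclic (commutator X) :=
    isCyclic_of_injective (Subgroup.inclusion hcN) (Subgroup.inclusion_injective hcN)
  letI : CommGroup (commutator X) := IsCyclic.commGroup
  have hfix : ∀ c ∈ commutator X, θ c = c := fun c hc => fix_of_cyclic hX hθodd hccyc
    (fun c hc => Subgroup.characteristic_iff_le_comap.1 inferInstance θ hc) hc
  have hcent : ∀ c ∈ commutator X, ∀ x, x * c * x⁻¹ = c := by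
    intro c hc x
    have h := hkill (MulAut.conjNormal (H := commutator X)) (fun y => MulEquiv.ext fun d =>
      Subtype.ext (by
        rw [MulAut.conjNormal_apply, MulAut.conjNormal_apply]
        have h1 := hfix _ ((inferInstance : (commutator X).Normal).conj_mem d d.2 y)
        rw [map_mul, map_mul, map_inv, hfix d d.2] at h1
        exact h1)) x
    have h2 := congrArg Subtype.val (DFunLike.congr_fun h ⟨c, hc⟩)
    rwa [MulAut.conjNormal_apply] at h2
  -- the abelianization
  let ab := QuotientGroup.mk' (commutator X)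
  have habker : ∀ x, ab x = 1 ↔ x ∈ commutator X := fun x => QuotientGroup.eq_one_iff x
  letI : CommGroup (X ⧸ commutator X) :=
    { (inferInstance : Group (X ⧸ commutator X)) with
      mul_comm := (Subgroup.Normal.quotient_commutative_iff_commutator_le.2 le_rfl).is_comm.comm }
  have hex : ∃ m, ∀ x, x ^ 2 ^ m ∈ commutator X := by
    obtain ⟨k, hk⟩ := IsPGroup.iff_card.1 hX
    exact ⟨k, fun x => by rw [← hk, pow_card_eq_one']; exact one_mem _⟩
  classical
  obtain ⟨m, hmall, hmin⟩ : ∃ m, (∀ x, x ^ 2 ^ m ∈ commutator X) ∧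
      ∀ j < m, ¬ ∀ x, x ^ 2 ^ j ∈ commutator X :=
    ⟨Nat.find hex, Nat.find_spec hex, fun j hj => Nat.find_min hex hj⟩
  rcases Nat.eq_zero_or_pos m with hm0 | hm0
  · -- trivial group
    exfalso
    have htop : commutator X = ⊤ := eq_top_iff.2 fun x _ => by simpa [hm0] using hmall x
    exact hθ1 (MulEquiv.ext fun x => hfix x (htop.ge trivial))
  obtain ⟨k, rfl⟩ : ∃ k, m = k + 1 := ⟨m - 1, by omega⟩
  have htop : ∀ x, x ^ 2 ^ k ∈ commutator X → π x = 1 := by
    let f : X →* X ⧸ commutator X := (powMonoidHom (2 ^ k)).comp ab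
    have hf : ∀ x, f x = 1 ↔ x ^ 2 ^ k ∈ commutator X := fun x => by
      rw [← habker, map_pow]; rfl
    have hinv : ∀ x, f x = 1 → f (θ x) = 1 := fun x hx => by
      rw [hf, ← map_pow, hfix _ ((hf x).1 hx)]
      exact (hf x).1 hx
    intro x hx
    by_contra hne
    apply hmin k (by omega)
    -- the kernel covers the Frattini quotient
    have hK : f.ker ⊔ frattini X = ⊤ := by
      refine eq_top_iff.2 fun y _ => ?_
      let W : Subgroup (X ⧸ frattini X) := f.ker.map π
      have hWinv : ∀ w ∈ W, τ w ∈ W := by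
        rintro _ ⟨z, hz, rfl⟩
        exact ⟨θ z, hinv z hz, (hτ z).symm⟩
      have hxW : π x ∈ W := ⟨x, (hf x).2 hx, rfl⟩
      haveI := Fintype.ofFinite (X ⧸ frattini X)
      have h4 : 2 < Nat.card W := by
        rw [Nat.card_eq_fintype_card]
        have hs : ({1, π x, τ (π x)} : Finset (X ⧸ frattini X)).card = 3 := by
          rw [Finset.card_insert_of_notMem (by
              simp [Ne.symm hne]
              exact fun h => hne (τ.injective (h.symm.trans (map_one τ).symm))),
            Finset.card_insert_of_notMem (by simpa using fun h => hne (hfree _ h.symm)),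
            Finset.card_singleton]
        have hsub : ({1, π x, τ (π x)} : Finset (X ⧸ frattini X)) ⊆
            Finset.univ.filter fun w => w ∈ W := by
          intro w hw
          simp only [Finset.mem_insert, Finset.mem_singleton] at hw
          rcases hw with rfl | rfl | rfl <;> simp [hxW, hWinv _ hxW]
        have := Finset.card_le_card hsub
        rw [hs, ← Fintype.card_subtype] at this
        exact this
      have hWtop : W = ⊤ := by
        by_contra hWne
        have h2 : 2 ≤ W.index := by
          have := Subgroup.index_ne_zero_of_finite (H := W)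
          have : W.index ≠ 1 := fun h => hWne (Subgroup.index_eq_one.1 h)
          omega
        have := W.card_mul_index
        have : Nat.card W * 2 ≤ Nat.card W * W.index := Nat.mul_le_mul_left _ h2
        omega
      obtain ⟨z, hz, e⟩ := hWtop.ge (Subgroup.mem_top (π y))
      rw [show y = z * (z⁻¹ * y) by group]
      exact mul_mem (Subgroup.mem_sup_left hz) (Subgroup.mem_sup_right (QuotientGroup.eq.1 e))
    intro y
    exact (hf y).1 ((frattini_nongenerating hK).ge trivial : y ∈ f.ker)
  -- generators
  obtain ⟨a, ha⟩ : ∃ a, π a ≠ 1 := by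
    by_contra hcon
    push Not at hcon
    exact hτ1 (MulEquiv.ext fun q => by
      obtain ⟨x, rfl⟩ := QuotientGroup.mk'_surjective _ q
      rw [hcon x, map_one]; rfl)
  let b := θ a
  have hb : π b ≠ 1 := fun h => ha (τ.injective (by rw [hτ, h, map_one]))
  have hab : π b ≠ π a := fun h => ha (hfree _ (by rw [hτ]; exact h))
  have hgenV : ∀ q, q ∈ closure ({π a, π b} : Set (X ⧸ frattini X)) := by
    intro q
    haveI := Fintype.ofFinite (X ⧸ frattini X)
    have h3 : 2 < Nat.card (closure ({π a, π b} : Set (X ⧸ frattini X))) := by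
      rw [Nat.card_eq_fintype_card]
      have hs : ({1, π a, π b} : Finset (X ⧸ frattini X)).card = 3 := by
        rw [Finset.card_insert_of_notMem (by simp [Ne.symm ha, Ne.symm hb]),
          Finset.card_insert_of_notMem (by simpa using Ne.symm hab), Finset.card_singleton]
      have hsub : ({1, π a, π b} : Finset (X ⧸ frattini X)) ⊆
          Finset.univ.filter fun w => w ∈ closure ({π a, π b} : Set (X ⧸ frattini X)) := by
        intro w hw
        simp only [Finset.mem_insert, Finset.mem_singleton] at hw
        rcases hw with rfl | rfl | rfl <;> simp only [Finset.mem_filter, Finset.mem_univ, true_and]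
        exacts [one_mem _, Subgroup.subset_closure (Set.mem_insert _ _),
          Subgroup.subset_closure (Set.mem_insert_of_mem _ rfl)]
      have := Finset.card_le_card hsub
      rw [hs, ← Fintype.card_subtype] at this
      exact this
    by_contra hq
    have h2 : 2 ≤ (closure ({π a, π b} : Set (X ⧸ frattini X))).index := by
      have := Subgroup.index_ne_zero_of_finite (H := closure ({π a, π b} : Set (X ⧸ frattini X)))
      have : (closure ({π a, π b} : Set (X ⧸ frattini X))).index ≠ 1 :=
        fun h => hq (by rw [Subgroup.index_eq_one.1 h]; trivial)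
      omega
    have := (closure ({π a, π b} : Set (X ⧸ frattini X))).card_mul_index
    have : Nat.card (closure ({π a, π b} : Set (X ⧸ frattini X))) * 2 ≤
      Nat.card (closure ({π a, π b} : Set (X ⧸ frattini X))) *
        (closure ({π a, π b} : Set (X ⧸ frattini X))).index := Nat.mul_le_mul_left _ h2
    omega
  have hgen : closure ({a, b} : Set X) = ⊤ := by
    refine frattini_nongenerating (eq_top_iff.2 fun y _ => ?_)
    have h1 := hgenV (π y)
    rw [← Set.image_pair, ← MonoidHom.map_closure] at h1
    obtain ⟨z, hz, e⟩ := h1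
    rw [show y = z * (z⁻¹ * y) by group]
    exact mul_mem (Subgroup.mem_sup_left hz) (Subgroup.mem_sup_right (QuotientGroup.eq.1 e))
  let A : Type u := X ⧸ commutator X
  have hexpA : ∀ q : A, q ^ 2 ^ (k + 1) = 1 := fun q => by
    obtain ⟨x, rfl⟩ := QuotientGroup.mk'_surjective _ q
    rw [← map_pow]; exact (habker _).2 (hmall x)
  -- exponents in the abelianization
  have hindep : ∀ i j : ℕ, ab a ^ i * ab b ^ j = 1 → 2 ^ (k + 1) ∣ i ∧ 2 ^ (k + 1) ∣ j := by
    suffices h : ∀ s ≤ k + 1, ∀ i j : ℕ, ab a ^ i * ab b ^ j = 1 → 2 ^ s ∣ i ∧ 2 ^ s ∣ j from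
      h _ le_rfl
    intro s
    induction s with
    | zero => intro _ i j _; simp
    | succ s ih =>
      intro hs i j h
      obtain ⟨⟨i', rfl⟩, ⟨j', rfl⟩⟩ := ih (by omega) i j h
      have h1 : (a ^ i' * b ^ j') ^ 2 ^ k ∈ commutator X := by
        rw [← habker, map_pow, map_mul, map_pow, map_pow]
        obtain ⟨d, hd⟩ := pow_dvd_pow 2 (show s ≤ k by omega)
        rw [hd, pow_mul, mul_pow, ← pow_mul, ← pow_mul, mul_comm i', mul_comm j', h, one_pow]
      have h2 := htop _ h1
      rw [map_mul, map_pow, map_pow] at h2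
      have he : ∀ (q : X ⧸ frattini X) (e : ℕ), q ^ e = q ^ (e % 2) := fun q e => by
        conv_lhs => rw [← Nat.mod_add_div e 2, pow_add, pow_mul, hV, one_pow, mul_one]
      rw [he _ i', he _ j'] at h2
      have hi : i' % 2 = 0 ∧ j' % 2 = 0 := by
        rcases Nat.mod_two_eq_zero_or_one i' with hi | hi <;>
          rcases Nat.mod_two_eq_zero_or_one j' with hj | hj <;> rw [hi, hj] at h2 <;>
          simp only [pow_zero, pow_one, one_mul, mul_one] at h2
        · exact ⟨hi, hj⟩
        · exact absurd h2 hb
        · exact absurd h2 ha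
        · exfalso
          refine hab ?_
          have h3 := hV (π a)
          rw [pow_two] at h3
          exact (mul_left_cancel (h2.trans h3.symm))
      rw [pow_succ]
      exact ⟨mul_dvd_mul_left _ (Nat.dvd_of_mod_eq_zero hi.1),
        mul_dvd_mul_left _ (Nat.dvd_of_mod_eq_zero hi.2)⟩
  by_cases hcomm : commutator X = ⊥
  · -- homocyclic
    right
    refine ⟨k + 1, ?_⟩
    have hXc : ∀ x y : X, x * y = y * x := fun x y => by
      have : ⁅x, y⁆ ∈ commutator X := by
        rw [_root_.commutator_def]; exact commutator_mem_commutator (mem_top _) (mem_top _)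
      rw [hcomm, mem_bot] at this
      exact commutatorElement_eq_one_iff_commute.1 this
    letI : CommGroup X := { (inferInstance : Group X) with mul_comm := hXc }
    haveI : NeZero (2 ^ (k + 1)) := ⟨by positivity⟩
    have hexp : ∀ x : X, x ^ 2 ^ (k + 1) = 1 := fun x => by
      simpa [hcomm] using hmall x
    let φ : Multiplicative (ZMod (2 ^ (k + 1))) × Multiplicative (ZMod (2 ^ (k + 1))) →* X :=
      { toFun := fun w => a ^ w.1.toAdd.val * b ^ w.2.toAdd.val
        map_one' := by simp
        map_mul' := fun v w => by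
          have hval : ∀ (x : X) (c d : ZMod (2 ^ (k + 1))), x ^ (c + d).val = x ^ c.val * x ^ d.val := by
            intro x c d
            rw [ZMod.val_add, ← pow_add, ← pow_eq_pow_mod _ (hexp x)]
          simp only [Prod.fst_mul, Prod.snd_mul, toAdd_mul, hval]
          ac_rfl }
    have hφi : Function.Injective φ := by
      rw [injective_iff_map_eq_one]
      rintro ⟨c, d⟩ h
      have h' : ab a ^ c.toAdd.val * ab b ^ d.toAdd.val = 1 := by
        rw [← map_pow, ← map_pow, ← map_mul]
        exact (congrArg ab h).trans (map_one ab)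
      obtain ⟨h1, h2⟩ := hindep _ _ h'
      have z1 := Nat.eq_zero_of_dvd_of_lt h1 (ZMod.val_lt _)
      have z2 := Nat.eq_zero_of_dvd_of_lt h2 (ZMod.val_lt _)
      rw [ZMod.val_eq_zero] at z1 z2
      exact Prod.ext z1 z2
    have hφs : Function.Surjective φ := by
      intro x
      have : closure ({a, b} : Set X) ≤ φ.range := (closure_le _).2 (by
        have h1 : (1 : ZMod (2 ^ (k + 1))).val = 1 := ZMod.val_one'' (by
          have : 2 ≤ 2 ^ (k + 1) := Nat.le_self_pow (by omega) 2
          omega)
        rintro _ (rfl | rfl)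
        · exact ⟨(Multiplicative.ofAdd 1, 1), by simp [φ, h1]⟩
        · exact ⟨(1, Multiplicative.ofAdd 1), by simp [φ, h1]⟩)
      exact this (hgen.ge trivial)
    exact ⟨(MulEquiv.ofBijective φ ⟨hφi, hφs⟩).symm⟩
  left
  -- nonabelian: the derived subgroup
  obtain ⟨c₀, hc₀⟩ := IsCyclic.exists_generator (α := commutator X)
  have hcommpow : ∀ (x y : X) (i : ℕ), ⁅x ^ i, y⁆ = ⁅x, y⁆ ^ i := by
    intro x y i
    have hd : ⁅x, y⁆ ∈ commutator X := by
      rw [_root_.commutator_def]; exact commutator_mem_commutator (mem_top _) (mem_top _)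
    induction i with
    | zero => simp
    | succ i ih =>
      rw [pow_succ' x, show ⁅x * x ^ i, y⁆ = x * ⁅x ^ i, y⁆ * x⁻¹ * ⁅x, y⁆ by
        simp [commutatorElement_def, mul_assoc], ih, hcent _ (pow_mem hd i) x, pow_succ]
  have hcexp : ∀ d ∈ commutator X, d ^ 2 ^ (k + 1) = 1 := by
    intro d hd
    have hle : commutator X ≤ (powMonoidHom (2 ^ (k + 1)) : (commutator X) →*
        (commutator X)).ker.map (commutator X).subtype := by
      conv_lhs => rw [_root_.commutator_def]
      rw [commutator_le]
      intro x _ y _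
      refine ⟨⟨⁅x, y⁆, by rw [_root_.commutator_def]; exact commutator_mem_commutator (mem_top _) (mem_top _)⟩,
        Subtype.ext ?_, rfl⟩
      show ⁅x, y⁆ ^ 2 ^ (k + 1) = 1
      rw [← hcommpow, commutatorElement_eq_one_iff_commute]
      exact (mul_inv_eq_iff_eq_mul.1 (hcent _ (hmall x) y)).symm
    obtain ⟨d', hd', rfl⟩ := hle hd
    exact congrArg Subtype.val (hd' : (d' : commutator X) ^ 2 ^ (k + 1) = 1)
  rcases Nat.eq_zero_or_pos k with rfl | hk
  · -- order eight
    rw [zero_add, pow_one] at hmall hcexp hindep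
    have hcc : Nat.card (commutator X) = 2 := by
      have h1 : orderOf c₀ = 2 := by
        have := hcexp _ c₀.2
        refine orderOf_eq_prime (Subtype.ext this) fun h => hcomm (eq_bot_iff.2 fun d hd => ?_)
        obtain ⟨i, hi⟩ := hc₀ ⟨d, hd⟩
        have : d = ((c₀ ^ i : commutator X) : X) := (congrArg Subtype.val hi).symm
        rw [this, h, one_zpow]
        exact one_mem _
      rw [← orderOf_eq_card_of_forall_mem_zpowers hc₀, h1]
    have hkerπ : frattini X ≤ commutator X := by
      refine CfsgLib.PGroupBasic.frattini_le_of_elementary (p := 2) _ le_rfl hmall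
    have hF : frattini X = commutator X := le_antisymm hkerπ hcomF
    have h8 : Nat.card X = 8 := by
      have h4 : Nat.card (X ⧸ frattini X) = 4 := by
        refine le_antisymm hVcard ?_
        haveI := Fintype.ofFinite (X ⧸ frattini X)
        rw [Nat.card_eq_fintype_card]
        have e3 : π a * π b ≠ 1 := fun h => hab (mul_left_cancel
          (h.trans (by rw [← pow_two, hV]) : π a * π b = π a * π a))
        have hs : ({1, π a, π b, π a * π b} : Finset (X ⧸ frattini X)).card = 4 := by
          rw [Finset.card_insert_of_notMem (by simp [Ne.symm ha, Ne.symm hb, Ne.symm e3]),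
            Finset.card_insert_of_notMem (by simp [Ne.symm hab, hb]),
            Finset.card_insert_of_notMem (by simp [ha]), Finset.card_singleton]
        exact hs ▸ Finset.card_le_univ _
      rw [Subgroup.card_eq_card_quotient_mul_card_subgroup (frattini X), h4, hF, hcc]
    have hna : ∀ x y : X, ⁅x, y⁆ ≠ 1 → x ^ 2 ≠ 1 ∨ y ^ 2 ≠ 1 ∨ (x * y) ^ 2 ≠ 1 := by
      intro x y h
      by_contra hcon
      push Not at hcon
      obtain ⟨h1, h2, h3⟩ := hcon
      rw [pow_two] at h1 h2 h3
      apply h
      rw [commutatorElement_def, inv_eq_of_mul_eq_one_left h1, inv_eq_of_mul_eq_one_left h2]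
      rw [show x * y * x * y = x * y * (x * y) by group]
      exact h3
    have hab1 : ⁅a, b⁆ ≠ 1 := by
      intro h
      apply hcomm
      rw [eq_bot_iff, _root_.commutator_def, commutator_le]
      intro x _ y _
      rw [mem_bot, commutatorElement_eq_one_iff_commute]
      have hcab : Commute a b := commutatorElement_eq_one_iff_commute.1 h
      have hca : ∀ g, Commute g a ∧ Commute g b := by
        intro g
        have hg : g ∈ closure ({a, b} : Set X) := hgen.ge trivial
        induction hg using Subgroup.closure_induction with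
        | mem z hz =>
          rcases hz with rfl | rfl
          exacts [⟨Commute.refl _, hcab⟩, ⟨hcab.symm, Commute.refl _⟩]
        | one => exact ⟨Commute.one_left a, Commute.one_left b⟩
        | mul u w _ _ hu hw => exact ⟨hu.1.mul_left hw.1, hu.2.mul_left hw.2⟩
        | inv u _ hu => exact ⟨hu.1.inv_left, hu.2.inv_left⟩
      have hy : y ∈ closure ({a, b} : Set X) := hgen.ge trivial
      induction hy using Subgroup.closure_induction with
      | mem z hz =>
        rcases hz with rfl | rfl
        exacts [(hca x).1, (hca x).2]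
      | one => exact Commute.one_right x
      | mul u w _ _ hu hw => exact (hu (mem_top _)).mul_right (hw (mem_top _))
      | inv u _ hu => exact (hu (mem_top _)).inv_right
    -- an element of order four
    obtain ⟨x, hx⟩ : ∃ x : X, x ^ 2 ≠ 1 := by
      rcases hna a b hab1 with h | h | h
      exacts [⟨_, h⟩, ⟨_, h⟩, ⟨_, h⟩]
    have hx4 : orderOf x = 2 ^ (1 + 1) := orderOf_eq_prime_pow (by rwa [pow_one]) (by
      rw [pow_succ, pow_one, pow_mul]; exact hcexp _ (hmall x))
    have hidx : (zpowers x).index = 2 := by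
      have := (zpowers x).card_mul_index
      rw [Nat.card_zpowers, hx4, h8] at this
      omega
    obtain ⟨y, hy⟩ : ∃ y, y ∉ zpowers x := by
      by_contra hcon
      push Not at hcon
      rw [(Subgroup.eq_top_iff' _).2 hcon, index_top] at hidx
      omega
    obtain ⟨r, hr, -, -⟩ := CfsgLib.TwoMax.index_two_conj hx4 hX hidx y
    obtain ⟨s, hs4, hs⟩ : ∃ s, s < 4 ∧ x ^ r = x ^ s := ⟨r % 4, Nat.mod_lt _ (by omega), by
      rw [← pow_mod_orderOf, hx4]; rfl⟩
    rw [hs] at hr
    have hs3 : s = 3 := by
      interval_cases s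
      · rw [pow_zero, mul_inv_eq_one] at hr
        exact absurd (mul_eq_left.1 hr) (fun h => hx (by rw [h, one_pow]))
      · exfalso
        rw [pow_one, mul_inv_eq_iff_eq_mul] at hr
        apply hab1
        have hxy : ∀ g : X, g * x = x * g ∧ g * y = y * g := by
          intro g
          have hg : g ∈ closure ({x, y} : Set X) := by
            have hlt : zpowers x < closure ({x, y} : Set X) :=
              lt_of_le_of_ne (zpowers_le.2 (subset_closure (Set.mem_insert _ _)))
                fun e => hy (e ▸ subset_closure (Set.mem_insert_of_mem _ rfl))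
            have htop : closure ({x, y} : Set X) = ⊤ := by
              rw [← index_eq_one]
              have h1 := Subgroup.index_dvd_of_le hlt.le
              rw [hidx] at h1
              rcases (Nat.dvd_prime Nat.prime_two).1 h1 with h | h
              · exact h
              · exact absurd (Subgroup.eq_of_le_of_card_ge hlt.le (by
                  have e1 := (zpowers x).card_mul_index
                  have e2 := (closure ({x, y} : Set X)).card_mul_index
                  rw [hidx] at e1
                  rw [h] at e2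
                  omega)) hlt.ne
            rw [htop]; trivial
          induction hg using Subgroup.closure_induction with
          | mem z hz =>
            rcases hz with rfl | rfl
            exacts [⟨rfl, hr.symm⟩, ⟨hr, rfl⟩]
          | one => simp
          | mul u w _ _ hu hw =>
            exact ⟨by rw [mul_assoc, hw.1, ← mul_assoc, hu.1, mul_assoc],
              by rw [mul_assoc, hw.2, ← mul_assoc, hu.2, mul_assoc]⟩
          | inv u _ hu =>
            exact ⟨(Commute.inv_left (show Commute u x from hu.1)).eq,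
              (Commute.inv_left (show Commute u y from hu.2)).eq⟩
        rw [commutatorElement_eq_one_iff_commute]
        have hcx : closure ({x, y} : Set X) ≤ centralizer {a} := (closure_le _).2 (by
          rintro _ (rfl | rfl)
          · exact mem_centralizer_singleton_iff.2 (hxy a).1.symm
          · exact mem_centralizer_singleton_iff.2 (hxy a).2.symm)
        have : b ∈ closure ({x, y} : Set X) := by
          have hlt : zpowers x < closure ({x, y} : Set X) :=
            lt_of_le_of_ne (zpowers_le.2 (subset_closure (Set.mem_insert _ _)))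
              fun e => hy (e ▸ subset_closure (Set.mem_insert_of_mem _ rfl))
          have h1 := Subgroup.index_dvd_of_le hlt.le
          rw [hidx] at h1
          rcases (Nat.dvd_prime Nat.prime_two).1 h1 with h | h
          · rw [index_eq_one.1 h]; trivial
          · exact absurd (Subgroup.eq_of_le_of_card_ge hlt.le (by
              have e1 := (zpowers x).card_mul_index
              have e2 := (closure ({x, y} : Set X)).card_mul_index
              rw [hidx] at e1
              rw [h] at e2
              omega)) hlt.ne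
        exact (mem_centralizer_singleton_iff.1 (hcx this)).symm
      · exfalso
        have h1 : (y * x * y⁻¹) ^ 2 = 1 := by
          rw [hr, ← pow_mul, show 2 * 2 = 2 ^ (1 + 1) from rfl, ← hx4, pow_orderOf_eq_one]
        rw [conj_pow, mul_inv_eq_one, mul_eq_left] at h1
        exact hx h1
      · rfl
    rw [hs3] at hr
    rcases CfsgLib.TwoMax.dsq_of_cyclic hX le_rfl hx4 hidx hr rfl with ⟨j, ⟨e⟩⟩ | ⟨j, hj, -⟩ | ⟨j, ⟨e⟩⟩
    · exfalso
      exact hA (CfsgLib.Fusion.isPGroup_mulAut_dihedral (by omega) e)
    · exfalso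
      rw [h8] at hj
      have : 2 ^ 4 ≤ 2 ^ (j + 4) := Nat.pow_le_pow_right two_pos (by omega)
      omega
    · have hc := Nat.card_congr e.toEquiv
      rw [h8, Nat.card_eq_fintype_card, QuaternionGroup.card] at hc
      have hj : j = 0 := by
        by_contra hj
        have : 2 ^ 2 ≤ 2 ^ (j + 1) := Nat.pow_le_pow_right two_pos (by omega)
        omega
      subst hj
      exact ⟨e⟩
  -- exponent at least four: contradiction
  exfalso
  let sq : Subgroup (commutator X) :=
    (powMonoidHom 2 : (commutator X) →* (commutator X)).range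
  haveI : sq.Normal := ⟨fun s hs g => by
    rwa [show g * s * g⁻¹ = s from Subtype.ext (hcent _ s.2 g)]⟩
  let f : X →* (commutator X) ⧸ sq := MonoidHom.mk'
    (fun x => QuotientGroup.mk' sq ⟨x ^ 2 ^ (k + 1), hmall x⟩) fun x y => by
      rw [← map_mul]
      refine QuotientGroup.eq.2 ?_
      have hcl : commutator X ≤ center X := fun d hd => mem_center_iff.2 fun g =>
        mul_inv_eq_iff_eq_mul.1 (hcent d hd g)
      obtain ⟨j, hj⟩ : ∃ j, 2 ^ (k + 1) * (2 ^ (k + 1) - 1) / 2 = 2 * j := by
        obtain ⟨i, rfl⟩ : ∃ i, k = i + 1 := ⟨k - 1, by omega⟩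
        exact ⟨2 ^ i * (2 ^ (i + 1 + 1) - 1), by
          rw [show 2 ^ (i + 1 + 1) * (2 ^ (i + 1 + 1) - 1) = 2 * (2 * (2 ^ i * (2 ^ (i + 1 + 1) - 1))) by
            ring, Nat.mul_div_cancel_left _ two_pos]⟩
      have hz : y⁻¹ * x⁻¹ * y * x ∈ commutator X := by
        rw [show y⁻¹ * x⁻¹ * y * x = ⁅y⁻¹, x⁻¹⁆ by simp [commutatorElement_def], _root_.commutator_def]
        exact commutator_mem_commutator (mem_top _) (mem_top _)
      refine ⟨(⟨_, hz⟩ : commutator X)⁻¹ ^ j, Subtype.ext ?_⟩
      simp only [powMonoidHom_apply, Subgroup.coe_pow, Subgroup.coe_inv, Subgroup.coe_mul]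
      rw [CfsgLib.Char.mul_pow_of_central_commutator hcl, hj, ← pow_mul, mul_comm j 2, inv_pow]
      generalize (y⁻¹ * x⁻¹ * y * x) ^ (2 * j) = w
      group
  have hf := hkill f fun x => by
    show QuotientGroup.mk' sq ⟨θ x ^ 2 ^ (k + 1), _⟩ = QuotientGroup.mk' sq ⟨x ^ 2 ^ (k + 1), _⟩
    congr 2
    rw [← map_pow, hfix _ (hmall x)]
  obtain ⟨n₀, hn₀⟩ := IsCyclic.exists_generator (α := N)
  obtain ⟨t₀, ht₀⟩ := IsCyclic.exists_generator (α := X ⧸ N)
  obtain ⟨t, rfl⟩ := QuotientGroup.mk'_surjective N t₀
  -- the generator of `N` has full order modulo the derived subgroup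
  have hord : ∀ i : ℕ, (n₀ : X) ^ i ∈ commutator X → 2 ^ (k + 1) ∣ i := by
    intro i hi
    have hgenA : ∀ q : A, ∃ c d : ℕ, q = ab n₀ ^ c * ab t ^ d := by
      intro q
      obtain ⟨x, rfl⟩ := QuotientGroup.mk'_surjective _ q
      obtain ⟨d, hd⟩ := (Submonoid.mem_powers_iff _ _).1
        ((isOfFinOrder_of_finite _).mem_powers_iff_mem_zpowers.2 (ht₀ (QuotientGroup.mk' N x)))
      rw [← map_pow] at hd
      obtain ⟨c, hc⟩ := (Submonoid.mem_powers_iff _ _).1
        ((isOfFinOrder_of_finite _).mem_powers_iff_mem_zpowers.2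
          (hn₀ ⟨(t ^ d)⁻¹ * x, QuotientGroup.eq.1 hd⟩))
      refine ⟨c, d, ?_⟩
      have hc' : (n₀ : X) ^ c = (t ^ d)⁻¹ * x := congrArg Subtype.val hc
      show ab x = _
      rw [← map_pow ab, hc', map_mul, map_inv, map_pow, mul_comm, mul_inv_cancel_left]
    -- count
    haveI : NeZero (2 ^ (k + 1)) := ⟨by positivity⟩
    have hA4 : 2 ^ (k + 1) * 2 ^ (k + 1) ≤ Nat.card A := by
      let ψ : ZMod (2 ^ (k + 1)) × ZMod (2 ^ (k + 1)) → A := fun w => ab a ^ w.1.val * ab b ^ w.2.val
      have hψ : Function.Injective ψ := by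
        have hval : ∀ (x : A) (c d : ZMod (2 ^ (k + 1))), x ^ c.val = x ^ (c - d).val * x ^ d.val := by
          intro x c d
          conv_lhs => rw [← sub_add_cancel c d, ZMod.val_add, ← pow_eq_pow_mod _ (hexpA x), pow_add]
        intro v w h
        have h' : ab a ^ (v.1 - w.1).val * ab b ^ (v.2 - w.2).val = 1 := by
          simp only [ψ] at h
          rw [hval _ v.1 w.1, hval _ v.2 w.2, mul_mul_mul_comm] at h
          exact mul_eq_right.1 h
        obtain ⟨e1, e2⟩ := hindep _ _ h'
        have z1 := Nat.eq_zero_of_dvd_of_lt e1 (ZMod.val_lt _)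
        have z2 := Nat.eq_zero_of_dvd_of_lt e2 (ZMod.val_lt _)
        rw [ZMod.val_eq_zero, sub_eq_zero] at z1 z2
        exact Prod.ext z1 z2
      have := Nat.card_le_card_of_injective ψ hψ
      rwa [Nat.card_prod, Nat.card_zmod] at this
    let ρ : Subgroup.zpowers (ab n₀) × Subgroup.zpowers (ab t) → A := fun w => w.1 * w.2
    have hρ : Function.Surjective ρ := fun q => by
      obtain ⟨c, d, rfl⟩ := hgenA q
      exact ⟨(⟨_, pow_mem (Subgroup.mem_zpowers _) c⟩, ⟨_, pow_mem (Subgroup.mem_zpowers _) d⟩), rfl⟩
    have hle := Nat.card_le_card_of_surjective ρ hρ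
    rw [Nat.card_prod, Nat.card_zpowers, Nat.card_zpowers] at hle
    have ht : orderOf (ab t) ≤ 2 ^ (k + 1) := orderOf_le_of_pow_eq_one (by positivity) (hexpA _)
    have hdvd : orderOf (ab (n₀ : X)) ∣ 2 ^ (k + 1) := orderOf_dvd_of_pow_eq_one (hexpA _)
    have hge : 2 ^ (k + 1) ≤ orderOf (ab (n₀ : X)) :=
      Nat.le_of_mul_le_mul_right ((hA4.trans hle).trans (Nat.mul_le_mul_left _ ht)) (by positivity)
    rw [← Nat.le_antisymm (Nat.le_of_dvd (by positivity) hdvd) hge, orderOf_dvd_iff_pow_eq_one,
      ← map_pow]
    exact (habker _).2 hi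
  -- so the derived subgroup consists of squares
  have hsq : ∀ d : commutator X, d ∈ sq := by
    intro d
    obtain ⟨i, hi⟩ := (Submonoid.mem_powers_iff _ _).1
      ((isOfFinOrder_of_finite _).mem_powers_iff_mem_zpowers.2 (hn₀ ⟨d, hcN d.2⟩))
    have hi' : (n₀ : X) ^ i = d := congrArg Subtype.val hi
    obtain ⟨i', rfl⟩ := hord i (hi' ▸ d.2)
    have h1 : (⟨(n₀ : X) ^ 2 ^ (k + 1), hmall _⟩ : commutator X) ∈ sq :=
      (QuotientGroup.eq_one_iff _).1 (hf n₀)
    have : d = (⟨(n₀ : X) ^ 2 ^ (k + 1), hmall _⟩ : commutator X) ^ i' :=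
      Subtype.ext (by rw [Subgroup.coe_pow, ← pow_mul]; exact hi'.symm)
    rw [this]
    exact pow_mem h1 i'
  have hinj := Finite.injective_iff_surjective.2 fun d => hsq d
  have hc0 : c₀ ≠ 1 := fun h => hcomm (eq_bot_iff.2 fun d hd => by
    obtain ⟨i, hi⟩ := hc₀ ⟨d, hd⟩
    rw [h] at hi
    simp only [one_zpow] at hi
    exact mem_bot.2 (congrArg Subtype.val hi).symm)
  obtain ⟨l, hl⟩ := (hX.to_subgroup (commutator X)) c₀
  clear hsq
  induction l with
  | zero => exact hc0 (by simpa using hl)
  | succ l ih =>
    refine ih (hinj (a₁ := c₀ ^ 2 ^ l) (a₂ := 1) ?_)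
    show (powMonoidHom 2 : (commutator X) →* (commutator X)) (c₀ ^ 2 ^ l) = powMonoidHom 2 1
    rw [map_one, powMonoidHom_apply, ← pow_mul, ← pow_succ, hl]

end CfsgLib.MetacyclicAut
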