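import Mathlib.GroupTheory.Sylow
import Mathlib.GroupTheory.Transfer
import Mathlib.GroupTheory.SpecificGroups.Cyclic
import Mathlib.GroupTheory.Perm.Basic
import Mathlib.Data.ZMod.Aut

/-!
# An abelian Sylow 2-subgroup with exactly three involutions
-/

set_option autoImplicit false
set_option linter.style.haveILetI false

namespace CfsgLib.HomocyclicTwo

universe u

variable {G : Type u} [Group G]

/-- An element of odd order modulo the centralizer fixing the involutions centralizes. -/
theorem mem_centralizer_of_fix {P : Subgroup G} (hab : ∀ a ∈ P, ∀ b ∈ P, a * b = b * a)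
    (h2 : IsPGroup 2 P) {g : G} (hg : g ∈ Subgroup.normalizer (P : Set G)) {t : ℕ} (ht : Odd t)
    (hgt : g ^ t ∈ Subgroup.centralizer (P : Set G))
    (hfix : ∀ u ∈ P, orderOf u = 2 → g * u * g⁻¹ = u) : g ∈ Subgroup.centralizer (P : Set G) := by
  have main : ∀ j : ℕ, ∀ y ∈ P, y ^ 2 ^ j = 1 → g * y * g⁻¹ = y := by
    intro j
    induction j with
    | zero =>
      intro y _ hy
      rw [pow_zero, pow_one] at hy
      rw [hy]; group
    | succ j ih =>
      intro y hyP hy
      have hsq : g * y ^ 2 * g⁻¹ = y ^ 2 :=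
        ih _ (pow_mem hyP 2) (by rw [← pow_mul, ← pow_succ']; exact hy)
      have hgy : g * y * g⁻¹ ∈ P := (Subgroup.mem_normalizer_iff.1 hg y).1 hyP
      set w := y⁻¹ * (g * y * g⁻¹)
      have hwP : w ∈ P := mul_mem (inv_mem hyP) hgy
      have hw : w ^ 2 = 1 := by
        rw [(show Commute y⁻¹ (g * y * g⁻¹) from hab _ (inv_mem hyP) _ hgy).mul_pow, conj_pow, hsq,
          inv_pow, inv_mul_cancel]
      by_cases hw1 : w = 1
      · exact (inv_mul_eq_one.1 hw1).symm
      have hwfix : g * w * g⁻¹ = w := hfix w hwP (orderOf_eq_prime hw hw1)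
      have hy1 : g * y * g⁻¹ = y * w := by rw [mul_inv_cancel_left]
      have hiter : ∀ i : ℕ, g ^ i * y * (g ^ i)⁻¹ = y * w ^ i := by
        intro i
        induction i with
        | zero => simp
        | succ i ih' =>
          calc g ^ (i + 1) * y * (g ^ (i + 1))⁻¹ = g * (g ^ i * y * (g ^ i)⁻¹) * g⁻¹ := by
                rw [pow_succ']; group
            _ = (g * y * g⁻¹) * (g * w * g⁻¹) ^ i := by rw [ih', conj_pow]; group
            _ = y * w ^ (i + 1) := by rw [hy1, hwfix, pow_succ', mul_assoc]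
      have hfin := hiter t
      rw [← Subgroup.mem_centralizer_iff.1 hgt y hyP, mul_inv_cancel_right] at hfin
      obtain ⟨r, rfl⟩ := ht
      rw [pow_add, pow_mul, hw, one_pow, one_mul, pow_one] at hfin
      exact absurd (left_eq_mul.1 hfin) hw1
  rw [Subgroup.mem_centralizer_iff]
  intro y hy
  obtain ⟨j, hj⟩ := h2 ⟨y, hy⟩
  exact (mul_inv_eq_iff_eq_mul.1 (main j y hy (congrArg Subtype.val hj))).symm

/-- The group `ℤ/2^m × ℤ/2^m` has three involutions. -/
theorem card_involutions {m : ℕ} (hm : 1 ≤ m) :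
    Nat.card {q : Multiplicative (ZMod (2 ^ m) × ZMod (2 ^ m)) // orderOf q = 2} = 3 := by
  classical
  haveI : NeZero (2 ^ m) := ⟨pow_ne_zero _ two_ne_zero⟩
  set K := (powMonoidHom 2 : Multiplicative (ZMod (2 ^ m)) →* Multiplicative (ZMod (2 ^ m))).ker
  have hK : Nat.card K = 2 := by
    rw [IsCyclic.card_powMonoidHom_ker, Nat.card_congr Multiplicative.toAdd, Nat.card_zmod]
    exact Nat.gcd_eq_right (dvd_pow_self 2 (Nat.one_le_iff_ne_zero.1 hm))
  set A := {q : Multiplicative (ZMod (2 ^ m) × ZMod (2 ^ m)) // q ^ 2 = 1}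
  have h1 : Nat.card A = Nat.card (K × K) := Nat.card_congr
    { toFun := fun q => (⟨Multiplicative.ofAdd (Multiplicative.toAdd q.1).1, by
          refine MonoidHom.mem_ker.2 ?_
          rw [powMonoidHom_apply]
          exact congrArg (fun r => Multiplicative.ofAdd (Multiplicative.toAdd r).1) q.2⟩,
        ⟨Multiplicative.ofAdd (Multiplicative.toAdd q.1).2, by
          refine MonoidHom.mem_ker.2 ?_
          rw [powMonoidHom_apply]
          exact congrArg (fun r => Multiplicative.ofAdd (Multiplicative.toAdd r).2) q.2⟩)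
      invFun := fun r => ⟨Multiplicative.ofAdd
          (Multiplicative.toAdd r.1.1, Multiplicative.toAdd r.2.1), by
          have e1 : r.1.1 ^ 2 = 1 := r.1.2
          have e2 : r.2.1 ^ 2 = 1 := r.2.2
          exact congrArg Multiplicative.ofAdd (Prod.ext (congrArg Multiplicative.toAdd e1)
            (congrArg Multiplicative.toAdd e2))⟩
      left_inv := fun q => rfl
      right_inv := fun r => rfl }
  rw [Nat.card_prod, hK] at h1
  haveI : Fintype (Multiplicative (ZMod (2 ^ m) × ZMod (2 ^ m))) := Fintype.ofFinite _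
  rw [Nat.card_eq_fintype_card, Fintype.card_subtype] at h1 ⊢
  have h2 : (Finset.univ.filter fun q : Multiplicative (ZMod (2 ^ m) × ZMod (2 ^ m)) =>
        orderOf q = 2) = (Finset.univ.filter fun q : Multiplicative (ZMod (2 ^ m) × ZMod (2 ^ m)) =>
        q ^ 2 = 1).erase 1 := by
    ext q
    simp only [Finset.mem_filter, Finset.mem_erase, Finset.mem_univ, true_and]
    refine ⟨fun h => ⟨fun e => by rw [e, orderOf_one] at h; omega,
      (congrArg (fun k : ℕ => q ^ k) h.symm).trans (pow_orderOf_eq_one q)⟩, fun h => orderOf_eq_prime h.2 h.1⟩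
  rw [h2, Finset.card_erase_of_mem (by simp), h1]

variable [Finite G] (P : Sylow 2 G)

/-- The hypotheses: abelian with three involutions. -/
structure Setup : Prop where
  comm : ∀ a ∈ (P : Subgroup G), ∀ b ∈ (P : Subgroup G), a * b = b * a
  three : Nat.card {u : G // u ∈ (P : Subgroup G) ∧ orderOf u = 2} = 3

theorem setup_of_equiv {m : ℕ} (hm : 1 ≤ m)
    (e : (P : Subgroup G) ≃* Multiplicative (ZMod (2 ^ m) × ZMod (2 ^ m))) : Setup P where
  comm a ha b hb := congrArg Subtype.val
    (e.injective (by simp only [map_mul]; exact mul_comm _ _) :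
      (⟨a, ha⟩ * ⟨b, hb⟩ : (P : Subgroup G)) = ⟨b, hb⟩ * ⟨a, ha⟩)
  three := by
    rw [← card_involutions hm]
    exact Nat.card_congr
      { toFun := fun u => ⟨e ⟨u.1, u.2.1⟩, by rw [e.orderOf_eq, Subgroup.orderOf_mk]; exact u.2.2⟩
        invFun := fun q => ⟨(e.symm q.1 : (P : Subgroup G)), (e.symm q.1).2, by
          rw [Subgroup.orderOf_coe, e.symm.orderOf_eq]; exact q.2⟩
        left_inv := fun u => Subtype.ext (by simp)
        right_inv := fun q => Subtype.ext (by simp) }

variable {P} (hS : Setup P)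

local notation "N" => Subgroup.normalizer ((P : Subgroup G) : Set G)
local notation "C" => Subgroup.centralizer ((P : Subgroup G) : Set G)

include hS

theorem le_centralizer : (P : Subgroup G) ≤ C := fun a ha =>
  Subgroup.mem_centralizer_iff.2 fun b hb => hS.comm b hb a ha

theorem odd_relIndex : Odd (Subgroup.relIndex C N) := by
  rw [Nat.odd_iff, ← Nat.two_dvd_ne_zero]
  intro h
  refine P.not_dvd_index (h.trans ?_)
  have h1 : Subgroup.relIndex C N ∣ Subgroup.relIndex (P : Subgroup G) N :=
    Subgroup.relIndex_dvd_of_le_left _ (le_centralizer hS)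
  exact h1.trans ⟨(N : Subgroup G).index,
    (Subgroup.relIndex_mul_index Subgroup.le_normalizer).symm⟩

theorem pow_mem_centralizer {g : G} (hg : g ∈ N) : g ^ Subgroup.relIndex C N ∈ C := by
  haveI : ((C).subgroupOf N).Normal := by
    refine ⟨fun x hx y => ?_⟩
    rw [Subgroup.mem_subgroupOf, Subgroup.mem_centralizer_iff] at hx ⊢
    intro b hb
    have hb' := (Subgroup.mem_normalizer_iff.1 (inv_mem y.2) b).1 hb
    have h := hx _ hb'
    rw [inv_inv] at h
    push_cast
    calc b * ((y : G) * x * (y : G)⁻¹) = (y : G) * (((y : G)⁻¹ * b * y) * x) * (y : G)⁻¹ := by group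
      _ = (y : G) * (x * ((y : G)⁻¹ * b * y)) * (y : G)⁻¹ := by rw [h]
      _ = (y : G) * x * (y : G)⁻¹ * b := by group
  exact Subgroup.mem_subgroupOf.1 (Subgroup.pow_index_mem ((C).subgroupOf N) ⟨g, hg⟩)

/-- The conjugates of an involution of the Sylow subgroup by an element of the normalizer. -/
theorem conj_mem {g u : G} (hg : g ∈ N) (hu : u ∈ (P : Subgroup G) ∧ orderOf u = 2) :
    g * u * g⁻¹ ∈ (P : Subgroup G) ∧ orderOf (g * u * g⁻¹) = 2 :=
  ⟨(Subgroup.mem_normalizer_iff.1 hg u).1 hu.1,
    (orderOf_injective (MulAut.conj g).toMonoidHom (MulAut.conj g).injective u).trans hu.2⟩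

/-- An element of the normalizer fixing one involution centralizes. -/
theorem mem_centralizer_of_fixed {g : G} (hg : g ∈ N) {a : G}
    (ha : a ∈ (P : Subgroup G) ∧ orderOf a = 2) (hfix : g * a * g⁻¹ = a) : g ∈ C := by
  classical
  haveI := Fintype.ofFinite G
  set t := Subgroup.relIndex C N
  have ht : Odd t := odd_relIndex hS
  have hgt := pow_mem_centralizer hS hg
  refine mem_centralizer_of_fix hS.comm P.isPGroup' hg ht hgt fun b hb hb2 => ?_
  by_contra hne
  set c := g * b * g⁻¹
  have hc := conj_mem hS hg ⟨hb, hb2⟩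
  have hd := conj_mem hS hg hc
  have hca : c ≠ a := fun h => by
    have : b = a := by
      have := h.trans hfix.symm
      exact mul_left_cancel (mul_right_cancel this)
    exact hne (by show g * b * g⁻¹ = b; rw [this]; exact hfix)
  have hba : b ≠ a := fun h => hne (by show g * b * g⁻¹ = b; rw [h]; exact hfix)
  have h3 : (Finset.univ.filter fun u : G => u ∈ (P : Subgroup G) ∧ orderOf u = 2) =
      {a, b, c} := by
    refine (Finset.eq_of_subset_of_card_le ?_ ?_).symm
    · intro u hu
      simp only [Finset.mem_insert, Finset.mem_singleton] at hu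
      rcases hu with rfl | rfl | rfl
      · exact Finset.mem_filter.2 ⟨Finset.mem_univ _, ha⟩
      · exact Finset.mem_filter.2 ⟨Finset.mem_univ _, hb, hb2⟩
      · exact Finset.mem_filter.2 ⟨Finset.mem_univ _, hc⟩
    · rw [← Fintype.card_subtype, ← Nat.card_eq_fintype_card, hS.three,
        Finset.card_insert_of_notMem (by simp [hba.symm, hca.symm]),
        Finset.card_insert_of_notMem (by simpa using Ne.symm hne), Finset.card_singleton]
  have hgc : g * c * g⁻¹ = b := by
    have hmem : g * c * g⁻¹ ∈ ({a, b, c} : Finset G) := by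
      rw [← h3]; exact Finset.mem_filter.2 ⟨Finset.mem_univ _, hd⟩
    simp only [Finset.mem_insert, Finset.mem_singleton] at hmem
    rcases hmem with h | h | h
    · exact absurd (mul_left_cancel (mul_right_cancel (h.trans hfix.symm))) hca
    · exact h
    · exact absurd (mul_left_cancel (mul_right_cancel h)) hne
  have heven : ∀ i : ℕ, g ^ (2 * i) * b * (g ^ (2 * i))⁻¹ = b := by
    intro i
    induction i with
    | zero => simp
    | succ i ih =>
      calc g ^ (2 * (i + 1)) * b * (g ^ (2 * (i + 1)))⁻¹ =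
            g * (g * (g ^ (2 * i) * b * (g ^ (2 * i))⁻¹) * g⁻¹) * g⁻¹ := by
            rw [show 2 * (i + 1) = 2 * i + 1 + 1 by ring, pow_succ', pow_succ']; group
        _ = b := by rw [ih]; exact hgc
  obtain ⟨r, hr⟩ := ht
  have hfin : g ^ t * b * (g ^ t)⁻¹ = c := by
    calc g ^ t * b * (g ^ t)⁻¹ = g * (g ^ (2 * r) * b * (g ^ (2 * r))⁻¹) * g⁻¹ := by
          rw [hr, pow_succ']; group
      _ = c := by rw [heven]
  refine hne ?_
  rw [← hfin, ← Subgroup.mem_centralizer_iff.1 hgt b hb, mul_inv_cancel_right]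

/-- An element of the normalizer outside the centralizer permutes the involutions cyclically. -/
theorem exists_conj {g : G} (hg : g ∈ N) (hgC : g ∉ C) {u v : G}
    (hu : u ∈ (P : Subgroup G) ∧ orderOf u = 2) (hv : v ∈ (P : Subgroup G) ∧ orderOf v = 2) :
    IsConj u v := by
  classical
  haveI := Fintype.ofFinite G
  set u1 := g * u * g⁻¹
  set u2 := g * u1 * g⁻¹
  have hu1 := conj_mem hS hg hu
  have hu2 := conj_mem hS hg hu1
  have h01 : u1 ≠ u := fun h => hgC (mem_centralizer_of_fixed hS hg hu h)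
  have h12 : u2 ≠ u1 := fun h => hgC (mem_centralizer_of_fixed hS hg hu1 h)
  have h02 : u2 ≠ u := by
    intro h
    refine hgC ?_
    have hsq : g * g ∈ C := mem_centralizer_of_fixed hS (mul_mem hg hg) hu (by
      calc g * g * u * (g * g)⁻¹ = g * (g * u * g⁻¹) * g⁻¹ := by group
        _ = u := h)
    obtain ⟨r, hr⟩ := odd_relIndex hS
    have hgt := pow_mem_centralizer hS hg
    rw [hr, pow_succ', pow_mul, pow_two] at hgt
    have := mul_mem hgt (inv_mem (pow_mem hsq r))
    rwa [mul_inv_cancel_right] at this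
  have h3 : (Finset.univ.filter fun w : G => w ∈ (P : Subgroup G) ∧ orderOf w = 2) =
      {u, u1, u2} := by
    refine (Finset.eq_of_subset_of_card_le ?_ ?_).symm
    · intro w hw
      simp only [Finset.mem_insert, Finset.mem_singleton] at hw
      rcases hw with rfl | rfl | rfl
      exacts [Finset.mem_filter.2 ⟨Finset.mem_univ _, hu⟩,
        Finset.mem_filter.2 ⟨Finset.mem_univ _, hu1⟩, Finset.mem_filter.2 ⟨Finset.mem_univ _, hu2⟩]
    · rw [← Fintype.card_subtype, ← Nat.card_eq_fintype_card, hS.three,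
        Finset.card_insert_of_notMem (by simp [h01.symm, h02.symm]),
        Finset.card_insert_of_notMem (by simpa using h12.symm), Finset.card_singleton]
  have hmem : v ∈ ({u, u1, u2} : Finset G) := by
    rw [← h3]; exact Finset.mem_filter.2 ⟨Finset.mem_univ _, hv⟩
  simp only [Finset.mem_insert, Finset.mem_singleton] at hmem
  rcases hmem with rfl | rfl | rfl
  · exact IsConj.refl _
  · exact isConj_iff.2 ⟨g, rfl⟩
  · exact isConj_iff.2 ⟨g * g, by simp only [u2, u1]; group⟩

theorem relIndex_one_or_three :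
    Subgroup.relIndex C N = 1 ∨ Subgroup.relIndex C N = 3 := by
  classical
  haveI := Fintype.ofFinite G
  set S := {u : G // u ∈ (P : Subgroup G) ∧ orderOf u = 2}
  let φ : (N : Subgroup G) →* Equiv.Perm S := MonoidHom.mk' (fun g =>
    { toFun := fun u => ⟨(g : G) * u.1 * (g : G)⁻¹, conj_mem hS g.2 u.2⟩
      invFun := fun u => ⟨((g⁻¹ : (N : Subgroup G)) : G) * u.1 *
        ((g⁻¹ : (N : Subgroup G)) : G)⁻¹, conj_mem hS (g⁻¹).2 u.2⟩
      left_inv := fun u => Subtype.ext (by push_cast; group)
      right_inv := fun u => Subtype.ext (by push_cast; group) }) fun a b =>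
    Equiv.ext fun u => Subtype.ext (by
      show ((a * b : (N : Subgroup G)) : G) * u.1 * ((a * b : (N : Subgroup G)) : G)⁻¹ =
        (a : G) * ((b : G) * u.1 * (b : G)⁻¹) * (a : G)⁻¹
      push_cast; group)
  have hker : φ.ker = (C).subgroupOf N := by
    ext g
    rw [MonoidHom.mem_ker, Subgroup.mem_subgroupOf]
    constructor
    · intro h
      obtain ⟨⟨a, ha⟩⟩ : Nonempty S := by
        have h3 : Nat.card S = 3 := hS.three
        exact (Nat.card_pos_iff.1 (by rw [h3]; norm_num)).1
      exact mem_centralizer_of_fixed hS g.2 ha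
        (congrArg Subtype.val (Equiv.Perm.congr_fun h ⟨a, ha⟩))
    · intro h
      refine Equiv.ext fun u => Subtype.ext ?_
      show (g : G) * u.1 * (g : G)⁻¹ = u.1
      rw [← Subgroup.mem_centralizer_iff.1 h u.1 u.2.1, mul_inv_cancel_right]
  have hdvd : Subgroup.relIndex C N ∣ 6 := by
    have h1 : ((C).subgroupOf N).index = Nat.card φ.range := by rw [← hker, Subgroup.index_ker]
    rw [Subgroup.relIndex, h1]
    refine (Subgroup.card_subgroup_dvd_card _).trans ?_
    rw [Nat.card_eq_fintype_card, Fintype.card_perm, ← Nat.card_eq_fintype_card,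
      show Nat.card S = 3 from hS.three]
    rfl
  have hmem : Subgroup.relIndex C N ∈ Nat.divisors 6 := Nat.mem_divisors.2 ⟨hdvd, by norm_num⟩
  rw [show Nat.divisors 6 = {1, 2, 3, 6} from rfl] at hmem
  simp only [Finset.mem_insert, Finset.mem_singleton] at hmem
  have hodd := odd_relIndex hS
  rw [Nat.odd_iff] at hodd
  rcases hmem with h | h | h | h <;> omega

/-- An element of the normalizer centralizing a nontrivial element centralizes. -/
theorem mem_centralizer_of_centralizes {z : G} (hz : z ∈ (P : Subgroup G)) (hz1 : z ≠ 1) {g : G}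
    (hg : g ∈ N) (hgz : g * z = z * g) : g ∈ C := by
  obtain ⟨j, hj⟩ := P.isPGroup' ⟨z, hz⟩
  have hj' : z ^ 2 ^ j = 1 := congrArg Subtype.val hj
  obtain ⟨i, -, hi⟩ := (Nat.dvd_prime_pow Nat.prime_two).1 (orderOf_dvd_of_pow_eq_one hj')
  have hi0 : i ≠ 0 := fun h => hz1 (orderOf_eq_one_iff.1 (by rw [hi, h, pow_zero]))
  have hord : orderOf (z ^ 2 ^ (i - 1)) = 2 := by
    rw [orderOf_pow_of_dvd (pow_ne_zero _ two_ne_zero) (hi ▸ pow_dvd_pow 2 (Nat.sub_le i 1)), hi,
      Nat.pow_div (Nat.sub_le i 1) two_pos, show i - (i - 1) = 1 by omega, pow_one]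
  refine mem_centralizer_of_fixed hS hg ⟨pow_mem hz (2 ^ (i - 1)), hord⟩ ?_
  have hc : Commute g z := hgz
  rw [(hc.pow_right _).eq, mul_inv_cancel_right]

/-- A normal complement, or one class of involutions. -/
theorem complement_or_conj :
    (∃ K : Subgroup G, K.Normal ∧ Subgroup.IsComplement' K (P : Subgroup G)) ∨
      ∀ s t : G, orderOf s = 2 → orderOf t = 2 → IsConj s t := by
  classical
  by_cases h : N ≤ C
  · exact Or.inl ⟨_, MonoidHom.normal_ker _, MonoidHom.ker_transferSylow_isComplement' P h⟩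
  obtain ⟨g, hg, hgC⟩ := SetLike.not_le_iff_exists.1 h
  refine Or.inr fun s t hs ht => ?_
  have key : ∀ x : G, orderOf x = 2 → ∃ x' : G, IsConj x x' ∧
      (x' ∈ (P : Subgroup G) ∧ orderOf x' = 2) := by
    intro x hx
    obtain ⟨Q, hQ⟩ := (IsPGroup.of_card (G := Subgroup.zpowers x) (n := 1) (by
      rw [Nat.card_zpowers, hx, pow_one]) : IsPGroup 2 (Subgroup.zpowers x)).exists_le_sylow
    obtain ⟨y, hy⟩ := MulAction.exists_smul_eq G Q P
    refine ⟨y * x * y⁻¹, isConj_iff.2 ⟨y, rfl⟩, ?_,
      (orderOf_injective (MulAut.conj y).toMonoidHom (MulAut.conj y).injective x).trans hx⟩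
    rw [← hy]
    exact ⟨x, hQ (Subgroup.mem_zpowers x), rfl⟩
  obtain ⟨s', hss, hs'⟩ := key s hs
  obtain ⟨t', htt, ht'⟩ := key t ht
  exact hss.trans ((exists_conj hS hg hgC hs' ht').trans htt.symm)

end CfsgLib.HomocyclicTwo
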