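import Cfsg.Agent.Fusion.Saturation

/-!
The fusion system of a finite group on a subgroup, in particular on a Sylow subgroup.
-/

set_option autoImplicit false

open Cfsg Cfsg.FusionSystem

namespace CfsgLib.Fusion

variable {G : Type*} [Group G] {p : ℕ}

/-- `A` is a Sylow `p`-subgroup of `L`, both given as subgroups of `G`. -/
def SylowIn (p : ℕ) (A L : Subgroup G) : Prop :=
  A ≤ L ∧ ∃ R : Sylow p L, (R : Subgroup L) = A.subgroupOf L

theorem sylowIn_iff {A L : Subgroup G} (h : A ≤ L) :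
    SylowIn p A L ↔ ∃ R : Sylow p L, (R : Subgroup L) = A.subgroupOf L :=
  ⟨fun h' => h'.2, fun h' => ⟨h, h'⟩⟩

theorem SylowIn.isPGroup {A L : Subgroup G} (h : SylowIn p A L) : IsPGroup p A := by
  obtain ⟨hle, R, hR⟩ := h
  have := R.2
  rw [hR] at this
  exact this.of_equiv (Subgroup.subgroupOfEquivOfLe hle)

theorem SylowIn.eq_of_le {A L U : Subgroup G} (h : SylowIn p A L) (hU : IsPGroup p U)
    (hAU : A ≤ U) (hUL : U ≤ L) : U = A := by
  obtain ⟨hle, R, hR⟩ := h
  have := R.3 (Q := U.subgroupOf L) (hU.of_equiv (Subgroup.subgroupOfEquivOfLe hUL).symm)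
    (hR.le.trans fun x hx => hAU hx)
  rw [hR, Subgroup.subgroupOf_inj, inf_of_le_left hUL, inf_of_le_left hle] at this
  exact this

theorem SylowIn.exists_conj_le [Finite G] [Fact p.Prime] {A L U : Subgroup G}
    (h : SylowIn p A L) (hU : IsPGroup p U) (hUL : U ≤ L) :
    ∃ g ∈ L, ∀ x ∈ U, g * x * g⁻¹ ∈ A := by
  obtain ⟨hle, R, hR⟩ := h
  obtain ⟨T, hT⟩ := (hU.of_equiv (Subgroup.subgroupOfEquivOfLe hUL).symm).exists_le_sylow
  obtain ⟨g, hg⟩ := MulAction.exists_smul_eq L T R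
  refine ⟨g, g.2, fun x hx => ?_⟩
  have h1 : g * ⟨x, hUL hx⟩ * g⁻¹ ∈ (R : Subgroup L) := by
    rw [← hg, Sylow.coe_subgroup_smul]
    exact ⟨_, hT (show (⟨x, hUL hx⟩ : L) ∈ U.subgroupOf L from hx), rfl⟩
  rw [hR] at h1
  exact h1

theorem sylowIn_of_card [Finite G] [Fact p.Prime] {A B L M : Subgroup G} (hB : SylowIn p B M)
    (hA : IsPGroup p A) (hAL : A ≤ L) (h₁ : Nat.card L = Nat.card M)
    (h₂ : Nat.card B ≤ Nat.card A) : SylowIn p A L := by
  obtain ⟨hle, R, hR⟩ := hB
  obtain ⟨T, hT⟩ := (hA.of_equiv (Subgroup.subgroupOfEquivOfLe hAL).symm).exists_le_sylow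
  refine ⟨hAL, T, (Subgroup.eq_of_le_of_card_ge hT ?_).symm⟩
  have hc : Nat.card (R : Subgroup M) = Nat.card B := by
    rw [hR]; exact Nat.card_congr (Subgroup.subgroupOfEquivOfLe hle).toEquiv
  rw [Nat.card_congr (Subgroup.subgroupOfEquivOfLe hAL).toEquiv, Sylow.card_eq_multiplicity, h₁,
    ← Sylow.card_eq_multiplicity R, hc]
  exact h₂

theorem exists_sylowIn [Finite G] [Fact p.Prime] {U L : Subgroup G} (hU : IsPGroup p U)
    (hUL : U ≤ L) : ∃ A : Subgroup G, U ≤ A ∧ SylowIn p A L := by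
  obtain ⟨T, hT⟩ := (hU.of_equiv (Subgroup.subgroupOfEquivOfLe hUL).symm).exists_le_sylow
  refine ⟨(T : Subgroup L).map L.subtype, fun x hx => ⟨⟨x, hUL hx⟩, hT hx, rfl⟩,
    Subgroup.map_subtype_le _, T, ?_⟩
  exact (Subgroup.comap_map_eq_self_of_injective L.subtype_injective _).symm

theorem SylowIn.card_ge [Finite G] [Fact p.Prime] {A L U : Subgroup G}
    (h : SylowIn p A L) (hU : IsPGroup p U) (hUL : U ≤ L) : Nat.card U ≤ Nat.card A := by
  obtain ⟨g, -, hg⟩ := h.exists_conj_le hU hUL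
  refine Nat.card_le_card_of_injective (fun x : U => (⟨g * x * g⁻¹, hg x x.2⟩ : A)) fun a b hab => ?_
  exact Subtype.ext (mul_left_cancel (mul_right_cancel (congrArg Subtype.val hab)))

/-- `S ∩ N` is Sylow in a normal subgroup `N` of a group in which `S` is Sylow. -/
theorem SylowIn.inf_normal [Finite G] [Fact p.Prime] {A L N : Subgroup G} (h : SylowIn p A L)
    (hNL : N ≤ L) (hn : L ≤ Subgroup.normalizer (N : Set G)) : SylowIn p (A ⊓ N) N := by
  obtain ⟨U, hAU, hU⟩ := exists_sylowIn (p := p) (L := N) (h.isPGroup.to_le inf_le_left)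
    (inf_le_right : A ⊓ N ≤ N)
  obtain ⟨g, hg, hgU⟩ := h.exists_conj_le hU.isPGroup (hU.1.trans hNL)
  have key : Nat.card U ≤ Nat.card (A ⊓ N : Subgroup G) := by
    refine Nat.card_le_card_of_injective (fun x : U =>
      (⟨g * x * g⁻¹, hgU x x.2, (Subgroup.mem_normalizer_iff.1 (hn hg) x).1 (hU.1 x.2)⟩ :
        (A ⊓ N : Subgroup G))) fun a b hab => ?_
    exact Subtype.ext (mul_left_cancel (mul_right_cancel (congrArg Subtype.val hab)))
  exact sylowIn_of_card hU (h.isPGroup.to_le inf_le_left) inf_le_right rfl key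

theorem SylowIn.sup_normal [Finite G] [Fact p.Prime] {A C : Subgroup G} (hA : IsPGroup p A)
    (hn : A ≤ Subgroup.normalizer (C : Set G)) (h : SylowIn p (A ⊓ C) C) :
    SylowIn p A (A ⊔ C) := by
  obtain ⟨U, hAU, hU⟩ := exists_sylowIn (p := p) (L := A ⊔ C) hA le_sup_left
  have : U = A := by
    refine le_antisymm (fun u hu => ?_) hAU
    have hu' : u ∈ ((A ⊔ C : Subgroup G) : Set G) := hU.1 hu
    rw [Subgroup.coe_mul_of_left_le_normalizer_right A C hn] at hu'
    obtain ⟨a, ha, c, hc, rfl⟩ := hu'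
    have hcU : c ∈ U ⊓ C := ⟨by simpa using U.mul_mem (U.inv_mem (hAU ha)) hu, hc⟩
    have := h.eq_of_le (hU.isPGroup.to_le inf_le_left) (inf_le_inf_right C hAU) inf_le_right
    rw [this] at hcU
    exact A.mul_mem ha hcU.1
  exact this ▸ hU

/-! ### The system of a group -/

section

variable {S : Subgroup G}

theorem mem_groupFusion {P : Subgroup G} {φ : P →* G} :
    φ ∈ (groupFusionSystem S).Hom P ↔
      P ≤ S ∧ (∀ x : P, φ x ∈ S) ∧ ∃ g : G, ∀ x : P, φ x = g * (x : G) * g⁻¹ := Iff.rfl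

theorem conjHom_mem_groupFusion {P : Subgroup G} (hP : P ≤ S) {g : G}
    (h : ∀ x ∈ P, g * x * g⁻¹ ∈ S) : conjHom P g ∈ (groupFusionSystem S).Hom P :=
  ⟨hP, fun x => h x x.2, g, fun _ => rfl⟩

theorem range_eq_map_conj {P : Subgroup G} {φ : P →* G} {g : G}
    (h : ∀ x : P, φ x = g * (x : G) * g⁻¹) : φ.range = P.map (MulAut.conj g).toMonoidHom := by
  ext y
  constructor
  · rintro ⟨x, rfl⟩
    exact ⟨x, x.2, (h x).symm⟩
  · rintro ⟨x, hx, rfl⟩
    exact ⟨⟨x, hx⟩, h _⟩

theorem isConj_groupFusion {P Q : Subgroup G} :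
    (groupFusionSystem S).IsConj P Q ↔
      P ≤ S ∧ Q ≤ S ∧ ∃ g : G, P.map (MulAut.conj g).toMonoidHom = Q := by
  constructor
  · rintro ⟨φ, hφ, rfl⟩
    obtain ⟨g, hg⟩ := hφ.2.2
    exact ⟨hφ.1, range_le_S hφ, g, (range_eq_map_conj hg).symm⟩
  · rintro ⟨hP, hQ, g, rfl⟩
    exact ⟨conjHom P g, conjHom_mem_groupFusion hP fun x hx => hQ ⟨x, hx, rfl⟩,
      range_eq_map_conj fun _ => rfl⟩

theorem autGroup_groupFusion {P : Subgroup G} (hP : P ≤ S) :
    (groupFusionSystem S).autGroup P = autInducedBy ⊤ P := by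
  ext α
  rw [autGroup_carrier hP, mem_autInducedBy]
  constructor
  · rintro ⟨-, -, g, hg⟩
    exact ⟨g, trivial, hg⟩
  · rintro ⟨g, -, hg⟩
    exact ⟨hP, fun x => hP (α x).2, g, hg⟩

theorem card_normalizer_conj (P : Subgroup G) (g : G) :
    Nat.card (Subgroup.normalizer ((P.map (MulAut.conj g).toMonoidHom : Subgroup G) : Set G)) =
      Nat.card (Subgroup.normalizer (P : Set G)) := by
  refine Nat.card_congr (Equiv.subtypeEquiv (MulAut.conj g).toEquiv fun x => ?_).symm
  show x ∈ Subgroup.normalizer (P : Set G) ↔ g * x * g⁻¹ ∈ _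
  rw [Subgroup.mem_normalizer_iff, Subgroup.mem_normalizer_iff]
  have hmem : ∀ y, y ∈ P.map (MulAut.conj g).toMonoidHom ↔ g⁻¹ * y * g ∈ P := by
    intro y
    constructor
    · rintro ⟨z, hz, rfl⟩
      simpa [mul_assoc] using hz
    · intro hy
      exact ⟨_, hy, by simp [mul_assoc]⟩
  simp only [hmem]
  constructor
  · intro h y
    simpa [mul_assoc] using h (g⁻¹ * y * g)
  · intro h y
    simpa [mul_assoc] using h (g * y * g⁻¹)

theorem card_centralizer_conj (P : Subgroup G) (g : G) :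
    Nat.card (Subgroup.centralizer ((P.map (MulAut.conj g).toMonoidHom : Subgroup G) : Set G)) =
      Nat.card (Subgroup.centralizer (P : Set G)) := by
  refine Nat.card_congr (Equiv.subtypeEquiv (MulAut.conj g).toEquiv fun x => ?_).symm
  show x ∈ Subgroup.centralizer (P : Set G) ↔ g * x * g⁻¹ ∈ _
  rw [Subgroup.mem_centralizer_iff, Subgroup.mem_centralizer_iff]
  constructor
  · rintro h _ ⟨y, hy, rfl⟩
    show g * y * g⁻¹ * _ = _ * (g * y * g⁻¹)
    calc g * y * g⁻¹ * (g * x * g⁻¹) = g * (y * x) * g⁻¹ := by group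
      _ = g * (x * y) * g⁻¹ := by rw [h y hy]
      _ = g * x * g⁻¹ * (g * y * g⁻¹) := by group
  · intro h y hy
    have := h _ ⟨y, hy, rfl⟩
    simp only [MulEquiv.coe_toMonoidHom, MulAut.conj_apply, mul_assoc, inv_mul_cancel_left,
      mul_right_inj] at this
    rwa [← mul_assoc, ← mul_assoc, mul_left_inj] at this

variable [Finite G] [Fact p.Prime]

/-- Every subgroup of a Sylow subgroup has a conjugate with `N_S` Sylow in the normalizer. -/
theorem exists_conj_sylow_normalizer (S : Sylow p G) {P : Subgroup G} (hP : P ≤ S) :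
    ∃ g : G, P.map (MulAut.conj g).toMonoidHom ≤ S ∧
      SylowIn p (normalizerIn (S : Subgroup G) (P.map (MulAut.conj g).toMonoidHom))
        (Subgroup.normalizer ((P.map (MulAut.conj g).toMonoidHom : Subgroup G) : Set G)) := by
  have hPp : IsPGroup p P := S.2.to_le hP
  obtain ⟨A, hPA, hA⟩ := exists_sylowIn (p := p) hPp (Subgroup.le_normalizer (H := P))
  obtain ⟨T, hT⟩ := hA.isPGroup.exists_le_sylow
  obtain ⟨g, hg⟩ := MulAction.exists_smul_eq G T S
  have hgA : ∀ x ∈ A, g * x * g⁻¹ ∈ (S : Subgroup G) := by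
    intro x hx
    rw [← hg, Sylow.coe_subgroup_smul]
    exact ⟨x, hT hx, rfl⟩
  refine ⟨g, ?_, ?_⟩
  · rintro _ ⟨x, hx, rfl⟩
    exact hgA x (hPA hx)
  · refine sylowIn_of_card hA (S.2.to_le (normalizerIn_le_S _)) inf_le_right
      (card_normalizer_conj P g) ?_
    refine Nat.card_le_card_of_injective (fun x : A =>
      (⟨g * x * g⁻¹, hgA x x.2, Subgroup.le_normalizer_map (MulAut.conj g).toMonoidHom
        ⟨x, hA.1 x.2, rfl⟩⟩ : normalizerIn (S : Subgroup G) _)) fun a b hab => ?_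
    exact Subtype.ext (mul_left_cancel (mul_right_cancel (congrArg Subtype.val hab)))

theorem sylowIn_centralizer_of_normalizer {Q : Subgroup G}
    (h : SylowIn p (normalizerIn S Q) (Subgroup.normalizer (Q : Set G))) :
    SylowIn p (centralizerIn S Q) (Subgroup.centralizer (Q : Set G)) := by
  have h1 := h.inf_normal (centralizer_le_normalizer' Q) ?_
  · have e : normalizerIn S Q ⊓ Subgroup.centralizer (Q : Set G) = centralizerIn S Q :=
      le_antisymm (fun x hx => ⟨hx.1.1, hx.2⟩)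
        (fun x hx => ⟨centralizerIn_le_normalizerIn Q hx, hx.2⟩)
    rwa [e] at h1
  · intro g hg
    rw [Subgroup.mem_normalizer_iff]
    have hcalc : ∀ g ∈ Subgroup.normalizer (Q : Set G), ∀ x ∈ Subgroup.centralizer (Q : Set G),
        g * x * g⁻¹ ∈ Subgroup.centralizer (Q : Set G) := by
      intro g hg x hx y hy
      have := hx _ ((Subgroup.mem_normalizer_iff''.1 hg y).1 hy)
      calc y * (g * x * g⁻¹) = g * (g⁻¹ * y * g * x) * g⁻¹ := by group
        _ = g * (x * (g⁻¹ * y * g)) * g⁻¹ := by rw [this]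
        _ = g * x * g⁻¹ * y := by group
    intro x
    refine ⟨hcalc g hg x, fun hx => ?_⟩
    simpa [mul_assoc] using hcalc g⁻¹ (inv_mem hg) _ hx

theorem fullyNormalized_iff_sylowIn (S : Sylow p G) {P : Subgroup G} (hP : P ≤ S) :
    (groupFusionSystem (S : Subgroup G)).IsFullyNormalized P ↔
      SylowIn p (normalizerIn (S : Subgroup G) P) (Subgroup.normalizer (P : Set G)) := by
  constructor
  · intro h
    obtain ⟨g, hgS, hg⟩ := exists_conj_sylow_normalizer S hP
    exact sylowIn_of_card hg (S.2.to_le (normalizerIn_le_S P)) inf_le_right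
      (card_normalizer_conj P g).symm
      (h.2 _ (isConj_groupFusion.2 ⟨hP, hgS, g, rfl⟩))
  · intro h
    refine ⟨hP, fun Q hQ => ?_⟩
    obtain ⟨-, hQS, g, rfl⟩ := isConj_groupFusion.1 hQ
    have h' : SylowIn p (normalizerIn (S : Subgroup G) P) (Subgroup.normalizer (P : Set G)) := h
    obtain ⟨A, hA1, hA⟩ := exists_sylowIn (p := p)
      (S.2.to_le (normalizerIn_le_S (P.map (MulAut.conj g).toMonoidHom)))
      (inf_le_right : normalizerIn (S : Subgroup G) (P.map (MulAut.conj g).toMonoidHom) ≤ _)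
    refine (card_le_of_le' hA1).trans ?_
    have hA' : Nat.card A ≤ Nat.card (normalizerIn (S : Subgroup G) P) := by
      let f : G →* G := (MulAut.conj g⁻¹).toMonoidHom
      have hinj : Function.Injective f := (MulAut.conj g⁻¹).injective
      rw [Nat.card_congr (Subgroup.equivMapOfInjective A f hinj).toEquiv]
      refine h'.card_ge (hA.isPGroup.map f) ?_
      refine (Subgroup.map_mono hA.1).trans ((Subgroup.le_normalizer_map f).trans ?_)
      have : (P.map (MulAut.conj g).toMonoidHom).map f = P := by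
        ext x
        simp [f, Subgroup.mem_map, mul_assoc]
      rw [this]
    exact hA'
where
  card_le_of_le' {A B : Subgroup G} (h : A ≤ B) : Nat.card A ≤ Nat.card B :=
    Nat.card_le_card_of_injective _ (Subgroup.inclusion_injective h)

theorem fullyCentralized_iff_sylowIn (S : Sylow p G) {P : Subgroup G} (hP : P ≤ S) :
    (groupFusionSystem (S : Subgroup G)).IsFullyCentralized P ↔
      SylowIn p (centralizerIn (S : Subgroup G) P) (Subgroup.centralizer (P : Set G)) := by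
  constructor
  · intro h
    obtain ⟨g, hgS, hg⟩ := exists_conj_sylow_normalizer S hP
    exact sylowIn_of_card (sylowIn_centralizer_of_normalizer hg)
      (S.2.to_le (centralizerIn_le_S P)) inf_le_right (card_centralizer_conj P g).symm
      (h.2 _ (isConj_groupFusion.2 ⟨hP, hgS, g, rfl⟩))
  · intro h
    refine ⟨hP, fun Q hQ => ?_⟩
    obtain ⟨-, hQS, g, rfl⟩ := isConj_groupFusion.1 hQ
    let f : G →* G := (MulAut.conj g⁻¹).toMonoidHom
    have hinj : Function.Injective f := (MulAut.conj g⁻¹).injective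
    rw [Nat.card_congr (Subgroup.equivMapOfInjective
      (centralizerIn (S : Subgroup G) (P.map (MulAut.conj g).toMonoidHom)) f hinj).toEquiv]
    refine h.card_ge ((S.2.to_le (centralizerIn_le_S _)).map f) ?_
    rintro _ ⟨x, hx, rfl⟩ y hy
    have h1 := hx.2 _ ⟨y, hy, rfl⟩
    simp only [f, MulEquiv.coe_toMonoidHom, MulAut.conj_apply, inv_inv] at h1 ⊢
    calc y * (g⁻¹ * x * g) = g⁻¹ * ((g * y * g⁻¹) * x) * g := by group
      _ = g⁻¹ * (x * (g * y * g⁻¹)) * g := by rw [h1]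
      _ = g⁻¹ * x * g * y := by group

/-- The lifting step: a `p`-subgroup of `N_S(Q) C_G(Q)` is moved into `S` by `C_G(Q)`. -/
theorem exists_centralizer_conj (hS : IsPGroup p S) {Q : Subgroup G}
    (h : SylowIn p (centralizerIn S Q) (Subgroup.centralizer (Q : Set G))) {U : Subgroup G}
    (hU : IsPGroup p U) (hUle : U ≤ normalizerIn S Q ⊔ Subgroup.centralizer (Q : Set G)) :
    ∃ c ∈ Subgroup.centralizer (Q : Set G), ∀ x ∈ U, c * x * c⁻¹ ∈ normalizerIn S Q := by
  have hn : normalizerIn S Q ≤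
      Subgroup.normalizer ((Subgroup.centralizer (Q : Set G) : Subgroup G) : Set G) := by
    intro g hg
    rw [Subgroup.mem_normalizer_iff]
    have hcalc : ∀ g ∈ Subgroup.normalizer (Q : Set G), ∀ x ∈ Subgroup.centralizer (Q : Set G),
        g * x * g⁻¹ ∈ Subgroup.centralizer (Q : Set G) := by
      intro g hg x hx y hy
      have := hx _ ((Subgroup.mem_normalizer_iff''.1 hg y).1 hy)
      calc y * (g * x * g⁻¹) = g * (g⁻¹ * y * g * x) * g⁻¹ := by group
        _ = g * (x * (g⁻¹ * y * g)) * g⁻¹ := by rw [this]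
        _ = g * x * g⁻¹ * y := by group
    intro x
    refine ⟨hcalc g hg.2 x, fun hx => ?_⟩
    simpa [mul_assoc] using hcalc g⁻¹ (inv_mem hg.2) _ hx
  have hA : IsPGroup p (normalizerIn S Q) := hS.to_le (normalizerIn_le_S Q)
  have hsyl : SylowIn p (normalizerIn S Q) (normalizerIn S Q ⊔ Subgroup.centralizer (Q : Set G)) := by
    refine SylowIn.sup_normal hA hn ?_
    have e : normalizerIn S Q ⊓ Subgroup.centralizer (Q : Set G) = centralizerIn S Q :=
      le_antisymm (fun x hx => ⟨hx.1.1, hx.2⟩)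
        (fun x hx => ⟨centralizerIn_le_normalizerIn Q hx, hx.2⟩)
    rwa [e]
  obtain ⟨m, hm, hmU⟩ := hsyl.exists_conj_le hU hUle
  have hm' : m ∈ ((normalizerIn S Q ⊔ Subgroup.centralizer (Q : Set G) : Subgroup G) : Set G) := hm
  rw [Subgroup.coe_mul_of_left_le_normalizer_right _ _ hn] at hm'
  obtain ⟨a, ha, c, hc, rfl⟩ := hm'
  refine ⟨c, hc, fun x hx => ?_⟩
  have := mul_mem (mul_mem (inv_mem ha) (hmU x hx)) ha
  simpa [mul_assoc] using this

theorem receptive_groupFusion (S : Sylow p G) {Q : Subgroup G} (hQ : Q ≤ S)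
    (h : SylowIn p (centralizerIn (S : Subgroup G) Q) (Subgroup.centralizer (Q : Set G))) :
    (groupFusionSystem (S : Subgroup G)).IsReceptive Q := by
  refine ⟨hQ, fun P φ hφ hr => ?_⟩
  obtain ⟨g, hg⟩ := hφ.2.2
  have hU : (extender (S : Subgroup G) P φ).map (MulAut.conj g).toMonoidHom ≤
      normalizerIn (S : Subgroup G) Q ⊔ Subgroup.centralizer (Q : Set G) := by
    rintro _ ⟨n, hn, rfl⟩
    obtain ⟨hnS, hnN, k, hkS, hk⟩ := mem_extender.1 hn
    simp only [MulEquiv.coe_toMonoidHom, MulAut.conj_apply]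
    have hkQ : ∀ y ∈ Q, k * y * k⁻¹ = (g * n * g⁻¹) * y * (g * n * g⁻¹)⁻¹ := by
      intro y hy
      obtain ⟨x, rfl⟩ := hr.ge hy
      rw [← hk x ((Subgroup.mem_normalizer_iff.1 hnN x).1 x.2), hg, hg]
      group
    have hkN : k ∈ normalizerIn (S : Subgroup G) Q := by
      refine ⟨hkS, mem_normalizer_of_conj_mem hQ fun y hy => ?_⟩
      obtain ⟨x, rfl⟩ := hr.ge hy
      rw [← hk x ((Subgroup.mem_normalizer_iff.1 hnN x).1 x.2)]
      exact hr.le ⟨_, rfl⟩
    have hc : k⁻¹ * (g * n * g⁻¹) ∈ Subgroup.centralizer (Q : Set G) := by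
      intro y hy
      have h1 := hkQ y hy
      generalize g * n * g⁻¹ = a at h1
      calc y * (k⁻¹ * a) = k⁻¹ * (k * y * k⁻¹) * a := by group
        _ = k⁻¹ * (a * y * a⁻¹) * a := by rw [h1]
        _ = k⁻¹ * a * y := by group
    have : g * n * g⁻¹ = k * (k⁻¹ * (g * n * g⁻¹)) := by group
    rw [this]
    exact mul_mem (Subgroup.mem_sup_left hkN) (Subgroup.mem_sup_right hc)
  obtain ⟨c, hc, hcU⟩ := exists_centralizer_conj S.2 h
    ((S.2.to_le (extender_le_S P φ)).map _) hU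
  refine ⟨conjHom _ (c * g), conjHom_mem_groupFusion (extender_le_S P φ) fun x hx => ?_,
    fun x hP hN => ?_⟩
  · have := (hcU _ ⟨x, hx, rfl⟩).1
    rw [MulEquiv.coe_toMonoidHom, MulAut.conj_apply] at this
    have e : c * g * x * (c * g)⁻¹ = c * (g * x * g⁻¹) * c⁻¹ := by group
    rw [e]
    exact this
  · rw [conjHom_apply, hg]
    have := hc (φ ⟨x, hP⟩) (hr.le ⟨_, rfl⟩)
    rw [hg] at this
    calc c * g * x * (c * g)⁻¹ = c * (g * x * g⁻¹) * c⁻¹ := by group
      _ = (g * x * g⁻¹) * c * c⁻¹ := by rw [this]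
      _ = g * x * g⁻¹ := by group

theorem fullyAutomized_groupFusion (S : Sylow p G) {Q : Subgroup G} (hQ : Q ≤ S)
    (h : SylowIn p (normalizerIn (S : Subgroup G) Q) (Subgroup.normalizer (Q : Set G))) :
    (groupFusionSystem (S : Subgroup G)).IsFullyAutomized p Q ∧
      SylowIn p (autInducedBy (S : Subgroup G) Q) (autInducedBy ⊤ Q) := by
  have hle := autInducedBy_le_autGroup (F := groupFusionSystem (S : Subgroup G)) hQ
  rw [autGroup_groupFusion hQ] at hle
  have key : ∃ R : Sylow p ↥(autInducedBy ⊤ Q),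
      (R : Subgroup ↥(autInducedBy ⊤ Q)) =
        (autInducedBy (S : Subgroup G) Q).subgroupOf (autInducedBy ⊤ Q) := by
    obtain ⟨R, hR⟩ := h.2
    -- push the Sylow subgroup along the conjugation map
    let N := Subgroup.normalizer (Q : Set G)
    let f : N →* ↥(autInducedBy ⊤ Q) :=
      (conjAut ⊤ Q).rangeRestrict.comp (Subgroup.inclusion (le_inf le_top le_rfl)) |>
        fun k => ((MulEquiv.subgroupCongr (autInducedBy_eq_range ⊤ Q)).symm.toMonoidHom.comp k)
    have hf : Function.Surjective f := by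
      rintro ⟨α, hα⟩
      obtain ⟨g, -, hg⟩ := mem_autInducedBy.1 hα
      exact ⟨⟨g, mem_normalizer_of_aut hg⟩,
        Subtype.ext (MulEquiv.ext fun x => Subtype.ext (hg x).symm)⟩
    refine ⟨R.mapSurjective hf, ?_⟩
    rw [Sylow.coe_mapSurjective, hR]
    ext ⟨α, hα⟩
    constructor
    · rintro ⟨⟨g, hgN⟩, hg, hgα⟩
      refine mem_autInducedBy.2 ⟨g, hg.1, fun x => ?_⟩
      have := congrArg (fun a : ↥(autInducedBy ⊤ Q) => (((a : MulAut Q) x : Q) : G)) hgα
      exact this.symm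
    · intro h'
      obtain ⟨g, hgS, hg⟩ := mem_autInducedBy.1 h'
      exact ⟨⟨g, mem_normalizer_of_aut hg⟩, ⟨hgS, mem_normalizer_of_aut hg⟩,
        Subtype.ext (MulEquiv.ext fun x => Subtype.ext (hg x).symm)⟩
  refine ⟨⟨hQ, ?_⟩, hle, key⟩
  rw [autGroup_groupFusion hQ]
  exact key

theorem groupFusion_saturated (S : Sylow p G) :
    (groupFusionSystem (S : Subgroup G)).IsSaturated p := by
  intro P hP
  obtain ⟨g, hgS, hg⟩ := exists_conj_sylow_normalizer S hP
  exact ⟨_, isConj_groupFusion.2 ⟨hP, hgS, g, rfl⟩, (fullyAutomized_groupFusion S hgS hg).1,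
    receptive_groupFusion S hgS (sylowIn_centralizer_of_normalizer hg)⟩

end

end CfsgLib.Fusion
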