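import Cfsg.Agent.Fusion.Basic

/-!
Saturation: fully automized and receptive subgroups, and the equivalent forms of saturation.
-/

set_option autoImplicit false

open Cfsg Cfsg.FusionSystem

namespace CfsgLib.Fusion

variable {Ω : Type*} [Group Ω] {S : Subgroup Ω} {F : FusionSystem S}

theorem pow_mem_autGroup_iso {P Q : Subgroup Ω} (hP : P ≤ S) {φ : P →* Ω} (hφ : φ ∈ F.Hom P)
    (e : P ≃* Q) (he : ∀ x : P, ((e x : Q) : Ω) = φ x) {α : MulAut P}
    (hα : α ∈ F.autGroup P) : MulAut.congr e α ∈ F.autGroup Q := by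
  have hQS : Q ≤ S := by
    intro y hy
    obtain ⟨x, hx⟩ := e.surjective ⟨y, hy⟩
    have : (φ x : Ω) = y := by rw [← he, hx]
    exact this ▸ apply_mem_S hφ x
  have hr : φ.range = Q := by
    ext y
    constructor
    · rintro ⟨x, rfl⟩
      rw [← he]; exact (e x).2
    · intro hy
      exact ⟨e.symm ⟨y, hy⟩, by rw [← he]; simp⟩
  obtain ⟨ψ, hψ, -, h1, -⟩ := exists_inv hφ hr
  have hψe : ∀ y : Q, ψ y = (e.symm y : Ω) := by
    intro y
    have h2 := h1 (e.symm y) (by rw [← he]; simp)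
    refine (apply_congr ψ ?_).trans h2
    show (y : Ω) = φ (e.symm y)
    rw [← he]; simp
  refine (autGroup_carrier hQS).2 ?_
  have hα' := (autGroup_carrier hP).1 hα
  have h3 : (P.subtype.comp α.toMonoidHom).comp (e.symm.toMonoidHom) ∈ F.Hom Q := by
    refine comp_mem_of_eq hψ hα' (fun y => by rw [hψe]; exact (e.symm y).2) fun y => ?_
    show ((α (e.symm y) : P) : Ω) = ((α _ : P) : Ω)
    exact congrArg (fun z : P => ((α z : P) : Ω)) (Subtype.ext (hψe y).symm)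
  refine comp_mem_of_eq h3 hφ (fun y => (α (e.symm y)).2) fun y => ?_
  exact he (α (e.symm y))

/-- The isomorphism of `P` onto the range of a map of the system. -/
noncomputable def isoRange {P Q : Subgroup Ω} (φ : P →* Ω) (hinj : Function.Injective φ)
    (hr : φ.range = Q) : P ≃* Q :=
  MulEquiv.ofBijective (φ.codRestrict Q fun x => hr.le ⟨x, rfl⟩)
    ⟨fun _ _ h => hinj (congrArg Subtype.val h), fun y => by
      obtain ⟨x, hx⟩ := hr.ge y.2
      exact ⟨x, Subtype.ext hx⟩⟩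

@[simp] theorem coe_isoRange {P Q : Subgroup Ω} (φ : P →* Ω) (hinj : Function.Injective φ)
    (hr : φ.range = Q) (x : P) : ((isoRange φ hinj hr x : Q) : Ω) = φ x := rfl

theorem apply_isoRange_symm {P Q : Subgroup Ω} (φ : P →* Ω) (hinj : Function.Injective φ)
    (hr : φ.range = Q) (y : Q) : φ ((isoRange φ hinj hr).symm y) = (y : Ω) := by
  rw [← coe_isoRange φ hinj hr, MulEquiv.apply_symm_apply]

theorem map_autGroup_iso {P Q : Subgroup Ω} (hP : P ≤ S) {φ : P →* Ω} (hφ : φ ∈ F.Hom P)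
    (e : P ≃* Q) (he : ∀ x : P, ((e x : Q) : Ω) = φ x) :
    (F.autGroup P).map (MulAut.congr e).toMonoidHom = F.autGroup Q := by
  have hr : φ.range = Q := by
    ext y
    constructor
    · rintro ⟨x, rfl⟩
      rw [← he]; exact (e x).2
    · intro hy
      exact ⟨e.symm ⟨y, hy⟩, by rw [← he]; simp⟩
  obtain ⟨ψ, hψ, -, h1, -⟩ := exists_inv hφ hr
  have hψe : ∀ y : Q, ((e.symm y : P) : Ω) = ψ y := by
    intro y
    have h2 := h1 (e.symm y) (by rw [← he]; simp)
    refine h2.symm.trans (apply_congr ψ ?_)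
    show φ (e.symm y) = (y : Ω)
    rw [← he]; simp
  refine le_antisymm ?_ ?_
  · rintro _ ⟨α, hα, rfl⟩
    exact pow_mem_autGroup_iso hP hφ e he hα
  · intro β hβ
    refine ⟨MulAut.congr e.symm β,
      pow_mem_autGroup_iso (le_of_mem_hom hψ) hψ e.symm hψe hβ, ?_⟩
    exact MulEquiv.ext fun x => by simp [MulAut.congr]

theorem card_autGroup_eq {P Q : Subgroup Ω} (h : F.IsConj P Q) :
    Nat.card (F.autGroup Q) = Nat.card (F.autGroup P) := by
  obtain ⟨φ, hφ, hr⟩ := h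
  rw [← map_autGroup_iso (le_of_mem_hom hφ) hφ (isoRange φ (F.injective_of_mem hφ) hr)
    fun x => rfl]
  exact (Nat.card_congr (Subgroup.equivMapOfInjective _ _
    (MulAut.congr (isoRange φ (F.injective_of_mem hφ) hr)).injective).toEquiv).symm

/-! ### Images of centralizers and normalizers -/

theorem map_mem_centralizerIn {P N : Subgroup Ω} {φ : N →* Ω} (hφ : φ ∈ F.Hom N) (_hPN : P ≤ N)
    {g : Ω} (hg : g ∈ centralizerIn S P) (hgN : g ∈ N) :
    φ ⟨g, hgN⟩ ∈ centralizerIn S ((P.subgroupOf N).map φ) := by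
  refine mem_centralizerIn.2 ⟨apply_mem_S hφ _, ?_⟩
  intro y hy
  obtain ⟨x, hxN, hxP, rfl⟩ := mem_map_subgroupOf.1 hy
  rw [← map_mul, ← map_mul]
  exact apply_congr φ (hg.2 x hxP)

theorem map_mem_normalizerIn {P N : Subgroup Ω} {φ : N →* Ω} (hφ : φ ∈ F.Hom N) (_hPN : P ≤ N)
    {g : Ω} (hg : g ∈ normalizerIn S P) (hgN : g ∈ N) :
    φ ⟨g, hgN⟩ ∈ normalizerIn S ((P.subgroupOf N).map φ) := by
  refine mem_normalizerIn.2 ⟨apply_mem_S hφ _, fun y => ?_⟩
  constructor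
  · intro hy
    obtain ⟨x, hxN, hxP, rfl⟩ := mem_map_subgroupOf.1 hy
    refine mem_map_subgroupOf.2 ⟨g * x * g⁻¹, N.mul_mem (N.mul_mem hgN hxN) (N.inv_mem hgN),
      (Subgroup.mem_normalizer_iff.1 hg.2 x).1 hxP, ?_⟩
    rw [← map_inv, ← map_mul, ← map_mul]
    exact apply_congr φ rfl
  · intro hy
    obtain ⟨x, hxN, hxP, hx⟩ := mem_map_subgroupOf.1 hy
    refine mem_map_subgroupOf.2 ⟨g⁻¹ * x * g, N.mul_mem (N.mul_mem (N.inv_mem hgN) hxN) hgN,
      (Subgroup.mem_normalizer_iff''.1 hg.2 x).1 hxP, ?_⟩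
    have : φ ⟨g⁻¹ * x * g, N.mul_mem (N.mul_mem (N.inv_mem hgN) hxN) hgN⟩ =
        (φ ⟨g, hgN⟩)⁻¹ * φ ⟨x, hxN⟩ * φ ⟨g, hgN⟩ := by
      rw [← map_inv, ← map_mul, ← map_mul]
      exact apply_congr φ rfl
    rw [this, hx]
    group

theorem card_le_card_map {N A B : Subgroup Ω} [Finite S] (hB : B ≤ S) {φ : N →* Ω}
    (hφ : Function.Injective φ) (hA : A ≤ N) (h : ∀ (g : Ω) (hg : g ∈ A), φ ⟨g, hA hg⟩ ∈ B) :
    Nat.card A ≤ Nat.card B ∧
      (Nat.card B ≤ Nat.card A → ∀ b ∈ B, ∃ (g : Ω) (hg : g ∈ A), φ ⟨g, hA hg⟩ = b) := by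
  have := finite_of_le hB
  let f : A → B := fun g => ⟨φ ⟨g, hA g.2⟩, h g g.2⟩
  have hf : Function.Injective f := fun a b hab =>
    Subtype.ext (congrArg (fun z : N => (z : Ω)) (hφ (congrArg Subtype.val hab)) :)
  refine ⟨Nat.card_le_card_of_injective f hf, fun hc b hb => ?_⟩
  have hbij := hf.bijective_of_nat_card_le hc
  obtain ⟨g, hg⟩ := hbij.2 ⟨b, hb⟩
  exact ⟨g, g.2, congrArg Subtype.val hg⟩

/-! ### Receptive subgroups -/

theorem receptive_extend {P Q : Subgroup Ω} (hQ : F.IsReceptive Q) {φ : P →* Ω}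
    (hφ : φ ∈ F.Hom P) (hr : φ.range = Q) {N : Subgroup Ω} (hN : N ≤ extender S P φ) :
    ∃ ψ ∈ F.Hom N, ∀ (x : Ω) (hP : x ∈ P) (hxN : x ∈ N), ψ ⟨x, hxN⟩ = φ ⟨x, hP⟩ := by
  obtain ⟨ψ, hψ, h⟩ := hQ.2 P φ hφ hr
  exact ⟨_, restrict_mem hψ hN, fun x hP hxN => h x hP (hN hxN)⟩

theorem map_eq_range_of_eq {P N : Subgroup Ω} {φ : P →* Ω} {ψ : N →* Ω} (hPN : P ≤ N)
    (h : ∀ (x : Ω) (hP : x ∈ P) (hN : x ∈ N), ψ ⟨x, hN⟩ = φ ⟨x, hP⟩) :
    (P.subgroupOf N).map ψ = φ.range := by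
  ext y
  constructor
  · rintro ⟨⟨x, hxN⟩, hxP, rfl⟩
    exact ⟨⟨x, hxP⟩, (h x hxP hxN).symm⟩
  · rintro ⟨⟨x, hxP⟩, rfl⟩
    exact ⟨⟨x, hPN hxP⟩, hxP, h x hxP _⟩

theorem receptive_fullyCentralized [Finite S] {P : Subgroup Ω} (hP : F.IsReceptive P) :
    F.IsFullyCentralized P := by
  refine ⟨hP.1, fun Q hQ => ?_⟩
  obtain ⟨φ, hφ, hr⟩ := isConj_symm hQ
  have hN : Q ⊔ centralizerIn S Q ≤ extender S Q φ :=
    sup_le (le_extender hφ) (centralizerIn_le_extender Q φ)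
  obtain ⟨ψ, hψ, h⟩ := receptive_extend hP hφ hr hN
  refine (card_le_card_map (centralizerIn_le_S P) (F.injective_of_mem hψ) le_sup_right
    fun g hg => ?_).1
  have := map_mem_centralizerIn hψ (P := Q) le_sup_left hg (le_sup_right (a := Q) hg)
  rwa [map_eq_range_of_eq le_sup_left h, hr] at this

theorem autInducedBy_congr_mem {P Q : Subgroup Ω} {φ : P →* Ω} (e : P ≃* Q)
    (he : ∀ x : P, ((e x : Q) : Ω) = φ x) {g : Ω} (hg : g ∈ normalizerIn S P)
    {α : MulAut P} (hα : ∀ x : P, ((α x : P) : Ω) = g * x * g⁻¹)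
    (h : MulAut.congr e α ∈ autInducedBy S Q) : g ∈ extender S P φ := by
  obtain ⟨k, hk, hk'⟩ := mem_autInducedBy.1 h
  refine mem_extender_of hg hk fun x hx => ?_
  have h1 := hk' (e x)
  simp only [MulAut.congr_apply, MulEquiv.trans_apply, MulEquiv.symm_apply_apply] at h1
  rw [he, he] at h1
  exact (apply_congr φ (hα x).symm).trans h1

/-- If `P` is fully automized and receptive, every conjugate `Q` of `P` has a map
`N_S(Q) → N_S(P)` of the system carrying `Q` onto `P`. -/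
theorem exists_map_normalizer [Finite S] (p : ℕ) [Fact p.Prime] (hS : IsPGroup p S)
    {P Q : Subgroup Ω} (h₁ : F.IsFullyAutomized p P) (h₂ : F.IsReceptive P)
    (hQ : F.IsConj Q P) :
    ∃ φ ∈ F.Hom (normalizerIn S Q), (∀ x, φ x ∈ normalizerIn S P) ∧
      (Q.subgroupOf (normalizerIn S Q)).map φ = P := by
  obtain ⟨φ₀, hφ₀, hr⟩ := hQ
  have hQS := le_of_mem_hom hφ₀
  let e := isoRange φ₀ (F.injective_of_mem hφ₀) hr
  have := finite_of_le h₁.1
  have : Finite (MulAut P) := finite_mulAut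
  let B := (autInducedBy S Q).map (MulAut.congr e).toMonoidHom
  have hB : B ≤ F.autGroup P := by
    rw [← map_autGroup_iso hQS hφ₀ e fun _ => rfl]
    exact Subgroup.map_mono (autInducedBy_le_autGroup hQS)
  have hBp : IsPGroup p (B.subgroupOf (F.autGroup P)) :=
    ((isPGroup_autInducedBy hS Q).map _).comap_of_injective (F.autGroup P).subtype
      Subtype.val_injective
  obtain ⟨R, hR⟩ := h₁.2
  obtain ⟨T, hT⟩ := hBp.exists_le_sylow
  obtain ⟨c, hc⟩ := MulAction.exists_smul_eq (F.autGroup P) T R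
  -- correct `φ₀` by `c`
  let φ : Q →* Ω := (P.subtype.comp (c : MulAut P).toMonoidHom).comp e.toMonoidHom
  have hφ : φ ∈ F.Hom Q :=
    comp_mem_of_eq hφ₀ ((autGroup_carrier h₁.1).1 c.2) (fun x => hr.le ⟨x, rfl⟩) fun x => rfl
  have hφr : φ.range = P := by
    show (P.subtype.comp ((c : MulAut P).toMonoidHom.comp e.toMonoidHom)).range = P
    exact range_eq_of_surjective _ ((c : MulAut P).surjective.comp e.surjective)
  have hN : normalizerIn S Q ≤ extender S Q φ := by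
    intro g hg
    let α := conjAut S Q ⟨g, hg⟩
    refine autInducedBy_congr_mem (e.trans (c : MulAut P)) (fun x => rfl) hg (α := α)
      (fun x => rfl) ?_
    have hα : MulAut.congr e α ∈ B :=
      ⟨α, mem_autInducedBy.2 ⟨g, hg.1, fun x => rfl⟩, rfl⟩
    have h3 : c * ⟨MulAut.congr e α, hB hα⟩ * c⁻¹ ∈ (R : Subgroup (F.autGroup P)) := by
      rw [← hc, Sylow.coe_subgroup_smul]
      exact ⟨_, hT (show ⟨MulAut.congr e α, hB hα⟩ ∈ B.subgroupOf (F.autGroup P) from hα), rfl⟩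
    rw [hR] at h3
    have h4 : MulAut.congr (e.trans (c : MulAut P)) α =
        (c : MulAut P) * MulAut.congr e α * (c : MulAut P)⁻¹ :=
      MulEquiv.ext fun x => rfl
    rw [h4]
    exact h3
  obtain ⟨ψ, hψ, h⟩ := receptive_extend h₂ hφ hφr hN
  refine ⟨ψ, hψ, fun x => ?_, (map_eq_range_of_eq (le_normalizerIn hQS) h).trans hφr⟩
  have := map_mem_normalizerIn hψ (le_normalizerIn hQS) x.2 x.2
  rwa [map_eq_range_of_eq (le_normalizerIn hQS) h, hφr] at this
where
  range_eq_of_surjective {P Q : Subgroup Ω} (f : Q →* P) (hf : Function.Surjective f) :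
      (P.subtype.comp f).range = P := by
    rw [MonoidHom.range_comp, MonoidHom.range_eq_top.2 hf, ← MonoidHom.range_eq_map,
      P.range_subtype]

theorem fullyNormalized_of_good [Finite S] (p : ℕ) [Fact p.Prime] (hS : IsPGroup p S)
    {P : Subgroup Ω} (h₁ : F.IsFullyAutomized p P) (h₂ : F.IsReceptive P) :
    F.IsFullyNormalized P := by
  refine ⟨h₁.1, fun Q hQ => ?_⟩
  obtain ⟨φ, hφ, hmem, -⟩ := exists_map_normalizer p hS h₁ h₂ (isConj_symm hQ)
  exact (card_le_card_map (normalizerIn_le_S P) (F.injective_of_mem hφ) le_rfl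
    fun g hg => hmem ⟨g, hg⟩).1

theorem sylow_of_card_eq {G H : Type*} [Group G] [Group H] [Finite G] [Finite H] {p : ℕ}
    [Fact p.Prime] (R : Sylow p G) {B : Subgroup H} (hB : IsPGroup p B)
    (h₁ : Nat.card H = Nat.card G) (h₂ : Nat.card B = Nat.card (R : Subgroup G)) :
    ∃ R' : Sylow p H, (R' : Subgroup H) = B := by
  obtain ⟨T, hT⟩ := hB.exists_le_sylow
  refine ⟨T, (Subgroup.eq_of_le_of_card_ge hT ?_).symm⟩
  rw [Sylow.card_eq_multiplicity, h₂, Sylow.card_eq_multiplicity, h₁]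

/-- In a saturated system a fully normalized subgroup is fully automized and receptive. -/
theorem good_of_fullyNormalized [Finite S] (p : ℕ) [Fact p.Prime] (hS : IsPGroup p S)
    (hF : F.IsSaturated p) {Q : Subgroup Ω} (hQ : F.IsFullyNormalized Q) :
    F.IsFullyAutomized p Q ∧ F.IsReceptive Q := by
  obtain ⟨P, hQP, h₁, h₂⟩ := hF Q hQ.1
  obtain ⟨φ, hφ, hmem, hmap⟩ := exists_map_normalizer p hS h₁ h₂ hQP
  have hinj := F.injective_of_mem hφ
  have hQN := le_normalizerIn hQ.1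
  obtain ⟨-, hsurj⟩ := card_le_card_map (normalizerIn_le_S P) hinj le_rfl
    fun g hg => hmem ⟨g, hg⟩
  have hsurj := hsurj (hQ.2 P hQP)
  have hcardN : Nat.card (normalizerIn S Q) = Nat.card (normalizerIn S P) :=
    le_antisymm (card_le_card_map (normalizerIn_le_S P) hinj le_rfl fun g hg => hmem ⟨g, hg⟩).1
      (hQ.2 P hQP)
  -- the inverse of `φ`
  have hrange : φ.range = normalizerIn S P := by
    refine le_antisymm ?_ fun b hb => ?_
    · rintro _ ⟨x, rfl⟩; exact hmem x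
    · obtain ⟨g, hg, rfl⟩ := hsurj b hb; exact ⟨_, rfl⟩
  obtain ⟨φ', hφ', hφ'r, hφ'1, hφ'2⟩ := exists_inv hφ hrange
  refine ⟨⟨hQ.1, ?_⟩, hQ.1, ?_⟩
  · have := finite_of_le hQ.1
    have := finite_of_le h₁.1
    have : Finite (MulAut Q) := finite_mulAut
    have : Finite (MulAut P) := finite_mulAut
    obtain ⟨R, hR⟩ := h₁.2
    refine sylow_of_card_eq R ((isPGroup_autInducedBy hS Q).comap_of_injective _
      Subtype.val_injective) (card_autGroup_eq hQP).symm ?_
    rw [hR, Nat.card_congr (Subgroup.subgroupOfEquivOfLe (autInducedBy_le_autGroup hQ.1)).toEquiv,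
      Nat.card_congr (Subgroup.subgroupOfEquivOfLe (autInducedBy_le_autGroup h₁.1)).toEquiv]
    -- equal centralizers and normalizers
    have hC : Nat.card (centralizerIn S Q) = Nat.card (centralizerIn S P) := by
      refine le_antisymm (card_le_card_map (centralizerIn_le_S P) hinj
        (centralizerIn_le_normalizerIn Q) fun g hg => ?_).1
        (card_le_card_map (centralizerIn_le_S Q) (F.injective_of_mem hφ')
          (centralizerIn_le_normalizerIn P) fun g hg => ?_).1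
      · have := map_mem_centralizerIn hφ hQN hg (centralizerIn_le_normalizerIn Q hg)
        rwa [hmap] at this
      · have h5 := map_mem_centralizerIn hφ' (le_normalizerIn h₁.1) hg
          (centralizerIn_le_normalizerIn P hg)
        have h6 : (P.subgroupOf (normalizerIn S P)).map φ' = Q := by
          ext y
          constructor
          · rintro ⟨⟨x, hx⟩, hxP, rfl⟩
            obtain ⟨z, hzN, hzQ, hz⟩ := mem_map_subgroupOf.1 (hmap.ge hxP)
            subst hz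
            exact Set.mem_of_eq_of_mem (hφ'1 ⟨z, hzN⟩ hx) hzQ
          · intro hy
            have h7 : φ ⟨y, hQN hy⟩ ∈ P :=
              hmap.le (apply_mem_map_subgroupOf φ (x := ⟨y, hQN hy⟩) hy)
            exact ⟨⟨φ ⟨y, hQN hy⟩, hmem _⟩, h7, hφ'1 _ _⟩
        rwa [h6] at h5
    have h := card_normalizerIn S Q
    rw [hcardN, card_normalizerIn S P, hC] at h
    have hpos : 0 < Nat.card (centralizerIn S P) := by
      have := finite_of_le (centralizerIn_le_S (S := S) P)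
      exact Nat.card_pos
    exact (Nat.eq_of_mul_eq_mul_right hpos h).symm
  · intro R θ hθ hθr
    -- compose with `φ` and use receptivity of `P`
    have hθN : ∀ x : R, θ x ∈ normalizerIn S Q := fun x => hQN (hθr.le ⟨x, rfl⟩)
    have hχ := F.comp_mem hθ hφ hθN
    have hχr : (φ.comp (θ.codRestrict _ hθN)).range = P := by
      rw [← hmap]
      ext y
      constructor
      · rintro ⟨x, rfl⟩
        exact apply_mem_map_subgroupOf φ (x := θ.codRestrict _ hθN x) (hθr.le ⟨x, rfl⟩)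
      · intro hy
        obtain ⟨z, hzN, hzQ, rfl⟩ := mem_map_subgroupOf.1 hy
        obtain ⟨x, hx⟩ := hθr.ge hzQ
        exact ⟨x, apply_congr φ hx⟩
    have hN : extender S R θ ≤ extender S R (φ.comp (θ.codRestrict _ hθN)) := by
      intro g hg
      obtain ⟨hgS, hgN, h, hhS, hh⟩ := mem_extender.1 hg
      have hhN : h ∈ normalizerIn S Q := by
        refine ⟨hhS, mem_normalizer_of_conj_mem hQ.1 fun z hz => ?_⟩
        obtain ⟨x, rfl⟩ := hθr.ge hz
        rw [← hh x ((Subgroup.mem_normalizer_iff.1 hgN x).1 x.2)]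
        exact hθr.le ⟨_, rfl⟩
      refine mem_extender_of ⟨hgS, hgN⟩ (apply_mem_S hφ ⟨h, hhN⟩) fun x hx => ?_
      simp only [MonoidHom.coe_comp, Function.comp_apply]
      rw [← map_inv, ← map_mul, ← map_mul]
      exact apply_congr φ (hh x hx)
    obtain ⟨ψ, hψ, hψe⟩ := receptive_extend h₂ hχ hχr hN
    have hψN : ∀ x, ψ x ∈ normalizerIn S P := by
      intro x
      have hRx : R ≤ extender S R θ := le_extender hθ
      have := map_mem_normalizerIn hψ hRx ((extender_le_normalizerIn R θ) x.2) x.2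
      rwa [map_eq_range_of_eq hRx hψe, hχr] at this
    refine ⟨φ'.comp (ψ.codRestrict _ hψN), F.comp_mem hψ hφ' hψN, fun x hP hN => ?_⟩
    refine (apply_congr φ' ?_).trans (hφ'1 ⟨θ ⟨x, hP⟩, hθN _⟩ (hmem _))
    exact hψe x hP hN

/-- In a saturated system a fully centralized subgroup is receptive. -/
theorem receptive_of_fullyCentralized [Finite S] (p : ℕ) [Fact p.Prime] (hS : IsPGroup p S)
    (hF : F.IsSaturated p) {Q : Subgroup Ω} (hQ : F.IsFullyCentralized Q) :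
    F.IsReceptive Q := by
  obtain ⟨P, hQP, h₁, h₂⟩ := hF Q hQ.1
  obtain ⟨φ, hφ, hmem, hmap⟩ := exists_map_normalizer p hS h₁ h₂ hQP
  have hinj := F.injective_of_mem hφ
  have hQN := le_normalizerIn hQ.1
  have hCmem : ∀ g (hg : g ∈ centralizerIn S Q),
      φ ⟨g, centralizerIn_le_normalizerIn Q hg⟩ ∈ centralizerIn S P := fun g hg => by
    have := map_mem_centralizerIn hφ hQN hg (centralizerIn_le_normalizerIn Q hg)
    rwa [hmap] at this
  have hsurj := (card_le_card_map (centralizerIn_le_S P) hinj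
    (centralizerIn_le_normalizerIn Q) hCmem).2 (hQ.2 P hQP)
  obtain ⟨φ', hφ', -, hφ'1, -⟩ := exists_inv hφ rfl
  refine ⟨hQ.1, fun R θ hθ hθr => ?_⟩
  have hθN : ∀ x : R, θ x ∈ normalizerIn S Q := fun x => hQN (hθr.le ⟨x, rfl⟩)
  have hχ := F.comp_mem hθ hφ hθN
  have hχr : (φ.comp (θ.codRestrict _ hθN)).range = P := by
    rw [← hmap]
    ext y
    constructor
    · rintro ⟨x, rfl⟩
      exact apply_mem_map_subgroupOf φ (x := θ.codRestrict _ hθN x) (hθr.le ⟨x, rfl⟩)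
    · intro hy
      obtain ⟨z, hzN, hzQ, rfl⟩ := mem_map_subgroupOf.1 hy
      obtain ⟨x, hx⟩ := hθr.ge hzQ
      exact ⟨x, apply_congr φ hx⟩
  have key : ∀ g ∈ extender S R θ, ∃ (h : Ω) (hh : h ∈ normalizerIn S Q),
      ∀ (x : R) (hx : g * (x : Ω) * g⁻¹ ∈ R), φ ⟨θ ⟨g * x * g⁻¹, hx⟩, hθN _⟩ =
        φ ⟨h, hh⟩ * φ ⟨θ x, hθN x⟩ * (φ ⟨h, hh⟩)⁻¹ := by
    intro g hg
    obtain ⟨hgS, hgN, h, hhS, hh⟩ := mem_extender.1 hg
    have hhN : h ∈ normalizerIn S Q := by
      refine ⟨hhS, mem_normalizer_of_conj_mem hQ.1 fun z hz => ?_⟩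
      obtain ⟨x, rfl⟩ := hθr.ge hz
      rw [← hh x ((Subgroup.mem_normalizer_iff.1 hgN x).1 x.2)]
      exact hθr.le ⟨_, rfl⟩
    refine ⟨h, hhN, fun x hx => ?_⟩
    rw [← map_inv, ← map_mul, ← map_mul]
    exact apply_congr φ (hh x hx)
  have hN : extender S R θ ≤ extender S R (φ.comp (θ.codRestrict _ hθN)) := fun g hg => by
    obtain ⟨h, hh, hk⟩ := key g hg
    exact mem_extender_of (extender_le_normalizerIn R θ hg) (apply_mem_S hφ _) fun x hx => hk x hx
  obtain ⟨ψ, hψ, hψe⟩ := receptive_extend h₂ hχ hχr hN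
  have hψrange : ∀ x, ψ x ∈ φ.range := by
    rintro ⟨g, hg⟩
    obtain ⟨h, hh, hk⟩ := key g hg
    have hd : (φ ⟨h, hh⟩)⁻¹ * ψ ⟨g, hg⟩ ∈ centralizerIn S P := by
      refine mem_centralizerIn.2
        ⟨mul_mem (inv_mem (apply_mem_S hφ _)) (apply_mem_S hψ _), ?_⟩
      intro y hy
      obtain ⟨x, rfl⟩ := hχr.ge hy
      have hgx : g * (x : Ω) * g⁻¹ ∈ R :=
        (Subgroup.mem_normalizer_iff.1 (extender_le_normalizerIn R θ hg).2 x).1 x.2
      have hxE := le_extender hθ x.2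
      have hgE : g * (x : Ω) * g⁻¹ ∈ extender S R θ := le_extender hθ hgx
      have h1 := hψe _ hgx hgE
      have h2 : ψ ⟨_, hgE⟩ = ψ ⟨g, hg⟩ * ψ ⟨x, hxE⟩ * (ψ ⟨g, hg⟩)⁻¹ := by
        rw [← map_inv, ← map_mul, ← map_mul]
        exact apply_congr ψ rfl
      rw [h2, hψe x x.2 hxE] at h1
      change ψ ⟨g, hg⟩ * φ ⟨θ x, hθN x⟩ * (ψ ⟨g, hg⟩)⁻¹ = _ at h1
      have h3 := h1.trans (hk x hgx)
      show φ ⟨θ x, hθN x⟩ * _ = _ * φ ⟨θ x, hθN x⟩
      generalize ψ ⟨g, hg⟩ = a at h3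
      generalize φ ⟨θ x, hθN x⟩ = b at h3
      generalize φ ⟨h, hh⟩ = c at h3
      calc b * (c⁻¹ * a) = c⁻¹ * (c * b * c⁻¹) * a := by group
        _ = c⁻¹ * (a * b * a⁻¹) * a := by rw [h3]
        _ = c⁻¹ * a * b := by group
    obtain ⟨z, hz, hze⟩ := hsurj _ hd
    exact ⟨⟨h, hh⟩ * ⟨z, centralizerIn_le_normalizerIn Q hz⟩, by rw [map_mul, hze]; group⟩
  refine ⟨φ'.comp (ψ.codRestrict _ hψrange), F.comp_mem hψ hφ' hψrange, fun x hP hN => ?_⟩
  refine (apply_congr φ' ?_).trans (hφ'1 ⟨θ ⟨x, hP⟩, hθN _⟩ ⟨_, rfl⟩)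
  exact hψe x hP hN

/-- In a saturated system fully normalized subgroups are fully centralized. -/
theorem fullyCentralized_of_fullyNormalized [Finite S] (p : ℕ) [Fact p.Prime]
    (hS : IsPGroup p S) (hF : F.IsSaturated p) {Q : Subgroup Ω} (hQ : F.IsFullyNormalized Q) :
    F.IsFullyCentralized Q :=
  receptive_fullyCentralized (good_of_fullyNormalized p hS hF hQ).2

/-- Extension of a map onto a fully centralized subgroup, in a saturated system. -/
theorem saturated_extend [Finite S] (p : ℕ) [Fact p.Prime] (hS : IsPGroup p S)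
    (hF : F.IsSaturated p) {P : Subgroup Ω} {φ : P →* Ω} (hφ : φ ∈ F.Hom P)
    (hc : F.IsFullyCentralized φ.range) {N : Subgroup Ω} (hN : N ≤ extender S P φ) :
    ∃ ψ ∈ F.Hom N, ∀ (x : Ω) (hP : x ∈ P) (hxN : x ∈ N), ψ ⟨x, hxN⟩ = φ ⟨x, hP⟩ :=
  receptive_extend (receptive_of_fullyCentralized p hS hF hc) hφ rfl hN

end CfsgLib.Fusion
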