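import Mathlib.GroupTheory.Nilpotent
import Mathlib.Data.Nat.GCD.Basic
import Cfsg.Agent.Fusion.Saturation
import Cfsg.Agent.Solvable.Basics

/-!
Centric and radical subgroups, moving `p`-automorphisms into `Aut_S`, uniqueness of extensions from
centric subgroups, and saturation from "fully normalized implies receptive".
-/

set_option autoImplicit false

open Cfsg Cfsg.FusionSystem

namespace CfsgLib.Fusion

variable {Ω : Type*} [Group Ω] {S : Subgroup Ω} {F : FusionSystem S}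

/-! ### `p`-automorphisms are inner-induced somewhere in the class -/

/-- A `p`-element of `Aut_F(P)` becomes conjugation by an element of `S` on a fully automized
conjugate `P'`. -/
theorem exists_conj_of_pElement [Finite S] (p : ℕ) [Fact p.Prime] {P P' : Subgroup Ω}
    (hP' : F.IsFullyAutomized p P') (hc : F.IsConj P P') {α : MulAut P} (hα : α ∈ F.autGroup P)
    (hp : ∃ k : ℕ, α ^ p ^ k = 1) :
    ∃ (φ : P →* Ω) (s : Ω), φ ∈ F.Hom P ∧ φ.range = P' ∧ s ∈ normalizerIn S P' ∧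
      ∀ x : P, φ (α x) = s * φ x * s⁻¹ := by
  obtain ⟨φ₀, hφ₀, hr⟩ := hc
  have := finite_of_le hP'.1
  have : Finite (MulAut P') := finite_mulAut
  let e := isoRange φ₀ (F.injective_of_mem hφ₀) hr
  have hPS := le_of_mem_hom hφ₀
  have hβ : MulAut.congr e α ∈ F.autGroup P' := pow_mem_autGroup_iso hPS hφ₀ e (fun _ => rfl) hα
  let β : F.autGroup P' := ⟨MulAut.congr e α, hβ⟩
  have hBp : IsPGroup p (Subgroup.zpowers β) := by
    obtain ⟨k, hk⟩ := hp
    intro g
    obtain ⟨z, hz⟩ := Subgroup.mem_zpowers_iff.1 g.2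
    have h1 : β ^ p ^ k = 1 := Subtype.ext (by
      show (MulAut.congr e α) ^ p ^ k = 1
      rw [← map_pow, hk, map_one])
    refine ⟨k, Subtype.ext ?_⟩
    show (g : F.autGroup P') ^ p ^ k = 1
    rw [← hz, ← zpow_natCast, ← zpow_mul, mul_comm, zpow_mul, zpow_natCast, h1, one_zpow]
  obtain ⟨R, hR⟩ := hP'.2
  obtain ⟨T, hT⟩ := hBp.exists_le_sylow
  obtain ⟨c, hc⟩ := MulAction.exists_smul_eq (F.autGroup P') T R
  have h1 : c * β * c⁻¹ ∈ (autInducedBy S P').subgroupOf (F.autGroup P') := by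
    rw [← hR, ← hc, Sylow.coe_subgroup_smul]
    exact ⟨_, hT (Subgroup.mem_zpowers β), rfl⟩
  obtain ⟨s, hs, hs'⟩ := mem_autInducedBy.1 (Subgroup.mem_subgroupOf.1 h1)
  let φ : P →* Ω := (P'.subtype.comp (c : MulAut P').toMonoidHom).comp e.toMonoidHom
  refine ⟨φ, s, comp_mem_of_eq hφ₀ ((autGroup_carrier hP'.1).1 c.2)
    (fun x => hr.le ⟨x, rfl⟩) fun x => rfl, ?_, ⟨hs, mem_normalizer_of_aut hs'⟩, fun x => ?_⟩
  · show (P'.subtype.comp ((c : MulAut P').toMonoidHom.comp e.toMonoidHom)).range = P'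
    exact exists_map_normalizer.range_eq_of_surjective _
      ((c : MulAut P').surjective.comp e.surjective)
  · have h2 := hs' ((c : MulAut P') (e x))
    refine Eq.trans ?_ h2
    show (((c : MulAut P') (e (α x)) : P') : Ω) = _
    simp [β, MulAut.congr]

/-! ### Centric subgroups -/

theorem centralizerIn_range_le {P : Subgroup Ω} {φ : P →* Ω} (hP : F.IsCentric P)
    (hφ : φ ∈ F.Hom P) : centralizerIn S φ.range ≤ φ.range :=
  hP.2 _ ⟨φ, hφ, rfl⟩

theorem centralizerIn_le_self {P : Subgroup Ω} (hP : F.IsCentric P) :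
    centralizerIn S P ≤ P :=
  hP.2 _ (isConj_refl hP.1)

theorem centralizer_mem_of_centric {P : Subgroup Ω} (hP : F.IsCentric P) {g : Ω} (hg : g ∈ S)
    (h : ∀ x ∈ P, x * g = g * x) : g ∈ P :=
  centralizerIn_le_self hP (mem_centralizerIn.2 ⟨hg, h⟩)

theorem isCentric_of_isConj {P Q : Subgroup Ω} (hP : F.IsCentric P) (h : F.IsConj P Q) :
    F.IsCentric Q :=
  ⟨IsConj.le_right h, fun R hR => hP.2 R (isConj_trans h hR)⟩

theorem isCentric_mono {P Q : Subgroup Ω} (hP : F.IsCentric P) (hPQ : P ≤ Q) (hQ : Q ≤ S) :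
    F.IsCentric Q := by
  refine ⟨hQ, ?_⟩
  rintro _ ⟨φ, hφ, rfl⟩ g hg
  have h1 : (P.subgroupOf Q).map φ ≤ φ.range := Subgroup.map_le_range _ _
  refine h1 (hP.2 _ (isConj_map hφ hPQ) (mem_centralizerIn.2 ⟨hg.1, fun x hx => hg.2 x (h1 hx)⟩))

theorem centralizerIn_eq_of_centric {P : Subgroup Ω} (hP : F.IsCentric P) :
    centralizerIn S P = P ⊓ Subgroup.centralizer (P : Set Ω) :=
  le_antisymm (le_inf (centralizerIn_le_self hP) inf_le_right) (center_le_centralizerIn hP.1)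

theorem isFullyCentralized_of_centric [Finite S] {P : Subgroup Ω} (hP : F.IsCentric P) :
    F.IsFullyCentralized P := by
  refine ⟨hP.1, fun Q hQ => ?_⟩
  obtain ⟨φ, hφ, rfl⟩ := hQ
  obtain ⟨ψ, hψ, hψr, -, -⟩ := exists_inv hφ rfl
  refine (card_le_card_map (A := centralizerIn S φ.range) (centralizerIn_le_S P)
    (F.injective_of_mem hψ) (centralizerIn_range_le hP hφ) fun g hg => ?_).1
  have := map_mem_centralizerIn hψ (P := φ.range) le_rfl hg (centralizerIn_range_le hP hφ hg)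
  rwa [map_subgroupOf_self, hψr] at this

theorem range_eq_S [Finite S] {φ : S →* Ω} (hφ : φ ∈ F.Hom S) : φ.range = S :=
  eq_of_le_of_card_le le_rfl (range_le_S hφ) (card_range hφ).ge

theorem isCentric_S [Finite S] : F.IsCentric S := by
  refine ⟨le_rfl, fun Q hQ => ?_⟩
  obtain ⟨φ, hφ, rfl⟩ := hQ
  rw [range_eq_S hφ]
  exact centralizerIn_le_S S

theorem isFullyNormalized_S [Finite S] : F.IsFullyNormalized S := by
  refine ⟨le_rfl, fun Q hQ => ?_⟩
  obtain ⟨φ, hφ, rfl⟩ := hQ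
  rw [range_eq_S hφ]

theorem normalizerIn_self : normalizerIn S S = S :=
  le_antisymm (normalizerIn_le_S S) (le_normalizerIn le_rfl)

/-! ### The normalizer condition -/

theorem isNilpotent_of_le [Finite S] (p : ℕ) [Fact p.Prime] (hS : IsPGroup p S) {N : Subgroup Ω}
    (h : N ≤ S) : Group.IsNilpotent N := by
  have := finite_of_le h
  exact (isPGroup_of_le hS h).isNilpotent

theorem lt_normalizerIn [Finite S] (p : ℕ) [Fact p.Prime] (hS : IsPGroup p S) {P N : Subgroup Ω}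
    (hNS : N ≤ S) (hPN : P < N) : P < normalizerIn N P := by
  have := isNilpotent_of_le p hS hNS
  refine lt_of_le_of_ne (le_normalizerIn hPN.le) fun he => ?_
  have h1 := Group.normalizerCondition_of_isNilpotent (G := N) (P.subgroupOf N) (lt_top_iff_ne_top.2
    fun h => hPN.not_ge fun x hx => (Subgroup.subgroupOf_eq_top.1 h) hx)
  obtain ⟨⟨g, hgN⟩, hgn, hgP⟩ := SetLike.exists_of_lt h1
  apply hgP
  show g ∈ P
  rw [he]
  refine ⟨hgN, ?_⟩
  show g ∈ Subgroup.normalizer (P : Set Ω)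
  rw [Subgroup.mem_normalizer_iff]
  intro x
  have h2 := fun (y : N) => Subgroup.mem_normalizer_iff.1 hgn y
  constructor
  · intro hx
    exact (h2 ⟨x, hPN.le hx⟩).1 hx
  · intro hx
    have hxN : x ∈ N := by
      have := N.mul_mem (N.mul_mem (N.inv_mem hgN) (hPN.le hx)) hgN
      simpa [mul_assoc] using this
    exact (h2 ⟨x, hxN⟩).2 hx

/-! ### Uniqueness of extensions from centric subgroups -/

theorem centric_uniqueness_normal [Finite S] (p : ℕ) [Fact p.Prime] (hS : IsPGroup p S)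
    (hF : F.IsSaturated p) {P Q : Subgroup Ω} (hQP : Q ≤ P) (hQ : F.IsCentric Q)
    (hn : P ≤ Subgroup.normalizer (Q : Set Ω)) {φ φ' : P →* Ω} (hφ : φ ∈ F.Hom P)
    (hφ' : φ' ∈ F.Hom P) (h : ∀ x : P, (x : Ω) ∈ Q → φ x = φ' x) :
    ∃ z : P, (z : Ω) ∈ Q ∧ (z : Ω) ∈ Subgroup.centralizer (Q : Set Ω) ∧
      ∀ y : P, φ' y = φ (z * y * z⁻¹) := by
  have hPS := le_of_mem_hom hφ
  have hQr := hQ.2 _ (isConj_map hφ hQP)
  -- the quotient of `φ'` by `φ` is the image of an element of `Z(Q)`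
  have hd : ∀ y : P, ∃ d : P, (d : Ω) ∈ Q ∧ (d : Ω) ∈ Subgroup.centralizer (Q : Set Ω) ∧
      φ' y = φ (y * d) := by
    intro y
    have hmem : (φ y)⁻¹ * φ' y ∈ centralizerIn S ((Q.subgroupOf P).map φ) := by
      refine mem_centralizerIn.2 ⟨mul_mem (inv_mem (apply_mem_S hφ y)) (apply_mem_S hφ' y), ?_⟩
      intro u hu
      obtain ⟨x, hxP, hxQ, rfl⟩ := mem_map_subgroupOf.1 hu
      have hyQ : (y : Ω) * x * (y : Ω)⁻¹ ∈ Q := (Subgroup.mem_normalizer_iff.1 (hn y.2) x).1 hxQ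
      have h1 := h (y * ⟨x, hxP⟩ * y⁻¹) hyQ
      simp only [map_mul, map_inv] at h1
      rw [← h ⟨x, hxP⟩ hxQ] at h1
      generalize φ y = a at h1 ⊢
      generalize φ' y = b at h1 ⊢
      generalize φ ⟨x, hxP⟩ = c at h1 ⊢
      calc c * (a⁻¹ * b) = a⁻¹ * (a * c * a⁻¹) * b := by group
        _ = a⁻¹ * (b * c * b⁻¹) * b := by rw [h1]
        _ = a⁻¹ * b * c := by group
    obtain ⟨d, hdP, hdQ, hde⟩ := mem_map_subgroupOf.1 (hQr hmem)
    refine ⟨⟨d, hdP⟩, hdQ, fun x hx => ?_, ?_⟩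
    · have h2 := hmem.2 _ (apply_mem_map_subgroupOf φ (x := ⟨x, hQP hx⟩) hx)
      rw [← hde, ← map_mul, ← map_mul] at h2
      exact congrArg Subtype.val (F.injective_of_mem hφ h2)
    · rw [map_mul, hde]; group
  choose d hdQ hdC hd using hd
  have hdiv : ∀ y, φ' y = φ (y * d y) := hd
  -- the automorphism `φ⁻¹ φ'`
  have hr : φ'.range ≤ φ.range := by
    rintro _ ⟨y, rfl⟩
    exact ⟨_, (hdiv y).symm⟩
  obtain ⟨ψ, hψ, hψr, h1, -⟩ := exists_inv hφ rfl
  let β₀ : P →* Ω := ψ.comp (φ'.codRestrict φ.range fun y => hr ⟨y, rfl⟩)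
  have hβ₀ : β₀ ∈ F.Hom P := F.comp_mem hφ' hψ _
  have hβv : ∀ y : P, β₀ y = (y : Ω) * d y := fun y =>
    (apply_congr ψ (hdiv y)).trans (h1 (y * d y) ⟨_, rfl⟩)
  have hβr : β₀.range = P := by
    have := finite_of_le hPS
    refine eq_of_le_of_card_le hPS ?_ (card_range hβ₀).ge
    rintro _ ⟨y, rfl⟩
    rw [hβv]
    exact P.mul_mem y.2 (d y).2
  let β := autOfRange β₀ (F.injective_of_mem hβ₀) hβr
  have hβfix : ∀ x : P, (x : Ω) ∈ Q → β x = x := fun x hx => Subtype.ext <| by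
    show β₀ x = x
    exact (apply_congr ψ (h x hx).symm).trans (h1 x ⟨_, rfl⟩)
  have hβd : ∀ y : P, β y = y * d y := fun y => Subtype.ext (hβv y)
  have hpow : ∀ (n : ℕ) (y : P), (β ^ n) y = y * d y ^ n := by
    intro n
    induction n with
    | zero => intro y; simp
    | succ n ih =>
      intro y
      rw [pow_succ', MulAut.mul_apply, ih, map_mul, map_pow, hβd, hβfix (d y) (hdQ y), pow_succ',
        mul_assoc]
  obtain ⟨k, hk⟩ : ∃ k, Nat.card P = p ^ k := by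
    have := finite_of_le hPS
    exact IsPGroup.iff_card.1 (isPGroup_of_le hS hPS)
  have hβp : ∃ k : ℕ, β ^ p ^ k = 1 := ⟨k, MulEquiv.ext fun y => by
    rw [hpow, ← hk, pow_card_eq_one', mul_one]; rfl⟩
  obtain ⟨P', hPP', hgood, -⟩ := hF P hPS
  obtain ⟨e, s, he, her, hs, hse⟩ :=
    exists_conj_of_pElement p hgood hPP' (autOfRange_mem hβ₀ hβr) hβp
  -- `s` centralizes the centric subgroup `e(Q)`
  have hsQ : s ∈ (Q.subgroupOf P).map e := by
    refine hQ.2 _ (isConj_map he hQP) (mem_centralizerIn.2 ⟨hs.1, ?_⟩)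
    intro u hu
    obtain ⟨x, hxP, hxQ, rfl⟩ := mem_map_subgroupOf.1 hu
    have := hse ⟨x, hxP⟩
    rw [hβfix _ hxQ] at this
    generalize e ⟨x, hxP⟩ = a at this
    calc a * s = (s * a * s⁻¹) * s := by rw [← this]
      _ = s * a := by group
  obtain ⟨z, hzP, hzQ, rfl⟩ := mem_map_subgroupOf.1 hsQ
  have hz : ∀ y : P, β y = ⟨z, hzP⟩ * y * ⟨z, hzP⟩⁻¹ := fun y =>
    F.injective_of_mem he ((hse y).trans (by rw [map_mul, map_mul, map_inv]))
  refine ⟨⟨z, hzP⟩, hzQ, fun x hx => ?_, fun y => ?_⟩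
  · have h3 := (hz ⟨x, hQP hx⟩).symm.trans (hβfix _ hx)
    have h4 : z * x * z⁻¹ = x := congrArg Subtype.val h3
    calc x * z = (z * x * z⁻¹) * z := by rw [h4]
      _ = z * x := by group
  · rw [← hz, hβd, hdiv]

theorem centric_uniqueness [Finite S] (p : ℕ) [Fact p.Prime] (hS : IsPGroup p S)
    (hF : F.IsSaturated p) {P : Subgroup Ω} :
    ∀ {Q : Subgroup Ω}, Q ≤ P → F.IsCentric Q → ∀ {φ φ' : P →* Ω}, φ ∈ F.Hom P → φ' ∈ F.Hom P →
      (∀ x : P, (x : Ω) ∈ Q → φ x = φ' x) →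
      ∃ z : P, (z : Ω) ∈ Q ∧ (z : Ω) ∈ Subgroup.centralizer (Q : Set Ω) ∧
        ∀ y : P, φ' y = φ (z * y * z⁻¹) := by
  intro Q
  induction hn : Nat.card P - Nat.card Q using Nat.strong_induction_on generalizing Q with
  | _ n IH =>
  intro hQP hQ φ φ' hφ hφ' h
  have hPS := le_of_mem_hom hφ
  rcases hQP.eq_or_lt with heq | hlt
  · exact centric_uniqueness_normal p hS hF hQP hQ (heq ▸ Subgroup.le_normalizer) hφ hφ' h
  have hlt1 := lt_normalizerIn p hS hPS hlt
  have hN₁ : normalizerIn P Q ≤ P := normalizerIn_le_S Q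
  obtain ⟨z, hzQ, hzC, hz⟩ := centric_uniqueness_normal p hS hF hlt1.le hQ inf_le_right
    (restrict_mem hφ hN₁) (restrict_mem hφ' hN₁) fun x hx => h (Subgroup.inclusion hN₁ x) hx
  let z' : P := Subgroup.inclusion hN₁ z
  let φ₁ : P →* Ω := φ.comp (MulAut.conj z').toMonoidHom
  have hφ₁ : φ₁ ∈ F.Hom P := by
    refine comp_mem_of_eq (φ := conjHom P (z' : Ω)) (F.conj_mem hPS (hPS z'.2)) hφ
      (fun x => mul_mem (mul_mem z'.2 x.2) (inv_mem z'.2)) fun x => ?_
    exact apply_congr φ rfl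
  have hcard : Nat.card Q < Nat.card (normalizerIn P Q) := by
    have := finite_of_le ((normalizerIn_le_S Q).trans hPS)
    exact lt_of_not_ge fun hge => hlt1.ne (eq_of_le_of_card_le (hN₁.trans hPS) hlt1.le hge)
  have hcard' : Nat.card (normalizerIn P Q) ≤ Nat.card P := card_le_of_le hPS hN₁
  obtain ⟨w, hwN, hwC, hw⟩ := IH (Nat.card P - Nat.card (normalizerIn P Q)) (by omega) rfl hN₁
    (isCentric_mono hQ hlt1.le (hN₁.trans hPS)) hφ₁ hφ' fun x hx => by
      have := hz ⟨x, hx⟩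
      refine Eq.trans ?_ this.symm
      exact apply_congr φ rfl
  have hwC' : (w : Ω) ∈ Subgroup.centralizer (Q : Set Ω) := fun x hx => hwC x (hlt1.le hx)
  have hwQ : (w : Ω) ∈ Q := centralizer_mem_of_centric hQ (hPS w.2) hwC'
  refine ⟨z' * w, Q.mul_mem hzQ hwQ, Subgroup.mul_mem _ hzC hwC', fun y => ?_⟩
  rw [hw]
  show φ (z' * (w * y * w⁻¹) * z'⁻¹) = _
  congr 1
  group

/-! ### Saturation from "fully normalized implies receptive" -/

theorem exists_mem_normalizer_not_mem {G : Type*} [Group G] [Finite G] {p : ℕ} [Fact p.Prime]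
    (R : Sylow p G) {A : Subgroup G} (hA : A ≤ R) (hne : A ≠ R) :
    ∃ r ∈ (R : Subgroup G), r ∈ Subgroup.normalizer (A : Set G) ∧ r ∉ A := by
  have := lt_normalizerIn (S := (R : Subgroup G)) p R.2 le_rfl (lt_of_le_of_ne hA hne)
  obtain ⟨r, hr, hrA⟩ := SetLike.exists_of_lt this
  exact ⟨r, hr.1, hr.2, hrA⟩

theorem exists_pow_modEq (p : ℕ) [hp : Fact p.Prime] {N : ℕ} (hN : N ≠ 0) :
    ∃ k t : ℕ, N ∣ k * p ^ t ∧ ∀ b : ℕ, p ^ b ∣ N → k ≡ 1 [MOD p ^ b] := by
  obtain ⟨t, m, hm, rfl⟩ := Nat.exists_eq_pow_mul_and_not_dvd hN p hp.out.ne_one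
  have hcop : ∀ b, Nat.Coprime (p ^ b) m :=
    fun b => Nat.Coprime.pow_left _ (hp.out.coprime_iff_not_dvd.2 hm)
  obtain ⟨k, hk1, hk0⟩ := Nat.chineseRemainder (hcop t) 1 0
  refine ⟨k, t, ?_, fun b hb => hk1.of_dvd ((hcop b).dvd_of_dvd_mul_right hb)⟩
  rw [mul_comm k]
  exact mul_dvd_mul_left _ (Nat.modEq_zero_iff_dvd.1 hk0)

theorem pow_eq_self_of_modEq {G : Type*} [Monoid G] {x : G} {k n : ℕ} (hx : x ^ n = 1)
    (hk : k ≡ 1 [MOD n]) : x ^ k = x := by
  conv_rhs => rw [← pow_one x]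
  rw [← pow_mod_orderOf, ← pow_mod_orderOf x 1]
  exact congrArg _ (hk.of_dvd (orderOf_dvd_of_pow_eq_one hx))

theorem fullyAutomized_of_fn [Finite S] (p : ℕ) [Fact p.Prime] (hS : IsPGroup p S)
    (hfaS : F.IsFullyAutomized p S)
    (hrec : ∀ P : Subgroup Ω, F.IsFullyNormalized P → F.IsReceptive P) :
    ∀ {Q : Subgroup Ω}, F.IsFullyNormalized Q → F.IsFullyAutomized p Q := by
  intro Q
  induction hn : Nat.card S - Nat.card Q using Nat.strong_induction_on generalizing Q with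
  | _ n IH =>
  intro hQ
  rcases hQ.1.eq_or_lt with heq | hlt
  · exact heq ▸ hfaS
  have hQS := hQ.1
  have := finite_of_le hQS
  have : Finite (MulAut Q) := finite_mulAut
  have hAp : IsPGroup p ((autInducedBy S Q).subgroupOf (F.autGroup Q)) :=
    (isPGroup_autInducedBy hS Q).comap_of_injective _ Subtype.val_injective
  obtain ⟨R, hR⟩ := hAp.exists_le_sylow
  refine ⟨hQS, R, ?_⟩
  by_contra hne
  obtain ⟨r, hrR, hrN, hrA⟩ := exists_mem_normalizer_not_mem R hR (Ne.symm hne)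
  -- `r` extends to `N_S(Q)`
  let φ : Q →* Ω := Q.subtype.comp (r : MulAut Q).toMonoidHom
  have hφ : φ ∈ F.Hom Q := (autGroup_carrier hQS).1 r.2
  have hφr : φ.range = Q := range_subtype_comp _
  have hN : normalizerIn S Q ≤ extender S Q φ := by
    intro g hg
    have ha : (⟨conjAut S Q ⟨g, hg⟩, autInducedBy_le_autGroup hQS
        (mem_autInducedBy.2 ⟨g, hg.1, fun _ => rfl⟩)⟩ : F.autGroup Q) ∈
        (autInducedBy S Q).subgroupOf (F.autGroup Q) :=
      mem_autInducedBy.2 ⟨g, hg.1, fun _ => rfl⟩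
    obtain ⟨k, hk, hk'⟩ := mem_autInducedBy.1 (Subgroup.mem_subgroupOf.1
      ((Subgroup.mem_normalizer_iff.1 hrN _).1 ha))
    refine mem_extender_of hg hk fun x hx => ?_
    refine Eq.trans ?_ (hk' ((r : MulAut Q) x))
    simp [φ, conjAut]
  obtain ⟨ψ, hψ, hψe⟩ := receptive_extend (hrec Q hQ) hφ hφr hN
  have hQN := le_normalizerIn (S := S) hQS
  have hψQ : (Q.subgroupOf (normalizerIn S Q)).map ψ = Q :=
    (map_eq_range_of_eq hQN hψe).trans hφr
  have hψr : ψ.range = normalizerIn S Q := by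
    refine eq_of_le_of_card_le (normalizerIn_le_S Q) ?_ (card_range hψ).ge
    rintro _ ⟨x, rfl⟩
    have := map_mem_normalizerIn hψ hQN x.2 x.2
    rwa [hψQ] at this
  let β := autOfRange ψ (F.injective_of_mem hψ) hψr
  have hNS : normalizerIn S Q ≤ S := normalizerIn_le_S Q
  have := finite_of_le hNS
  have : Finite (MulAut (normalizerIn S Q)) := finite_mulAut
  have hres : ∀ (n : ℕ) (x : Q),
      (((β ^ n) (Subgroup.inclusion hQN x) : normalizerIn S Q) : Ω) =
        (((r : MulAut Q) ^ n) x : Q) := by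
    intro n
    induction n with
    | zero => intro x; rfl
    | succ n ih =>
      intro x
      rw [pow_succ', MulAut.mul_apply, pow_succ', MulAut.mul_apply]
      have hx := ih x
      show ψ _ = _
      refine (apply_congr ψ (y := ⟨_, hQN (((r : MulAut Q) ^ n) x).2⟩) hx).trans ?_
      exact hψe _ (((r : MulAut Q) ^ n) x).2 (hQN (((r : MulAut Q) ^ n) x).2)
  obtain ⟨k, t, hNk, hk⟩ := exists_pow_modEq p (orderOf_pos β).ne'
  have hrk : (r : MulAut Q) ^ k = r := by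
    obtain ⟨b, hb⟩ := R.2 ⟨r, hrR⟩
    have hb' : (r : MulAut Q) ^ p ^ b = 1 :=
      congrArg (fun z : (R : Subgroup (F.autGroup Q)) => ((z : F.autGroup Q) : MulAut Q)) hb
    obtain ⟨c, -, hc⟩ :=
      (Nat.dvd_prime_pow (Fact.out : p.Prime)).1 (orderOf_dvd_of_pow_eq_one hb')
    have h1 : (r : MulAut Q) ^ orderOf β = 1 := MulEquiv.ext fun x => Subtype.ext <| by
      rw [← hres, pow_orderOf_eq_one]; rfl
    have hdvd := orderOf_dvd_of_pow_eq_one h1
    rw [hc] at hdvd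
    exact pow_eq_self_of_modEq (by rw [← hc, pow_orderOf_eq_one]) (hk c hdvd)
  have hβ₁p : ∃ j : ℕ, (β ^ k) ^ p ^ j = 1 :=
    ⟨t, by rw [← pow_mul]; exact orderOf_dvd_iff_pow_eq_one.1 hNk⟩
  -- move `N_S(Q)` to a fully normalized conjugate
  obtain ⟨N', hNN', hN'⟩ := exists_fullyNormalized F hNS
  have hlt' : Nat.card Q < Nat.card (normalizerIn S Q) :=
    lt_of_not_ge fun hge =>
      (lt_normalizerIn p hS le_rfl hlt).ne (eq_of_le_of_card_le hNS hQN hge)
  have hle' : Nat.card (normalizerIn S Q) ≤ Nat.card S := card_le_of_le le_rfl hNS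
  have hc' := IsConj.card_eq hNN'
  have hgood := IH (Nat.card S - Nat.card N') (by omega) rfl hN'
  obtain ⟨e, s, he, her, hs, hse⟩ := exists_conj_of_pElement p hgood hNN'
    (pow_mem (autOfRange_mem hψ hψr) k) hβ₁p
  have hβQ : ∀ x : Q, (β ^ k) (Subgroup.inclusion hQN x) =
      Subgroup.inclusion hQN ((r : MulAut Q) x) := fun x =>
    Subtype.ext <| by rw [hres k x, hrk]; rfl
  have hsQ : s ∈ normalizerIn S ((Q.subgroupOf (normalizerIn S Q)).map e) := by
    refine ⟨hs.1, mem_normalizer_of_conj_mem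
      ((Subgroup.map_le_range _ _).trans (range_le_S he)) fun u hu => ?_⟩
    obtain ⟨x, hxN, hxQ, rfl⟩ := mem_map_subgroupOf.1 hu
    rw [← hse]
    refine apply_mem_map_subgroupOf e ?_
    have := congrArg (fun y : normalizerIn S Q => (y : Ω)) (hβQ ⟨x, hxQ⟩)
    exact Set.mem_of_eq_of_mem this ((r : MulAut Q) ⟨x, hxQ⟩).2
  have hN'le : N' ≤ normalizerIn S ((Q.subgroupOf (normalizerIn S Q)).map e) := by
    intro u hu
    obtain ⟨y, rfl⟩ := her.ge hu
    exact map_mem_normalizerIn he hQN y.2 y.2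
  have hmax := hQ.2 _ (isConj_map he hQN)
  have heq := eq_of_le_of_card_le (normalizerIn_le_S _) hN'le (hmax.trans hc'.ge)
  obtain ⟨m, rfl⟩ := her.ge (heq.ge hsQ)
  apply hrA
  refine mem_autInducedBy.2 ⟨m, hNS m.2, fun x => ?_⟩
  have h2 : (β ^ k) (Subgroup.inclusion hQN x) = m * Subgroup.inclusion hQN x * m⁻¹ :=
    F.injective_of_mem he ((hse _).trans (by rw [map_mul, map_mul, map_inv]))
  rw [hβQ] at h2
  exact congrArg Subtype.val h2

theorem isSaturated_of_fn [Finite S] (p : ℕ) [Fact p.Prime] (hS : IsPGroup p S)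
    (hfaS : F.IsFullyAutomized p S)
    (hrec : ∀ P : Subgroup Ω, F.IsFullyNormalized P → F.IsReceptive P) :
    F.IsSaturated p := fun P hP => by
  obtain ⟨Q, hQ, hn⟩ := exists_fullyNormalized F hP
  exact ⟨Q, hQ, fullyAutomized_of_fn p hS hfaS hrec hn, hrec Q hn⟩

/-! ### Radical subgroups -/

theorem eq_bot_or_normalizer_le {X : Type*} [Group X] [Finite X] (p : ℕ) [Fact p.Prime]
    {Y : Subgroup X} {P : Sylow p X} (hP : kGeneratedCore p 1 (P : Subgroup X) ≤ Y)
    {Q : Subgroup X} (hQP : Q ≤ P) :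
    Q = ⊥ ∨ Subgroup.normalizer (Q : Set X) ≤ Y := by
  by_cases hQ : Q = ⊥
  · exact Or.inl hQ
  refine Or.inr (le_trans ?_ hP)
  refine le_iSup_of_le (⟨Q, hQP, fun hr => hQ ?_⟩ : {Q : Subgroup X // _}) le_rfl
  have hQp : IsPGroup p Q := P.2.to_le hQP
  have : Nontrivial Q := (Subgroup.nontrivial_iff_ne_bot Q).2 hQ
  obtain ⟨k, hk0, hk⟩ := hQp.nontrivial_iff_card.1 inferInstance
  obtain ⟨x, hx⟩ := exists_prime_orderOf_dvd_card' p (G := Q)
    (hk ▸ dvd_pow_self p hk0.ne')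
  have h1 := hr (Subgroup.zpowers x) inferInstance (by
    rintro _ ⟨i, rfl⟩
    show (x ^ i) ^ p = 1
    rw [← zpow_natCast, ← zpow_mul, mul_comm, zpow_mul, zpow_natCast, ← hx, pow_orderOf_eq_one,
      one_zpow])
  rw [Nat.card_zpowers, hx, Nat.sub_self, pow_zero] at h1
  exact absurd h1 (Nat.not_le.2 (Fact.out : p.Prime).one_lt)

theorem pCore_eq_bot_of_stronglyPEmbedded {X : Type*} [Group X] [Finite X] (p : ℕ) [Fact p.Prime]
    {Y : Subgroup X} (hY : IsStronglyPEmbedded p Y) : pCore p X = ⊥ := by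
  obtain ⟨-, hYtop, P, hP⟩ := hY
  obtain ⟨hn, hp⟩ := CfsgLib.Solvable.pCore_spec (G := X) p
  obtain ⟨T, hT⟩ := hp.exists_le_sylow
  obtain ⟨g, hg⟩ := MulAction.exists_smul_eq X T P
  have hle : pCore p X ≤ P := by
    intro x hx
    rw [← hg, Sylow.coe_subgroup_smul]
    exact ⟨g⁻¹ * x * g, hT (by simpa using hn.conj_mem x hx g⁻¹),
      by simp [MulAut.conj_apply, mul_assoc]⟩
  refine (eq_bot_or_normalizer_le p hP hle).resolve_right fun h => hYtop ?_
  rw [Subgroup.normalizer_eq_top_iff.2 hn] at h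
  exact top_le_iff.1 h

theorem inn_subgroupOf_normal (P : Subgroup Ω) :
    ((Inn P).subgroupOf (F.autGroup P)).Normal :=
  (innNormal P).comap _

theorem isRadical_of_essential [Finite S] (p : ℕ) [Fact p.Prime] (hS : IsPGroup p S)
    {P : Subgroup Ω} (hP : F.IsEssential p P) : F.IsRadical p P := by
  obtain ⟨hc, -, hn, E, hE⟩ := hP
  have := finite_of_le hc.1
  have : Finite (MulAut P) := finite_mulAut
  refine ⟨hc.1, ?_⟩
  have hbot := pCore_eq_bot_of_stronglyPEmbedded p hE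
  have hI : IsPGroup p ((Inn P).subgroupOf (F.autGroup P)) :=
    ((isPGroup_of_le hS hc.1).of_surjective _
      (MulAut.conj : P →* MulAut P).rangeRestrict_surjective).comap_of_injective _
        Subtype.val_injective
  obtain ⟨hcn, hcp⟩ := CfsgLib.Solvable.pCore_spec (G := F.autGroup P) p
  have he : pCore p (F.autGroup P) = (Inn P).subgroupOf (F.autGroup P) := by
    refine le_antisymm ?_ (CfsgLib.Solvable.le_pCore p hn hI)
    rw [← QuotientGroup.ker_mk' ((Inn P).subgroupOf (F.autGroup P)), ← MonoidHom.comap_bot]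
    refine Subgroup.map_le_iff_le_comap.1 ?_
    rw [← hbot]
    exact CfsgLib.Solvable.le_pCore p
      (hcn.map _ (QuotientGroup.mk'_surjective _)) (hcp.map _)
  rw [he, Subgroup.map_subgroupOf_eq_of_le (inn_le_autGroup hc.1)]

end CfsgLib.Fusion
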