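import Cfsg.Agent.Fusion.Saturation

/-!
Normal and central subgroups of a fusion system; normalizer and centralizer systems.
-/

set_option autoImplicit false

open Cfsg Cfsg.FusionSystem

namespace CfsgLib.Fusion

variable {Ω : Type*} [Group Ω] {S : Subgroup Ω} {F : FusionSystem S}

theorem range_eq_sup {P Q : Subgroup Ω} (ψ : ↥(P ⊔ Q) →* Ω) :
    ψ.range = (P.subgroupOf (P ⊔ Q)).map ψ ⊔ (Q.subgroupOf (P ⊔ Q)).map ψ := by
  rw [← Subgroup.map_sup, ← Subgroup.subgroupOf_sup le_sup_left le_sup_right,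
    Subgroup.subgroupOf_self, ← MonoidHom.range_eq_map]

theorem map_subgroupOf_congr {P N N' : Subgroup Ω} {ψ : N →* Ω} {χ : N' →* Ω} (h₁ : P ≤ N)
    (h₂ : P ≤ N') (h : ∀ (x : Ω) (hx : x ∈ P), ψ ⟨x, h₁ hx⟩ = χ ⟨x, h₂ hx⟩) :
    (P.subgroupOf N).map ψ = (P.subgroupOf N').map χ := by
  ext y
  simp only [mem_map_subgroupOf]
  constructor
  · rintro ⟨x, -, hxP, rfl⟩
    exact ⟨x, h₂ hxP, hxP, (h x hxP).symm⟩
  · rintro ⟨x, -, hxP, rfl⟩
    exact ⟨x, h₁ hxP, hxP, h x hxP⟩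

theorem map_subgroupOf_comp {P M N : Subgroup Ω} {φ : M →* Ω} {ψ : N →* Ω} {χ : M →* Ω}
    (hφ : ∀ x : M, φ x ∈ N) (hχ : ∀ x : M, χ x = ψ ⟨φ x, hφ x⟩) :
    (P.subgroupOf M).map χ = (((P.subgroupOf M).map φ).subgroupOf N).map ψ := by
  ext y
  simp only [mem_map_subgroupOf]
  constructor
  · rintro ⟨x, hxM, hxP, rfl⟩
    exact ⟨φ ⟨x, hxM⟩, hφ _, ⟨x, hxM, hxP, rfl⟩, (hχ _).symm⟩
  · rintro ⟨_, hxN, ⟨x, hxM, hxP, rfl⟩, rfl⟩
    exact ⟨x, hxM, hxP, hχ _⟩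

/-! ### Normal subgroups of a system -/

theorem le_S_of_isNormal {Q : Subgroup Ω} (h : F.IsNormal Q) : Q ≤ S := h.1

theorem isNormal_bot : F.IsNormal ⊥ := by
  refine ⟨bot_le, fun P φ hφ => ⟨φ.comp (Subgroup.inclusion (sup_le le_rfl bot_le)),
    restrict_mem hφ _, fun x => rfl, ?_⟩⟩
  rw [Subgroup.bot_subgroupOf, Subgroup.map_bot]

theorem isNormal_sup {Q₁ Q₂ : Subgroup Ω} (h₁ : F.IsNormal Q₁) (h₂ : F.IsNormal Q₂) :
    F.IsNormal (Q₁ ⊔ Q₂) := by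
  refine ⟨sup_le h₁.1 h₂.1, fun P φ hφ => ?_⟩
  obtain ⟨ψ₁, hψ₁, he₁, hm₁⟩ := h₁.2 P φ hφ
  obtain ⟨ψ₂, hψ₂, he₂, hm₂⟩ := h₂.2 _ ψ₁ hψ₁
  have hle : P ⊔ (Q₁ ⊔ Q₂) ≤ (P ⊔ Q₁) ⊔ Q₂ := (sup_assoc P Q₁ Q₂).ge
  refine ⟨ψ₂.comp (Subgroup.inclusion hle), restrict_mem hψ₂ hle, fun x => ?_, ?_⟩
  · exact ((apply_congr ψ₂ rfl).trans (he₂ (Subgroup.inclusion le_sup_left x))).trans (he₁ x)
  · have e₁ : (Q₁.subgroupOf (P ⊔ (Q₁ ⊔ Q₂))).map (ψ₂.comp (Subgroup.inclusion hle)) = Q₁ := by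
      refine Eq.trans (map_subgroupOf_congr (χ := ψ₁) (le_sup_left.trans le_sup_right)
        le_sup_right fun x hx => ?_) hm₁
      exact (apply_congr ψ₂ rfl).trans (he₂ ⟨x, le_sup_right (a := P) hx⟩)
    have e₂ : (Q₂.subgroupOf (P ⊔ (Q₁ ⊔ Q₂))).map (ψ₂.comp (Subgroup.inclusion hle)) = Q₂ :=
      Eq.trans (map_subgroupOf_congr (χ := ψ₂) (le_sup_right.trans le_sup_right)
        le_sup_right fun x hx => rfl) hm₂
    rw [Subgroup.subgroupOf_sup (le_sup_left.trans le_sup_right)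
      (le_sup_right.trans le_sup_right), Subgroup.map_sup, e₁, e₂]

theorem isNormal_core [Finite S] : F.IsNormal F.core := by
  have hfin : {Q : Subgroup Ω | F.IsNormal Q}.Finite :=
    (finite_setOf_le S le_rfl).subset fun Q hQ => hQ.1
  have : ∀ T : Set (Subgroup Ω), T.Finite → (∀ Q ∈ T, F.IsNormal Q) → F.IsNormal (sSup T) := by
    intro T hT
    induction T, hT using Set.Finite.induction_on with
    | empty => intro _; rw [sSup_empty]; exact isNormal_bot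
    | insert _ _ ih =>
      intro h
      rw [sSup_insert]
      exact isNormal_sup (h _ (Set.mem_insert _ _)) (ih fun Q hQ => h Q (Set.mem_insert_of_mem _ hQ))
  exact this _ hfin fun Q hQ => hQ

theorem le_core {Q : Subgroup Ω} (h : F.IsNormal Q) : Q ≤ F.core := le_sSup h

theorem core_le_S : F.core ≤ S := sSup_le fun _ h => h.1

/-- A subgroup normal in the system is normalized by `S`. -/
theorem normal_S_le_normalizer {Q : Subgroup Ω} (h : F.IsNormal Q) [Finite S] :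
    S ≤ Subgroup.normalizer (Q : Set Ω) := by
  intro s hs
  obtain ⟨ψ, -, he, hm⟩ := h.2 S (conjHom S s) (F.conj_mem le_rfl hs)
  refine mem_normalizer_of_conj_mem h.1 fun x hx => ?_
  have h1 := he ⟨x, h.1 hx⟩
  rw [conjHom_apply] at h1
  rw [← h1]
  exact hm.le (apply_mem_map_subgroupOf ψ hx)

theorem stronglyClosed_of_isNormal {Q : Subgroup Ω} (h : F.IsNormal Q) : F.StronglyClosed Q := by
  refine ⟨h.1, fun R hR φ hφ x => ?_⟩
  obtain ⟨ψ, -, he, hm⟩ := h.2 R φ hφ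
  rw [← he]
  exact hm.le (apply_mem_map_subgroupOf ψ (hR x.2))

theorem weaklyClosed_of_stronglyClosed [Finite S] {Q : Subgroup Ω} (h : F.StronglyClosed Q) :
    F.WeaklyClosed Q :=
  ⟨h.1, fun φ hφ => eq_of_le_of_card_le h.1 (fun y ⟨x, hx⟩ => hx ▸ h.2 Q le_rfl φ hφ x)
    (card_range hφ).ge⟩

theorem stronglyClosed_normal_in_S [Finite S] {Q : Subgroup Ω} (h : F.StronglyClosed Q) :
    S ≤ Subgroup.normalizer (Q : Set Ω) := fun s hs =>
  mem_normalizer_of_conj_mem h.1 fun x hx => h.2 Q le_rfl _ (F.conj_mem h.1 hs) ⟨x, hx⟩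

theorem isNormal_of_characteristic {Q U : Subgroup Ω} (hQ : F.IsNormal Q) (hUQ : U ≤ Q)
    (hU : (U.subgroupOf Q).Characteristic) : F.IsNormal U := by
  refine ⟨hUQ.trans hQ.1, fun P φ hφ => ?_⟩
  obtain ⟨ψ, hψ, he, hm⟩ := hQ.2 P φ hφ
  have hle : P ⊔ U ≤ P ⊔ Q := sup_le_sup_left hUQ P
  refine ⟨ψ.comp (Subgroup.inclusion hle), restrict_mem hψ hle, fun x => he x, ?_⟩
  let β := ψ.comp (Subgroup.inclusion (le_sup_right : Q ≤ P ⊔ Q))
  have hβ : β ∈ F.Hom Q := restrict_mem hψ le_sup_right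
  have hβr : β.range = Q := (range_restrict ψ le_sup_right).trans hm
  let α := autOfRange β (F.injective_of_mem hβ) hβr
  have h1 := Subgroup.characteristic_iff_map_eq.1 hU α
  ext y
  rw [mem_map_subgroupOf]
  constructor
  · rintro ⟨x, -, hxU, rfl⟩
    have h2 : α ⟨x, hUQ hxU⟩ ∈ U.subgroupOf Q := h1.le ⟨⟨x, hUQ hxU⟩, hxU, rfl⟩
    exact h2
  · intro hy
    obtain ⟨⟨x, hxQ⟩, hxU, hxy⟩ := h1.ge (show (⟨y, hUQ hy⟩ : Q) ∈ U.subgroupOf Q from hy)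
    exact ⟨x, le_sup_right (a := P) hxU, hxU, congrArg Subtype.val hxy⟩

/-! ### Central subgroups -/

theorem isCentral_bot : F.IsCentral ⊥ := by
  refine ⟨bot_le, fun P φ hφ => ⟨φ.comp (Subgroup.inclusion (sup_le le_rfl bot_le)),
    restrict_mem hφ _, fun x => rfl, ?_⟩⟩
  rintro ⟨x, hx⟩
  obtain rfl := Subgroup.mem_bot.1 hx
  exact map_one _

theorem isCentral_mono {Q U : Subgroup Ω} (h : F.IsCentral Q) (hU : U ≤ Q) : F.IsCentral U := by
  refine ⟨hU.trans h.1, fun P φ hφ => ?_⟩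
  obtain ⟨ψ, hψ, he, hf⟩ := h.2 P φ hφ
  have hle : P ⊔ U ≤ P ⊔ Q := sup_le_sup_left hU P
  exact ⟨ψ.comp (Subgroup.inclusion hle), restrict_mem hψ hle, fun x => he x,
    fun x => hf ⟨x, hU x.2⟩⟩

theorem isCentral_sup {Q₁ Q₂ : Subgroup Ω} (h₁ : F.IsCentral Q₁) (h₂ : F.IsCentral Q₂) :
    F.IsCentral (Q₁ ⊔ Q₂) := by
  refine ⟨sup_le h₁.1 h₂.1, fun P φ hφ => ?_⟩
  obtain ⟨ψ₁, hψ₁, he₁, hf₁⟩ := h₁.2 P φ hφ
  obtain ⟨ψ₂, hψ₂, he₂, hf₂⟩ := h₂.2 _ ψ₁ hψ₁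
  have hle : P ⊔ (Q₁ ⊔ Q₂) ≤ (P ⊔ Q₁) ⊔ Q₂ := (sup_assoc P Q₁ Q₂).ge
  have hext : ∀ x : P, ψ₂.comp (Subgroup.inclusion hle) (Subgroup.inclusion le_sup_left x) = φ x :=
    fun x => ((apply_congr ψ₂ rfl).trans (he₂ (Subgroup.inclusion le_sup_left x))).trans (he₁ x)
  refine ⟨ψ₂.comp (Subgroup.inclusion hle), restrict_mem hψ₂ hle, hext, ?_⟩
  intro x
  have key : ((Q₁ ⊔ Q₂).subgroupOf (P ⊔ (Q₁ ⊔ Q₂))) ≤
      MonoidHom.eqLocus (ψ₂.comp (Subgroup.inclusion hle)) (Subgroup.subtype _) := by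
    rw [Subgroup.subgroupOf_sup (le_sup_left.trans le_sup_right) (le_sup_right.trans le_sup_right),
      sup_le_iff]
    constructor
    · intro z hz
      exact ((apply_congr ψ₂ rfl).trans (he₂ ⟨z, le_sup_right (a := P) hz⟩)).trans (hf₁ ⟨z, hz⟩)
    · intro z hz
      exact (apply_congr ψ₂ rfl).trans (hf₂ ⟨z, hz⟩)
  exact key (show Subgroup.inclusion le_sup_right x ∈
    (Q₁ ⊔ Q₂).subgroupOf (P ⊔ (Q₁ ⊔ Q₂)) from x.2)

theorem isCentral_center [Finite S] : F.IsCentral F.center := by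
  have hfin : {Q : Subgroup Ω | F.IsCentral Q}.Finite :=
    (finite_setOf_le S le_rfl).subset fun Q hQ => hQ.1
  have : ∀ T : Set (Subgroup Ω), T.Finite → (∀ Q ∈ T, F.IsCentral Q) → F.IsCentral (sSup T) := by
    intro T hT
    induction T, hT using Set.Finite.induction_on with
    | empty => intro _; rw [sSup_empty]; exact isCentral_bot
    | insert _ _ ih =>
      intro h
      rw [sSup_insert]
      exact isCentral_sup (h _ (Set.mem_insert _ _))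
        (ih fun Q hQ => h Q (Set.mem_insert_of_mem _ hQ))
  exact this _ hfin fun Q hQ => hQ

theorem le_center {Q : Subgroup Ω} (h : F.IsCentral Q) : Q ≤ F.center := le_sSup h

theorem center_le_S : F.center ≤ S := sSup_le fun _ h => h.1

theorem isCentral_fix {Q : Subgroup Ω} (h : F.IsCentral Q) {P : Subgroup Ω} {φ : P →* Ω}
    (hφ : φ ∈ F.Hom P) (x : P) (hx : (x : Ω) ∈ Q) : φ x = x := by
  obtain ⟨ψ, -, he, hf⟩ := h.2 P φ hφ
  exact ((apply_congr ψ rfl).trans (he x)).symm.trans (hf ⟨x, hx⟩)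

theorem isNormal_of_isCentral {Q : Subgroup Ω} (h : F.IsCentral Q) : F.IsNormal Q := by
  refine ⟨h.1, fun P φ hφ => ?_⟩
  obtain ⟨ψ, hψ, he, hf⟩ := h.2 P φ hφ
  refine ⟨ψ, hψ, he, ?_⟩
  ext y
  rw [mem_map_subgroupOf]
  constructor
  · rintro ⟨x, -, hxQ, rfl⟩
    exact Set.mem_of_eq_of_mem (hf ⟨x, hxQ⟩) hxQ
  · intro hy
    exact ⟨y, le_sup_right (a := P) hy, hy, hf ⟨y, hy⟩⟩

/-! ### Normalizer and centralizer systems -/

/-- The fusion system `N_F(Q)`. -/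
def normSystem (F : FusionSystem S) (Q : Subgroup Ω) (hQ : Q ≤ S) :
    FusionSystem (normalizerIn S Q) where
  Hom P := F.normalizerHom Q P
  le_of_mem h := ⟨h.2.1, h.2.2.1⟩
  injective_of_mem h := F.injective_of_mem h.1
  conj_mem := by
    intro P g hP hg
    have hPS : P ≤ S := hP.trans (normalizerIn_le_S Q)
    refine ⟨F.conj_mem hPS hg.1, hP, fun x => ?_, conjHom (P ⊔ Q) g,
      F.conj_mem (sup_le hPS hQ) hg.1, fun x => rfl, ?_⟩
    · exact mul_mem (mul_mem hg (hP x.2)) (inv_mem hg)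
    · ext y
      rw [mem_map_subgroupOf]
      constructor
      · rintro ⟨x, -, hxQ, rfl⟩
        exact (Subgroup.mem_normalizer_iff.1 hg.2 x).1 hxQ
      · intro hy
        refine ⟨g⁻¹ * y * g, le_sup_right (a := P) ((Subgroup.mem_normalizer_iff''.1 hg.2 y).1 hy),
          (Subgroup.mem_normalizer_iff''.1 hg.2 y).1 hy, ?_⟩
        show g * (g⁻¹ * y * g) * g⁻¹ = y
        group
  comp_mem := by
    rintro P P' φ φ' ⟨hφ, hP, hφN, ψ, hψ, he, hm⟩ ⟨hφ', hP', hφ'N, ψ', hψ', he', hm'⟩ h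
    have hmem : ∀ x, ψ x ∈ P' ⊔ Q := by
      intro x
      have hx : ψ x ∈ ψ.range := ⟨x, rfl⟩
      rw [range_eq_sup, hm] at hx
      refine (sup_le ?_ le_sup_right : _ ≤ P' ⊔ Q) hx
      intro y hy
      obtain ⟨z, hzm, hzP, rfl⟩ := mem_map_subgroupOf.1 hy
      exact Set.mem_of_eq_of_mem (he ⟨z, hzP⟩) (Subgroup.mem_sup_left (h ⟨z, hzP⟩))
    refine ⟨F.comp_mem hφ hφ' h, hP, fun x => hφ'N _, ψ'.comp (ψ.codRestrict _ hmem),
      F.comp_mem hψ hψ' hmem, fun x => ?_, ?_⟩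
    · show ψ' ⟨_, _⟩ = φ' ⟨φ x, h x⟩
      exact (apply_congr ψ' (he x)).trans (he' ⟨φ x, h x⟩)
    · rw [map_subgroupOf_comp hmem fun _ => rfl, hm, hm']
  inv_mem := by
    rintro P φ ⟨hφ, hP, hφN, ψ, hψ, he, hm⟩
    have hr : ψ.range = φ.range ⊔ Q := by
      rw [range_eq_sup, hm]
      congr 1
      exact (map_subgroupOf_congr le_sup_left le_rfl fun x hx => he ⟨x, hx⟩).trans
        (map_subgroupOf_self φ)
    obtain ⟨χ, hχ, -, h1, -⟩ := exists_inv hψ hr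
    have key : ∀ (x : P) (hx : φ x ∈ φ.range ⊔ Q), χ ⟨φ x, hx⟩ = x := fun x hx =>
      (apply_congr χ (he x).symm).trans
        (h1 (Subgroup.inclusion le_sup_left x) ((he x).symm ▸ hx))
    refine ⟨χ.comp (Subgroup.inclusion le_sup_left), ⟨restrict_mem hχ le_sup_left, ?_, ?_, χ, hχ,
      fun x => rfl, ?_⟩, fun x => key x _⟩
    · rintro _ ⟨x, rfl⟩
      exact hφN x
    · rintro ⟨_, x, rfl⟩
      exact Set.mem_of_eq_of_mem (key x _) (hP x.2)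
    · ext y
      rw [mem_map_subgroupOf]
      constructor
      · rintro ⟨x, hx, hxQ, rfl⟩
        obtain ⟨z, hzm, hzQ, rfl⟩ := mem_map_subgroupOf.1 (hm.ge hxQ)
        exact Set.mem_of_eq_of_mem (h1 ⟨z, hzm⟩ hx) hzQ
      · intro hy
        have hyQ : ψ ⟨y, le_sup_right (a := P) hy⟩ ∈ Q :=
          hm.le (apply_mem_map_subgroupOf ψ (x := ⟨y, le_sup_right (a := P) hy⟩) hy)
        exact ⟨_, le_sup_right (a := φ.range) hyQ, hyQ, h1 _ _⟩

theorem normSystem_spec (F : FusionSystem S) (Q : Subgroup Ω) (hQ : Q ≤ S) :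
    F.IsNormalizerSystem Q (normSystem F Q hQ) := fun _ => rfl

/-- The fusion system `C_F(Q)`. -/
def centSystem (F : FusionSystem S) (Q : Subgroup Ω) (hQ : Q ≤ S) :
    FusionSystem (centralizerIn S Q) where
  Hom P := F.centralizerHom Q P
  le_of_mem h := ⟨h.2.1, h.2.2.1⟩
  injective_of_mem h := F.injective_of_mem h.1
  conj_mem := by
    intro P g hP hg
    have hPS : P ≤ S := hP.trans (centralizerIn_le_S Q)
    refine ⟨F.conj_mem hPS hg.1, hP, fun x => ?_, conjHom (P ⊔ Q) g,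
      F.conj_mem (sup_le hPS hQ) hg.1, fun x => rfl, fun x => conj_eq_of_mem_centralizerIn hg x.2⟩
    exact mul_mem (mul_mem hg (hP x.2)) (inv_mem hg)
  comp_mem := by
    rintro P P' φ φ' ⟨hφ, hP, hφN, ψ, hψ, he, hf⟩ ⟨hφ', hP', hφ'N, ψ', hψ', he', hf'⟩ h
    have hmem : ∀ x, ψ x ∈ P' ⊔ Q := by
      intro x
      have hx : ψ x ∈ ψ.range := ⟨x, rfl⟩
      rw [range_eq_sup] at hx
      refine (sup_le ?_ ?_ : _ ≤ P' ⊔ Q) hx
      · intro y hy
        obtain ⟨z, hzm, hzP, rfl⟩ := mem_map_subgroupOf.1 hy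
        exact Set.mem_of_eq_of_mem (he ⟨z, hzP⟩) (Subgroup.mem_sup_left (h ⟨z, hzP⟩))
      · intro y hy
        obtain ⟨z, hzm, hzQ, rfl⟩ := mem_map_subgroupOf.1 hy
        exact Set.mem_of_eq_of_mem (hf ⟨z, hzQ⟩) (Subgroup.mem_sup_right hzQ)
    refine ⟨F.comp_mem hφ hφ' h, hP, fun x => hφ'N _, ψ'.comp (ψ.codRestrict _ hmem),
      F.comp_mem hψ hψ' hmem, fun x => ?_, fun x => ?_⟩
    · show ψ' ⟨_, _⟩ = φ' ⟨φ x, h x⟩
      exact (apply_congr ψ' (he x)).trans (he' ⟨φ x, h x⟩)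
    · show ψ' ⟨_, _⟩ = _
      exact (apply_congr ψ' (hf x)).trans (hf' x)
  inv_mem := by
    rintro P φ ⟨hφ, hP, hφN, ψ, hψ, he, hf⟩
    have hr : ψ.range = φ.range ⊔ Q := by
      rw [range_eq_sup]
      congr 1
      · exact (map_subgroupOf_congr le_sup_left le_rfl fun x hx => he ⟨x, hx⟩).trans
          (map_subgroupOf_self φ)
      · refine (map_subgroupOf_congr (χ := Q.subtype) le_sup_right le_rfl
          fun x hx => hf ⟨x, hx⟩).trans ?_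
        rw [map_subgroupOf_self, Q.range_subtype]
    obtain ⟨χ, hχ, -, h1, -⟩ := exists_inv hψ hr
    have key : ∀ (x : P) (hx : φ x ∈ φ.range ⊔ Q), χ ⟨φ x, hx⟩ = x := fun x hx =>
      (apply_congr χ (he x).symm).trans
        (h1 (Subgroup.inclusion le_sup_left x) ((he x).symm ▸ hx))
    refine ⟨χ.comp (Subgroup.inclusion le_sup_left), ⟨restrict_mem hχ le_sup_left, ?_, ?_, χ, hχ,
      fun x => rfl, fun x => ?_⟩, fun x => key x _⟩
    · rintro _ ⟨x, rfl⟩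
      exact hφN x
    · rintro ⟨_, x, rfl⟩
      exact Set.mem_of_eq_of_mem (key x _) (hP x.2)
    · exact (apply_congr χ (hf x).symm).trans
        (h1 (Subgroup.inclusion le_sup_right x) (by rw [hf x]; exact le_sup_right (a := φ.range) x.2))

theorem centSystem_spec (F : FusionSystem S) (Q : Subgroup Ω) (hQ : Q ≤ S) :
    F.IsCentralizerSystem Q (centSystem F Q hQ) := fun _ => rfl

end CfsgLib.Fusion
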