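import Cfsg.Agent.Fusion.GroupSystem
import Cfsg.Agent.Fusion.Local
import Cfsg.Agent.Fusion.Centric
import Cfsg.Agent.Solvable.Basics

/-!
Systems realized by a homomorphism into a group: the dictionary with the system of the group on the
image, saturation, and normality and centricity of preimages.
-/

set_option autoImplicit false

open Cfsg Cfsg.FusionSystem

namespace CfsgLib.Fusion

variable {Ω : Type*} [Group Ω] {S : Subgroup Ω} {F : FusionSystem S} {G : Type*} [Group G]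

/-- The image of a subgroup of `S` under a homomorphism on `S`. -/
def img (ι : S →* G) (P : Subgroup Ω) : Subgroup G := (P.subgroupOf S).map ι

/-- The preimage of a subgroup, as a subgroup of the ambient group. -/
def preimg (ι : S →* G) (U : Subgroup G) : Subgroup Ω := (U.comap ι).map S.subtype

variable {ι : S →* G}

theorem preimg_le (U : Subgroup G) : preimg ι U ≤ S := Subgroup.map_subtype_le _

theorem mem_preimg {U : Subgroup G} {x : Ω} : x ∈ preimg ι U ↔ ∃ h : x ∈ S, ι ⟨x, h⟩ ∈ U := by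
  constructor
  · rintro ⟨⟨y, hy⟩, h, rfl⟩; exact ⟨hy, h⟩
  · rintro ⟨h, h'⟩; exact ⟨⟨x, h⟩, h', rfl⟩

theorem img_le_range (P : Subgroup Ω) : img ι P ≤ ι.range := Subgroup.map_le_range _ _

theorem apply_mem_img {P : Subgroup Ω} {x : S} (h : (x : Ω) ∈ P) : ι x ∈ img ι P := ⟨x, h, rfl⟩

theorem mem_img (hι : Function.Injective ι) {P : Subgroup Ω} {x : S} :
    ι x ∈ img ι P ↔ (x : Ω) ∈ P :=
  ⟨fun ⟨_, hy, e⟩ => hι e ▸ hy, apply_mem_img⟩

theorem img_preimg {U : Subgroup G} (hU : U ≤ ι.range) : img ι (preimg ι U) = U := by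
  ext y
  constructor
  · rintro ⟨x, hx, rfl⟩
    exact (mem_preimg.1 hx).2
  · intro hy
    obtain ⟨x, rfl⟩ := hU hy
    exact apply_mem_img (mem_preimg.2 ⟨x.2, hy⟩)

/-- A subgroup of `S` and its image are isomorphic. -/
noncomputable def imgEquiv (hι : Function.Injective ι) {P : Subgroup Ω} (hP : P ≤ S) :
    P ≃* img ι P :=
  MulEquiv.ofBijective ((ι.comp (Subgroup.inclusion hP)).codRestrict (img ι P) fun x =>
      apply_mem_img (x := Subgroup.inclusion hP x) x.2)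
    ⟨fun _ _ h => Subgroup.inclusion_injective hP (hι (congrArg Subtype.val h)),
      fun ⟨_, x, hx, e⟩ => ⟨⟨x, hx⟩, Subtype.ext e⟩⟩

@[simp] theorem coe_imgEquiv (hι : Function.Injective ι) {P : Subgroup Ω} (hP : P ≤ S) (x : P) :
    (imgEquiv hι hP x : G) = ι ⟨x, hP x.2⟩ := rfl

theorem realized_hom (h : F.IsRealizedBy ι) {P : Subgroup Ω} {φ : P →* Ω} (hφ : φ ∈ F.Hom P) :
    ∃ g : G, ∀ x : P,
      ι ⟨φ x, apply_mem_S hφ x⟩ = g * ι ⟨x, le_of_mem_hom hφ x.2⟩ * g⁻¹ :=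
  (h.2 P (le_of_mem_hom hφ) φ (apply_mem_S hφ)).1 hφ

theorem realized_img_range {P : Subgroup Ω} {φ : P →* Ω} (hP : P ≤ S) (hφ : ∀ x, φ x ∈ S)
    {g : G} (hg : ∀ x : P, ι ⟨φ x, hφ x⟩ = g * ι ⟨x, hP x.2⟩ * g⁻¹) :
    (img ι P).map (MulAut.conj g).toMonoidHom = img ι φ.range := by
  ext y
  constructor
  · rintro ⟨_, ⟨x, hx, rfl⟩, rfl⟩
    exact ⟨⟨φ ⟨x, hx⟩, hφ _⟩, ⟨_, rfl⟩, hg ⟨x, hx⟩⟩
  · rintro ⟨⟨_, hy⟩, ⟨x, rfl⟩, rfl⟩
    exact ⟨_, apply_mem_img (ι := ι) (x := ⟨x, hP x.2⟩) x.2, (hg x).symm⟩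

/-- Conjugation by `g`, pulled back to `S` along `ι`. -/
theorem exists_realized_hom (h : F.IsRealizedBy ι) {P : Subgroup Ω} (hP : P ≤ S) {g : G}
    (hg : ∀ x : P, g * ι ⟨x, hP x.2⟩ * g⁻¹ ∈ ι.range) :
    ∃ φ, ∃ hφ : φ ∈ F.Hom P, ∀ x : P,
      ι ⟨φ x, apply_mem_S hφ x⟩ = g * ι ⟨x, hP x.2⟩ * g⁻¹ := by
  let f : P →* ι.range :=
    ((MulAut.conj g).toMonoidHom.comp (ι.comp (Subgroup.inclusion hP))).codRestrict _ hg
  let φ : P →* Ω := S.subtype.comp ((MonoidHom.ofInjective h.1).symm.toMonoidHom.comp f)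
  have key : ∀ x : P, ι ⟨φ x, ((MonoidHom.ofInjective h.1).symm (f x)).2⟩ =
      g * ι ⟨x, hP x.2⟩ * g⁻¹ := fun x =>
    congrArg Subtype.val ((MonoidHom.ofInjective h.1).apply_symm_apply (f x))
  exact ⟨φ, (h.2 P hP φ fun x => ((MonoidHom.ofInjective h.1).symm (f x)).2).2 ⟨g, key⟩, key⟩

theorem mem_autGroup_iff_realized (h : F.IsRealizedBy ι) {P : Subgroup Ω} (hP : P ≤ S)
    {α : MulAut P} :
    α ∈ F.autGroup P ↔ MulAut.congr (imgEquiv h.1 hP) α ∈ autInducedBy ⊤ (img ι P) := by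
  rw [autGroup_carrier hP, mem_autInducedBy]
  constructor
  · intro hα
    obtain ⟨g, hg⟩ := realized_hom h hα
    refine ⟨g, trivial, fun y => ?_⟩
    obtain ⟨x, rfl⟩ := (imgEquiv h.1 hP).surjective y
    simp only [MulAut.congr_apply, MulEquiv.trans_apply, MulEquiv.symm_apply_apply, coe_imgEquiv]
    exact hg x
  · rintro ⟨g, -, hg⟩
    refine (h.2 P hP _ fun x => hP (α x).2).2 ⟨g, fun x => ?_⟩
    have := hg (imgEquiv h.1 hP x)
    simp only [MulAut.congr_apply, MulEquiv.trans_apply, MulEquiv.symm_apply_apply,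
      coe_imgEquiv] at this
    exact this

theorem mem_autInducedBy_iff_realized (hι : Function.Injective ι) {P : Subgroup Ω} (hP : P ≤ S)
    {α : MulAut P} :
    α ∈ autInducedBy S P ↔ MulAut.congr (imgEquiv hι hP) α ∈ autInducedBy ι.range (img ι P) := by
  rw [mem_autInducedBy, mem_autInducedBy]
  constructor
  · rintro ⟨s, hs, hα⟩
    refine ⟨ι ⟨s, hs⟩, ⟨_, rfl⟩, fun y => ?_⟩
    obtain ⟨x, rfl⟩ := (imgEquiv hι hP).surjective y
    simp only [MulAut.congr_apply, MulEquiv.trans_apply, MulEquiv.symm_apply_apply, coe_imgEquiv]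
    rw [← map_inv, ← map_mul, ← map_mul]
    exact congrArg ι (Subtype.ext (hα x))
  · rintro ⟨_, ⟨s, rfl⟩, hα⟩
    refine ⟨s, s.2, fun x => ?_⟩
    have := hα (imgEquiv hι hP x)
    simp only [MulAut.congr_apply, MulEquiv.trans_apply, MulEquiv.symm_apply_apply,
      coe_imgEquiv] at this
    rw [← map_inv, ← map_mul, ← map_mul] at this
    exact congrArg Subtype.val (hι this)

theorem fullyAutomized_of_realized [Finite S] (p : ℕ) [Fact p.Prime] (hS : IsPGroup p S)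
    (h : F.IsRealizedBy ι) {Q : Subgroup Ω} (hQ : Q ≤ S)
    (hfa : (groupFusionSystem ι.range).IsFullyAutomized p (img ι Q)) :
    F.IsFullyAutomized p Q := by
  have : Finite Q := finite_of_le hQ
  have : Finite (img ι Q) := Finite.of_equiv _ (imgEquiv h.1 hQ).toEquiv
  have : Finite (MulAut Q) := finite_mulAut
  have : Finite (MulAut (img ι Q)) := finite_mulAut
  have hle : autInducedBy S Q ≤ F.autGroup Q := autInducedBy_le_autGroup hQ
  have hle' : autInducedBy ι.range (img ι Q) ≤ (groupFusionSystem ι.range).autGroup (img ι Q) :=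
    autInducedBy_le_autGroup (img_le_range Q)
  obtain ⟨-, R, hR⟩ := hfa
  refine ⟨hQ, sylow_of_card_eq R ((isPGroup_autInducedBy hS Q).of_equiv
    (Subgroup.subgroupOfEquivOfLe hle).symm) ?_ ?_⟩
  · refine Nat.card_congr (Equiv.subtypeEquiv (MulAut.congr (imgEquiv h.1 hQ)).toEquiv
      fun α => ?_)
    rw [autGroup_groupFusion (img_le_range Q)]
    exact mem_autGroup_iff_realized h hQ
  · rw [hR, Nat.card_congr (Subgroup.subgroupOfEquivOfLe hle).toEquiv,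
      Nat.card_congr (Subgroup.subgroupOfEquivOfLe hle').toEquiv]
    exact Nat.card_congr (Equiv.subtypeEquiv (MulAut.congr (imgEquiv h.1 hQ)).toEquiv
      fun α => mem_autInducedBy_iff_realized h.1 hQ)

theorem receptive_of_realized [Finite S] (h : F.IsRealizedBy ι) {Q : Subgroup Ω} (hQ : Q ≤ S)
    (hr : (groupFusionSystem ι.range).IsReceptive (img ι Q)) : F.IsReceptive Q := by
  refine ⟨hQ, fun P φ hφ hrange => ?_⟩
  have hP := le_of_mem_hom hφ
  obtain ⟨g, hg⟩ := realized_hom h hφ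
  have hmap : (img ι P).map (MulAut.conj g).toMonoidHom = img ι Q := by
    rw [realized_img_range hP (apply_mem_S hφ) hg, hrange]
  have hφ' : conjHom (img ι P) g ∈ (groupFusionSystem ι.range).Hom (img ι P) :=
    conjHom_mem_groupFusion (img_le_range P) fun x hx => img_le_range Q (hmap ▸ ⟨x, hx, rfl⟩)
  obtain ⟨ψ, hψ, hψe⟩ := hr.2 _ _ hφ' ((range_eq_map_conj fun _ => rfl).trans hmap)
  have hN : ∀ x : extender S P φ,
      ι ⟨x, extender_le_S P φ x.2⟩ ∈ extender ι.range (img ι P) (conjHom (img ι P) g) := by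
    rintro ⟨n, hn⟩
    obtain ⟨hnS, hnN, k, hk, hkx⟩ := mem_extender.1 hn
    refine mem_extender.2 ⟨⟨_, rfl⟩, ?_, ι ⟨k, hk⟩, ⟨_, rfl⟩, ?_⟩
    · have : Finite ι.range := Finite.of_surjective _ ι.rangeRestrict_surjective
      refine mem_normalizer_of_conj_mem (img_le_range P) fun y hy => ?_
      obtain ⟨x, hx, rfl⟩ := hy
      rw [← map_inv, ← map_mul, ← map_mul]
      exact apply_mem_img ((Subgroup.mem_normalizer_iff.1 hnN x).1 hx)
    · intro y hy
      obtain ⟨_, ⟨⟨x, hxS⟩, hx, rfl⟩⟩ := y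
      rw [conjHom_apply, conjHom_apply]
      have hxP : n * x * n⁻¹ ∈ P := (Subgroup.mem_normalizer_iff.1 hnN x).1 hx
      have h1 := hkx ⟨x, hx⟩ hxP
      have h2 := hg ⟨_, hxP⟩
      have h3 := hg ⟨x, hx⟩
      calc g * (ι ⟨n, hnS⟩ * ι ⟨x, hxS⟩ * (ι ⟨n, hnS⟩)⁻¹) * g⁻¹
          = g * ι ⟨n * x * n⁻¹, hP hxP⟩ * g⁻¹ := by
            rw [← map_inv, ← map_mul, ← map_mul]; rfl
        _ = ι ⟨φ ⟨_, hxP⟩, apply_mem_S hφ _⟩ := h2.symm
        _ = ι (⟨k, hk⟩ * ⟨φ ⟨x, hx⟩, apply_mem_S hφ _⟩ * ⟨k, hk⟩⁻¹) :=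
            congrArg ι (Subtype.ext h1)
        _ = _ := by rw [map_mul, map_mul, map_inv, h3]
  obtain ⟨g', hg'⟩ := hψ.2.2
  obtain ⟨χ, hχ, hχι⟩ := exists_realized_hom h (extender_le_S P φ) (g := g') fun x => by
    have h' := hψ.2.1 ⟨_, hN x⟩
    rw [hg'] at h'
    exact h'
  refine ⟨χ, hχ, fun x hxP hxN => ?_⟩
  have hxi : ι ⟨x, hP hxP⟩ ∈ img ι P := apply_mem_img hxP
  have h4 : (⟨_, apply_mem_S hχ ⟨x, hxN⟩⟩ : S) = ⟨_, apply_mem_S hφ ⟨x, hxP⟩⟩ := by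
    refine h.1 ((hχι _).trans (Eq.trans ?_ (hg ⟨x, hxP⟩).symm))
    exact ((hg' ⟨_, hN ⟨x, hxN⟩⟩).symm.trans (hψe _ hxi _)).trans (conjHom_apply _ _ _)
  exact congrArg Subtype.val h4

/-- A system realized on a Sylow subgroup of a finite group is saturated. -/
theorem saturated_of_realized [Finite S] [Finite G] (p : ℕ) [Fact p.Prime] (hS : IsPGroup p S)
    (h : F.IsRealizedBy ι) (T : Sylow p G) (hT : (T : Subgroup G) = ι.range) :
    F.IsSaturated p := by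
  have hsat := groupFusion_saturated T
  rw [hT] at hsat
  intro P hP
  obtain ⟨U, hU, hfa, hr⟩ := hsat (img ι P) (img_le_range P)
  obtain ⟨-, hUr, g, hg⟩ := isConj_groupFusion.1 hU
  rw [← img_preimg hUr] at hfa hr
  refine ⟨preimg ι U, ?_, fullyAutomized_of_realized p hS h (preimg_le U) hfa,
    receptive_of_realized h (preimg_le U) hr⟩
  obtain ⟨φ, hφ, hφι⟩ := exists_realized_hom h hP (g := g) fun x =>
    hUr (hg ▸ ⟨_, apply_mem_img (ι := ι) (x := ⟨x, hP x.2⟩) x.2, rfl⟩)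
  refine ⟨φ, hφ, ?_⟩
  have e := realized_img_range hP (apply_mem_S hφ) hφι
  rw [hg] at e
  ext y
  rw [mem_preimg]
  constructor
  · rintro ⟨x, rfl⟩
    exact ⟨apply_mem_S hφ x, e ▸ apply_mem_img (x := ⟨_, apply_mem_S hφ x⟩) ⟨x, rfl⟩⟩
  · rintro ⟨hy, hy'⟩
    rw [e] at hy'
    exact (mem_img h.1).1 hy'

theorem isNormal_preimg_of_normal (h : F.IsRealizedBy ι) {R : Subgroup G} (hR : R.Normal)
    (hRr : R ≤ ι.range) [Finite S] : F.IsNormal (preimg ι R) := by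
  refine ⟨preimg_le R, fun P φ hφ => ?_⟩
  have hP := le_of_mem_hom hφ
  obtain ⟨g, hg⟩ := realized_hom h hφ
  have hle : P ⊔ preimg ι R ≤ S := sup_le hP (preimg_le R)
  have hin : P ⊔ preimg ι R ≤
      (ι.range.comap ((MulAut.conj g).toMonoidHom.comp ι)).map S.subtype := by
    refine sup_le (fun y hy => ?_) fun y hy => ?_
    · exact ⟨⟨y, hP hy⟩, ⟨_, hg ⟨y, hy⟩⟩, rfl⟩
    · obtain ⟨hyS, hyR⟩ := mem_preimg.1 hy
      exact ⟨⟨y, hyS⟩, hRr (hR.conj_mem _ hyR g), rfl⟩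
  obtain ⟨ψ, hψ, hψι⟩ := exists_realized_hom h hle (g := g) fun x => by
    obtain ⟨s, hs, e⟩ := hin x.2
    have e' : s = ⟨x, hle x.2⟩ := Subtype.ext e
    rw [← e']
    exact hs
  refine ⟨ψ, hψ, fun x => ?_, ?_⟩
  · exact congrArg Subtype.val (h.1 ((hψι (Subgroup.inclusion le_sup_left x)).trans (hg x).symm))
  · ext y
    rw [mem_map_subgroupOf, mem_preimg]
    constructor
    · rintro ⟨x, hx, hxR, rfl⟩
      obtain ⟨hxS, hxR'⟩ := mem_preimg.1 hxR
      exact ⟨apply_mem_S hψ _, by rw [hψι]; exact hR.conj_mem _ hxR' g⟩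
    · rintro ⟨hy, hyR⟩
      have h1 : g⁻¹ * ι ⟨y, hy⟩ * g ∈ R := by simpa using hR.conj_mem _ hyR g⁻¹
      obtain ⟨s, hs⟩ := hRr h1
      have hsR : (s : Ω) ∈ preimg ι R := mem_preimg.2 ⟨s.2, hs ▸ h1⟩
      refine ⟨s, le_sup_right (a := P) hsR, hsR, congrArg Subtype.val (h.1 ?_ :
        (⟨_, apply_mem_S hψ _⟩ : S) = ⟨y, hy⟩)⟩
      rw [hψι, hs]
      group

theorem pCore_le_range [Finite G] (p : ℕ) [Fact p.Prime] (T : Sylow p G)
    (hT : (T : Subgroup G) = ι.range) : pCore p G ≤ ι.range := by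
  obtain ⟨T', hT'⟩ := (CfsgLib.Solvable.isPGroup_pCore (G := G) p).exists_le_sylow
  obtain ⟨g, hg⟩ := MulAction.exists_smul_eq G T' T
  have hn : (pCore p G).Normal := (CfsgLib.Solvable.pCore_spec (G := G) p).1
  intro x hx
  rw [← hT, ← hg, Sylow.coe_subgroup_smul]
  exact ⟨g⁻¹ * x * g, hT' (by simpa using hn.conj_mem x hx g⁻¹),
    show g * (g⁻¹ * x * g) * g⁻¹ = x by group⟩

theorem isCentric_preimg_pCore [Finite S] [Finite G] (p : ℕ) [Fact p.Prime]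
    (h : F.IsModel p G ι) : F.IsCentric (preimg ι (pCore p G)) := by
  obtain ⟨-, hr, ⟨T, hT⟩, hC⟩ := h
  have hn : (pCore p G).Normal := (CfsgLib.Solvable.pCore_spec (G := G) p).1
  have hle := pCore_le_range p T hT
  refine ⟨preimg_le _, fun R hR => ?_⟩
  obtain ⟨φ, hφ, rfl⟩ := hR
  obtain ⟨g, hg⟩ := realized_hom hr hφ
  intro x hx
  obtain ⟨hxS, hxC⟩ := mem_centralizerIn.1 hx
  have hx' : ι ⟨x, hxS⟩ ∈ pCore p G := by
    refine hC (Subgroup.mem_centralizer_iff.2 fun y hy => ?_)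
    have h1 : g⁻¹ * y * g ∈ pCore p G := by simpa using hn.conj_mem y hy g⁻¹
    obtain ⟨s, hs⟩ := hle h1
    have hsQ : (s : Ω) ∈ preimg ι (pCore p G) := mem_preimg.2 ⟨s.2, hs ▸ h1⟩
    have e : ι ⟨φ ⟨s, hsQ⟩, apply_mem_S hφ _⟩ = y := by
      rw [hg]; simp only [Subtype.coe_eta, hs]; group
    rw [← e, ← map_mul, ← map_mul]
    exact congrArg ι (Subtype.ext (hxC _ ⟨_, rfl⟩))
  have h1 : g⁻¹ * ι ⟨x, hxS⟩ * g ∈ pCore p G := by simpa using hn.conj_mem _ hx' g⁻¹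
  obtain ⟨s, hs⟩ := hle h1
  have hsQ : (s : Ω) ∈ preimg ι (pCore p G) := mem_preimg.2 ⟨s.2, hs ▸ h1⟩
  refine ⟨⟨s, hsQ⟩, congrArg Subtype.val (hr.1 ?_ :
    (⟨_, apply_mem_S hφ ⟨s, hsQ⟩⟩ : S) = ⟨x, hxS⟩)⟩
  rw [hg]
  simp only [Subtype.coe_eta, hs]
  group

/-- A system with a model is constrained. -/
theorem constrained_of_model [Finite S] (p : ℕ) [Fact p.Prime] (hS : IsPGroup p S)
    (h : F.IsModel p G ι) : F.IsConstrained p := by
  have hc := fun _ : Finite G => isCentric_preimg_pCore p h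
  obtain ⟨hfin, hr, ⟨T, hT⟩, -⟩ := h
  refine ⟨saturated_of_realized p hS hr T hT, preimg ι (pCore p G), ?_, hc hfin⟩
  exact isNormal_preimg_of_normal hr (CfsgLib.Solvable.pCore_spec (G := G) p).1
    (pCore_le_range p T hT)

end CfsgLib.Fusion
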