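import Cfsg.Prelude.Def_FusionComponents
import Cfsg.Agent.Fusion.Realized

/-!
Factor systems modulo strongly closed subgroups: existence, saturation, and the surjectivity of the
quotient morphism.
-/

set_option autoImplicit false

open Cfsg Cfsg.FusionSystem

namespace CfsgLib.Fusion

variable {Ω : Type*} [Group Ω] {S : Subgroup Ω} {F : FusionSystem S}
  {Ω' : Type*} [Group Ω'] {S' : Subgroup Ω'} {θ : S →* Ω'} {T : Subgroup Ω}

theorem preimg_mono {U V : Subgroup Ω'} (h : U ≤ V) : preimg θ U ≤ preimg θ V := fun x hx => by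
  obtain ⟨hxS, hx'⟩ := mem_preimg.1 hx
  exact mem_preimg.2 ⟨hxS, h hx'⟩

theorem ker_le_preimg (hT : T ≤ S) (hk : ∀ s : S, θ s = 1 ↔ (s : Ω) ∈ T) (U : Subgroup Ω') :
    T ≤ preimg θ U := fun x hx => by
  refine mem_preimg.2 ⟨hT hx, ?_⟩
  rw [(hk ⟨x, hT hx⟩).2 hx]
  exact one_mem U

theorem preimg_img (hk : ∀ s : S, θ s = 1 ↔ (s : Ω) ∈ T) {P : Subgroup Ω} (hP : P ≤ S)
    (hTP : T ≤ P) : preimg θ (img θ P) = P := by
  ext x
  rw [mem_preimg]
  constructor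
  · rintro ⟨hx, y, hy, hyx⟩
    have h1 : θ (y⁻¹ * ⟨x, hx⟩) = 1 := by rw [map_mul, map_inv, hyx, inv_mul_cancel]
    have h2 := P.mul_mem hy (hTP ((hk _).1 h1))
    simpa using h2
  · exact fun hx => ⟨hP hx, apply_mem_img (ι := θ) (x := ⟨x, hP hx⟩) hx⟩

theorem map_mem_ker (hT : F.StronglyClosed T) {P : Subgroup Ω} {φ : P →* Ω} (hφ : φ ∈ F.Hom P)
    {x : P} (hx : (x : Ω) ∈ T) : φ x ∈ T := by
  have h := hT.2 (P ⊓ T) inf_le_right _ (restrict_mem hφ inf_le_left) ⟨x, x.2, hx⟩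
  exact h

theorem map_ker_eq [Finite S] (hT : F.StronglyClosed T) {P : Subgroup Ω} {φ : P →* Ω}
    (hφ : φ ∈ F.Hom P) (hTP : T ≤ P) : (T.subgroupOf P).map φ = T := by
  rw [← range_restrict φ hTP]
  exact (weaklyClosed_of_stronglyClosed hT).2 _ (restrict_mem hφ hTP)

/-- A homomorphism with values in `S` compatible with the kernel induces one on the image. -/
theorem exists_induced {P : Subgroup Ω} (hP : P ≤ S) {φ : P →* Ω} (hφ : ∀ x, φ x ∈ S)
    (hker : ∀ x : P, θ ⟨x, hP x.2⟩ = 1 → θ ⟨φ x, hφ x⟩ = 1) {P' : Subgroup Ω'}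
    (hP' : img θ P = P') : ∃ φ' : P' →* Ω', InducedAlong θ φ φ' := by
  subst hP'
  let g : P.subgroupOf S →* img θ P := θ.subgroupMap (P.subgroupOf S)
  have hg : Function.Surjective g := θ.subgroupMap_surjective _
  let i : P.subgroupOf S →* P := (Subgroup.subgroupOfEquivOfLe hP).toMonoidHom
  let f : P.subgroupOf S →* Ω' := θ.comp ((φ.codRestrict S hφ).comp i)
  have hle : g.ker ≤ f.ker := fun x hx => by
    have h1 : θ (x : S) = 1 := congrArg Subtype.val hx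
    exact hker (i x) h1
  refine ⟨g.liftOfSurjective hg ⟨f, hle⟩, hP, hφ,
    fun x => apply_mem_img (ι := θ) (x := ⟨x, hP x.2⟩) x.2, fun x => ?_⟩
  exact g.liftOfRightInverse_comp_apply _ (Function.rightInverse_surjInv hg) ⟨f, hle⟩
    (⟨⟨x, hP x.2⟩, x.2⟩ : P.subgroupOf S)

theorem induced_apply {P : Subgroup Ω} {φ : P →* Ω} {P' : Subgroup Ω'} {φ' : P' →* Ω'}
    (h : InducedAlong θ φ φ') (x : P) {hP : (x : Ω) ∈ S} {hφ : φ x ∈ S}
    {hP' : θ ⟨x, hP⟩ ∈ P'} : φ' ⟨θ ⟨x, hP⟩, hP'⟩ = θ ⟨φ x, hφ⟩ := by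
  obtain ⟨_, _, _, h4⟩ := h
  exact h4 x

theorem induced_ext {P : Subgroup Ω} {φ : P →* Ω} {P' : Subgroup Ω'} (hP' : img θ P = P')
    {φ₁ φ₂ : P' →* Ω'} (h₁ : InducedAlong θ φ φ₁) (h₂ : InducedAlong θ φ φ₂) : φ₁ = φ₂ := by
  subst hP'
  obtain ⟨hP, hφ, hP₁, e₁⟩ := h₁
  refine MonoidHom.ext ?_
  rintro ⟨_, x, hx, rfl⟩
  exact (e₁ ⟨x, hx⟩).trans (induced_apply h₂ ⟨x, hx⟩).symm

/-! ### The factor system -/

/-- The factor system of `F` modulo a strongly closed subgroup. -/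
def factorSystem [Finite S] (hT : F.StronglyClosed T) (hk : ∀ s : S, θ s = 1 ↔ (s : Ω) ∈ T)
    (hr : θ.range = S') : FusionSystem S' where
  Hom P' := {φ' | P' ≤ S' ∧ ∃ φ ∈ F.Hom (preimg θ P'), InducedAlong θ φ φ'}
  le_of_mem := by
    rintro P' φ' ⟨hP', φ, hφ, h⟩
    refine ⟨hP', fun x => ?_⟩
    obtain ⟨s, hs⟩ := hr.ge (hP' x.2)
    have hsP : (s : Ω) ∈ preimg θ P' := mem_preimg.2 ⟨s.2, hs ▸ x.2⟩
    rw [show x = ⟨θ s, hs ▸ x.2⟩ from Subtype.ext hs.symm,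
      induced_apply h ⟨s, hsP⟩ (hφ := apply_mem_S hφ _)]
    exact hr.le ⟨_, rfl⟩
  injective_of_mem := by
    rintro P' φ' ⟨hP', φ, hφ, h⟩
    rw [injective_iff_map_eq_one]
    intro x hx
    obtain ⟨s, hs⟩ := hr.ge (hP' x.2)
    have hsP : (s : Ω) ∈ preimg θ P' := mem_preimg.2 ⟨s.2, hs ▸ x.2⟩
    rw [show x = ⟨θ s, hs ▸ x.2⟩ from Subtype.ext hs.symm,
      induced_apply h ⟨s, hsP⟩ (hφ := apply_mem_S hφ _)] at hx
    obtain ⟨t, htP, htT, hte⟩ := mem_map_subgroupOf.1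
      ((map_ker_eq hT hφ (ker_le_preimg hT.1 hk P')).ge ((hk _).1 hx))
    have := F.injective_of_mem hφ hte
    exact Subtype.ext (hs.symm.trans ((hk s).2 (congrArg Subtype.val this ▸ htT)))
  conj_mem := by
    intro P' g hP' hg
    obtain ⟨s, rfl⟩ := hr.ge hg
    refine ⟨hP', conjHom (preimg θ P') s, F.conj_mem (preimg_le P') s.2, preimg_le P',
      fun x => mul_mem (mul_mem s.2 (preimg_le P' x.2)) (inv_mem s.2),
      fun x => (mem_preimg.1 x.2).2, fun x => ?_⟩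
    show θ s * θ ⟨x, _⟩ * (θ s)⁻¹ = θ _
    rw [← map_inv, ← map_mul, ← map_mul]
    rfl
  comp_mem := by
    rintro P' Q' φ' ψ' ⟨hP', φ, hφ, h⟩ ⟨hQ', ψ, hψ, h'⟩ hmem
    have hm : ∀ x, φ x ∈ preimg θ Q' := fun x =>
      mem_preimg.2 ⟨apply_mem_S hφ x, by
        rw [← induced_apply h x (hP := preimg_le P' x.2) (hP' := (mem_preimg.1 x.2).2)]
        exact hmem _⟩
    refine ⟨hP', ψ.comp (φ.codRestrict _ hm), F.comp_mem hφ hψ hm, preimg_le P',
      fun x => apply_mem_S hψ _, fun x => (mem_preimg.1 x.2).2, fun x => ?_⟩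
    have e : (⟨φ' ⟨θ ⟨x, preimg_le P' x.2⟩, (mem_preimg.1 x.2).2⟩, hmem _⟩ : Q') =
        ⟨θ ⟨φ x, apply_mem_S hφ x⟩, (mem_preimg.1 (hm x)).2⟩ := Subtype.ext (induced_apply h x)
    exact (congrArg ψ' e).trans (induced_apply h' ⟨φ x, hm x⟩)
  inv_mem := by
    rintro P' φ' ⟨hP', φ, hφ, h⟩
    have hrange : preimg θ φ'.range = φ.range := by
      ext y
      rw [mem_preimg]
      constructor
      · rintro ⟨hy, x, hx⟩
        obtain ⟨s, hs⟩ := hr.ge (hP' x.2)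
        have hsP : (s : Ω) ∈ preimg θ P' := mem_preimg.2 ⟨s.2, hs ▸ x.2⟩
        rw [show x = ⟨θ s, hs ▸ x.2⟩ from Subtype.ext hs.symm,
          induced_apply h ⟨s, hsP⟩ (hφ := apply_mem_S hφ _)] at hx
        have h1 : θ (⟨_, apply_mem_S hφ ⟨s, hsP⟩⟩⁻¹ * ⟨y, hy⟩) = 1 := by
          rw [map_mul, map_inv, hx, inv_mul_cancel]
        obtain ⟨t, htP, -, hte⟩ := mem_map_subgroupOf.1
          ((map_ker_eq hT hφ (ker_le_preimg hT.1 hk P')).ge ((hk _).1 h1))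
        refine ⟨⟨s, hsP⟩ * ⟨t, htP⟩, ?_⟩
        rw [map_mul, hte]
        simp
      · rintro ⟨x, rfl⟩
        exact ⟨apply_mem_S hφ x, _,
          induced_apply h x (hP := preimg_le P' x.2) (hP' := (mem_preimg.1 x.2).2)⟩
    obtain ⟨ψ, hψ, hψr, h1, -⟩ := exists_inv hφ hrange.symm
    have hφ'S : φ'.range ≤ S' := by
      rintro _ ⟨x, rfl⟩
      obtain ⟨s, hs⟩ := hr.ge (hP' x.2)
      have hsP : (s : Ω) ∈ preimg θ P' := mem_preimg.2 ⟨s.2, hs ▸ x.2⟩
      rw [show x = ⟨θ s, hs ▸ x.2⟩ from Subtype.ext hs.symm,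
        induced_apply h ⟨s, hsP⟩ (hφ := apply_mem_S hφ _)]
      exact hr.le ⟨_, rfl⟩
    obtain ⟨ψ', hψ'⟩ := exists_induced (θ := θ) (preimg_le _) (apply_mem_S hψ)
      (fun x hx => (hk _).2 (map_mem_ker hT hψ ((hk _).1 hx)))
      (img_preimg (ι := θ) (hφ'S.trans hr.ge))
    refine ⟨ψ', ⟨hφ'S, ψ, hψ, hψ'⟩, fun x => ?_⟩
    obtain ⟨s, hs⟩ := hr.ge (hP' x.2)
    have hsP : (s : Ω) ∈ preimg θ P' := mem_preimg.2 ⟨s.2, hs ▸ x.2⟩
    have e := induced_apply h ⟨s, hsP⟩ (hφ := apply_mem_S hφ _) (hP' := hs ▸ x.2)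
    have hin : φ ⟨s, hsP⟩ ∈ preimg θ φ'.range := hrange.ge ⟨_, rfl⟩
    have e2 : (φ'.rangeRestrict x : φ'.range) =
        ⟨θ ⟨φ ⟨s, hsP⟩, apply_mem_S hφ _⟩, (mem_preimg.1 hin).2⟩ :=
      Subtype.ext ((congrArg φ' (Subtype.ext hs.symm)).trans e)
    refine (congrArg ψ' e2).trans ((induced_apply hψ' ⟨_, hin⟩ (hφ := apply_mem_S hψ _)).trans ?_)
    exact (congrArg θ (Subtype.ext (h1 ⟨s, hsP⟩ hin))).trans hs

theorem factorSystem_spec [Finite S] (hT : F.StronglyClosed T)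
    (hk : ∀ s : S, θ s = 1 ↔ (s : Ω) ∈ T) (hr : θ.range = S') :
    F.IsFactorSystem T θ (factorSystem hT hk hr) :=
  ⟨hT.1, hk, hr, fun _ _ => Iff.rfl⟩

/-! ### Properties of a factor system -/

section

variable [Finite S] {E : FusionSystem S'} (hT : F.StronglyClosed T) (hE : F.IsFactorSystem T θ E)

include hE in
theorem factor_preimg_le (P' : Subgroup Ω') : T ≤ preimg θ P' :=
  ker_le_preimg hE.1 hE.2.1 P'

include hT hE in
/-- A map on a subgroup containing the kernel induces a map of the factor system. -/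
theorem exists_factor_hom {P : Subgroup Ω} {φ : P →* Ω} (hφ : φ ∈ F.Hom P) (hTP : T ≤ P)
    {P' : Subgroup Ω'} (hP' : img θ P = P') : ∃ φ' ∈ E.Hom P', InducedAlong θ φ φ' := by
  obtain ⟨φ', h⟩ := exists_induced (θ := θ) (le_of_mem_hom hφ) (apply_mem_S hφ)
    (fun x hx => (hE.2.1 _).2 (map_mem_ker hT hφ ((hE.2.1 _).1 hx))) hP'
  have he : preimg θ P' = P := hP' ▸ preimg_img hE.2.1 (le_of_mem_hom hφ) hTP
  refine ⟨φ', (hE.2.2.2 P' φ').2 ⟨?_, φ.comp (Subgroup.inclusion he.le),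
    restrict_mem hφ he.le, preimg_le P', fun x => apply_mem_S hφ _,
    fun x => (mem_preimg.1 x.2).2, fun x => ?_⟩, h⟩
  · exact hP' ▸ (img_le_range P).trans hE.2.2.1.le
  · exact induced_apply h (Subgroup.inclusion he.le x)

include hE in
theorem exists_lift_hom {P' : Subgroup Ω'} {φ' : P' →* Ω'} (hφ' : φ' ∈ E.Hom P') :
    ∃ φ ∈ F.Hom (preimg θ P'), InducedAlong θ φ φ' := ((hE.2.2.2 P' φ').1 hφ').2

include hT hE in
theorem range_lift {P' : Subgroup Ω'} {φ' : P' →* Ω'} (hP' : P' ≤ S') {φ : ↥(preimg θ P') →* Ω}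
    (hφ : φ ∈ F.Hom (preimg θ P')) (h : InducedAlong θ φ φ') :
    φ.range = preimg θ φ'.range := by
  obtain ⟨-, hk, hr, -⟩ := hE
  ext y
  rw [mem_preimg]
  constructor
  · rintro ⟨x, rfl⟩
    exact ⟨apply_mem_S hφ x, _,
      induced_apply h x (hP := preimg_le P' x.2) (hP' := (mem_preimg.1 x.2).2)⟩
  · rintro ⟨hy, x, hx⟩
    obtain ⟨s, hs⟩ := hr.ge (hP' x.2)
    have hsP : (s : Ω) ∈ preimg θ P' := mem_preimg.2 ⟨s.2, hs ▸ x.2⟩
    rw [show x = ⟨θ s, hs ▸ x.2⟩ from Subtype.ext hs.symm,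
      induced_apply h ⟨s, hsP⟩ (hφ := apply_mem_S hφ _)] at hx
    have h1 : θ (⟨_, apply_mem_S hφ ⟨s, hsP⟩⟩⁻¹ * ⟨y, hy⟩) = 1 := by
      rw [map_mul, map_inv, hx, inv_mul_cancel]
    obtain ⟨t, htP, -, hte⟩ := mem_map_subgroupOf.1
      ((map_ker_eq hT hφ (ker_le_preimg hT.1 hk P')).ge ((hk _).1 h1))
    refine ⟨⟨s, hsP⟩ * ⟨t, htP⟩, ?_⟩
    rw [map_mul, hte]
    simp

theorem le_range_factor {P' : Subgroup Ω'} (hE : F.IsFactorSystem T θ E) (hP' : P' ≤ S') :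
    P' ≤ θ.range := hP'.trans hE.2.2.1.ge

include hT hE in
theorem isConj_factor {P' Q' : Subgroup Ω'} (hP' : P' ≤ S') (hQ' : Q' ≤ S') :
    E.IsConj P' Q' ↔ F.IsConj (preimg θ P') (preimg θ Q') := by
  constructor
  · rintro ⟨φ', hφ', rfl⟩
    obtain ⟨φ, hφ, h⟩ := exists_lift_hom hE hφ'
    exact ⟨φ, hφ, range_lift hT hE hP' hφ h⟩
  · rintro ⟨φ, hφ, hr⟩
    obtain ⟨φ', hφ', h⟩ := exists_factor_hom hT hE hφ (factor_preimg_le hE P')
      (img_preimg (le_range_factor hE hP'))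
    refine ⟨φ', hφ', ?_⟩
    have e := range_lift hT hE hP' hφ h
    rw [hr] at e
    rw [← img_preimg (ι := θ) (le_range_factor hE (range_le_S hφ')), ← e,
      img_preimg (le_range_factor hE hQ')]

include hE in
theorem preimg_normalizerIn {P' : Subgroup Ω'} (hP' : P' ≤ S') :
    preimg θ (normalizerIn S' P') = normalizerIn S (preimg θ P') := by
  obtain ⟨-, -, hr, -⟩ := hE
  ext g
  rw [mem_preimg]
  constructor
  · rintro ⟨hg, hgN⟩
    refine ⟨hg, mem_normalizer_of_conj_mem (preimg_le P') fun x hx => ?_⟩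
    obtain ⟨hxS, hxP⟩ := mem_preimg.1 hx
    refine mem_preimg.2 ⟨mul_mem (mul_mem hg hxS) (inv_mem hg), ?_⟩
    have h1 := (Subgroup.mem_normalizer_iff.1 hgN.2 _).1 hxP
    rw [← map_inv, ← map_mul, ← map_mul] at h1
    exact h1
  · rintro ⟨hg, hgN⟩
    refine ⟨hg, hr.le ⟨_, rfl⟩, ?_⟩
    have : Finite S' := hr ▸ Finite.of_surjective _ θ.rangeRestrict_surjective
    refine mem_normalizer_of_conj_mem hP' fun y hy => ?_
    obtain ⟨s, rfl⟩ := hr.ge (hP' hy)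
    obtain ⟨h2, h3⟩ := mem_preimg.1
      ((Subgroup.mem_normalizer_iff.1 hgN s).1 (mem_preimg.2 ⟨s.2, hy⟩))
    rw [← map_inv, ← map_mul, ← map_mul]
    exact h3

include hE in
theorem card_preimg {U : Subgroup Ω'} (hU : U ≤ S') :
    Nat.card (preimg θ U) = Nat.card U * Nat.card T := by
  obtain ⟨hT', hk, hr, -⟩ := hE
  have hker : θ.ker = T.subgroupOf S := Subgroup.ext fun s => hk s
  have h1 : Nat.card (preimg θ U) = Nat.card (U.comap θ) :=
    (Nat.card_congr (Subgroup.equivMapOfInjective (U.comap θ) S.subtype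
      S.subtype_injective).toEquiv).symm
  let g := θ.subgroupComap U
  have hg : Function.Surjective g := fun ⟨y, hy⟩ => by
    obtain ⟨x, rfl⟩ := hr.ge (hU hy)
    exact ⟨⟨x, hy⟩, rfl⟩
  have hk' : Nat.card g.ker = Nat.card T := Nat.card_congr
    { toFun := fun x => ⟨((x : U.comap θ) : S), (hk _).1 (congrArg Subtype.val x.2)⟩
      invFun := fun x => ⟨⟨⟨x, hT' x.2⟩, show θ ⟨x, hT' x.2⟩ ∈ U by
        rw [(hk ⟨x, hT' x.2⟩).2 x.2]; exact one_mem U⟩, Subtype.ext ((hk ⟨x, hT' x.2⟩).2 x.2)⟩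
      left_inv := fun x => rfl
      right_inv := fun x => rfl }
  rw [h1, Subgroup.card_eq_card_quotient_mul_card_subgroup g.ker, hk',
    Nat.card_congr (QuotientGroup.quotientKerEquivOfSurjective g hg).toEquiv]

include hT hE in
theorem fullyNormalized_factor {R' : Subgroup Ω'} (hR' : R' ≤ S') :
    E.IsFullyNormalized R' ↔ F.IsFullyNormalized (preimg θ R') := by
  have := finite_of_le (hT.1 : T ≤ S)
  constructor
  · intro h
    refine ⟨preimg_le R', fun Q hQ => ?_⟩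
    obtain ⟨φ, hφ, rfl⟩ := hQ
    have hTQ : T ≤ φ.range := fun x hx => by
      obtain ⟨y, hy, -, rfl⟩ := mem_map_subgroupOf.1
        ((map_ker_eq hT hφ (factor_preimg_le hE R')).ge hx)
      exact ⟨_, rfl⟩
    have hQ' : img θ φ.range ≤ S' := (img_le_range _).trans hE.2.2.1.le
    have hc : E.IsConj R' (img θ φ.range) := by
      rw [isConj_factor hT hE hR' hQ', preimg_img hE.2.1 (range_le_S hφ) hTQ]
      exact ⟨φ, hφ, rfl⟩
    rw [← preimg_img hE.2.1 (range_le_S hφ) hTQ, ← preimg_normalizerIn hE hR',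
      ← preimg_normalizerIn hE hQ', card_preimg hE (normalizerIn_le_S _),
      card_preimg hE (normalizerIn_le_S _)]
    exact Nat.mul_le_mul_right _ (h.2 _ hc)
  · intro h
    refine ⟨hR', fun Q' hQ' => ?_⟩
    have hQS := IsConj.le_right hQ'
    have h1 := h.2 _ ((isConj_factor hT hE hR' hQS).1 hQ')
    rw [← preimg_normalizerIn hE hR', ← preimg_normalizerIn hE hQS,
      card_preimg hE (normalizerIn_le_S _), card_preimg hE (normalizerIn_le_S _)] at h1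
    exact Nat.le_of_mul_le_mul_right h1 Nat.card_pos

include hT hE in
/-- The action of `Aut_F` of a preimage on the factor. -/
theorem exists_factor_aut {R' : Subgroup Ω'} (hR' : R' ≤ S') :
    ∃ ρ : F.autGroup (preimg θ R') →* E.autGroup R', Function.Surjective ρ ∧
      ∀ (a : F.autGroup (preimg θ R')) (x : preimg θ R') (hy : θ ⟨x, preimg_le R' x.2⟩ ∈ R'),
        ((((ρ a : E.autGroup R') : MulAut R') ⟨_, hy⟩ : R') : Ω') =
          θ ⟨(((a : MulAut ↥(preimg θ R')) x : ↥(preimg θ R')) : Ω),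
            preimg_le R' ((a : MulAut ↥(preimg θ R')) x).2⟩ := by
  have hRS := preimg_le (ι := θ) R'
  have hex : ∀ a : F.autGroup (preimg θ R'), ∃ b : E.autGroup R',
      ∀ (x : preimg θ R') (hy : θ ⟨x, preimg_le R' x.2⟩ ∈ R'),
        ((((b : MulAut R') ⟨_, hy⟩ : R') : Ω')) =
          θ ⟨(((a : MulAut ↥(preimg θ R')) x : ↥(preimg θ R')) : Ω),
            preimg_le R' ((a : MulAut ↥(preimg θ R')) x).2⟩ := by
    intro a
    have hφ := (autGroup_carrier hRS).1 a.2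
    obtain ⟨φ', hφ', h⟩ := exists_factor_hom hT hE hφ (factor_preimg_le hE R')
      (img_preimg (le_range_factor hE hR'))
    have hr : φ'.range = R' := by
      have e := range_lift hT hE hR' hφ h
      rw [exists_map_normalizer.range_eq_of_surjective (a : MulAut ↥(preimg θ R')).toMonoidHom
        (a : MulAut ↥(preimg θ R')).surjective] at e
      rw [← img_preimg (ι := θ) (le_range_factor hE (range_le_S hφ')), ← e,
        img_preimg (le_range_factor hE hR')]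
    refine ⟨⟨_, autOfRange_mem hφ' hr⟩, fun x hy => ?_⟩
    exact (coe_autOfRange φ' (E.injective_of_mem hφ') hr _).trans (induced_apply h x)
  choose ρ hρ using hex
  have hext : ∀ b c : E.autGroup R',
      (∀ (x : preimg θ R') (hy : θ ⟨x, preimg_le R' x.2⟩ ∈ R'),
        (((b : MulAut R') ⟨_, hy⟩ : R') : Ω') = (((c : MulAut R') ⟨_, hy⟩ : R') : Ω')) → b = c := by
    intro b c h
    refine Subtype.ext (MulEquiv.ext fun y => Subtype.ext ?_)
    obtain ⟨s, hs⟩ := hE.2.2.1.ge (hR' y.2)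
    have hsy : θ s ∈ R' := hs ▸ y.2
    have h1 := h ⟨s, mem_preimg.2 ⟨s.2, hsy⟩⟩ hsy
    rw [show y = ⟨θ s, hs ▸ y.2⟩ from Subtype.ext hs.symm]
    exact h1
  refine ⟨MonoidHom.mk' ρ fun a b => hext _ _ fun x hy => ?_, fun c => ?_, hρ⟩
  · rw [hρ]
    show _ = (((ρ a : MulAut R') ((ρ b : MulAut R') ⟨_, hy⟩) : R') : Ω')
    rw [show (ρ b : MulAut R') ⟨_, hy⟩ =
      ⟨θ ⟨(((b : MulAut ↥(preimg θ R')) x : ↥(preimg θ R')) : Ω),
        preimg_le R' ((b : MulAut ↥(preimg θ R')) x).2⟩,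
        (mem_preimg.1 ((b : MulAut ↥(preimg θ R')) x).2).2⟩ from Subtype.ext (hρ b x hy), hρ]
    rfl
  · obtain ⟨φ, hφ, h⟩ := exists_lift_hom hE ((autGroup_carrier hR').1 c.2)
    have hr := range_lift hT hE hR' hφ h
    rw [exists_map_normalizer.range_eq_of_surjective (c : MulAut R').toMonoidHom
      (c : MulAut R').surjective] at hr
    refine ⟨⟨_, autOfRange_mem hφ hr⟩, hext _ _ fun x hy => ?_⟩
    show (((ρ ⟨_, autOfRange_mem hφ hr⟩ : MulAut R') ⟨_, hy⟩ : R') : Ω') = _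
    rw [hρ]
    refine Eq.trans (congrArg θ (Subtype.ext (p := (· ∈ S)) (a2 := (⟨φ x, apply_mem_S hφ x⟩ : S))
      (coe_autOfRange φ (F.injective_of_mem hφ) hr x))) ?_
    exact (induced_apply h x (hP' := hy) (hφ := apply_mem_S hφ x)).symm

include hT hE in
theorem fullyAutomized_factor (p : ℕ) [Fact p.Prime] {R' : Subgroup Ω'} (hR' : R' ≤ S')
    (hfa : F.IsFullyAutomized p (preimg θ R')) : E.IsFullyAutomized p R' := by
  obtain ⟨ρ, hρs, hρ⟩ := exists_factor_aut hT hE hR'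
  have := finite_of_le hfa.1
  have : Finite (MulAut ↥(preimg θ R')) := finite_mulAut
  have : Finite S' := hE.2.2.1 ▸ Finite.of_surjective _ θ.rangeRestrict_surjective
  have := finite_of_le hR'
  have : Finite (MulAut R') := finite_mulAut
  obtain ⟨-, R, hR⟩ := hfa
  refine ⟨hR', R.mapSurjective hρs, ?_⟩
  rw [Sylow.coe_mapSurjective, hR]
  ext ⟨b, hb⟩
  constructor
  · rintro ⟨a, ha, hab⟩
    obtain ⟨g, hg, hga⟩ := mem_autInducedBy.1 ha
    refine mem_autInducedBy.2 ⟨θ ⟨g, hg⟩, hE.2.2.1.le ⟨_, rfl⟩, fun y => ?_⟩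
    obtain ⟨s, hs⟩ := hE.2.2.1.ge (hR' y.2)
    have hsP : (s : Ω) ∈ preimg θ R' := mem_preimg.2 ⟨s.2, hs ▸ y.2⟩
    show ((b y : R') : Ω') = _
    refine (congrArg (fun c : E.autGroup R' => (((c : MulAut R') y : R') : Ω')) hab).symm.trans ?_
    show (((ρ a : MulAut R') y : R') : Ω') = _
    rw [show y = ⟨θ s, hs ▸ y.2⟩ from Subtype.ext hs.symm, hρ a ⟨s, hsP⟩, ← map_inv, ← map_mul,
      ← map_mul]
    exact congrArg θ (Subtype.ext (hga ⟨s, hsP⟩))
  · intro hb'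
    obtain ⟨g, hg, hgb⟩ := mem_autInducedBy.1 hb'
    obtain ⟨g, rfl⟩ := hE.2.2.1.ge hg
    have hgN : (g : Ω) ∈ normalizerIn S (preimg θ R') := by
      rw [← preimg_normalizerIn hE hR']
      exact mem_preimg.2 ⟨g.2, hg, mem_normalizer_of_aut hgb⟩
    have hconj : conjAut S (preimg θ R') ⟨g, hgN⟩ ∈ autInducedBy S (preimg θ R') :=
      mem_autInducedBy.2 ⟨g, g.2, fun x => rfl⟩
    refine ⟨⟨_, autInducedBy_le_autGroup (preimg_le R') hconj⟩, hconj,
      Subtype.ext (MulEquiv.ext fun y => Subtype.ext ?_)⟩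
    obtain ⟨s, hs⟩ := hE.2.2.1.ge (hR' y.2)
    have hsP : (s : Ω) ∈ preimg θ R' := mem_preimg.2 ⟨s.2, hs ▸ y.2⟩
    rw [show y = ⟨θ s, hs ▸ y.2⟩ from Subtype.ext hs.symm, hρ _ ⟨s, hsP⟩]
    refine Eq.trans ?_ (hgb ⟨θ s, hs ▸ y.2⟩).symm
    show _ = θ g * θ s * (θ g)⁻¹
    rw [← map_inv, ← map_mul, ← map_mul]
    rfl

include hT hE in
theorem receptive_factor (p : ℕ) [Fact p.Prime] (hS : IsPGroup p S) {R' : Subgroup Ω'}
    (hR' : R' ≤ S') (hfa : F.IsFullyAutomized p (preimg θ R'))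
    (hrec : F.IsReceptive (preimg θ R')) : E.IsReceptive R' := by
  refine ⟨hR', fun P' φ' hφ' hr' => ?_⟩
  obtain ⟨φ, hφ, h⟩ := exists_lift_hom hE hφ'
  have hP' := le_of_mem_hom hφ'
  have hr : φ.range = preimg θ R' := by rw [range_lift hT hE hP' hφ h, hr']
  obtain ⟨ρ, hρs, hρ⟩ := exists_factor_aut hT hE hR'
  have := finite_of_le hfa.1
  have : Finite (MulAut ↥(preimg θ R')) := finite_mulAut
  have hS'fin : Finite S' := hE.2.2.1 ▸ Finite.of_surjective _ θ.rangeRestrict_surjective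
  obtain ⟨-, R, hR⟩ := hfa
  let e := isoRange φ (F.injective_of_mem hφ) hr
  set N' := extender S' P' φ' with hN'
  have hN : preimg θ N' ≤ S ⊓ Subgroup.normalizer ((preimg θ P' : Subgroup Ω) : Set Ω) := by
    refine (preimg_mono (extender_le_normalizerIn P' φ')).trans ?_
    rw [preimg_normalizerIn hE hP']
    exact le_rfl
  let f : ↥(preimg θ N') →* F.autGroup (preimg θ R') :=
    ((MulAut.congr e).toMonoidHom.comp ((conjAut S (preimg θ P')).comp
      (Subgroup.inclusion hN))).codRestrict _ fun g =>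
      pow_mem_autGroup_iso (preimg_le P') hφ e (fun _ => rfl)
        (autInducedBy_le_autGroup (preimg_le P')
          (mem_autInducedBy.2 ⟨g, (hN g.2).1, fun _ => rfl⟩))
  have hfe : ∀ g x, (f g : MulAut ↥(preimg θ R')) (e x) =
      e (conjAut S (preimg θ P') (Subgroup.inclusion hN g) x) := fun g x => by
    simp [f, MulAut.congr]
  let A : Subgroup (F.autGroup (preimg θ R')) :=
    (autInducedBy S (preimg θ R')).subgroupOf (F.autGroup (preimg θ R'))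
  let M : Subgroup (F.autGroup (preimg θ R')) := (A.map ρ).comap ρ
  have hAM : A ≤ M := Subgroup.le_comap_map ρ A
  have hAs : SylowIn p A M := by
    refine ⟨hAM, R.subtype (hR ▸ hAM), ?_⟩
    rw [Sylow.coe_subtype, hR]
  have hfM : f.range ≤ M := by
    rintro _ ⟨g, rfl⟩
    obtain ⟨hgN, hgθ⟩ := mem_preimg.1 g.2
    obtain ⟨-, hgn, k, hk, hkx⟩ := mem_extender.1 hgθ
    obtain ⟨t, rfl⟩ := hE.2.2.1.ge hk
    have htN : θ t ∈ normalizerIn S' R' := by
      refine ⟨hE.2.2.1.le ⟨_, rfl⟩, mem_normalizer_of_conj_mem hR' fun y hy => ?_⟩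
      obtain ⟨x, rfl⟩ := hr'.ge hy
      rw [← hkx x ((Subgroup.mem_normalizer_iff.1 hgn x).1 x.2)]
      exact hr'.le ⟨_, rfl⟩
    have htN' : (t : Ω) ∈ normalizerIn S (preimg θ R') := by
      rw [← preimg_normalizerIn hE hR']
      exact mem_preimg.2 ⟨t.2, htN⟩
    have hc : conjAut S (preimg θ R') ⟨t, htN'⟩ ∈ autInducedBy S (preimg θ R') :=
      mem_autInducedBy.2 ⟨t, t.2, fun _ => rfl⟩
    refine ⟨⟨_, autInducedBy_le_autGroup (preimg_le R') hc⟩, hc,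
      Subtype.ext (MulEquiv.ext fun y => Subtype.ext ?_)⟩
    obtain ⟨s, hs⟩ := hE.2.2.1.ge (hR' y.2)
    have hsP : (s : Ω) ∈ preimg θ R' := mem_preimg.2 ⟨s.2, hs ▸ y.2⟩
    rw [show y = ⟨θ s, hs ▸ y.2⟩ from Subtype.ext hs.symm, hρ _ ⟨s, hsP⟩, hρ _ ⟨s, hsP⟩]
    obtain ⟨x, hx⟩ := e.surjective ⟨s, hsP⟩
    rw [← hx]
    have hxN : g.1 * x * (g.1)⁻¹ ∈ preimg θ P' :=
      (Subgroup.mem_normalizer_iff.1 (hN g.2).2 x).1 x.2
    have h0 : ((e x : ↥(preimg θ R')) : Ω) = φ x := rfl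
    have hxx : θ ⟨x, preimg_le P' x.2⟩ ∈ P' := (mem_preimg.1 x.2).2
    have h1 := hkx ⟨_, hxx⟩ ((Subgroup.mem_normalizer_iff.1 hgn _).1 hxx)
    rw [induced_apply h x (hφ := apply_mem_S hφ x)] at h1
    have h2 : φ' ⟨θ ⟨g.1 * x * (g.1)⁻¹, preimg_le P' hxN⟩, (mem_preimg.1 hxN).2⟩ =
        θ ⟨φ ⟨_, hxN⟩, apply_mem_S hφ _⟩ := induced_apply h ⟨_, hxN⟩
    rw [show (φ' ⟨θ ⟨g.1, hgN⟩ * θ ⟨x, preimg_le P' x.2⟩ * (θ ⟨g.1, hgN⟩)⁻¹,
        (Subgroup.mem_normalizer_iff.1 hgn _).1 hxx⟩) =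
      φ' ⟨θ ⟨g.1 * x * (g.1)⁻¹, preimg_le P' hxN⟩, (mem_preimg.1 hxN).2⟩ from
      apply_congr φ' (show θ ⟨g.1, hgN⟩ * θ ⟨x, preimg_le P' x.2⟩ * (θ ⟨g.1, hgN⟩)⁻¹ =
        θ ⟨g.1 * x * (g.1)⁻¹, preimg_le P' hxN⟩ by rw [← map_inv, ← map_mul, ← map_mul]; rfl), h2,
      ← map_inv, ← map_mul, ← map_mul] at h1
    refine Eq.trans ?_ (h1.symm.trans (congrArg θ (Subtype.ext ?_)))
    · exact congrArg θ (Subtype.ext rfl)
    · show φ _ = ((((f g : MulAut ↥(preimg θ R')) (e x)) : ↥(preimg θ R')) : Ω)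
      rw [hfe]
      rfl
  have hfp : IsPGroup p f.range :=
    (isPGroup_of_le hS (preimg_le N')).of_surjective f.rangeRestrict f.rangeRestrict_surjective
  obtain ⟨m, hm, hmf⟩ := hAs.exists_conj_le hfp hfM
  obtain ⟨a, ha, ham⟩ := hm
  let b := a⁻¹ * m
  have hb1 : ρ b = 1 := by rw [map_mul, map_inv, ham, inv_mul_cancel]
  have hbf : ∀ v ∈ f.range, b * v * b⁻¹ ∈ A := by
    intro v hv
    have := mul_mem (mul_mem (inv_mem ha) (hmf v hv)) ha
    simpa [b, mul_assoc] using this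
  let ψ₁ : ↥(preimg θ P') →* Ω := ((preimg θ R').subtype.comp
    (b : MulAut ↥(preimg θ R')).toMonoidHom).comp e.toMonoidHom
  have hψ₁ : ψ₁ ∈ F.Hom (preimg θ P') := comp_mem_of_eq hφ
    ((autGroup_carrier (preimg_le R')).1 b.2) (fun x => hr.le ⟨x, rfl⟩) fun x => rfl
  have hψ₁r : ψ₁.range = preimg θ R' := exists_map_normalizer.range_eq_of_surjective
    ((b : MulAut ↥(preimg θ R')).toMonoidHom.comp e.toMonoidHom)
    ((b : MulAut ↥(preimg θ R')).surjective.comp e.surjective)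
  have hext : preimg θ N' ≤ extender S (preimg θ P') ψ₁ := by
    intro g hg
    obtain ⟨s, hs, hsx⟩ := mem_autInducedBy.1 (hbf (f ⟨g, hg⟩) ⟨_, rfl⟩)
    refine mem_extender_of (hN hg) hs fun x hx => ?_
    have h1 := hsx ((b : MulAut ↥(preimg θ R')) (e x))
    change (((b : MulAut ↥(preimg θ R')) ((f ⟨g, hg⟩ : MulAut ↥(preimg θ R'))
      ((b : MulAut ↥(preimg θ R'))⁻¹ ((b : MulAut ↥(preimg θ R')) (e x)))) : ↥(preimg θ R')) :
        Ω) = _ at h1
    rw [MulAut.inv_apply_self, hfe] at h1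
    exact (apply_congr ψ₁ rfl).trans h1
  obtain ⟨ψ, hψ, hψe⟩ := receptive_extend hrec hψ₁ hψ₁r hext
  have hP'N : P' ≤ N' := le_extender hφ'
  obtain ⟨χ, hχ, hχi⟩ := exists_factor_hom hT hE hψ (factor_preimg_le hE N')
    (img_preimg (le_range_factor hE (extender_le_S P' φ')))
  refine ⟨χ, hχ, fun y hy hyN => ?_⟩
  obtain ⟨s, rfl⟩ := hE.2.2.1.ge (hP' hy)
  have hsP : (s : Ω) ∈ preimg θ P' := mem_preimg.2 ⟨s.2, hy⟩
  rw [induced_apply hχi ⟨s, preimg_mono hP'N hsP⟩ (hφ := apply_mem_S hψ _),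
    induced_apply h ⟨s, hsP⟩ (hφ := apply_mem_S hφ _)]
  have hy' : θ ⟨_, preimg_le R' (e ⟨s, hsP⟩).2⟩ ∈ R' := (mem_preimg.1 (e ⟨s, hsP⟩).2).2
  have h3 := hρ b (e ⟨s, hsP⟩) hy'
  rw [hb1] at h3
  refine Eq.trans ?_ h3.symm
  exact congrArg θ (Subtype.ext (hψe s hsP _))

include hT hE in
/-- A factor system of a saturated system is saturated. -/
theorem factor_saturated (p : ℕ) [Fact p.Prime] (hS : IsPGroup p S) (hF : F.IsSaturated p) :
    E.IsSaturated p := by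
  intro P' hP'
  obtain ⟨R, hR, hfn⟩ := exists_fullyNormalized F (preimg_le (ι := θ) P')
  obtain ⟨hfa, hrec⟩ := good_of_fullyNormalized p hS hF hfn
  obtain ⟨φ, hφ, hr⟩ := hR
  have hTR : T ≤ R := fun x hx => by
    obtain ⟨y, hy, -, rfl⟩ := mem_map_subgroupOf.1
      ((map_ker_eq hT hφ (factor_preimg_le hE P')).ge hx)
    exact hr.le ⟨_, rfl⟩
  have hR' : img θ R ≤ S' := (img_le_range _).trans hE.2.2.1.le
  have he := preimg_img hE.2.1 hfn.1 hTR
  refine ⟨img θ R, ?_, fullyAutomized_factor hT hE p hR' (he.symm ▸ hfa),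
    receptive_factor hT hE p hS hR' (he.symm ▸ hfa) (he.symm ▸ hrec)⟩
  rw [isConj_factor hT hE hP' hR', he]
  exact ⟨φ, hφ, hr⟩

/-! ### The quotient morphism -/

/-- `φ` induces a map of the factor system. -/
def Induces (θ : S →* Ω') (E : FusionSystem S') {P : Subgroup Ω} (φ : P →* Ω) : Prop :=
  ∃ φ' ∈ E.Hom (img θ P), InducedAlong θ φ φ'

theorem induces_restrict {P R : Subgroup Ω} {φ : P →* Ω} (h : Induces θ E φ) (hRP : R ≤ P)
    {χ : R →* Ω} (e : ∀ x : R, χ x = φ (Subgroup.inclusion hRP x)) : Induces θ E χ := by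
  obtain ⟨φ', hφ', hi⟩ := h
  obtain ⟨hP, hφ, hφm, hφx⟩ := hi
  have hle : img θ R ≤ img θ P := Subgroup.map_mono fun x hx => hRP hx
  refine ⟨φ'.comp (Subgroup.inclusion hle), restrict_mem hφ' hle, hRP.trans hP,
    fun x => (e x).symm ▸ hφ _, fun x => apply_mem_img (ι := θ) (x := ⟨x, hP (hRP x.2)⟩) x.2, fun x => ?_⟩
  exact (hφx (Subgroup.inclusion hRP x)).trans (congrArg θ (Subtype.ext (e x).symm))

theorem induces_comp {P Q : Subgroup Ω} {φ : P →* Ω} {ψ : Q →* Ω} (h₁ : Induces θ E φ)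
    (h₂ : Induces θ E ψ) (hm : ∀ x, φ x ∈ Q) {χ : P →* Ω} (e : ∀ x, χ x = ψ ⟨φ x, hm x⟩) :
    Induces θ E χ := by
  obtain ⟨φ', hφ', hP, hφ, hφm, hφx⟩ := h₁
  obtain ⟨ψ', hψ', hQ, hψ, hψm, hψx⟩ := h₂
  have hm' : ∀ y, φ' y ∈ img θ Q := by
    rintro ⟨_, x, hx, rfl⟩
    rw [show φ' ⟨θ x, _⟩ = θ ⟨φ ⟨x, hx⟩, hφ _⟩ from hφx ⟨x, hx⟩]
    exact apply_mem_img (hm _)
  refine ⟨ψ'.comp (φ'.codRestrict _ hm'), E.comp_mem hφ' hψ' hm', hP,
    fun x => (e x).symm ▸ hψ _, fun x => apply_mem_img (ι := θ) (x := ⟨x, hP x.2⟩) x.2, fun x => ?_⟩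
  refine ((congrArg ψ' (Subtype.ext (hφx x))).trans (hψx ⟨φ x, hm x⟩)).trans
    (congrArg θ (Subtype.ext (e x).symm))

theorem induces_inv {P Q : Subgroup Ω} {φ : P →* Ω} (h : Induces θ E φ) (hr : φ.range = Q)
    {χ : Q →* Ω} (e : ∀ (x : P) (hx : φ x ∈ Q), χ ⟨φ x, hx⟩ = x) : Induces θ E χ := by
  obtain ⟨φ', hφ', hP, hφ, hφm, hφx⟩ := h
  have hr' : φ'.range = img θ Q := by
    subst hr
    ext y
    constructor
    · rintro ⟨⟨_, x, hx, rfl⟩, rfl⟩
      rw [show φ' ⟨θ x, _⟩ = θ ⟨φ ⟨x, hx⟩, hφ _⟩ from hφx ⟨x, hx⟩]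
      exact apply_mem_img (ι := θ) (x := ⟨_, hφ _⟩) ⟨_, rfl⟩
    · rintro ⟨⟨_, hz⟩, ⟨x, rfl⟩, rfl⟩
      exact ⟨_, hφx x⟩
  obtain ⟨ψ', hψ', -, h1, -⟩ := exists_inv hφ' hr'
  have hQ : Q ≤ S := by rw [← hr]; rintro _ ⟨x, rfl⟩; exact hφ x
  have hval : ∀ y : Q, ∃ (x : P) (hx : φ x ∈ Q), y = ⟨φ x, hx⟩ := fun y => by
    obtain ⟨x, hx⟩ := hr.ge y.2
    exact ⟨x, hx ▸ y.2, Subtype.ext hx.symm⟩
  refine ⟨ψ', hψ', hQ, fun y => ?_, fun y => apply_mem_img (ι := θ) (x := ⟨y, hQ y.2⟩) y.2, fun y => ?_⟩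
  · obtain ⟨x, hx, rfl⟩ := hval y
    exact (e x hx).symm ▸ hP x.2
  · obtain ⟨x, hx, rfl⟩ := hval y
    have hxi : θ ⟨x, hP x.2⟩ ∈ img θ P := apply_mem_img (ι := θ) (x := ⟨x, hP x.2⟩) x.2
    have hyi : φ' ⟨_, hxi⟩ ∈ img θ Q := by
      rw [hφx x]; exact apply_mem_img (ι := θ) (x := ⟨_, hφ x⟩) hx
    refine ((apply_congr ψ' (hφx x).symm).trans (h1 ⟨_, hxi⟩ hyi)).trans ?_
    exact congrArg θ (Subtype.ext (e x hx).symm)

include hT hE in
/-- Every map induces a map of the factor system. -/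
theorem induces_of_mem (p : ℕ) [Fact p.Prime] (hS : IsPGroup p S) (hF : F.IsSaturated p) :
    ∀ {P : Subgroup Ω} {φ : P →* Ω}, φ ∈ F.Hom P → Induces θ E φ := by
  suffices H : ∀ (n : ℕ) (P : Subgroup Ω), Nat.card S - Nat.card P = n →
      ∀ φ : P →* Ω, φ ∈ F.Hom P → Induces θ E φ from
    fun {P φ} hφ => H _ P rfl φ hφ
  intro n
  induction n using Nat.strong_induction_on with
  | _ n ih =>
    intro P hn φ hφ
    have hPS := le_of_mem_hom hφ
    by_cases hTP : T ≤ P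
    · exact exists_factor_hom hT hE hφ hTP rfl
    obtain ⟨R, hPR, hfn⟩ := exists_fullyNormalized F hPS
    obtain ⟨hfa, hrec⟩ := good_of_fullyNormalized p hS hF hfn
    have hbig : ∀ (X : Subgroup Ω) (ψ : X →* Ω), ψ ∈ F.Hom X → Nat.card P < Nat.card X →
        Induces θ E ψ := fun X ψ hψ hlt => by
      have := card_le_of_le le_rfl (le_of_mem_hom hψ)
      exact ih _ (by omega) X rfl ψ hψ
    -- maps into the fully normalized representative
    have hto : ∀ X : Subgroup Ω, F.IsConj X R → ∃ χ : X →* Ω, χ ∈ F.Hom X ∧ χ.range = R ∧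
        Induces θ E χ := by
      intro X hX
      have hXS := IsConj.le_left hX
      have hcard : Nat.card X = Nat.card P := (IsConj.card_eq hX).symm.trans (IsConj.card_eq hPR)
      obtain ⟨ψ, hψ, -, hψX⟩ := exists_map_normalizer p hS hfa hrec hX
      refine ⟨ψ.comp (Subgroup.inclusion (le_normalizerIn hXS)),
        restrict_mem hψ (le_normalizerIn hXS), (range_restrict ψ _).trans hψX,
        induces_restrict (hbig _ ψ hψ ?_) (le_normalizerIn hXS) fun x => rfl⟩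
      rw [← hcard]
      refine lt_of_le_of_ne (card_le_of_le (normalizerIn_le_S X) (le_normalizerIn hXS)) fun he => ?_
      have h1 : X = normalizerIn S X :=
        eq_of_le_of_card_le (normalizerIn_le_S X) (le_normalizerIn hXS) he.ge
      rcases eq_or_lt_of_le hXS with hXeq | hlt
      · have hPe : P = S := eq_of_le_of_card_le le_rfl hPS (by rw [← hcard, hXeq])
        exact hTP (hT.1.trans hPe.ge)
      · exact (lt_normalizerIn p hS le_rfl hlt).ne h1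
    -- automorphisms of the representative
    have haut : ∀ a ∈ F.autGroup R, Induces θ E (R.subtype.comp a.toMonoidHom) := by
      intro a ha
      by_cases hTR : T ≤ R
      · exact exists_factor_hom hT hE ((autGroup_carrier hfn.1).1 ha) hTR rfl
      have := finite_of_le hfn.1
      have : Finite (MulAut R) := finite_mulAut
      let K : Subgroup (MulAut R) :=
        { carrier := {k | k ∈ F.autGroup R ∧
            ∀ x : R, θ ⟨(k x : R), hfn.1 (k x).2⟩ = θ ⟨x, hfn.1 x.2⟩}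
          one_mem' := ⟨one_mem _, fun x => rfl⟩
          mul_mem' := fun {k l} hk hl => ⟨mul_mem hk.1 hl.1, fun x => (hk.2 (l x)).trans (hl.2 x)⟩
          inv_mem' := fun {k} hk => ⟨inv_mem hk.1, fun x => by
            have h1 := hk.2 (k⁻¹ x)
            simp only [MulAut.apply_inv_self] at h1
            exact h1.symm⟩ }
      have hKA : K ≤ F.autGroup R := fun k hk => hk.1
      have hnorm : F.autGroup R ≤ Subgroup.normalizer (K : Set (MulAut R)) := by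
        intro c hc
        refine mem_normalizer_of_conj_mem (S := K) le_rfl fun k hk => ?_
        refine ⟨mul_mem (mul_mem hc hk.1) (inv_mem hc), fun x => ?_⟩
        obtain ⟨y, rfl⟩ := c.surjective x
        simp only [MulAut.mul_apply, MulAut.inv_apply_self]
        have h1 : θ ⟨((y⁻¹ * k y : R) : Ω), hfn.1 (y⁻¹ * k y : R).2⟩ = 1 := by
          rw [show (⟨((y⁻¹ * k y : R) : Ω), hfn.1 (y⁻¹ * k y : R).2⟩ : S) =
            (⟨y, hfn.1 y.2⟩ : S)⁻¹ * ⟨(k y : R), hfn.1 (k y).2⟩ from rfl, map_mul, map_inv, hk.2,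
            inv_mul_cancel]
        have h2 : θ ⟨((c (y⁻¹ * k y) : R) : Ω), hfn.1 (c (y⁻¹ * k y)).2⟩ = 1 :=
          (hE.2.1 _).2 (map_mem_ker hT ((autGroup_carrier hfn.1).1 hc)
            (x := y⁻¹ * k y) ((hE.2.1 _).1 h1))
        rw [show (⟨((c (k y) : R) : Ω), hfn.1 (c (k y)).2⟩ : S) =
          ⟨(c y : R), hfn.1 (c y).2⟩ * ⟨((c (y⁻¹ * k y) : R) : Ω), hfn.1 (c (y⁻¹ * k y)).2⟩ from
          Subtype.ext (by simp), map_mul, h2, mul_one]
      have hAs : SylowIn p (autInducedBy S R) (F.autGroup R) :=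
        ⟨autInducedBy_le_autGroup hfn.1, hfa.2⟩
      have hKs := hAs.inf_normal hKA hnorm
      obtain ⟨k, hk, hkV⟩ := hKs.exists_conj_le
        ((hKs.isPGroup).map (MulAut.conj a).toMonoidHom) (by
          rintro _ ⟨v, hv, rfl⟩
          exact (Subgroup.mem_normalizer_iff.1 (hnorm ha) v).1 hv.2)
      let β : R →* Ω := R.subtype.comp (k * a).toMonoidHom
      have hβ : β ∈ F.Hom R := (autGroup_carrier hfn.1).1 (mul_mem hk.1 ha)
      have hTN : ∀ g ∈ normalizerIn S R, g ∈ T → g ∈ extender S R β := by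
        intro g hg hgT
        have hv : conjAut S R ⟨g, hg⟩ ∈ autInducedBy S R ⊓ K :=
          ⟨mem_autInducedBy.2 ⟨g, hg.1, fun _ => rfl⟩,
            autInducedBy_le_autGroup hfn.1 (mem_autInducedBy.2 ⟨g, hg.1, fun _ => rfl⟩),
            fun x => by
              rw [show (⟨((conjAut S R ⟨g, hg⟩ x : R) : Ω), hfn.1 (conjAut S R ⟨g, hg⟩ x).2⟩ : S) =
                ⟨g, hg.1⟩ * ⟨x, hfn.1 x.2⟩ * (⟨g, hg.1⟩ : S)⁻¹ from rfl, map_mul, map_mul,
                map_inv, (hE.2.1 ⟨g, hg.1⟩).2 hgT, one_mul, inv_one, mul_one]⟩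
        obtain ⟨s, hs, hsx⟩ := mem_autInducedBy.1 (hkV _ ⟨_, hv, rfl⟩).1
        refine mem_extender_of hg hs fun x hx => ?_
        have h1 := hsx ((k * a) x)
        simp only [MulEquiv.coe_toMonoidHom, MulAut.conj_apply, MulAut.mul_apply,
          MulAut.inv_apply_self] at h1
        exact h1
      obtain ⟨ψ, hψ, hψe⟩ := hrec.2 R β hβ (exists_map_normalizer.range_eq_of_surjective
        (k * a).toMonoidHom (k * a).surjective)
      have hlt : Nat.card P < Nat.card (extender S R β) := by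
        have hRX : R < extender S R β := by
          refine lt_of_le_not_ge (le_extender hβ) fun hle => ?_
          have hn : R ≤ Subgroup.normalizer (T : Set Ω) := fun r hr => by
            refine mem_normalizer_of_conj_mem hT.1 fun x hx => ?_
            exact hT.2 T le_rfl _ (F.conj_mem hT.1 (hfn.1 hr)) ⟨x, hx⟩
          have hlt' : R < R ⊔ T := lt_of_le_not_ge le_sup_left fun h => hTR (le_sup_right.trans h)
          obtain ⟨g, hg, hgR⟩ := SetLike.exists_of_lt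
            (lt_normalizerIn p hS (sup_le hfn.1 hT.1) hlt')
          have hg1 : g ∈ ((R ⊔ T : Subgroup Ω) : Set Ω) := hg.1
          rw [Subgroup.coe_mul_of_left_le_normalizer_right R T hn] at hg1
          obtain ⟨r, hr, t, ht, rfl⟩ := hg1
          have htN : t ∈ normalizerIn S R := ⟨hT.1 ht, by
            simpa using mul_mem (inv_mem (Subgroup.le_normalizer hr)) hg.2⟩
          exact hgR (mul_mem hr (hle (hTN t htN ht)))
        have := finite_of_le (extender_le_S (S := S) R β)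
        have h2 : Nat.card R < Nat.card (extender S R β) :=
          lt_of_le_of_ne (card_le_of_le (extender_le_S R β) hRX.le) fun he =>
            hRX.ne (eq_of_le_of_card_le (extender_le_S R β) hRX.le he.ge)
        rwa [IsConj.card_eq hPR] at h2
      have h1 : Induces θ E β :=
        induces_restrict (hbig _ ψ hψ hlt) (le_extender hβ) fun x =>
          (hψe x x.2 (le_extender hβ x.2)).symm
      have h2 : Induces θ E (R.subtype.comp (k⁻¹ : MulAut R).toMonoidHom) := by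
        refine ⟨(img θ R).subtype, subtype_mem ((img_le_range R).trans hE.2.2.1.le), hfn.1,
          fun x => hfn.1 ((k⁻¹ : MulAut R) x).2,
          fun x => apply_mem_img (ι := θ) (x := ⟨x, hfn.1 x.2⟩) x.2, fun x => ?_⟩
        exact ((inv_mem hk).2 x).symm
      refine induces_comp h1 h2 (fun x => ((k * a) x).2) fun x => ?_
      show ((a x : R) : Ω) = (((k⁻¹ : MulAut R) ((k * a) x) : R) : Ω)
      simp [MulAut.mul_apply]
    -- assemble
    obtain ⟨χ₁, hχ₁, hr₁, hi₁⟩ := hto P hPR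
    obtain ⟨χ₂, hχ₂, hr₂, hi₂⟩ := hto φ.range (isConj_trans (isConj_symm ⟨φ, hφ, rfl⟩) hPR)
    obtain ⟨i₁, hii₁, hir₁, h1₁, -⟩ := exists_inv hχ₁ hr₁
    obtain ⟨i₂, hii₂, hir₂, h1₂, -⟩ := exists_inv hχ₂ hr₂
    let α : R →* Ω := χ₂.comp ((φ.comp (i₁.codRestrict P fun x => hir₁.le ⟨x, rfl⟩)).codRestrict
      φ.range fun x => ⟨_, rfl⟩)
    have hα : α ∈ F.Hom R := F.comp_mem
      (F.comp_mem hii₁ hφ fun x => hir₁.le ⟨x, rfl⟩) hχ₂ _
    have hαr : α.range = R := by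
      refine eq_of_le_of_card_le hfn.1 ?_ (card_range hα).ge
      rintro _ ⟨x, rfl⟩
      exact hr₂.le ⟨_, rfl⟩
    have hiα : Induces θ E α := haut _ (autOfRange_mem hα hαr)
    have hm : ∀ x : P, χ₁ x ∈ R := fun x => hr₁.le ⟨x, rfl⟩
    refine induces_comp (induces_comp hi₁ hiα hm (χ := α.comp (χ₁.codRestrict R hm)) fun x => rfl)
      (induces_inv hi₂ hr₂ (χ := i₂) h1₂) (fun x => hαr.le ⟨_, rfl⟩) fun x => ?_
    have hcoe : ∀ x : P, α ⟨χ₁ x, hm x⟩ = χ₂ ⟨φ x, ⟨x, rfl⟩⟩ := fun x =>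
      apply_congr χ₂ (apply_congr φ (h1₁ x (hm x)))
    refine ((apply_congr i₂ (hcoe x)).trans (h1₂ ⟨φ x, ⟨x, rfl⟩⟩ ?_)).symm
    exact hr₂.le ⟨_, rfl⟩

include hT hE in
/-- The quotient map is a surjective morphism of fusion systems. -/
theorem factor_surjectiveMorphism (p : ℕ) [Fact p.Prime] (hS : IsPGroup p S)
    (hF : F.IsSaturated p) : F.IsSurjectiveMorphism E θ :=
  ⟨⟨fun _ => hE.2.2.1.le ⟨_, rfl⟩, fun _ _ hφ => induces_of_mem hT hE p hS hF hφ⟩, hE.2.2.1,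
    fun _ _ _ hφ' => exists_lift_hom hE hφ'⟩

end

end CfsgLib.Fusion
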