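import Cfsg.Agent.Fusion.NormalizerModel

/-!
Local models of smaller subsystems sit inside local models at larger centric subgroups.
-/

set_option autoImplicit false

open Cfsg Cfsg.FusionSystem

namespace CfsgLib.Fusion

universe u

variable {Ω : Type u} [Group Ω] {S : Subgroup Ω} {F : FusionSystem S} [Finite S]

theorem isCentric_of_fullyCentralized {T : Subgroup Ω} (hfc : F.IsFullyCentralized T)
    (hC : centralizerIn S T ≤ T) : F.IsCentric T := by
  refine ⟨hfc.1, fun X hX => ?_⟩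
  obtain ⟨φ, hφ, rfl⟩ := hX
  have := finite_of_le hfc.1
  have hsub : (centralizerIn S T).subgroupOf T = Subgroup.center T := by
    ext x
    rw [Subgroup.mem_subgroupOf, mem_centralizerIn, Subgroup.mem_center_iff]
    exact ⟨fun h y => Subtype.ext (h.2 y y.2),
      fun h => ⟨hfc.1 x.2, fun y hy => congrArg Subtype.val (h ⟨y, hy⟩)⟩⟩
  have hle : (Subgroup.center T).map φ ≤ centralizerIn S φ.range := by
    rintro _ ⟨x, hx, rfl⟩
    refine mem_centralizerIn.2 ⟨apply_mem_S hφ x, ?_⟩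
    rintro _ ⟨y, rfl⟩
    rw [← map_mul, ← map_mul, Subgroup.mem_center_iff.1 hx y]
  have hcard : Nat.card (centralizerIn S φ.range) ≤ Nat.card ((Subgroup.center T).map φ) := by
    refine (hfc.2 _ ⟨φ, hφ, rfl⟩).trans (le_of_eq ?_)
    rw [← Nat.card_congr (Subgroup.equivMapOfInjective _ φ (F.injective_of_mem hφ)).toEquiv,
      ← hsub, Nat.card_congr (Subgroup.subgroupOfEquivOfLe hC).toEquiv]
  rw [← eq_of_le_of_card_le (centralizerIn_le_S _) hle hcard]
  exact Subgroup.map_le_range _ _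

theorem img_le_img_of_mem {G : Type*} [Group G] {V : Subgroup Ω} (ι : V →* G) {R : Subgroup Ω}
    {g : G} (h : ∀ x : V, (x : Ω) ∈ R → g * ι x * g⁻¹ ∈ img ι R) [Finite V] :
    g ∈ Subgroup.normalizer ((img ι R : Subgroup G) : Set G) := by
  have : Finite ι.range := Finite.of_surjective _ ι.rangeRestrict_surjective
  refine mem_normalizer_of_conj_mem (S := ι.range) (img_le_range R) ?_
  rintro _ ⟨x, hx, rfl⟩
  exact h x hx

/-! ### The model at a fully normalized conjugate, pulled back -/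

/-- For a centric `T`, the system `N_F(T)` is realized inside the model at a fully normalized
conjugate of `T`, with normal self-centralizing image of `T`. -/
theorem exists_localModel (p : ℕ) [Fact p.Prime] (hS : IsPGroup p S) (hF : F.IsSaturated p)
    {T : Subgroup Ω} (hT : F.IsCentric T) :
    ∃ (T' : Subgroup Ω) (N' : FusionSystem (normalizerIn S T')) (L : Type u) (_ : Group L)
      (ι : ↥(normalizerIn S T') →* L) (j : ↥(normalizerIn S T) →* L),
      F.IsFullyNormalized T' ∧ F.IsCentric T' ∧ Nat.card T' = Nat.card T ∧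
      F.IsNormalizerSystem T' N' ∧ N'.IsModel p L ι ∧
      (normSystem F T hT.1).IsRealizedBy j ∧ (img j T).Normal ∧
      Subgroup.centralizer (img j T : Set L) ≤ img j T := by
  obtain ⟨T', hT', hfn⟩ := exists_fullyNormalized F hT.1
  obtain ⟨hfa, hrec⟩ := good_of_fullyNormalized p hS hF hfn
  obtain ⟨χ, hχ, hχN, hχT⟩ := exists_map_normalizer p hS hfa hrec hT'
  have hT'c := isCentric_of_isConj hT hT'
  have hN' : F.IsNormalizerSystem T' (normSystem F T' hfn.1) := normSystem_spec F T' hfn.1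
  have hcons := constrained_normalizerSystem p hS hF hfn hT'c hN'
  have := finite_of_le (normalizerIn_le_S (S := S) T')
  have := finite_of_le (normalizerIn_le_S (S := S) T)
  have hTn := isNormal_normalizerSystem hfn.1 hN'
  have hTc := isCentric_normalizerSystem hT'c hN'
  obtain ⟨L, hL, ι, hι⟩ := exists_model p (isPGroup_of_le hS (normalizerIn_le_S T')) hcons.1 hTn hTc
  let j : ↥(normalizerIn S T) →* L := ι.comp (χ.codRestrict _ hχN)
  have hjinj : Function.Injective j := fun a b hab => F.injective_of_mem hχ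
    (congrArg Subtype.val (hι.2.1.1 hab) :)
  have himg : img j T = img ι T' := by
    ext y
    constructor
    · rintro ⟨x, hx, rfl⟩
      exact apply_mem_img (x := ⟨χ x, hχN x⟩) (hχT.le (apply_mem_map_subgroupOf χ hx))
    · rintro ⟨⟨_, hy⟩, hyT, rfl⟩
      obtain ⟨x, hxm, hxT, rfl⟩ := mem_map_subgroupOf.1 (hχT.ge hyT)
      exact apply_mem_img (x := ⟨x, hxm⟩) hxT
  refine ⟨T', normSystem F T' hfn.1, L, hL, ι, j, hfn, hT'c, IsConj.card_eq hT', hN', hι, ⟨hjinj, ?_⟩,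
    himg ▸ normal_img_of_isNormal p hι hTn,
    himg ▸ centralizer_img_le p (isPGroup_of_le hS (normalizerIn_le_S T')) hι hTn hTc⟩
  intro P hP φ hφ
  have hTN : T ≤ normalizerIn S T := le_normalizerIn hT.1
  obtain ⟨χi, hχi, hχir, hχi1, -⟩ := exists_inv hχ (rfl : χ.range = χ.range)
  -- transport a source subgroup along `χ`
  let X : Subgroup Ω := ((P ⊔ T).subgroupOf (normalizerIn S T)).map χ
  have hX : X ≤ normalizerIn S T' := by rintro _ ⟨x, -, rfl⟩; exact hχN x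
  have hXr : X ≤ χ.range := Subgroup.map_le_range _ _
  have hPT : P ⊔ T ≤ normalizerIn S T := sup_le hP hTN
  constructor
  · rintro ⟨hφF, -, -, ψ, hψ, he, hm⟩
    have hψN : ∀ x, ψ x ∈ normalizerIn S T := by
      intro x
      have hx : ψ x ∈ ψ.range := ⟨x, rfl⟩
      rw [range_eq_sup, hm] at hx
      refine (sup_le ?_ hTN : _ ≤ normalizerIn S T) hx
      intro y hy
      obtain ⟨z, hz, hzP, rfl⟩ := mem_map_subgroupOf.1 hy
      exact Set.mem_of_eq_of_mem ((apply_congr ψ rfl).trans (he ⟨z, hzP⟩)) (hφ _)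
    -- `ψ' = χ ψ χ⁻¹`
    let χX : X →* Ω := χi.comp (Subgroup.inclusion hXr)
    have hχX : χX ∈ F.Hom X := restrict_mem hχi hXr
    have hχXm : ∀ x : X, χX x ∈ P ⊔ T := by
      rintro ⟨_, z, hz, rfl⟩
      exact Set.mem_of_eq_of_mem (hχi1 z (hXr ⟨z, hz, rfl⟩)) hz
    let ψ' : X →* Ω := χ.comp ((ψ.comp (χX.codRestrict _ hχXm)).codRestrict _ fun x => hψN _)
    have hψ' : ψ' ∈ F.Hom X := F.comp_mem (F.comp_mem hχX hψ hχXm) hχ _
    have hval : ∀ (y : ↥(P ⊔ T)) (hy : χ (Subgroup.inclusion hPT y) ∈ X),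
        ψ' ⟨_, hy⟩ = χ ⟨ψ y, hψN y⟩ := fun y hy =>
      apply_congr χ (apply_congr ψ (hχi1 _ (hXr hy)))
    have hXT : T' ≤ X := fun y hy => by
      obtain ⟨x, hxm, hxT, rfl⟩ := mem_map_subgroupOf.1 (hχT.ge hy)
      exact ⟨⟨x, hxm⟩, Subgroup.mem_sup_right (S := P) hxT, rfl⟩
    have hψ'N : ψ' ∈ (normSystem F T' hfn.1).Hom X := by
      refine ⟨hψ', hX, fun x => hχN _, ψ'.comp (Subgroup.inclusion (sup_le le_rfl hXT)),
        restrict_mem hψ' (sup_le le_rfl hXT), fun x => rfl, ?_⟩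
      ext y
      rw [mem_map_subgroupOf]
      constructor
      · rintro ⟨x, hx, hxT, rfl⟩
        obtain ⟨z, hz, hzT, rfl⟩ := mem_map_subgroupOf.1 (hχT.ge hxT)
        have hy := hval ⟨z, Subgroup.mem_sup_right hzT⟩ (hXT hxT)
        refine Set.mem_of_eq_of_mem ((apply_congr ψ' rfl).trans hy) (hχT.le ?_)
        exact apply_mem_map_subgroupOf χ
          (hm.le (apply_mem_map_subgroupOf ψ (x := ⟨z, Subgroup.mem_sup_right hzT⟩) hzT))
      · intro hy
        obtain ⟨z, hz, hzT, rfl⟩ := mem_map_subgroupOf.1 (hχT.ge hy)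
        obtain ⟨w, hw, hwT, rfl⟩ := mem_map_subgroupOf.1 (hm.ge hzT)
        have hwX : χ (Subgroup.inclusion hPT ⟨w, hw⟩) ∈ X := ⟨_, hw, rfl⟩
        exact ⟨_, Subgroup.mem_sup_left hwX, hχT.le (apply_mem_map_subgroupOf χ hwT),
          hval ⟨w, hw⟩ hwX⟩
    obtain ⟨g, hg⟩ := realized_hom hι.2.1 hψ'N
    refine ⟨g, fun x => ?_⟩
    have h1 := hg ⟨χ ⟨x, hP x.2⟩, ⟨_, Subgroup.mem_sup_left x.2, rfl⟩⟩
    refine (congrArg ι (Subtype.ext ?_)).trans h1
    show χ ⟨φ x, hφ x⟩ = ψ' _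
    refine (apply_congr χ (x := ⟨φ x, hφ x⟩) (y := ⟨ψ (Subgroup.inclusion le_sup_left x), hψN _⟩)
      (he x).symm).trans ?_
    exact (hval (Subgroup.inclusion le_sup_left x) ⟨⟨x, hP x.2⟩, Subgroup.mem_sup_left x.2, rfl⟩).symm
  · rintro ⟨g, hg⟩
    have hnT := normal_img_of_isNormal p hι hTn
    have hin : P ⊔ T ≤
        (j.range.comap ((MulAut.conj g).toMonoidHom.comp j)).map (normalizerIn S T).subtype := by
      refine sup_le (fun y hy => ⟨⟨y, hP hy⟩, ⟨_, hg ⟨y, hy⟩⟩, rfl⟩) fun y hy => ?_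
      refine ⟨⟨y, hTN hy⟩, img_le_range T ?_, rfl⟩
      rw [himg]
      exact hnT.conj_mem _ (himg ▸ apply_mem_img (ι := j) (x := ⟨y, hTN hy⟩) hy) g
    have hjr : ∀ y : ↥(P ⊔ T), g * j ⟨y, hPT y.2⟩ * g⁻¹ ∈ j.range := by
      intro y
      obtain ⟨z, hz, e⟩ := hin y.2
      rw [← show z = ⟨y, hPT y.2⟩ from Subtype.ext e]
      exact hz
    obtain ⟨φ', hφ', hφ'ι⟩ := exists_realized_hom hι.2.1 hX (g := g) (by
      rintro ⟨_, z, hz, rfl⟩
      obtain ⟨w, hw⟩ := hjr ⟨z, hz⟩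
      exact ⟨_, hw⟩)
    have hm1 : ∀ y : ↥(P ⊔ T), χ (Subgroup.inclusion hPT y) ∈ X := fun y => ⟨_, y.2, rfl⟩
    let φ'' : ↥(P ⊔ T) →* Ω := φ'.comp ((χ.comp (Subgroup.inclusion hPT)).codRestrict X hm1)
    have hφ'' : φ'' ∈ F.Hom (P ⊔ T) := F.comp_mem (restrict_mem hχ hPT) hφ'.1 hm1
    have hr : ∀ y, φ'' y ∈ χ.range := by
      intro y
      obtain ⟨w, hw⟩ := hjr y
      exact ⟨w, congrArg Subtype.val (hι.2.1.1 (hw.trans (hφ'ι ⟨_, hm1 y⟩).symm))⟩
    let ψ : ↥(P ⊔ T) →* Ω := χi.comp (φ''.codRestrict _ hr)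
    have hψ : ψ ∈ F.Hom (P ⊔ T) := F.comp_mem hφ'' hχi hr
    have hψN : ∀ y, ψ y ∈ normalizerIn S T := fun y => by
      obtain ⟨w, hw⟩ := hr y
      exact Set.mem_of_eq_of_mem ((apply_congr χi (x := ⟨_, hr y⟩) (y := ⟨χ w, ⟨w, rfl⟩⟩)
        hw.symm).trans (hχi1 w ⟨w, rfl⟩)) w.2
    have hψj : ∀ y : ↥(P ⊔ T), j ⟨ψ y, hψN y⟩ = g * j ⟨y, hPT y.2⟩ * g⁻¹ := by
      intro y
      obtain ⟨w, hw⟩ := hr y
      have e : (⟨ψ y, hψN y⟩ : ↥(normalizerIn S T)) = w :=
        Subtype.ext ((apply_congr χi (x := ⟨_, hr y⟩) (y := ⟨χ w, ⟨w, rfl⟩⟩) hw.symm).trans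
          (hχi1 w ⟨w, rfl⟩))
      rw [e]
      exact (congrArg ι (Subtype.ext hw)).trans (hφ'ι ⟨_, hm1 y⟩)
    have heq : ∀ x : P, ψ (Subgroup.inclusion le_sup_left x) = φ x := fun x =>
      congrArg Subtype.val (hjinj ((hψj (Subgroup.inclusion le_sup_left x)).trans (hg x).symm))
    refine ⟨restrict_mem_of_eq hψ le_sup_left fun x => (heq x).symm, hP, hφ, ψ, hψ, heq, ?_⟩
    ext y
    rw [mem_map_subgroupOf]
    have hjT : ∀ (z : ↥(normalizerIn S T)), j z ∈ img ι T' ↔ (z : Ω) ∈ T := fun z => by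
      rw [← himg]; exact mem_img hjinj
    constructor
    · rintro ⟨x, hx, hxT, rfl⟩
      refine (hjT ⟨_, hψN _⟩).1 ?_
      rw [hψj]
      exact hnT.conj_mem _ ((hjT _).2 hxT) g
    · intro hy
      have h1 : g⁻¹ * j ⟨y, hTN hy⟩ * g ∈ img j T := by
        rw [himg]
        simpa using hnT.conj_mem _ ((hjT ⟨y, hTN hy⟩).2 hy) g⁻¹
      obtain ⟨x, hx, hxe⟩ := h1
      refine ⟨x, Subgroup.mem_sup_right (S := P) hx, hx,
        congrArg Subtype.val (hjinj (a₁ := ⟨_, hψN _⟩) (a₂ := ⟨y, hTN hy⟩) ?_)⟩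
      rw [hψj, show j ⟨_, _⟩ = g⁻¹ * j ⟨y, hTN hy⟩ * g from hxe]
      group

/-! ### Embedding models of subsystems -/

/-- A system on `U` consisting of the maps of `N_F(T)` that stabilize `R` and `Q'` has its model
inside the local model at a fully normalized conjugate of `T`. -/
theorem exists_model_embedding (p : ℕ) [Fact p.Prime] (hS : IsPGroup p S) (hF : F.IsSaturated p)
    {T R Q' U : Subgroup Ω} (hT : F.IsCentric T) (hR : R ≤ T) (hQ' : Q' ≤ T)
    (hU : U ≤ normalizerIn S T) (hUR : U ≤ Subgroup.normalizer (R : Set Ω))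
    (hUQ : U ≤ Subgroup.normalizer (Q' : Set Ω)) (hRU : R ≤ U) {E : FusionSystem U}
    (hE : ∀ (P : Subgroup Ω) (φ : P →* Ω), φ ∈ E.Hom P ↔ P ≤ U ∧ (∀ x, φ x ∈ U) ∧
      ∃ ψ ∈ F.Hom (P ⊔ T), (∀ x : P, ψ (Subgroup.inclusion le_sup_left x) = φ x) ∧
        (T.subgroupOf (P ⊔ T)).map ψ = T ∧ (R.subgroupOf (P ⊔ T)).map ψ = R ∧
        (Q'.subgroupOf (P ⊔ T)).map ψ = Q')
    (hsat : E.IsSaturated p) (hRn : E.IsNormal R) (hRc : E.IsCentric R)
    (hZ : centralizerIn S T ≤ R)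
    (hker : ∀ γ ∈ F.autGroup T, γ ∈ stabX T Q' → (∀ x : T, (x : Ω) ∈ R → γ x = x) →
      ∃ z ∈ R, ∀ x : T, ((γ x : T) : Ω) = z * x * z⁻¹)
    {L₀ : Type u} [Group L₀] {ι₀ : U →* L₀} (hL₀ : E.IsModel p L₀ ι₀) :
    ∃ (T' : Subgroup Ω) (N' : FusionSystem (normalizerIn S T')) (L : Type u) (_ : Group L)
      (ι : ↥(normalizerIn S T') →* L) (H : Subgroup L), F.IsFullyNormalized T' ∧
      F.IsCentric T' ∧ Nat.card T' = Nat.card T ∧ F.IsNormalizerSystem T' N' ∧
      N'.IsModel p L ι ∧ Nonempty (L₀ ≃* H) := by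
  obtain ⟨T', N', L, hL, ι, j, hfn, hT'c, hcard, hN', hι, hj, hjn, hjc⟩ :=
    exists_localModel p hS hF hT
  refine ⟨T', N', L, hL, ι, ?_⟩
  have := finite_of_le (normalizerIn_le_S (S := S) T)
  have hTN : T ≤ normalizerIn S T := le_normalizerIn hT.1
  let H : Subgroup L := Subgroup.normalizer ((img j R : Subgroup L) : Set L) ⊓
    Subgroup.normalizer ((img j Q' : Subgroup L) : Set L)
  refine ⟨H, hfn, hT'c, hcard, hN', hι, ?_⟩
  have hUH : ∀ x : U, j ⟨x, hU x.2⟩ ∈ H := by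
    intro x
    refine ⟨img_le_img_of_mem j fun y hy => ?_, img_le_img_of_mem j fun y hy => ?_⟩ <;>
      rw [← map_inv, ← map_mul, ← map_mul] <;> refine apply_mem_img ?_
    · exact (Subgroup.mem_normalizer_iff.1 (hUR x.2) y).1 hy
    · exact (Subgroup.mem_normalizer_iff.1 (hUQ x.2) y).1 hy
  let ι' : U →* H := (j.comp (Subgroup.inclusion hU)).codRestrict H hUH
  have hι'inj : Function.Injective ι' := fun a b hab =>
    Subgroup.inclusion_injective hU (hj.1 (congrArg Subtype.val hab :))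
  -- `H` realizes `E`
  have hreal : E.IsRealizedBy ι' := by
    refine ⟨hι'inj, fun P hP φ hφ => ⟨fun hφE => ?_, ?_⟩⟩
    · obtain ⟨-, -, ψ, hψ, he, hmT, hmR, hmQ⟩ := (hE P φ).1 hφE
      have hPT : P ⊔ T ≤ normalizerIn S T := sup_le (hP.trans hU) hTN
      have hψN : ∀ x, ψ x ∈ normalizerIn S T := by
        intro x
        have hx : ψ x ∈ ψ.range := ⟨x, rfl⟩
        rw [range_eq_sup, hmT] at hx
        refine (sup_le ?_ hTN : _ ≤ normalizerIn S T) hx
        intro y hy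
        obtain ⟨z, hz, hzP, rfl⟩ := mem_map_subgroupOf.1 hy
        exact Set.mem_of_eq_of_mem ((apply_congr ψ rfl).trans (he ⟨z, hzP⟩)) (hU (hφ _))
      obtain ⟨g, hg⟩ := realized_hom hj (show ψ ∈ (normSystem F T hT.1).Hom (P ⊔ T) from
        ⟨hψ, hPT, hψN, ψ.comp (Subgroup.inclusion (sup_le le_rfl le_sup_right)),
          restrict_mem hψ (sup_le le_rfl le_sup_right), fun x => rfl, by
            ext y
            rw [mem_map_subgroupOf]
            constructor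
            · rintro ⟨x, hx, hxT, rfl⟩
              exact hmT.le (apply_mem_map_subgroupOf ψ (x := ⟨x, Subgroup.mem_sup_right hxT⟩) hxT)
            · intro hy
              obtain ⟨x, hx, hxT, rfl⟩ := mem_map_subgroupOf.1 (hmT.ge hy)
              exact ⟨x, Subgroup.mem_sup_right hxT, hxT, rfl⟩⟩)
      have hgX : ∀ X : Subgroup Ω, X ≤ T → (X.subgroupOf (P ⊔ T)).map ψ = X →
          g ∈ Subgroup.normalizer ((img j X : Subgroup L) : Set L) := fun X hX hmX =>
        img_le_img_of_mem j fun y hy => by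
          rw [← show j ⟨ψ ⟨y, Subgroup.mem_sup_right (hX hy)⟩, hψN _⟩ = g * j y * g⁻¹ from
            hg ⟨y, Subgroup.mem_sup_right (hX hy)⟩]
          exact apply_mem_img (hmX.le (apply_mem_map_subgroupOf ψ hy))
      refine ⟨⟨g, hgX R hR hmR, hgX Q' hQ' hmQ⟩, fun x => Subtype.ext ?_⟩
      show j ⟨φ x, hU (hφ x)⟩ = g * j ⟨x, hU (hP x.2)⟩ * g⁻¹
      rw [← show j ⟨ψ (Subgroup.inclusion le_sup_left x), hψN _⟩ = g * j ⟨x, hU (hP x.2)⟩ * g⁻¹
        from hg (Subgroup.inclusion le_sup_left x)]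
      exact congrArg j (Subtype.ext (he x).symm)
    · rintro ⟨⟨g, hgR, hgQ⟩, hg⟩
      have hg' : ∀ x : P, j ⟨φ x, hU (hφ x)⟩ = g * j ⟨x, hU (hP x.2)⟩ * g⁻¹ :=
        fun x => congrArg Subtype.val (hg x)
      obtain ⟨-, -, -, ψ, hψ, he, hmT⟩ := (hj.2 P (hP.trans hU) φ fun x => hU (hφ x)).2 ⟨g, hg'⟩
      have hPT : P ⊔ T ≤ normalizerIn S T := sup_le (hP.trans hU) hTN
      have hin : P ⊔ T ≤
          (j.range.comap ((MulAut.conj g).toMonoidHom.comp j)).map (normalizerIn S T).subtype := by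
        refine sup_le (fun y hy => ⟨⟨y, hU (hP hy)⟩, ⟨_, hg' ⟨y, hy⟩⟩, rfl⟩) fun y hy => ?_
        exact ⟨⟨y, hTN hy⟩, img_le_range T (hjn.conj_mem _ (apply_mem_img hy) g), rfl⟩
      obtain ⟨ψ', hψ', hψ'j⟩ := exists_realized_hom hj hPT (g := g) fun x => by
        obtain ⟨z, hz, e⟩ := hin x.2
        rw [← show z = ⟨x, hPT x.2⟩ from Subtype.ext e]
        exact hz
      have hmap : ∀ X : Subgroup Ω, X ≤ T →
          g ∈ Subgroup.normalizer ((img j X : Subgroup L) : Set L) →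
            (X.subgroupOf (P ⊔ T)).map ψ' = X := by
        intro X hX hgX
        ext y
        rw [mem_map_subgroupOf]
        constructor
        · rintro ⟨x, hx, hxX, rfl⟩
          refine (mem_img hj.1 (x := ⟨_, apply_mem_S hψ' _⟩)).1 ?_
          rw [hψ'j]
          exact (Subgroup.mem_normalizer_iff.1 hgX _).1 (apply_mem_img hxX)
        · intro hy
          obtain ⟨x, hx, hxe⟩ := (Subgroup.mem_normalizer_iff''.1 hgX _).1
            (apply_mem_img (ι := j) (x := ⟨y, hTN (hX hy)⟩) hy)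
          refine ⟨x, Subgroup.mem_sup_right (S := P) (hX hx), hx, congrArg Subtype.val
            (hj.1 (a₁ := ⟨_, apply_mem_S hψ' _⟩) (a₂ := ⟨y, hTN (hX hy)⟩) ?_)⟩
          rw [hψ'j, show j ⟨_, _⟩ = g⁻¹ * j ⟨y, hTN (hX hy)⟩ * g from hxe]
          group
      refine (hE P φ).2 ⟨hP, hφ, ψ', hψ'.1, fun x => ?_,
        hmap T le_rfl (Subgroup.normalizer_eq_top_iff.2 hjn ▸ Subgroup.mem_top g),
        hmap R hR hgR, hmap Q' hQ' hgQ⟩
      exact congrArg Subtype.val (hj.1 ((hψ'j (Subgroup.inclusion le_sup_left x)).trans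
        (hg' x).symm) :)
  have hval : ∀ y : U, ((ι' y : H) : L) = j ⟨y, hU y.2⟩ := fun y => rfl
  have hmemR : ∀ x : H, x ∈ img ι' R ↔ (x : L) ∈ img j R := by
    intro x
    constructor
    · rintro ⟨y, hy, rfl⟩
      exact apply_mem_img (x := (⟨y, hU y.2⟩ : ↥(normalizerIn S T))) hy
    · rintro ⟨y, hy, hye⟩
      exact ⟨⟨(y : Ω), hRU hy⟩, hy, Subtype.ext hye⟩
  have hn' : (img ι' R).Normal := ⟨fun x hx g => by
    rw [hmemR] at hx ⊢
    exact (Subgroup.mem_normalizer_iff.1 g.2.1 _).1 hx⟩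
  have hC' : Subgroup.centralizer (img ι' R : Set H) ≤ img ι' R := by
    intro g hg
    obtain ⟨α, -, hα⟩ := exists_realAct hj hTN hjn
    have haT : (α g.1 : MulAut T) ∈ F.autGroup T :=
      (autGroup_carrier hT.1).2 ((autGroup_carrier hTN).1 (α g.1).2).1
    have hfix : ∀ x : T, (x : Ω) ∈ R → (α g.1 : MulAut T) x = x := by
      intro x hx
      refine Subtype.ext (congrArg (fun s : ↥(normalizerIn S T) => (s : Ω)) (hj.1
        (a₁ := ⟨_, hTN ((α g.1 : MulAut T) x).2⟩) (a₂ := ⟨x, hTN x.2⟩) ?_))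
      rw [hα]
      have hc := congrArg Subtype.val (Subgroup.mem_centralizer_iff.1 hg (ι' ⟨x, hRU hx⟩)
        (apply_mem_img hx))
      simp only [Subgroup.coe_mul, hval] at hc
      rw [← hc, mul_inv_cancel_right]
    have hstab : (α g.1 : MulAut T) ∈ stabX T Q' := fun x => by
      rw [← mem_img hj.1 (x := ⟨x, hTN x.2⟩), ← mem_img hj.1
        (x := ⟨_, hTN ((α g.1 : MulAut T) x).2⟩), hα]
      exact (Subgroup.mem_normalizer_iff.1 g.2.2 _).symm
    obtain ⟨z, hzR, hz⟩ := hker _ haT hstab hfix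
    let z' : ↥(normalizerIn S T) := ⟨z, hTN (hR hzR)⟩
    have hc : (j z')⁻¹ * g.1 ∈ Subgroup.centralizer (img j T : Set L) := by
      refine Subgroup.mem_centralizer_iff.2 ?_
      rintro _ ⟨x, hx, rfl⟩
      have h1 := hα g.1 ⟨x, hx⟩
      rw [show (⟨(((α g.1 : MulAut T) ⟨x, hx⟩ : T) : Ω),
        hTN ((α g.1 : MulAut T) ⟨x, hx⟩).2⟩ : ↥(normalizerIn S T)) = z' * x * z'⁻¹ from
        Subtype.ext (hz ⟨x, hx⟩), map_mul, map_mul, map_inv] at h1
      calc j x * ((j z')⁻¹ * g.1) = (j z')⁻¹ * (j z' * j x * (j z')⁻¹) * g.1 := by group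
        _ = (j z')⁻¹ * (g.1 * j x * g.1⁻¹) * g.1 := by rw [h1]
        _ = (j z')⁻¹ * g.1 * j x := by group
    obtain ⟨w, hw, hwe⟩ := hjc hc
    have hwR : (w : Ω) ∈ R := by
      refine hZ (mem_centralizerIn.2 ⟨hT.1 hw, fun x hx => ?_⟩)
      have h2 := Subgroup.mem_centralizer_iff.1 hc _
        (apply_mem_img (ι := j) (x := ⟨x, hTN hx⟩) hx)
      rw [← hwe, ← map_mul, ← map_mul] at h2
      exact congrArg Subtype.val (hj.1 h2)
    rw [hmemR, show (g : L) = j z' * ((j z')⁻¹ * g.1) by group]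
    exact mul_mem (apply_mem_img hzR) (hwe ▸ apply_mem_img hwR)
  have := finite_of_le (hU.trans (normalizerIn_le_S T))
  have hUp := isPGroup_of_le hS (hU.trans (normalizerIn_le_S T))
  obtain ⟨e, -⟩ := realized_unique p hUp hsat hRn hRc hL₀.2.1
    (normal_img_of_isNormal p hL₀ hRn) (centralizer_img_le p hUp hL₀ hRn hRc) hreal hn' hC'
  exact ⟨e⟩

end CfsgLib.Fusion
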