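import Cfsg.Agent.Fusion.GroupSystem
import Cfsg.Agent.Fusion.Local

/-!
Saturation of `N_F^K(Q)` for a group `K` of automorphisms of `Q`, when `Q` is receptive and
`K ∩ Aut_S(Q)` is Sylow in `K ∩ Aut_F(Q)`; in particular of normalizer and centralizer systems.
-/

set_option autoImplicit false

open Cfsg Cfsg.FusionSystem

namespace CfsgLib.Fusion

universe u

variable {Ω : Type u} [Group Ω] {S : Subgroup Ω} {F : FusionSystem S}

/-- The automorphisms of `R` stabilizing `X`. -/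
def stabX (R X : Subgroup Ω) : Subgroup (MulAut R) where
  carrier := {α | ∀ x : R, ((α x : R) : Ω) ∈ X ↔ (x : Ω) ∈ X}
  one_mem' := fun _ => Iff.rfl
  mul_mem' := fun {a b} ha hb x => (ha (b x)).trans (hb x)
  inv_mem' := fun {a} ha x => by
    have h := ha (a⁻¹ x)
    rw [MulAut.apply_inv_self] at h
    exact h.symm

theorem mem_stabX {R X : Subgroup Ω} {α : MulAut R} :
    α ∈ stabX R X ↔ ∀ x : R, ((α x : R) : Ω) ∈ X ↔ (x : Ω) ∈ X := Iff.rfl

/-- Restriction to a stabilized subgroup. -/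
def resHom {R X : Subgroup Ω} (h : X ≤ R) : stabX R X →* MulAut X where
  toFun α :=
    { toFun := fun x => ⟨((α : MulAut R) ⟨x, h x.2⟩ : R), (α.2 ⟨x, h x.2⟩).2 x.2⟩
      invFun := fun x => ⟨(((α : MulAut R))⁻¹ ⟨x, h x.2⟩ : R),
        ((inv_mem α.2) ⟨x, h x.2⟩).2 x.2⟩
      left_inv := fun x => Subtype.ext (by simp)
      right_inv := fun x => Subtype.ext (by simp)
      map_mul' := fun x y => Subtype.ext (congrArg Subtype.val
        (map_mul (α : MulAut R) ⟨x, h x.2⟩ ⟨y, h y.2⟩) :) }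
  map_one' := MulEquiv.ext fun x => rfl
  map_mul' α β := MulEquiv.ext fun x => rfl

@[simp] theorem coe_resHom {R X : Subgroup Ω} (h : X ≤ R) (α : stabX R X) (x : X) :
    ((resHom h α x : X) : Ω) = (((α : MulAut R) ⟨x, h x.2⟩ : R) : Ω) := rfl

theorem resHom_mem_autGroup {R X : Subgroup Ω} (h : X ≤ R) (hR : R ≤ S) {α : stabX R X}
    (hα : (α : MulAut R) ∈ F.autGroup R) : resHom h α ∈ F.autGroup X :=
  (autGroup_carrier (h.trans hR)).2
    (restrict_mem_of_eq ((autGroup_carrier hR).1 hα) h fun _ => rfl)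

theorem card_ker_conjAut (K P : Subgroup Ω) :
    Nat.card (conjAut K P).ker = Nat.card (centralizerIn K P) :=
  Nat.card_congr
    { toFun := fun g => ⟨g.1.1, g.1.2.1, mem_ker_conjAut.1 g.2⟩
      invFun := fun g => ⟨⟨g.1, g.2.1, centralizer_le_normalizer' P g.2.2⟩,
        mem_ker_conjAut.2 g.2.2⟩
      left_inv := fun g => rfl
      right_inv := fun g => rfl }

theorem card_comap_of_le_range {G H : Type*} [Group G] [Group H] (f : G →* H) {U : Subgroup H}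
    (hU : U ≤ f.range) : Nat.card (U.comap f) = Nat.card U * Nat.card f.ker := by
  let g := f.subgroupComap U
  have hg : Function.Surjective g := fun ⟨y, hy⟩ => by
    obtain ⟨x, rfl⟩ := hU hy
    exact ⟨⟨x, hy⟩, rfl⟩
  have hk : Nat.card g.ker = Nat.card f.ker := Nat.card_congr
    { toFun := fun x => ⟨x.1.1, congrArg Subtype.val x.2⟩
      invFun := fun x => ⟨⟨x.1, show f x.1 ∈ U by rw [x.2]; exact one_mem _⟩, Subtype.ext x.2⟩
      left_inv := fun x => rfl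
      right_inv := fun x => rfl }
  rw [← hk, Subgroup.card_eq_card_quotient_mul_card_subgroup g.ker]
  congr 1
  exact Nat.card_congr (QuotientGroup.quotientKerEquivOfSurjective g hg).toEquiv

theorem mem_normalizer_sup [Finite S] {P Q : Subgroup Ω} (hP : P ≤ S) (hQ : Q ≤ S) {g : Ω}
    (h1 : g ∈ Subgroup.normalizer (P : Set Ω)) (h2 : g ∈ Subgroup.normalizer (Q : Set Ω)) :
    g ∈ Subgroup.normalizer ((P ⊔ Q : Subgroup Ω) : Set Ω) := by
  refine mem_normalizer_of_conj_mem (sup_le hP hQ) fun x hx => ?_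
  have hle : P ⊔ Q ≤ (P ⊔ Q).comap (MulAut.conj g).toMonoidHom := by
    refine sup_le (fun y hy => ?_) fun y hy => ?_
    · exact Subgroup.mem_sup_left ((Subgroup.mem_normalizer_iff.1 h1 y).1 hy)
    · exact Subgroup.mem_sup_right ((Subgroup.mem_normalizer_iff.1 h2 y).1 hy)
  exact hle hx

/-! ### The relative normalizer systems -/

/-- `T = N_S^K(Q)` and `E = N_F^K(Q)`. -/
structure IsKNorm (F : FusionSystem S) (Q : Subgroup Ω) (K : Subgroup (MulAut Q))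
    {T : Subgroup Ω} (E : FusionSystem T) : Prop where
  le : Q ≤ S
  mem : ∀ g : Ω, g ∈ T ↔ g ∈ S ∧ ∃ k ∈ K, ∀ q : Q, ((k q : Q) : Ω) = g * q * g⁻¹
  hom : ∀ (P : Subgroup Ω) (φ : P →* Ω), φ ∈ E.Hom P ↔
    φ ∈ F.Hom P ∧ P ≤ T ∧ (∀ x : P, φ x ∈ T) ∧ ∃ ψ ∈ F.Hom (P ⊔ Q),
      (∀ x : P, ψ (Subgroup.inclusion le_sup_left x) = φ x) ∧
        ∃ k ∈ K, ∀ q : Q, ψ (Subgroup.inclusion le_sup_right q) = ((k q : Q) : Ω)

variable {Q : Subgroup Ω} {K : Subgroup (MulAut Q)} {T : Subgroup Ω} {E : FusionSystem T}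

theorem IsKNorm.T_le (h : IsKNorm F Q K E) : T ≤ S := fun g hg => ((h.mem g).1 hg).1

theorem IsKNorm.mem_normalizer (h : IsKNorm F Q K E) {g : Ω} (hg : g ∈ T) :
    g ∈ Subgroup.normalizer (Q : Set Ω) := by
  obtain ⟨-, k, -, hk⟩ := (h.mem g).1 hg
  exact mem_normalizer_of_aut hk

variable (F Q K) in
/-- The automorphisms of `P ⊔ Q` in the system that stabilize `P` and act through `K` on `Q`. -/
def autR (P : Subgroup Ω) : Subgroup (MulAut ↥(P ⊔ Q)) :=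
  F.autGroup (P ⊔ Q) ⊓ stabX (P ⊔ Q) P ⊓
    (K.comap (resHom (le_sup_right : Q ≤ P ⊔ Q))).map (stabX (P ⊔ Q) Q).subtype

theorem mem_autR {P : Subgroup Ω} {α : MulAut ↥(P ⊔ Q)} :
    α ∈ autR F Q K P ↔ α ∈ F.autGroup (P ⊔ Q) ∧ α ∈ stabX (P ⊔ Q) P ∧
      ∃ k ∈ K, ∀ q : Q, ((α (Subgroup.inclusion le_sup_right q) : ↥(P ⊔ Q)) : Ω) = (k q : Q) := by
  constructor
  · rintro ⟨⟨h1, h2⟩, β, hβ, rfl⟩
    exact ⟨h1, h2, _, hβ, fun q => rfl⟩
  · rintro ⟨h1, h2, k, hk, hkq⟩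
    have h3 : α ∈ stabX (P ⊔ Q) Q := by
      intro x
      constructor
      · intro hx
        obtain ⟨q, hq⟩ := k.surjective ⟨_, hx⟩
        have e : α x = α (Subgroup.inclusion le_sup_right q) :=
          Subtype.ext (by rw [hkq, hq])
        rw [α.injective e]
        exact q.2
      · intro hx
        exact Set.mem_of_eq_of_mem (hkq ⟨x, hx⟩) (k ⟨x, hx⟩).2
    refine ⟨⟨h1, h2⟩, ⟨α, h3⟩, ?_, rfl⟩
    show resHom _ ⟨α, h3⟩ ∈ K
    rwa [show resHom (le_sup_right : Q ≤ P ⊔ Q) ⟨α, h3⟩ = k from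
      MulEquiv.ext fun q => Subtype.ext (hkq q)]

variable (S Q) in
/-- The automorphisms of `P ⊔ Q` induced by `N_T(P)`. -/
def indR (P : Subgroup Ω) : Subgroup (MulAut ↥(P ⊔ Q)) :=
  (((normalizerIn T P).subgroupOf (S ⊓ Subgroup.normalizer ((P ⊔ Q : Subgroup Ω) : Set Ω)))).map
    (conjAut S (P ⊔ Q))

section

variable [Finite S] (p : ℕ) [Fact p.Prime] (hS : IsPGroup p S)

theorem IsKNorm.normalizerIn_le (h : IsKNorm F Q K E) {P : Subgroup Ω} (hP : P ≤ T) :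
    normalizerIn T P ≤ S ⊓ Subgroup.normalizer ((P ⊔ Q : Subgroup Ω) : Set Ω) := fun g hg =>
  ⟨h.T_le hg.1, mem_normalizer_sup (hP.trans h.T_le) h.le hg.2 (h.mem_normalizer hg.1)⟩

theorem IsKNorm.centralizerIn_le (h : IsKNorm F Q K E) (P : Subgroup Ω) :
    centralizerIn S (P ⊔ Q) ≤ normalizerIn T P := by
  intro g hg
  refine ⟨(h.mem g).2 ⟨hg.1, 1, one_mem _, fun q => ?_⟩,
    centralizer_le_normalizer' P (Subgroup.mem_centralizer_iff.2 fun x hx =>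
      Subgroup.mem_centralizer_iff.1 hg.2 x (Subgroup.mem_sup_left hx))⟩
  have := Subgroup.mem_centralizer_iff.1 hg.2 q (Subgroup.mem_sup_right q.2)
  rw [MulAut.one_apply, ← this]
  group

theorem IsKNorm.card_normalizerIn' (h : IsKNorm F Q K E) {P : Subgroup Ω} (hP : P ≤ T) :
    Nat.card (normalizerIn T P) =
      Nat.card (indR S Q (T := T) P) * Nat.card (centralizerIn S (P ⊔ Q)) := by
  rw [← Nat.card_congr (Subgroup.subgroupOfEquivOfLe (h.normalizerIn_le hP)).toEquiv,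
    ← card_ker_conjAut]
  set N := (normalizerIn T P).subgroupOf
    (S ⊓ Subgroup.normalizer ((P ⊔ Q : Subgroup Ω) : Set Ω)) with hN
  have hk : (conjAut S (P ⊔ Q)).ker ≤ N := fun g hg =>
    h.centralizerIn_le P ⟨g.2.1, mem_ker_conjAut.1 hg⟩
  have e : (indR S Q (T := T) P).comap (conjAut S (P ⊔ Q)) = N :=
    Subgroup.comap_map_eq_self hk
  conv_lhs => rw [← e]
  exact card_comap_of_le_range _ (Subgroup.map_le_range _ _)

theorem IsKNorm.indR_le (h : IsKNorm F Q K E) {P : Subgroup Ω} (hP : P ≤ T) :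
    indR S Q (T := T) P ≤ autR F Q K P := by
  rintro _ ⟨g, hg, rfl⟩
  obtain ⟨-, k, hk, hkq⟩ := (h.mem g).1 hg.1
  refine mem_autR.2 ⟨autInducedBy_le_autGroup (sup_le (hP.trans h.T_le) h.le)
    (mem_autInducedBy.2 ⟨g, g.2.1, fun _ => rfl⟩), fun x => ?_, k, hk, fun q => (hkq q).symm⟩
  exact ((Subgroup.mem_normalizer_iff.1 hg.2) x).symm

include hS in
theorem IsKNorm.isPGroup_indR (_h : IsKNorm F Q K E) (P : Subgroup Ω) :
    IsPGroup p (indR S Q (T := T) P) := by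
  refine (isPGroup_autInducedBy hS (P ⊔ Q)).to_le ?_
  rintro _ ⟨g, -, rfl⟩
  exact mem_autInducedBy.2 ⟨g, g.2.1, fun _ => rfl⟩

variable (hF : F.IsSaturated p) (hQr : F.IsReceptive Q)
  (hQs : SylowIn p (autInducedBy S Q ⊓ K) (F.autGroup Q ⊓ K))

include hS hF hQr hQs in
/-- A subgroup maximal in its `E`-class for `|N_T(P)|` gives `P ⊔ Q` fully centralized with
`N_T(P)` inducing a Sylow subgroup of the stabilizer. -/
theorem IsKNorm.key (h : IsKNorm F Q K E) {P : Subgroup Ω} (hP : P ≤ T)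
    (hmax : ∀ P', E.IsConj P P' → Nat.card (normalizerIn T P') ≤ Nat.card (normalizerIn T P)) :
    F.IsFullyCentralized (P ⊔ Q) ∧ SylowIn p (indR S Q (T := T) P) (autR F Q K P) := by
  have hRS : P ⊔ Q ≤ S := sup_le (hP.trans h.T_le) h.le
  have := finite_of_le hRS
  have : Finite (MulAut ↥(P ⊔ Q)) := finite_mulAut
  have := finite_of_le h.le
  have : Finite (MulAut Q) := finite_mulAut
  obtain ⟨U, hU, hUs⟩ := exists_sylowIn (p := p) (h.isPGroup_indR p hS P) (h.indR_le hP)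
  have hUA : ∀ u ∈ U, u ∈ F.autGroup (P ⊔ Q) := fun u hu => (mem_autR.1 (hUs.1 hu)).1
  -- move `P ⊔ Q` to a fully normalized conjugate, `U` into the inner part
  obtain ⟨R1, ⟨φ₁, hφ₁, hr₁⟩, hfn⟩ := exists_fullyNormalized F hRS
  obtain ⟨hfa, hrec⟩ := good_of_fullyNormalized p hS hF hfn
  have hfc := fullyCentralized_of_fullyNormalized p hS hF hfn
  have := finite_of_le hfn.1
  have : Finite (MulAut R1) := finite_mulAut
  let e₁ := isoRange φ₁ (F.injective_of_mem hφ₁) hr₁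
  have hfa' : SylowIn p (autInducedBy S R1) (F.autGroup R1) :=
    ⟨autInducedBy_le_autGroup hfn.1, hfa.2⟩
  obtain ⟨c, hc, hcU⟩ := hfa'.exists_conj_le (hUs.isPGroup.map (MulAut.congr e₁).toMonoidHom)
    (by rintro _ ⟨u, hu, rfl⟩; exact pow_mem_autGroup_iso hRS hφ₁ e₁ (fun _ => rfl) (hUA u hu))
  let e : ↥(P ⊔ Q) ≃* R1 := e₁.trans c
  let φ : ↥(P ⊔ Q) →* Ω := R1.subtype.comp e.toMonoidHom
  have hφ : φ ∈ F.Hom (P ⊔ Q) :=
    comp_mem_of_eq hφ₁ ((autGroup_carrier hfn.1).1 hc) (fun x => hr₁.le ⟨x, rfl⟩) fun x => rfl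
  have hce : ∀ u, MulAut.congr e u = c * MulAut.congr e₁ u * c⁻¹ := fun u =>
    MulEquiv.ext fun x => rfl
  -- the elements of `S` inducing `U`
  let f : ↥(S ⊓ Subgroup.normalizer (R1 : Set Ω)) →* MulAut ↥(P ⊔ Q) :=
    (MulAut.congr e.symm).toMonoidHom.comp (conjAut S R1)
  have hfe : ∀ g x, e (f g x) = conjAut S R1 g (e x) := fun g x =>
    show e (e.symm (conjAut S R1 g (e.symm.symm x))) = _ by
      rw [MulEquiv.apply_symm_apply, MulEquiv.symm_symm]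
  have hUf : U ≤ f.range := by
    intro u hu
    have h1 := hcU _ ⟨u, hu, rfl⟩
    rw [MulEquiv.coe_toMonoidHom, ← hce, autInducedBy_eq_range] at h1
    obtain ⟨g, hg⟩ := h1
    refine ⟨g, MulEquiv.ext fun x => e.injective ?_⟩
    rw [hfe, hg]
    simp [MulAut.congr]
  let M : Subgroup Ω := (U.comap f).map (Subgroup.subtype _)
  have hcardM : Nat.card M = Nat.card U * Nat.card (centralizerIn S R1) := by
    rw [← Nat.card_congr (Subgroup.equivMapOfInjective (U.comap f) _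
      (Subgroup.subtype_injective _)).toEquiv, card_comap_of_le_range f hUf, ← card_ker_conjAut,
      show f.ker = (conjAut S R1).ker from Subgroup.ext fun g => by
          show MulAut.congr e.symm (conjAut S R1 g) = 1 ↔ conjAut S R1 g = 1
          exact map_eq_one_iff _ (MulAut.congr e.symm).injective]
  -- back to `Q`
  let Q1 : Subgroup Ω := (Q.subgroupOf (P ⊔ Q)).map φ
  have hQ1 : Q1 ≤ R1 := by rintro _ ⟨x, -, rfl⟩; exact (e x).2
  obtain ⟨χ, hχ, hχr, hχ1, -⟩ := exists_inv hφ (rfl : φ.range = φ.range)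
  have hQ1r : Q1 ≤ φ.range := Subgroup.map_le_range _ _
  let χQ : Q1 →* Ω := χ.comp (Subgroup.inclusion hQ1r)
  have hχQ : χQ ∈ F.Hom Q1 := restrict_mem hχ hQ1r
  have hχQe : ∀ (x : ↥(P ⊔ Q)) (hx : φ x ∈ Q1), χQ ⟨φ x, hx⟩ = x := fun x hx =>
    hχ1 x (hQ1r hx)
  have hQ1mem : ∀ q : Q, φ (Subgroup.inclusion le_sup_right q) ∈ Q1 := fun q =>
    ⟨_, q.2, rfl⟩
  have hχQr : χQ.range = Q := by
    ext y
    constructor
    · rintro ⟨⟨_, x, hx, rfl⟩, rfl⟩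
      rw [hχQe x ⟨x, hx, rfl⟩]
      exact hx
    · intro hy
      exact ⟨⟨_, hQ1mem ⟨y, hy⟩⟩, hχQe _ _⟩
  let eQ := isoRange χQ (F.injective_of_mem hχQ) hχQr
  have heQ : ∀ q : Q, eQ ⟨_, hQ1mem q⟩ = q := fun q => Subtype.ext (hχQe _ _)
  have hUQ : U ≤ stabX (P ⊔ Q) Q := fun u hu => by
    obtain ⟨-, β, -, rfl⟩ := hUs.1 hu
    exact β.2
  obtain ⟨m, hm, hmU⟩ := hQs.exists_conj_le
    ((hUs.isPGroup.of_equiv (Subgroup.subgroupOfEquivOfLe hUQ).symm).map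
      (resHom (le_sup_right : Q ≤ P ⊔ Q)))
    (by
      rintro _ ⟨u, hu, rfl⟩
      refine ⟨resHom_mem_autGroup _ hRS (hUA _ hu), ?_⟩
      obtain ⟨-, β, hβ, hβu⟩ := hUs.1 hu
      rw [show u = β from Subtype.ext hβu.symm]
      exact hβ)
  let ψ₁ : Q1 →* Ω := (Q.subtype.comp m.toMonoidHom).comp eQ.toMonoidHom
  have hψ₁ : ψ₁ ∈ F.Hom Q1 :=
    comp_mem_of_eq hχQ ((autGroup_carrier h.le).1 hm.1) (fun x => hχQr.le ⟨x, rfl⟩) fun x => rfl
  have hψ₁r : ψ₁.range = Q := exists_map_normalizer.range_eq_of_surjective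
    (m.toMonoidHom.comp eQ.toMonoidHom) (m.surjective.comp eQ.surjective)
  have hψ₁q : ∀ q : Q, ψ₁ ⟨_, hQ1mem q⟩ = ((m q : Q) : Ω) := fun q =>
    congrArg (fun r : Q => ((m r : Q) : Ω)) (heQ q)
  have hQ1S : Q1 ≤ S := hQ1.trans hfn.1
  have hMdata : ∀ g ∈ M, g ∈ S ∧ ∃ u ∈ U, ∀ x : ↥(P ⊔ Q), φ (u x) = g * φ x * g⁻¹ := by
    rintro _ ⟨g, hg, rfl⟩
    exact ⟨g.2.1, f g, hg, fun x => congrArg Subtype.val (hfe g x)⟩
  have hMext : M ≤ extender S Q1 ψ₁ := by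
    intro g hg
    obtain ⟨hgS, u, hu, hux⟩ := hMdata g hg
    have h1 := (hmU (resHom le_sup_right ⟨u, hUQ hu⟩) ⟨⟨u, hUQ hu⟩, hu, rfl⟩).1
    obtain ⟨s, hs, hsq⟩ := mem_autInducedBy.1 h1
    have hconj : ∀ q : Q, g * φ (Subgroup.inclusion le_sup_right q) * g⁻¹ =
        φ (Subgroup.inclusion le_sup_right (resHom le_sup_right ⟨u, hUQ hu⟩ q)) := fun q =>
      (hux _).symm.trans (apply_congr φ rfl)
    refine mem_extender_of ⟨hgS, mem_normalizer_of_conj_mem hQ1S ?_⟩ hs fun y hy => ?_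
    · rintro _ ⟨x, hx, rfl⟩
      rw [show x = Subgroup.inclusion le_sup_right (⟨x, hx⟩ : Q) from rfl, hconj]
      exact hQ1mem _
    · obtain ⟨x, hx, hxy⟩ := y.2
      have ey : y = ⟨_, hQ1mem ⟨x, hx⟩⟩ := Subtype.ext (hxy.symm.trans (apply_congr φ rfl))
      subst ey
      rw [apply_congr ψ₁ (x := ⟨_, hy⟩) (y := ⟨_, hQ1mem _⟩) (hconj ⟨x, hx⟩), hψ₁q, hψ₁q]
      have := hsq (m ⟨x, hx⟩)
      simp only [MulAut.mul_apply, MulAut.inv_apply_self] at this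
      exact this
  have hPM : ∀ x : P, φ (Subgroup.inclusion le_sup_left x) ∈ M := by
    intro x
    have hxR : φ (Subgroup.inclusion le_sup_left x) ∈ R1 := (e _).2
    refine ⟨⟨_, hfn.1 hxR, Subgroup.le_normalizer hxR⟩, ?_, rfl⟩
    refine Subgroup.mem_comap.2 (hU ⟨⟨(x : Ω), hP.trans h.T_le x.2,
      Subgroup.le_normalizer (Subgroup.mem_sup_left x.2)⟩,
      ⟨hP x.2, Subgroup.le_normalizer x.2⟩, ?_⟩)
    refine MulEquiv.ext fun y => e.injective ?_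
    rw [hfe]
    refine Subtype.ext ?_
    show φ _ = φ _ * φ y * (φ _)⁻¹
    rw [← map_inv, ← map_mul, ← map_mul]
    exact apply_congr φ rfl
  have hR1ext : ∀ x : ↥(P ⊔ Q), φ x ∈ extender S Q1 ψ₁ := by
    intro x
    have hle : P ⊔ Q ≤ ((extender S Q1 ψ₁).comap φ).map (P ⊔ Q).subtype := sup_le
      (fun y hy => ⟨⟨y, Subgroup.mem_sup_left hy⟩, hMext (hPM ⟨y, hy⟩), rfl⟩)
      fun y hy => ⟨⟨y, Subgroup.mem_sup_right hy⟩, le_extender hψ₁ (hQ1mem ⟨y, hy⟩), rfl⟩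
    obtain ⟨y, hy, hyx⟩ := hle x.2
    rwa [show y = x from Subtype.ext hyx] at hy
  obtain ⟨θ, hθ, hθe⟩ := hQr.2 Q1 ψ₁ hψ₁ hψ₁r
  let Φ : ↥(P ⊔ Q) →* Ω := θ.comp (φ.codRestrict _ hR1ext)
  have hΦ : Φ ∈ F.Hom (P ⊔ Q) := F.comp_mem hφ hθ hR1ext
  have hΦQ : ∀ q : Q, Φ (Subgroup.inclusion le_sup_right q) = ((m q : Q) : Ω) := fun q =>
    (hθe _ (hQ1mem q) _).trans (hψ₁q q)
  -- images of `M` normalize the image of `P` and lie in `T`
  have hMact : ∀ (g : Ω) (hg : g ∈ M), ∃ u ∈ U, ∀ x : ↥(P ⊔ Q),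
      θ ⟨g, hMext hg⟩ * Φ x * (θ ⟨g, hMext hg⟩)⁻¹ = Φ (u x) := by
    intro g hg
    obtain ⟨-, u, hu, hux⟩ := hMdata g hg
    refine ⟨u, hu, fun x => ?_⟩
    show θ ⟨g, hMext hg⟩ * θ ⟨φ x, hR1ext x⟩ * (θ ⟨g, hMext hg⟩)⁻¹ = θ ⟨φ (u x), hR1ext _⟩
    rw [← map_inv, ← map_mul, ← map_mul]
    exact apply_congr θ (hux x).symm
  have hMT : ∀ (g : Ω) (hg : g ∈ M), θ ⟨g, hMext hg⟩ ∈ T := by
    intro g hg
    obtain ⟨u, hu, hux⟩ := hMact g hg
    obtain ⟨-, -, k, hk, hkq⟩ := mem_autR.1 (hUs.1 hu)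
    refine (h.mem _).2 ⟨apply_mem_S hθ _, m * k * m⁻¹, mul_mem (mul_mem hm.2 hk) (inv_mem hm.2),
      fun q => ?_⟩
    obtain ⟨q, rfl⟩ := m.surjective q
    simp only [MulAut.mul_apply, MulAut.inv_apply_self]
    rw [← hΦQ q, hux, ← hΦQ]
    exact apply_congr Φ (hkq q).symm
  let φP : P →* Ω := Φ.comp (Subgroup.inclusion le_sup_left)
  have hφP : φP ∈ E.Hom P := (h.hom P φP).2 ⟨restrict_mem hΦ le_sup_left, hP,
    fun x => hMT _ (hPM x), Φ, hΦ, fun x => rfl, m, hm.2, hΦQ⟩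
  have hMN : ∀ (g : Ω) (hg : g ∈ M), θ ⟨g, hMext hg⟩ ∈ normalizerIn T φP.range := by
    intro g hg
    refine ⟨hMT g hg, mem_normalizer_of_conj_mem (S := S)
      (range_le_S (restrict_mem hΦ le_sup_left)) ?_⟩
    rintro _ ⟨x, rfl⟩
    obtain ⟨u, hu, hux⟩ := hMact g hg
    have hP' := ((mem_autR.1 (hUs.1 hu)).2.1 (Subgroup.inclusion le_sup_left x)).2 x.2
    exact ⟨⟨_, hP'⟩, (apply_congr Φ rfl).trans (hux _).symm⟩
  have := finite_of_le h.T_le
  have h1 : Nat.card M ≤ Nat.card (normalizerIn T φP.range) := by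
    have := finite_of_le (normalizerIn_le_S (S := T) φP.range)
    refine Nat.card_le_card_of_injective (fun g : M => ⟨_, hMN g g.2⟩) fun a b hab => ?_
    have := F.injective_of_mem hθ (congrArg Subtype.val hab)
    exact Subtype.ext (congrArg Subtype.val this :)
  have h2 := hmax _ ⟨φP, hφP, rfl⟩
  rw [hcardM] at h1
  rw [h.card_normalizerIn' hP] at h2
  have hUle : Nat.card (indR S Q (T := T) P) ≤ Nat.card U :=
    Nat.card_le_card_of_injective _ (Subgroup.inclusion_injective hU)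
  have hCle : Nat.card (centralizerIn S (P ⊔ Q)) ≤ Nat.card (centralizerIn S R1) :=
    hfc.2 _ (isConj_symm ⟨φ₁, hφ₁, hr₁⟩)
  have h12 := h1.trans h2
  have hUpos : 0 < Nat.card (indR S Q (T := T) P) := Nat.card_pos
  have := finite_of_le (centralizerIn_le_S (S := S) (P ⊔ Q))
  have hCpos : 0 < Nat.card (centralizerIn S (P ⊔ Q)) := Nat.card_pos
  have hU' : Nat.card U = Nat.card (indR S Q (T := T) P) := by
    refine le_antisymm ?_ hUle
    by_contra hlt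
    exact absurd h12 (not_le.2 ((Nat.mul_lt_mul_of_pos_right (not_le.1 hlt) hCpos).trans_le
      (Nat.mul_le_mul_left _ hCle)))
  refine ⟨⟨hRS, fun R' hR' => ?_⟩, ?_⟩
  · rw [hU'] at h12
    have hC := le_of_mul_le_mul_left h12 hUpos
    exact (hfc.2 R' (isConj_trans (isConj_symm ⟨φ₁, hφ₁, hr₁⟩) hR')).trans hC
  · rwa [Subgroup.eq_of_le_of_card_ge hU hU'.le]

theorem IsKNorm.range_ext (h : IsKNorm F Q K E) {P P₀ : Subgroup Ω} {φ₀ : P₀ →* Ω}
    (hr : φ₀.range = P) {ψ₀ : ↥(P₀ ⊔ Q) →* Ω}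
    (hψe : ∀ x : P₀, ψ₀ (Subgroup.inclusion le_sup_left x) = φ₀ x) {k₀ : MulAut Q}
    (hk₀q : ∀ q : Q, ψ₀ (Subgroup.inclusion le_sup_right q) = ((k₀ q : Q) : Ω)) :
    ψ₀.range = P ⊔ Q := by
  have := h.le
  rw [range_eq_sup]
  congr 1
  · rw [← hr]
    exact (map_subgroupOf_congr le_sup_left le_rfl fun x hx => hψe ⟨x, hx⟩).trans
      (map_subgroupOf_self φ₀)
  · ext y
    rw [mem_map_subgroupOf]
    constructor
    · rintro ⟨x, hx, hxQ, rfl⟩
      exact Set.mem_of_eq_of_mem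
        ((apply_congr ψ₀ rfl).trans (hk₀q ⟨x, hxQ⟩)) (k₀ ⟨x, hxQ⟩).2
    · intro hy
      refine ⟨_, Subgroup.mem_sup_right (k₀⁻¹ ⟨y, hy⟩).2, (k₀⁻¹ ⟨y, hy⟩).2, ?_⟩
      exact (hk₀q (k₀⁻¹ ⟨y, hy⟩)).trans (by simp)

include hS hF in
theorem IsKNorm.receptive (h : IsKNorm F Q K E) {P : Subgroup Ω} (hP : P ≤ T)
    (hfc : F.IsFullyCentralized (P ⊔ Q))
    (hsyl : SylowIn p (indR S Q (T := T) P) (autR F Q K P)) : E.IsReceptive P := by
  refine ⟨hP, fun P₀ φ₀ hφ₀ hr => ?_⟩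
  obtain ⟨-, hP₀, -, ψ₀, hψ₀, hψe, k₀, hk₀, hk₀q⟩ := (h.hom P₀ φ₀).1 hφ₀
  have hR₀S : P₀ ⊔ Q ≤ S := le_of_mem_hom hψ₀
  have hRS : P ⊔ Q ≤ S := hfc.1
  have := finite_of_le hRS
  have : Finite (MulAut ↥(P ⊔ Q)) := finite_mulAut
  let e₀ := isoRange ψ₀ (F.injective_of_mem hψ₀) (h.range_ext hr hψe hk₀q)
  set N := extender T P₀ φ₀ with hN
  have hNle : N ≤ S ⊓ Subgroup.normalizer ((P₀ ⊔ Q : Subgroup Ω) : Set Ω) :=
    (extender_le_normalizerIn P₀ φ₀).trans (h.normalizerIn_le hP₀)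
  let f : N →* MulAut ↥(P ⊔ Q) := (MulAut.congr e₀).toMonoidHom.comp
    ((conjAut S (P₀ ⊔ Q)).comp (Subgroup.inclusion hNle))
  have hfe : ∀ g x, f g (e₀ x) = e₀ (conjAut S (P₀ ⊔ Q) (Subgroup.inclusion hNle g) x) :=
    fun g x => by simp [f, MulAut.congr]
  have hPP₀ : ∀ x : ↥(P₀ ⊔ Q), ((e₀ x : ↥(P ⊔ Q)) : Ω) ∈ P ↔ (x : Ω) ∈ P₀ := by
    intro x
    constructor
    · intro hx
      obtain ⟨y, hy⟩ := hr.ge hx
      have : Subgroup.inclusion le_sup_left y = x :=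
        F.injective_of_mem hψ₀ ((hψe y).trans hy)
      rw [← this]
      exact y.2
    · intro hx
      exact hr.le ⟨⟨x, hx⟩, (hψe ⟨x, hx⟩).symm.trans (apply_congr ψ₀ rfl)⟩
  have hVA : f.range ≤ autR F Q K P := by
    rintro _ ⟨g, rfl⟩
    refine mem_autR.2 ⟨pow_mem_autGroup_iso hR₀S hψ₀ e₀ (fun _ => rfl)
      (autInducedBy_le_autGroup hR₀S (mem_autInducedBy.2 ⟨g, (hNle g.2).1, fun _ => rfl⟩)),
      fun x => ?_, ?_⟩
    · obtain ⟨x, rfl⟩ := e₀.surjective x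
      rw [hfe, hPP₀, hPP₀]
      exact ((Subgroup.mem_normalizer_iff.1 (extender_le_normalizerIn P₀ φ₀ g.2).2) x).symm
    · obtain ⟨-, kg, hkg, hkgq⟩ := (h.mem g).1 (extender_le_normalizerIn P₀ φ₀ g.2).1
      refine ⟨k₀ * kg * k₀⁻¹, mul_mem (mul_mem hk₀ hkg) (inv_mem hk₀), fun q => ?_⟩
      obtain ⟨q, rfl⟩ := k₀.surjective q
      simp only [MulAut.mul_apply, MulAut.inv_apply_self]
      rw [show Subgroup.inclusion le_sup_right (k₀ q) = e₀ (Subgroup.inclusion le_sup_right q)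
        from Subtype.ext (hk₀q q).symm, hfe]
      exact (apply_congr ψ₀ (y := Subgroup.inclusion le_sup_right (kg q))
        (hkgq q).symm).trans (hk₀q _)
  -- restriction to `P`
  let r : autR F Q K P →* MulAut P := (resHom (le_sup_left : P ≤ P ⊔ Q)).comp
    (Subgroup.inclusion fun α hα => (mem_autR.1 hα).2.1)
  let M : Subgroup (MulAut ↥(P ⊔ Q)) :=
    ((((indR S Q (T := T) P).subgroupOf (autR F Q K P)).map r).comap r).map (Subgroup.subtype _)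
  have hIM : indR S Q (T := T) P ≤ M := fun s hs =>
    ⟨⟨s, h.indR_le hP hs⟩, ⟨⟨s, h.indR_le hP hs⟩, hs, rfl⟩, rfl⟩
  have hMsyl : SylowIn p (indR S Q (T := T) P) M := by
    obtain ⟨U, hU, hUs⟩ := exists_sylowIn (p := p) (h.isPGroup_indR p hS P) hIM
    rwa [hsyl.eq_of_le hUs.isPGroup hU (hUs.1.trans (Subgroup.map_subtype_le _))] at hUs
  have hVM : f.range ≤ M := by
    rintro _ ⟨g, rfl⟩
    have hgA := hVA ⟨g, rfl⟩
    obtain ⟨hgT, hgN, s, hs, hsx⟩ := mem_extender.1 g.2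
    have hsN : s ∈ normalizerIn T P := by
      refine ⟨hs, mem_normalizer_of_conj_mem (S := S) (le_sup_left.trans hRS) fun y hy => ?_⟩
      obtain ⟨x, rfl⟩ := hr.ge hy
      rw [← hsx x ((Subgroup.mem_normalizer_iff.1 hgN x).1 x.2)]
      exact hr.le ⟨_, rfl⟩
    have hsN' := h.normalizerIn_le hP hsN
    refine ⟨⟨_, hgA⟩, ⟨⟨_, h.indR_le hP ⟨⟨s, hsN'⟩, hsN, rfl⟩⟩, ⟨⟨s, hsN'⟩, hsN, rfl⟩,
      MulEquiv.ext fun y => Subtype.ext ?_⟩, rfl⟩
    obtain ⟨x, hx⟩ := hr.ge y.2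
    have hxP := (Subgroup.mem_normalizer_iff.1 hgN x).1 x.2
    show s * (y : Ω) * s⁻¹ = ((f g (Subgroup.inclusion le_sup_left y) : ↥(P ⊔ Q)) : Ω)
    rw [show Subgroup.inclusion le_sup_left y = e₀ (Subgroup.inclusion le_sup_left x) from
      Subtype.ext (hx.symm.trans (hψe x).symm), hfe, ← hx, ← hsx x hxP, ← hψe ⟨_, hxP⟩]
    exact apply_congr ψ₀ rfl
  have hVp : IsPGroup p f.range :=
    (isPGroup_of_le hS (hNle.trans inf_le_left)).of_surjective f.rangeRestrict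
      f.rangeRestrict_surjective
  obtain ⟨m, hm, hmV⟩ := hMsyl.exists_conj_le hVp hVM
  obtain ⟨m', ⟨s, hs, hsm⟩, hmm'⟩ := hm
  change (m' : MulAut ↥(P ⊔ Q)) = m at hmm'
  subst hmm'
  -- `b` fixes `P`
  let b : autR F Q K P := s⁻¹ * m'
  have hb1 : r b = 1 := by rw [map_mul, map_inv, hsm, inv_mul_cancel]
  have hbV : ∀ v ∈ f.range, (b : MulAut ↥(P ⊔ Q)) * v * (b : MulAut ↥(P ⊔ Q))⁻¹ ∈
      indR S Q (T := T) P := by
    intro v hv
    have := mul_mem (mul_mem (inv_mem (show (s : MulAut ↥(P ⊔ Q)) ∈ _ from hs)) (hmV v hv)) hs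
    simpa [b, mul_assoc] using this
  obtain ⟨hbA, -, kb, hkb, hkbq⟩ := mem_autR.1 b.2
  let ψ₁ : ↥(P₀ ⊔ Q) →* Ω :=
    ((P ⊔ Q).subtype.comp (b : MulAut ↥(P ⊔ Q)).toMonoidHom).comp e₀.toMonoidHom
  have hψ₁ : ψ₁ ∈ F.Hom (P₀ ⊔ Q) := comp_mem_of_eq hψ₀ ((autGroup_carrier hRS).1 hbA)
    (fun x => (e₀ x).2) fun x => rfl
  have hψ₁r : ψ₁.range = P ⊔ Q := exists_map_normalizer.range_eq_of_surjective
    ((b : MulAut ↥(P ⊔ Q)).toMonoidHom.comp e₀.toMonoidHom)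
    ((b : MulAut ↥(P ⊔ Q)).surjective.comp e₀.surjective)
  obtain ⟨ψ, hψ, hψ'⟩ :=
    (receptive_of_fullyCentralized p hS hF hfc).2 _ ψ₁ hψ₁ hψ₁r
  have hNext : N ≤ extender S (P₀ ⊔ Q) ψ₁ := by
    intro g hg
    obtain ⟨t, -, ht⟩ := hbV (f ⟨g, hg⟩) ⟨_, rfl⟩
    refine mem_extender_of (hNle hg) t.2.1 fun x hx => ?_
    have h1 := congrArg (fun a : MulAut ↥(P ⊔ Q) =>
      ((a ((b : MulAut ↥(P ⊔ Q)) (e₀ x)) : ↥(P ⊔ Q)) : Ω)) ht
    simp only [MulAut.mul_apply, MulAut.inv_apply_self, hfe] at h1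
    exact (apply_congr ψ₁ rfl).trans h1.symm
  have hle : N ⊔ Q ≤ extender S (P₀ ⊔ Q) ψ₁ :=
    sup_le hNext (le_sup_right.trans (le_extender hψ₁))
  have hψQ : ∀ (q : Q) (hq : (q : Ω) ∈ extender S (P₀ ⊔ Q) ψ₁),
      ψ ⟨q, hq⟩ = (((kb * k₀) q : Q) : Ω) := by
    intro q hq
    rw [hψ' q (Subgroup.mem_sup_right q.2) hq]
    show (((b : MulAut ↥(P ⊔ Q)) (e₀ (Subgroup.inclusion le_sup_right q)) : ↥(P ⊔ Q)) : Ω) = _
    rw [show e₀ (Subgroup.inclusion le_sup_right q) = Subgroup.inclusion le_sup_right (k₀ q) from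
      Subtype.ext (hk₀q q)]
    exact hkbq _
  refine ⟨ψ.comp (Subgroup.inclusion hNext), (h.hom _ _).2 ⟨restrict_mem hψ hNext,
    extender_le_S P₀ φ₀, fun g => ?_, ψ.comp (Subgroup.inclusion hle),
    restrict_mem hψ hle, fun x => rfl, kb * k₀, mul_mem hkb hk₀,
    fun q => hψQ q (hle (Subgroup.mem_sup_right q.2))⟩, fun x hxP hxN => ?_⟩
  · obtain ⟨-, kg, hkg, hkgq⟩ := (h.mem g).1 (extender_le_S P₀ φ₀ g.2)
    refine (h.mem _).2 ⟨apply_mem_S hψ _, kb * k₀ * kg * (kb * k₀)⁻¹,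
      mul_mem (mul_mem (mul_mem hkb hk₀) hkg) (inv_mem (mul_mem hkb hk₀)), fun q => ?_⟩
    obtain ⟨q, rfl⟩ := (kb * k₀).surjective q
    rw [MulAut.mul_apply, MulAut.mul_apply, MulAut.inv_apply_self,
      ← hψQ (kg q) (hle (Subgroup.mem_sup_right (kg q).2)),
      ← hψQ q (hle (Subgroup.mem_sup_right q.2))]
    show _ = ψ (Subgroup.inclusion hNext g) * _ * (ψ (Subgroup.inclusion hNext g))⁻¹
    rw [← map_inv, ← map_mul, ← map_mul]
    exact apply_congr ψ (hkgq q)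
  · show ψ ⟨x, _⟩ = _
    rw [hψ' x (Subgroup.mem_sup_left hxP) _]
    have hy : φ₀ ⟨x, hxP⟩ ∈ P := hr.le ⟨_, rfl⟩
    show (((b : MulAut ↥(P ⊔ Q)) (e₀ (Subgroup.inclusion le_sup_left ⟨x, hxP⟩)) :
      ↥(P ⊔ Q)) : Ω) = _
    rw [show e₀ (Subgroup.inclusion le_sup_left ⟨x, hxP⟩) =
      Subgroup.inclusion le_sup_left (⟨_, hy⟩ : P) from Subtype.ext (hψe _)]
    exact congrArg (fun a : MulAut P => ((a ⟨_, hy⟩ : P) : Ω)) hb1

theorem IsKNorm.fullyAutomized (h : IsKNorm F Q K E) {P : Subgroup Ω} (hP : P ≤ T)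
    (hsyl : SylowIn p (indR S Q (T := T) P) (autR F Q K P)) : E.IsFullyAutomized p P := by
  have hRS : P ⊔ Q ≤ S := sup_le (hP.trans h.T_le) h.le
  have := finite_of_le hRS
  have : Finite (MulAut ↥(P ⊔ Q)) := finite_mulAut
  have := finite_of_le (hP.trans h.T_le)
  have : Finite (MulAut P) := finite_mulAut
  have hmem : ∀ α : autR F Q K P, resHom (le_sup_left : P ≤ P ⊔ Q)
      ⟨α, (mem_autR.1 α.2).2.1⟩ ∈ E.autGroup P := by
    intro α
    obtain ⟨hα, hαP, k, hk, hkq⟩ := mem_autR.1 α.2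
    refine (autGroup_carrier hP).2 ((h.hom _ _).2 ⟨?_, hP, fun x => hP ?_,
      _, (autGroup_carrier hRS).1 hα, fun x => rfl, k, hk, hkq⟩)
    · exact (autGroup_carrier (hP.trans h.T_le)).1 (resHom_mem_autGroup _ hRS hα)
    · exact (resHom (le_sup_left : P ≤ P ⊔ Q) ⟨(α : MulAut ↥(P ⊔ Q)), hαP⟩ x).2
  let r : autR F Q K P →* E.autGroup P := ((resHom (le_sup_left : P ≤ P ⊔ Q)).comp
    (Subgroup.inclusion fun α hα => (mem_autR.1 hα).2.1)).codRestrict _ hmem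
  have hr : Function.Surjective r := by
    rintro ⟨a, ha⟩
    obtain ⟨-, -, -, ψ, hψ, hψe, k, hk, hkq⟩ := (h.hom _ _).1 ((autGroup_carrier hP).1 ha)
    have hψr := h.range_ext (exists_map_normalizer.range_eq_of_surjective a.toMonoidHom a.surjective)
      hψe hkq
    refine ⟨⟨_, mem_autR.2 ⟨autOfRange_mem hψ hψr, fun x => ?_, k, hk,
      fun q => (coe_autOfRange _ (F.injective_of_mem hψ) hψr _).trans (hkq q)⟩⟩,
      Subtype.ext (MulEquiv.ext fun x => Subtype.ext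
        ((coe_autOfRange _ (F.injective_of_mem hψ) hψr _).trans (hψe x)))⟩
    rw [coe_autOfRange]
    constructor
    · intro hx
      obtain ⟨y, hy⟩ := a.surjective ⟨_, hx⟩
      have : Subgroup.inclusion le_sup_left y = x :=
        F.injective_of_mem hψ ((hψe y).trans (congrArg Subtype.val hy))
      rw [← this]
      exact y.2
    · intro hx
      exact Set.mem_of_eq_of_mem ((apply_congr ψ rfl).trans (hψe ⟨x, hx⟩)) (a ⟨x, hx⟩).2
  obtain ⟨-, R, hR⟩ := hsyl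
  refine ⟨hP, R.mapSurjective hr, ?_⟩
  rw [Sylow.coe_mapSurjective, hR]
  ext ⟨a, ha⟩
  constructor
  · rintro ⟨α, ⟨g, hg, hgα⟩, hαa⟩
    refine mem_autInducedBy.2 ⟨g, hg.1, fun x => ?_⟩
    have h1 := congrArg (fun b : E.autGroup P => (((b : MulAut P) x : P) : Ω)) hαa
    refine h1.symm.trans ?_
    show (((α : MulAut ↥(P ⊔ Q)) (Subgroup.inclusion le_sup_left x) : ↥(P ⊔ Q)) : Ω) = _
    rw [show (α : MulAut ↥(P ⊔ Q)) = conjAut S (P ⊔ Q) g from hgα.symm]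
    rfl
  · intro ha'
    obtain ⟨g, hg, hga⟩ := mem_autInducedBy.1 ha'
    have hgN : g ∈ normalizerIn T P := ⟨hg, mem_normalizer_of_aut hga⟩
    refine ⟨⟨_, h.indR_le hP ⟨⟨g, h.normalizerIn_le hP hgN⟩, hgN, rfl⟩⟩,
      ⟨⟨g, h.normalizerIn_le hP hgN⟩, hgN, rfl⟩, ?_⟩
    exact Subtype.ext (MulEquiv.ext fun x => Subtype.ext (hga x).symm)

include hS hF hQr hQs in
/-- **Saturation of `N_F^K(Q)`.** -/
theorem IsKNorm.isSaturated (h : IsKNorm F Q K E) : E.IsSaturated p := by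
  have := finite_of_le h.T_le
  intro P hP
  obtain ⟨P', hP', hmax⟩ :=
    exists_conj_max (F := E) (fun R => Nat.card (normalizerIn T R)) hP
  have hP'T := IsConj.le_right hP'
  obtain ⟨hfc, hsyl⟩ := h.key p hS hF hQr hQs hP'T hmax
  exact ⟨P', hP', h.fullyAutomized p hP'T hsyl, h.receptive p hS hF hP'T hfc hsyl⟩

end

/-! ### Normalizer and centralizer systems -/

theorem isKNorm_normalizer {E : FusionSystem (normalizerIn S Q)} (hQ : Q ≤ S)
    (hE : F.IsNormalizerSystem Q E) : IsKNorm F Q ⊤ E where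
  le := hQ
  mem g := by
    constructor
    · intro hg
      exact ⟨hg.1, conjAut S Q ⟨g, hg⟩, trivial, fun q => rfl⟩
    · rintro ⟨hg, k, -, hk⟩
      exact ⟨hg, mem_normalizer_of_aut hk⟩
  hom P φ := by
    rw [hE P]
    constructor
    · rintro ⟨h1, h2, h3, ψ, hψ, he, hm⟩
      have hr : (ψ.comp (Subgroup.inclusion (le_sup_right : Q ≤ P ⊔ Q))).range = Q := by
        rw [range_restrict ψ le_sup_right]
        exact hm
      exact ⟨h1, h2, h3, ψ, hψ, he,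
        autOfRange _ (F.injective_of_mem (restrict_mem hψ le_sup_right)) hr, trivial,
        fun q => (coe_autOfRange _ _ hr q).symm⟩
    · rintro ⟨h1, h2, h3, ψ, hψ, he, k, -, hk⟩
      refine ⟨h1, h2, h3, ψ, hψ, he, ?_⟩
      ext y
      rw [mem_map_subgroupOf]
      constructor
      · rintro ⟨x, hx, hxQ, rfl⟩
        exact Set.mem_of_eq_of_mem ((apply_congr ψ rfl).trans (hk ⟨x, hxQ⟩)) (k _).2
      · intro hy
        exact ⟨_, Subgroup.mem_sup_right (k⁻¹ ⟨y, hy⟩).2, (k⁻¹ ⟨y, hy⟩).2,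
          (hk _).trans (by simp)⟩

theorem isKNorm_centralizer {E : FusionSystem (centralizerIn S Q)} (hQ : Q ≤ S)
    (hE : F.IsCentralizerSystem Q E) : IsKNorm F Q ⊥ E where
  le := hQ
  mem g := by
    constructor
    · intro hg
      exact ⟨hg.1, 1, one_mem _, fun q => (conj_eq_of_mem_centralizerIn hg q.2).symm⟩
    · rintro ⟨hg, k, hk, hkq⟩
      refine mem_centralizerIn.2 ⟨hg, fun x hx => ?_⟩
      have := hkq ⟨x, hx⟩
      rw [Subgroup.mem_bot.1 hk] at this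
      exact (mul_inv_eq_iff_eq_mul.1 this.symm).symm
  hom P φ := by
    rw [hE P]
    constructor
    · rintro ⟨h1, h2, h3, ψ, hψ, he, hm⟩
      exact ⟨h1, h2, h3, ψ, hψ, he, 1, one_mem _, hm⟩
    · rintro ⟨h1, h2, h3, ψ, hψ, he, k, hk, hkq⟩
      rw [Subgroup.mem_bot.1 hk] at hkq
      exact ⟨h1, h2, h3, ψ, hψ, he, hkq⟩

/-- The normalizer system of a fully normalized subgroup is saturated. -/
theorem normalizerSystem_saturated [Finite S] (p : ℕ) [Fact p.Prime] (hS : IsPGroup p S)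
    (hF : F.IsSaturated p) (hQ : F.IsFullyNormalized Q) {E : FusionSystem (normalizerIn S Q)}
    (hE : F.IsNormalizerSystem Q E) : E.IsSaturated p := by
  obtain ⟨hfa, hr⟩ := good_of_fullyNormalized p hS hF hQ
  refine (isKNorm_normalizer hQ.1 hE).isSaturated p hS hF hr ?_
  rw [inf_top_eq, inf_top_eq]
  exact ⟨autInducedBy_le_autGroup hQ.1, hfa.2⟩

/-- The centralizer system of a fully centralized subgroup is saturated. -/
theorem centralizerSystem_saturated [Finite S] (p : ℕ) [Fact p.Prime] (hS : IsPGroup p S)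
    (hF : F.IsSaturated p) (hQ : F.IsFullyCentralized Q) {E : FusionSystem (centralizerIn S Q)}
    (hE : F.IsCentralizerSystem Q E) : E.IsSaturated p := by
  refine (isKNorm_centralizer hQ.1 hE).isSaturated p hS hF
    (receptive_of_fullyCentralized p hS hF hQ) ?_
  rw [inf_bot_eq, inf_bot_eq]
  refine ⟨le_rfl, ?_⟩
  obtain ⟨R, hR⟩ := (IsPGroup.of_bot (p := p) (G := ↥(⊥ : Subgroup (MulAut Q)))).exists_le_sylow
  exact ⟨R, Subsingleton.elim _ _⟩

end CfsgLib.Fusion
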