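import Cfsg.Agent.Fusion.Alperin
import Cfsg.Agent.Fusion.Local

/-!
Criteria for a subgroup to be normal or central in a saturated fusion system.
-/

set_option autoImplicit false

open Cfsg Cfsg.FusionSystem
open scoped commutatorElement

namespace CfsgLib.Fusion

variable {Ω : Type*} [Group Ω] {S : Subgroup Ω} {F : FusionSystem S}

/-! ### Automorphisms stabilizing a chain -/

theorem pow_mul_fix {P : Type*} [Group P] (γ : MulAut P) {B C : Subgroup P} {N : ℕ}
    (hB : ∀ x ∈ B, x⁻¹ * γ x ∈ C) (hC : ∀ x ∈ C, γ x ∈ C) (hfix : ∀ c ∈ C, (γ ^ N) c = c) :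
    ∀ x ∈ B, (γ ^ (N * Nat.card C)) x = x := by
  intro x hx
  have h1 : ∀ n : ℕ, x⁻¹ * (γ ^ n) x ∈ C := by
    intro n
    induction n with
    | zero => simp
    | succ n ih =>
      have e : x⁻¹ * (γ ^ (n + 1)) x = (x⁻¹ * γ x) * γ (x⁻¹ * (γ ^ n) x) := by
        rw [pow_succ', MulAut.mul_apply, map_mul, map_inv]; group
      rw [e]
      exact C.mul_mem (hB x hx) (hC _ ih)
  have h2 : ∀ m : ℕ, (γ ^ (N * m)) x = x * (x⁻¹ * (γ ^ N) x) ^ m := by
    intro m
    induction m with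
    | zero => simp
    | succ m ih =>
      rw [Nat.mul_succ, add_comm, pow_add, MulAut.mul_apply, ih, map_mul, map_pow,
        hfix _ (h1 N), pow_succ', ← mul_assoc x, mul_inv_cancel_left]
  have h3 : (⟨x⁻¹ * (γ ^ N) x, h1 N⟩ : C) ^ Nat.card C = 1 := pow_card_eq_one'
  have h4 : (x⁻¹ * (γ ^ N) x) ^ Nat.card C = 1 := congrArg Subtype.val h3
  rw [h2, h4, mul_one]

theorem exists_pow_fix {P : Type*} [Group P] [Finite P] {p : ℕ} [Fact p.Prime] (hP : IsPGroup p P)
    (γ : MulAut P) {m : ℕ} (D : Fin (m + 1) → Subgroup P)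
    (hinv : ∀ i, ∀ x ∈ D i, γ x ∈ D i)
    (hlayer : ∀ i : Fin m, ∀ x ∈ D i.succ, x⁻¹ * γ x ∈ D i.castSucc)
    (hbot : ∃ k, ∀ x ∈ D 0, (γ ^ p ^ k) x = x) :
    ∀ i, ∃ k, ∀ x ∈ D i, (γ ^ p ^ k) x = x := by
  intro i
  induction i using Fin.induction with
  | zero => exact hbot
  | succ i ih =>
    obtain ⟨k, hk⟩ := ih
    obtain ⟨j, hj⟩ := IsPGroup.iff_card.1 (hP.to_subgroup (D i.castSucc))
    refine ⟨k + j, ?_⟩
    rw [pow_add, ← hj]
    exact pow_mul_fix γ (hlayer i) (hinv _) hk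

/-- A subgroup of `Aut_F(P)` consisting of `p`-elements and normalized by `Aut_F(P)` consists of
inner automorphisms when `P` is radical. -/
theorem le_inn_of_radical [Finite S] (p : ℕ) [Fact p.Prime] {P : Subgroup Ω}
    (hP : F.IsRadical p P) {L : Subgroup (MulAut P)} (hLA : L ≤ F.autGroup P)
    (hn : ∀ α ∈ F.autGroup P, ∀ γ ∈ L, α * γ * α⁻¹ ∈ L)
    (hp : ∀ γ ∈ L, ∃ k : ℕ, γ ^ p ^ k = 1) : L ≤ Inn P := by
  obtain ⟨hPS, hrad⟩ := hP
  have := finite_of_le hPS
  have : Finite (MulAut P) := finite_mulAut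
  intro γ hγ
  rw [← hrad]
  refine ⟨⟨γ, hLA hγ⟩, ?_, rfl⟩
  refine CfsgLib.Solvable.le_pCore p (N := L.subgroupOf (F.autGroup P)) ?_ ?_
    (Subgroup.mem_subgroupOf.2 hγ)
  · exact ⟨fun a ha b => Subgroup.mem_subgroupOf.2 (hn b b.2 _ (Subgroup.mem_subgroupOf.1 ha))⟩
  · intro a
    obtain ⟨k, hk⟩ := hp _ (Subgroup.mem_subgroupOf.1 a.2)
    exact ⟨k, Subtype.ext (Subtype.ext hk)⟩

/-- If conjugation by `g` stabilizes an `Aut_F(P)`-invariant chain of the radical centric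
subgroup `P`, and acts on the bottom like a member of an invariant `p`-set, then `g ∈ P`. -/
theorem mem_of_chain [Finite S] (p : ℕ) [Fact p.Prime] (hS : IsPGroup p S) {P : Subgroup Ω}
    (hc : F.IsCentric P) (hr : F.IsRadical p P) {m : ℕ} (D : Fin (m + 1) → Subgroup P)
    (htop : D (Fin.last m) = ⊤)
    (hinv : ∀ α ∈ F.autGroup P, ∀ i, ∀ x ∈ D i, α x ∈ D i)
    (M : Subgroup (MulAut P))
    (hM : ∀ α ∈ F.autGroup P, ∀ γ ∈ F.autGroup P, γ ∈ M → α * γ * α⁻¹ ∈ M)
    (hMp : ∀ γ ∈ F.autGroup P, γ ∈ M → ∃ k, ∀ x ∈ D 0, (γ ^ p ^ k) x = x)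
    {g : Ω} (hg : g ∈ normalizerIn S P)
    (hgD : ∀ i : Fin m, ∀ x ∈ D i.succ, x⁻¹ * conjAut S P ⟨g, hg⟩ x ∈ D i.castSucc)
    (hgM : conjAut S P ⟨g, hg⟩ ∈ M) : g ∈ P := by
  have := finite_of_le hc.1
  have : Finite (MulAut P) := finite_mulAut
  have hgA : conjAut S P ⟨g, hg⟩ ∈ F.autGroup P :=
    autInducedBy_le_autGroup hc.1 (mem_autInducedBy.2 ⟨g, hg.1, fun _ => rfl⟩)
  let L : Submonoid (MulAut P) :=
    { carrier := {γ | γ ∈ F.autGroup P ∧ γ ∈ M ∧
        ∀ i : Fin m, ∀ x ∈ D i.succ, x⁻¹ * γ x ∈ D i.castSucc}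
      one_mem' := ⟨one_mem _, one_mem _, fun i x _ => by simp⟩
      mul_mem' := by
        rintro γ δ ⟨hγA, hγM, hγ⟩ ⟨hδA, hδM, hδ⟩
        refine ⟨mul_mem hγA hδA, mul_mem hγM hδM, fun i x hx => ?_⟩
        have h1 := hδ i x hx
        have h2 := hγ i (δ x) (hinv δ hδA _ x hx)
        have e : x⁻¹ * (γ * δ) x = (x⁻¹ * δ x) * ((δ x)⁻¹ * γ (δ x)) := by
          rw [MulAut.mul_apply]; group
        rw [e]
        exact mul_mem h1 h2 }
  let L' : Subgroup (MulAut P) :=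
    { L with
      inv_mem' := fun {γ} hγ => by
        have e : γ⁻¹ = γ ^ (orderOf γ - 1) := by
          refine inv_eq_of_mul_eq_one_left ?_
          rw [← pow_succ, Nat.sub_add_cancel (orderOf_pos γ), pow_orderOf_eq_one]
        show γ⁻¹ ∈ L
        rw [e]
        exact L.pow_mem hγ _ }
  have hle : L' ≤ Inn P := by
    refine le_inn_of_radical p hr (fun γ hγ => hγ.1) (fun α hα γ hγ => ?_) fun γ hγ => ?_
    · refine ⟨mul_mem (mul_mem hα hγ.1) (inv_mem hα), hM α hα γ hγ.1 hγ.2.1, fun i x hx => ?_⟩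
      have h1 := hγ.2.2 i (α⁻¹ x) (hinv _ (inv_mem hα) _ x hx)
      have h2 := hinv α hα _ _ h1
      simpa [MulAut.mul_apply] using h2
    · obtain ⟨k, hk⟩ := exists_pow_fix (isPGroup_of_le hS hc.1) γ D (hinv γ hγ.1) hγ.2.2
        (hMp γ hγ.1 hγ.2.1) (Fin.last m)
      exact ⟨k, MulEquiv.ext fun x => hk x (htop.ge trivial)⟩
  exact (inn_mem_iff hc hg.1 fun x => rfl).1 (hle ⟨hgA, hgM, hgD⟩)

/-! ### Normality by Alperin's theorem -/

theorem exists_congr_system {T : Subgroup Ω} (E : FusionSystem T) (h : T = S) :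
    ∃ E' : FusionSystem S, ∀ P, E'.Hom P = E.Hom P := by
  subst h; exact ⟨E, fun _ => rfl⟩

theorem isNormal_of_essential [Finite S] (p : ℕ) [Fact p.Prime] (hS : IsPGroup p S)
    (hF : F.IsSaturated p) {Q : Subgroup Ω}
    (h : ∀ P : Subgroup Ω, (P = S ∨ F.IsEssential p P) → Q ≤ P)
    (hinv : ∀ P : Subgroup Ω, (P = S ∨ F.IsEssential p P) → ∀ α ∈ F.autGroup P,
      ∀ x : P, (x : Ω) ∈ Q → ((α x : P) : Ω) ∈ Q) : F.IsNormal Q := by
  have hQS := h S (Or.inl rfl)
  have hN : normalizerIn S Q = S := by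
    refine le_antisymm (normalizerIn_le_S Q) fun s hs => ⟨hs, mem_normalizer_of_conj_mem hQS ?_⟩
    intro x hx
    exact hinv S (Or.inl rfl) _ (autInducedBy_le_autGroup le_rfl (mem_autInducedBy.2
      ⟨s, hs, fun _ => rfl⟩) : conjAut S S ⟨s, hs, Subgroup.le_normalizer hs⟩ ∈ _)
      ⟨x, hQS hx⟩ hx
  obtain ⟨E, hE⟩ := exists_congr_system (normSystem F Q hQS) hN
  have hle : F ≤ E := by
    refine alperin_saturated p hS hF E fun P hP α hα => ?_
    have hPS : P ≤ S := by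
      rcases hP with rfl | hP
      exacts [le_rfl, hP.1.1]
    refine (autGroup_carrier hPS).2 ?_
    rw [hE]
    have hmap : ∀ x : P, (x : Ω) ∈ Q → ((α x : P) : Ω) ∈ Q := hinv P hP α hα
    refine ⟨(autGroup_carrier hPS).1 hα, hPS.trans hN.ge, fun x => hN.ge (hPS (α x).2),
      (P.subtype.comp α.toMonoidHom).comp (Subgroup.inclusion (sup_le le_rfl (h P hP))),
      restrict_mem ((autGroup_carrier hPS).1 hα) _, fun x => rfl, ?_⟩
    ext y
    rw [mem_map_subgroupOf]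
    constructor
    · rintro ⟨x, hx, hxQ, rfl⟩
      exact hmap ⟨x, h P hP hxQ⟩ hxQ
    · intro hy
      have hy' := hinv P hP α⁻¹ (inv_mem hα) ⟨y, h P hP hy⟩ hy
      refine ⟨_, le_sup_right (a := P) hy', hy', ?_⟩
      exact congrArg Subtype.val (MulAut.apply_inv_self P α ⟨y, h P hP hy⟩)
  refine ⟨hQS, fun P φ hφ => ?_⟩
  have h1 := hle P hφ
  rw [hE] at h1
  exact h1.2.2.2

theorem le_of_stronglyClosed_aut {Q : Subgroup Ω} (hQ : F.StronglyClosed Q) {P : Subgroup Ω}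
    (hP : P ≤ S) {α : MulAut P} (hα : α ∈ F.autGroup P) (x : P) (hx : (x : Ω) ∈ Q) :
    ((α x : P) : Ω) ∈ Q := by
  have h := (autGroup_carrier hP).1 hα
  have hz : Subgroup.zpowers (x : Ω) ≤ P := Subgroup.zpowers_le.2 x.2
  exact hQ.2 _ (Subgroup.zpowers_le.2 hx) _ (restrict_mem h hz) ⟨x, Subgroup.mem_zpowers _⟩

theorem isNormal_of_stronglyClosed [Finite S] (p : ℕ) [Fact p.Prime] (hS : IsPGroup p S)
    (hF : F.IsSaturated p) {Q : Subgroup Ω} (hQ : F.StronglyClosed Q)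
    (h : ∀ P : Subgroup Ω, F.IsEssential p P → Q ≤ P) : F.IsNormal Q := by
  refine isNormal_of_essential p hS hF (fun P hP => ?_) fun P hP α hα x hx => ?_
  · rcases hP with rfl | hP
    exacts [hQ.1, h P hP]
  · refine le_of_stronglyClosed_aut hQ ?_ hα x hx
    rcases hP with rfl | hP
    exacts [le_rfl, hP.1.1]

/-- A subgroup `Q` normalized by `S` lies in `P` once `N_Q(P) ≤ P`. -/
theorem le_of_normalizer_le [Finite S] (p : ℕ) [Fact p.Prime] (hS : IsPGroup p S)
    {P Q : Subgroup Ω} (hP : P ≤ S) (hQ : Q ≤ S) (hn : P ≤ Subgroup.normalizer (Q : Set Ω))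
    (h : ∀ g ∈ Q, g ∈ Subgroup.normalizer (P : Set Ω) → g ∈ P) : Q ≤ P := by
  by_contra hne
  have hlt : P < P ⊔ Q := lt_of_le_of_ne le_sup_left fun he => hne (he ▸ le_sup_right)
  obtain ⟨g, hg, hgP⟩ := SetLike.exists_of_lt (lt_normalizerIn p hS (sup_le hP hQ) hlt)
  obtain ⟨a, ha, b, hb, rfl⟩ :=
    (Set.ext_iff.1 (Subgroup.coe_mul_of_left_le_normalizer_right P Q hn) g).1 hg.1
  have hbN : b ∈ Subgroup.normalizer (P : Set Ω) := by
    simpa using mul_mem (inv_mem (Subgroup.le_normalizer ha)) hg.2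
  exact hgP (P.mul_mem ha (h b hb hbN))

/-- A normal subgroup is contained in every centric radical subgroup. -/
theorem le_centric_radical [Finite S] (p : ℕ) [Fact p.Prime] (hS : IsPGroup p S)
    {Q P : Subgroup Ω} (hQ : F.IsNormal Q) (hc : F.IsCentric P) (hr : F.IsRadical p P) :
    Q ≤ P := by
  refine le_of_normalizer_le p hS hc.1 hQ.1 ((hc.1).trans (normal_S_le_normalizer hQ)) ?_
  intro g hgQ hgN
  have hle : autInducedBy Q P ≤ Inn P := by
    refine le_inn_of_radical p hr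
      ((autInducedBy_mono hQ.1 P).trans (autInducedBy_le_autGroup hc.1)) (fun α hα γ hγ => ?_)
      fun γ hγ => ?_
    · obtain ⟨q, hq, hq'⟩ := mem_autInducedBy.1 hγ
      obtain ⟨ψ, -, he, hm⟩ := hQ.2 P _ ((autGroup_carrier hc.1).1 hα)
      refine mem_autInducedBy.2 ⟨ψ ⟨q, le_sup_right (a := P) hq⟩,
        hm.le (apply_mem_map_subgroupOf ψ (x := ⟨q, le_sup_right (a := P) hq⟩) hq), fun x => ?_⟩
      obtain ⟨z, rfl⟩ := α.surjective x
      simp only [MulAut.mul_apply, MulAut.inv_apply_self]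
      have e1 := he z
      have e2 := he (γ z)
      simp only [MonoidHom.comp_apply, Subgroup.coe_subtype, MulEquiv.coe_toMonoidHom] at e1 e2
      rw [← e1, ← e2, ← map_inv, ← map_mul, ← map_mul]
      exact apply_congr ψ (hq' z)
    · obtain ⟨k, hk⟩ := isPGroup_autInducedBy hS P ⟨γ, autInducedBy_mono hQ.1 P hγ⟩
      exact ⟨k, congrArg Subtype.val hk⟩
  exact (inn_mem_iff hc (hQ.1 hgQ) fun x => rfl).1
    (hle (mem_autInducedBy.2 ⟨g, hgQ, fun _ => rfl⟩) :
      conjAut S P ⟨g, hQ.1 hgQ, hgN⟩ ∈ Inn P)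

theorem le_essential [Finite S] (p : ℕ) [Fact p.Prime] (hS : IsPGroup p S) {Q P : Subgroup Ω}
    (hQ : F.IsNormal Q) (hP : F.IsEssential p P) : Q ≤ P :=
  le_centric_radical p hS hQ hP.1 (isRadical_of_essential p hS hP)

theorem inv_commutator_mem {Q : Subgroup Ω} {P : Subgroup Ω} {g : Ω}
    (hg : g ∈ normalizerIn S P) (x : P) (h : ⁅(x : Ω)⁻¹, g⁆ ∈ Q) :
    ((x⁻¹ * conjAut S P ⟨g, hg⟩ x : P) : Ω) ∈ Q := by
  simpa [commutatorElement_def, mul_assoc] using h

/-- Normality from a central series with weakly closed terms. -/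
theorem isNormal_of_series [Finite S] (p : ℕ) [Fact p.Prime] (hS : IsPGroup p S)
    (hF : F.IsSaturated p) {Q : Subgroup Ω} (hQ : F.StronglyClosed Q) {n : ℕ}
    (C : Fin (n + 1) → Subgroup Ω) (h0 : C 0 = ⊥) (hn : C (Fin.last n) = Q)
    (hcomm : ∀ i : Fin n, ⁅C i.succ, Q⁆ ≤ C i.castSucc)
    (hmono : Monotone C) (hw : ∀ i : Fin n, F.WeaklyClosed (C i.castSucc)) : F.IsNormal Q := by
  refine isNormal_of_stronglyClosed p hS hF hQ fun P hP => ?_
  have hc := hP.1
  have hr := isRadical_of_essential p hS hP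
  have hCQ : ∀ i, C i ≤ Q := fun i => hn ▸ hmono (Fin.le_last i)
  have hCS : ∀ i, C i ≤ S := fun i => (hCQ i).trans hQ.1
  suffices h : ∀ i, C i ≤ P from hn ▸ h (Fin.last n)
  intro i
  induction i using Fin.induction with
  | zero => rw [h0]; exact bot_le
  | succ k ih =>
    -- `C (k+1)` is normalized by `P`: weakly closed or equal to `Q`
    have hnorm : P ≤ Subgroup.normalizer (C k.succ : Set Ω) := by
      intro s hs
      by_cases hlast : k.succ = Fin.last n
      · rw [hlast, hn]; exact stronglyClosed_normal_in_S hQ (hc.1 hs)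
      · obtain ⟨j, hj⟩ := Fin.exists_castSucc_eq.2 hlast
        rw [← hj]
        refine mem_normalizer_of_conj_mem (hCS _) fun x hx => ?_
        exact ((hw j).2 _ (F.conj_mem (hCS _) (hc.1 hs))).le ⟨⟨x, hx⟩, rfl⟩
    refine le_of_normalizer_le p hS hc.1 (hCS _) hnorm fun g hgC hgN => ?_
    -- the chain `C 0 ≤ … ≤ C k ≤ Q ∩ P ≤ P`
    let D : Fin (k.1 + 3) → Subgroup P := fun j =>
      if h : j.1 ≤ k.1 then (C ⟨j.1, by omega⟩).subgroupOf P
      else if j.1 = k.1 + 1 then Q.subgroupOf P else ⊤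
    have hgS : g ∈ normalizerIn S P := ⟨hCS _ hgC, hgN⟩
    refine mem_of_chain p hS hc hr (m := k.1 + 2) D ?_ ?_ ⊤ (fun _ _ _ _ _ => trivial)
      (fun γ _ _ => ?_) hgS ?_ trivial
    · simp [D]
    · intro α hα j x hx
      simp only [D] at hx ⊢
      split at hx
      case isTrue h =>
        rw [dif_pos h]
        have hle : C ⟨j.1, by omega⟩ ≤ P :=
          (hmono (show (⟨j.1, by omega⟩ : Fin (n + 1)) ≤ k.castSucc from h)).trans ih
        have hwj : F.WeaklyClosed (C ⟨j.1, by omega⟩) := hw ⟨j.1, by omega⟩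
        exact (hwj.2 _ (restrict_mem ((autGroup_carrier hc.1).1 hα) hle)).le ⟨⟨x, hx⟩, rfl⟩
      case isFalse h =>
        rw [dif_neg h]
        split
        case isTrue h' =>
          rw [if_pos h'] at hx
          exact le_of_stronglyClosed_aut hQ hc.1 hα x hx
        case isFalse => trivial
    · refine ⟨0, fun x hx => ?_⟩
      have : (x : Ω) ∈ (⊥ : Subgroup Ω) := h0 ▸ (by simpa [D, Subgroup.mem_subgroupOf] using hx : (x : Ω) ∈ C ⟨0, _⟩)
      have hx1 : x = 1 := Subtype.ext (Subgroup.mem_bot.1 this)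
      rw [hx1, map_one]
    · intro j x hx
      have hj : j.1 < k.1 + 2 := j.2
      simp only [D, Fin.val_succ, Fin.val_castSucc] at hx ⊢
      by_cases h1 : j.1 + 1 ≤ k.1
      · rw [dif_pos h1] at hx
        rw [dif_pos (by omega : j.1 ≤ k.1)]
        refine inv_commutator_mem hgS x ?_
        exact hcomm ⟨j.1, by omega⟩ (Subgroup.commutator_mem_commutator (inv_mem hx) (hCQ _ hgC))
      rw [dif_neg h1] at hx
      by_cases h2 : j.1 = k.1
      · rw [dif_pos h2.le]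
        rw [if_pos (by omega : j.1 + 1 = k.1 + 1)] at hx
        refine inv_commutator_mem hgS x ?_
        have := hcomm k (Subgroup.commutator_mem_commutator hgC (inv_mem hx : (x : Ω)⁻¹ ∈ Q))
        rw [← commutatorElement_inv] 
        have e : (⟨j.1, by omega⟩ : Fin (n + 1)) = k.castSucc := Fin.ext h2
        rw [e]
        exact inv_mem this
      · rw [dif_neg (by omega : ¬ j.1 ≤ k.1), if_pos (by omega : j.1 = k.1 + 1)]
        refine inv_commutator_mem hgS x ?_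
        have hgQ := hCQ _ hgC
        have hxn := stronglyClosed_normal_in_S hQ (hc.1 (inv_mem x.2 : (x : Ω)⁻¹ ∈ P))
        rw [commutatorElement_def]
        exact mul_mem ((Subgroup.mem_normalizer_iff.1 hxn g).1 hgQ) (inv_mem hgQ)

/-- A normal subgroup has a central series of subgroups normal in the system. -/
theorem exists_series [Finite S] (p : ℕ) [Fact p.Prime] (hS : IsPGroup p S) {Q : Subgroup Ω}
    (hQ : F.IsNormal Q) :
    ∃ (n : ℕ) (C : Fin (n + 1) → Subgroup Ω), C 0 = ⊥ ∧ C (Fin.last n) = Q ∧ Monotone C ∧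
      (∀ i : Fin n, ⁅C i.succ, Q⁆ ≤ C i.castSucc) ∧ ∀ i, F.IsNormal (C i) := by
  obtain ⟨c, hc⟩ := Q.isNilpotent_iff_lowerCentralSeries.1 (isNilpotent_of_le p hS hQ.1)
  refine ⟨c, fun i => Q.lowerCentralSeries (c - i.1), by simpa using hc, by simp, ?_, ?_, ?_⟩
  · intro i j hij
    exact Q.lowerCentralSeries_antitone (Nat.sub_le_sub_left (Fin.le_def.1 hij) c)
  · intro i
    have hi := i.2
    have e : c - i.castSucc.1 = (c - i.succ.1) + 1 := by
      simp only [Fin.val_castSucc, Fin.val_succ]; omega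
    show ⁅Q.lowerCentralSeries (c - i.succ.1), Q⁆ ≤ Q.lowerCentralSeries (c - i.castSucc.1)
    rw [e, Subgroup.lowerCentralSeries_succ]
  · intro i
    refine isNormal_of_characteristic hQ (Q.lowerCentralSeries_le_self _) ?_
    have e : (Q.lowerCentralSeries (c - i.1)).subgroupOf Q =
        (⊤ : Subgroup Q).lowerCentralSeries (c - i.1) := by
      rw [← Q.top_subtype_lowerCentralSeries]
      exact Subgroup.comap_map_eq_self_of_injective Q.subtype_injective _
    rw [e]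
    infer_instance

theorem stronglyClosed_bot : F.StronglyClosed ⊥ := stronglyClosed_of_isNormal isNormal_bot

theorem stronglyClosed_of_succ [Finite S] {n : ℕ} {C : Fin (n + 1) → Subgroup Ω}
    (h0 : C 0 = ⊥) (h : ∀ i : Fin n, F.StronglyClosed (C i.succ)) (i : Fin (n + 1)) :
    F.StronglyClosed (C i) := by
  refine Fin.cases ?_ (fun j => h j) i
  rw [h0]
  exact stronglyClosed_bot

/-- A strongly closed abelian subgroup is normal. -/
theorem isNormal_of_abelian [Finite S] (p : ℕ) [Fact p.Prime] (hS : IsPGroup p S)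
    (hF : F.IsSaturated p) {Q : Subgroup Ω} (hQ : F.StronglyClosed Q)
    (hab : IsMulCommutative Q) : F.IsNormal Q := by
  refine isNormal_of_series p hS hF hQ (n := 1) ![⊥, Q] rfl rfl ?_ ?_ ?_
  · intro i
    fin_cases i
    show ⁅Q, Q⁆ ≤ ⊥
    rw [Subgroup.commutator_le]
    intro a ha b hb
    rw [Subgroup.mem_bot, commutatorElement_eq_one_iff_commute]
    exact congrArg Subtype.val (hab.is_comm.comm ⟨a, ha⟩ ⟨b, hb⟩)
  · intro i j hij
    fin_cases i <;> fin_cases j <;> simp_all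
  · intro i
    fin_cases i
    exact weaklyClosed_of_stronglyClosed stronglyClosed_bot

/-- A strongly closed subgroup is normal if it is nilpotent over a normal subgroup whose
automorphism group is a `p`-group. -/
theorem isNormal_of_pAut [Finite S] (p : ℕ) [Fact p.Prime] (hS : IsPGroup p S)
    (hF : F.IsSaturated p) {Q Q₁ : Subgroup Ω} (hQ : F.StronglyClosed Q) (h₁Q : Q₁ ≤ Q)
    (hQ₁ : F.IsNormal Q₁) (hab : ⁅Q, Q⁆ ≤ Q₁) (hAut : IsPGroup p (F.autGroup Q₁)) :
    F.IsNormal Q := by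
  refine isNormal_of_stronglyClosed p hS hF hQ fun P hP => ?_
  have hc := hP.1
  have hr := isRadical_of_essential p hS hP
  refine le_of_normalizer_le p hS hc.1 hQ.1 (hc.1.trans (stronglyClosed_normal_in_S hQ)) ?_
  intro g hgQ hgN
  have hgS : g ∈ normalizerIn S P := ⟨hQ.1 hgQ, hgN⟩
  have h1P : Q₁ ≤ P := le_centric_radical p hS hQ₁ hc hr
  have h1sc := stronglyClosed_of_isNormal hQ₁
  refine mem_of_chain p hS hc hr (m := 2) ![Q₁.subgroupOf P, Q.subgroupOf P, ⊤] rfl ?_ ⊤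
    (fun _ _ _ _ _ => trivial) (fun γ hγ _ => ?_) hgS ?_ trivial
  · intro α hα i x hx
    fin_cases i
    · exact le_of_stronglyClosed_aut h1sc hc.1 hα x hx
    · exact le_of_stronglyClosed_aut hQ hc.1 hα x hx
    · trivial
  · let β₀ : Q₁ →* Ω := (P.subtype.comp γ.toMonoidHom).comp (Subgroup.inclusion h1P)
    have hβ₀ : β₀ ∈ F.Hom Q₁ := restrict_mem ((autGroup_carrier hc.1).1 hγ) h1P
    have hβr : β₀.range = Q₁ := (weaklyClosed_of_stronglyClosed h1sc).2 β₀ hβ₀
    let β := autOfRange β₀ (F.injective_of_mem hβ₀) hβr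
    obtain ⟨k, hk⟩ := hAut ⟨β, autOfRange_mem hβ₀ hβr⟩
    have hpow : ∀ (j : ℕ) (x : Q₁),
        (((γ ^ j) ⟨x, h1P x.2⟩ : P) : Ω) = ((β ^ j) x : Q₁) := by
      intro j
      induction j with
      | zero => intro x; rfl
      | succ j ih =>
        intro x
        rw [pow_succ', MulAut.mul_apply, pow_succ', MulAut.mul_apply]
        show ((γ _ : P) : Ω) = ((γ ⟨((β ^ j) x : Q₁), _⟩ : P) : Ω)
        exact congrArg (fun z : P => ((γ z : P) : Ω)) (Subtype.ext (ih x))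
    refine ⟨k, fun x hx => Subtype.ext ?_⟩
    have hk' : β ^ p ^ k = 1 := congrArg Subtype.val hk
    refine (hpow (p ^ k) ⟨x, hx⟩).trans ?_
    rw [hk']
    rfl
  · intro i x hx
    fin_cases i
    · refine inv_commutator_mem hgS x (hab ?_)
      exact Subgroup.commutator_mem_commutator (inv_mem hx) hgQ
    · refine inv_commutator_mem hgS x ?_
      rw [commutatorElement_def]
      exact mul_mem ((Subgroup.mem_normalizer_iff.1 (stronglyClosed_normal_in_S hQ
        (inv_mem (hc.1 x.2))) g).1 hgQ) (inv_mem hgQ)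

/-- `R` is normal as soon as every map between its subgroups extends to an automorphism of `R`. -/
theorem isNormal_of_extends [Finite S] (p : ℕ) [Fact p.Prime] (hS : IsPGroup p S)
    (hF : F.IsSaturated p) {R : Subgroup Ω} (hRS : R ≤ S)
    (h : ∀ (P : Subgroup Ω) (hPR : P ≤ R) (φ : P →* Ω), φ ∈ F.Hom P →
      ∃ α ∈ F.autGroup R, ∀ x : P, ((α (Subgroup.inclusion hPR x) : R) : Ω) = φ x) :
    F.IsNormal R := by
  have hsc : F.StronglyClosed R := ⟨hRS, fun P hPR φ hφ x => by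
    obtain ⟨α, -, hα⟩ := h P hPR φ hφ
    rw [← hα]
    exact (α _).2⟩
  refine isNormal_of_stronglyClosed p hS hF hsc fun P hP => ?_
  have hc := hP.1
  have hr := isRadical_of_essential p hS hP
  refine le_of_normalizer_le p hS hc.1 hRS (hc.1.trans (stronglyClosed_normal_in_S hsc)) ?_
  intro g hgR hgN
  have hgS : g ∈ normalizerIn S P := ⟨hRS hgR, hgN⟩
  let M : Subgroup (MulAut P) :=
    { carrier := {γ | γ ∈ F.autGroup P ∧ ∃ k ∈ R, ∀ x : P, (x : Ω) ∈ R →
        ((γ x : P) : Ω) = k * x * k⁻¹}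
      one_mem' := ⟨one_mem _, 1, one_mem _, fun x _ => by simp⟩
      mul_mem' := by
        rintro γ δ ⟨hγA, a, ha, hγ⟩ ⟨hδA, b, hb, hδ⟩
        refine ⟨mul_mem hγA hδA, a * b, mul_mem ha hb, fun x hx => ?_⟩
        rw [MulAut.mul_apply, hγ _ (le_of_stronglyClosed_aut hsc hc.1 hδA x hx), hδ x hx]
        group
      inv_mem' := by
        rintro γ ⟨hγA, a, ha, hγ⟩
        refine ⟨inv_mem hγA, a⁻¹, inv_mem ha, fun x hx => ?_⟩
        have h1 := hγ (γ⁻¹ x) (le_of_stronglyClosed_aut hsc hc.1 (inv_mem hγA) x hx)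
        rw [MulAut.apply_inv_self] at h1
        rw [h1]
        group }
  refine mem_of_chain p hS hc hr (m := 1) ![R.subgroupOf P, ⊤] rfl ?_ M (fun α hα γ hγ hγM => ?_)
    (fun γ hγ hγM => ?_) hgS ?_ ?_
  · intro α hα i x hx
    fin_cases i
    · exact le_of_stronglyClosed_aut hsc hc.1 hα x hx
    · trivial
  · obtain ⟨-, a, ha, hγa⟩ := hγM
    obtain ⟨β, -, hβ⟩ := h (R ⊓ P) inf_le_left _
      (restrict_mem ((autGroup_carrier hc.1).1 hα) (inf_le_right : R ⊓ P ≤ P))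
    refine ⟨mul_mem (mul_mem hα hγ) (inv_mem hα), (β ⟨a, ha⟩ : R), (β ⟨a, ha⟩).2,
      fun x hx => ?_⟩
    have hy := le_of_stronglyClosed_aut hsc hc.1 (inv_mem hα) x hx
    have hγy := le_of_stronglyClosed_aut hsc hc.1 hγ _ hy
    have h1 := hγa _ hy
    have h2 := hβ ⟨((α⁻¹ x : P) : Ω), hy, (α⁻¹ x).2⟩
    have h3 := hβ ⟨((γ (α⁻¹ x) : P) : Ω), hγy, (γ (α⁻¹ x)).2⟩
    change _ = ((α (α⁻¹ x) : P) : Ω) at h2
    rw [MulAut.apply_inv_self] at h2
    change _ = ((α (γ (α⁻¹ x)) : P) : Ω) at h3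
    show ((α (γ (α⁻¹ x)) : P) : Ω) = _
    rw [← h3, ← h2, ← InvMemClass.coe_inv, ← map_inv, ← Subgroup.coe_mul, ← map_mul,
      ← Subgroup.coe_mul, ← map_mul]
    exact congrArg (fun z : R => ((β z : R) : Ω)) (Subtype.ext h1)
  · obtain ⟨-, a, ha, hγa⟩ := hγM
    obtain ⟨k, hk⟩ := hS ⟨a, hRS ha⟩
    refine ⟨k, fun x hx => Subtype.ext ?_⟩
    have key : ∀ j : ℕ, (((γ ^ j) x : P) : Ω) = a ^ j * x * (a ^ j)⁻¹ ∧
        (((γ ^ j) x : P) : Ω) ∈ R := by
      intro j
      induction j with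
      | zero => exact ⟨by simp, hx⟩
      | succ j ih =>
        rw [pow_succ', MulAut.mul_apply]
        refine ⟨?_, le_of_stronglyClosed_aut hsc hc.1 hγ _ ih.2⟩
        rw [hγa _ ih.2, ih.1, pow_succ']
        group
    have hak : a ^ p ^ k = 1 := congrArg Subtype.val hk
    rw [(key _).1, hak]
    simp
  · intro i x hx
    fin_cases i
    refine inv_commutator_mem hgS x ?_
    rw [commutatorElement_def]
    exact mul_mem ((Subgroup.mem_normalizer_iff.1 (stronglyClosed_normal_in_S hsc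
      (inv_mem (hc.1 x.2))) g).1 hgR) (inv_mem hgR)
  · exact ⟨autInducedBy_le_autGroup hc.1 (mem_autInducedBy.2 ⟨g, hRS hgR, fun _ => rfl⟩), g, hgR,
      fun x _ => rfl⟩

/-- A subgroup whose elements have singleton classes is central. -/
theorem isCentral_of_fixed [Finite S] (p : ℕ) [Fact p.Prime] (hS : IsPGroup p S)
    (hF : F.IsSaturated p) {Q : Subgroup Ω} (hQS : Q ≤ S)
    (h : ∀ x ∈ Q, ∀ y : Ω, F.IsConjElt x y → y = x) : F.IsCentral Q := by
  have hfix : ∀ {P : Subgroup Ω} {φ : P →* Ω}, φ ∈ F.Hom P → ∀ x : P, (x : Ω) ∈ Q →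
      φ x = x := by
    intro P φ hφ x hx
    exact h x hx _ ⟨_, restrict_mem hφ (Subgroup.zpowers_le.2 x.2), rfl⟩
  have hC : centralizerIn S Q = S := by
    refine le_antisymm (centralizerIn_le_S Q) fun s hs => mem_centralizerIn.2 ⟨hs, fun x hx => ?_⟩
    have h1 : s * x * s⁻¹ = x := hfix (F.conj_mem le_rfl hs) ⟨x, hQS hx⟩ hx
    calc x * s = s * x * s⁻¹ * s := by rw [h1]
      _ = s * x := by group
  obtain ⟨E, hE⟩ := exists_congr_system (centSystem F Q hQS) hC
  have hle : F ≤ E := by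
    refine alperin_saturated p hS hF E fun P hP α hα => ?_
    have hQP : Q ≤ P ∧ P ≤ S := by
      rcases hP with rfl | hP
      · exact ⟨hQS, le_rfl⟩
      · refine ⟨fun x hx => ?_, hP.1.1⟩
        refine centralizer_mem_of_centric hP.1 (hQS hx) fun y hy => ?_
        exact ((hC.ge (hP.1.1 hy)).2 x hx).symm
    refine (autGroup_carrier hQP.2).2 ?_
    rw [hE]
    exact ⟨(autGroup_carrier hQP.2).1 hα, hQP.2.trans hC.ge, fun x => hC.ge (hQP.2 (α x).2),
      (P.subtype.comp α.toMonoidHom).comp (Subgroup.inclusion (sup_le le_rfl hQP.1)),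
      restrict_mem ((autGroup_carrier hQP.2).1 hα) _, fun x => rfl,
      fun x => hfix ((autGroup_carrier hQP.2).1 hα) ⟨x, hQP.1 x.2⟩ x.2⟩
  refine ⟨hQS, fun P φ hφ => ?_⟩
  have h1 := hle P hφ
  rw [hE] at h1
  exact h1.2.2.2

/-- No essential subgroup has a normal Sylow `p`-subgroup in its automorphism group. -/
theorem not_essential_of_normal_sylow [Finite S] (p : ℕ) [Fact p.Prime] {P : Subgroup Ω}
    (hP : F.IsEssential p P) (R : Sylow p (F.autGroup P))
    (hR : (R : Subgroup (F.autGroup P)).Normal) : False := by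
  obtain ⟨hc, -, hn, Y, hY⟩ := hP
  have := finite_of_le hc.1
  have : Finite (MulAut P) := finite_mulAut
  have hle := CfsgLib.Solvable.le_pCore p
    (hR.map (QuotientGroup.mk' ((Inn P).subgroupOf (F.autGroup P)))
      (QuotientGroup.mk'_surjective _)) (R.2.map _)
  rw [pCore_eq_bot_of_stronglyPEmbedded p hY, le_bot_iff] at hle
  let P₀ := R.mapSurjective (QuotientGroup.mk'_surjective ((Inn P).subgroupOf (F.autGroup P)))
  have h1 := Sylow.card_eq_multiplicity P₀
  have hbot : (P₀ : Subgroup (F.autGroup P ⧸ (Inn P).subgroupOf (F.autGroup P))) = ⊥ := by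
    rw [Sylow.coe_mapSurjective]; exact hle
  rw [hbot, Subgroup.card_bot] at h1
  have h3 := (Fact.out : p.Prime).factorization_pos_of_dvd Nat.card_pos.ne' hY.1
  exact (Nat.one_lt_pow h3.ne' (Fact.out : p.Prime).one_lt).ne h1

end CfsgLib.Fusion
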