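import Cfsg.Agent.Fusion.Centric
import Cfsg.Agent.Fusion.Local

/-!
Invariant subsystems, subsystems over the same group, and the simplicity criterion.
-/

set_option autoImplicit false

open Cfsg Cfsg.FusionSystem

namespace CfsgLib.Fusion

variable {Ω : Type*} [Group Ω] {S T : Subgroup Ω} {F : FusionSystem S} {E : FusionSystem T}

theorem le_of_subsystem (h : E.IsSubsystemOf F) : T ≤ S :=
  le_of_mem_hom (F := F) (h T (subtype_mem (F := E) le_rfl))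

theorem isConj_of_subsystem (h : E.IsSubsystemOf F) {P Q : Subgroup Ω} (hPQ : E.IsConj P Q) :
    F.IsConj P Q := by
  obtain ⟨φ, hφ, hr⟩ := hPQ
  exact ⟨φ, h P hφ, hr⟩

theorem map_mem_of_stronglyClosed (hT : F.StronglyClosed T) {N : Subgroup Ω} {ψ : N →* Ω}
    (hψ : ψ ∈ F.Hom N) {x : N} (hx : (x : Ω) ∈ T) : ψ x ∈ T := by
  have hle : Subgroup.zpowers (x : Ω) ≤ N := Subgroup.zpowers_le.2 x.2
  exact hT.2 _ (Subgroup.zpowers_le.2 hx) _ (restrict_mem hψ hle) ⟨x, Subgroup.mem_zpowers _⟩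

theorem fullyCentralized_sub [Finite S] (p : ℕ) [Fact p.Prime] (hS : IsPGroup p S)
    (hF : F.IsSaturated p) (hT : F.StronglyClosed T) (hsub : E.IsSubsystemOf F) {Q : Subgroup Ω}
    (hQT : Q ≤ T) (hQ : F.IsFullyCentralized Q) : E.IsFullyCentralized Q := by
  refine ⟨hQT, fun R hR => ?_⟩
  have hRT : R ≤ T := IsConj.le_right hR
  obtain ⟨φ, hφ, hr⟩ := isConj_symm (isConj_of_subsystem hsub hR)
  obtain ⟨ψ, hψ, h⟩ := receptive_extend (receptive_of_fullyCentralized p hS hF hQ) hφ hr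
    (sup_le (le_extender hφ) (centralizerIn_le_extender R φ))
  have hTS := le_of_subsystem hsub
  refine (card_le_card_map ((centralizerIn_le_S Q).trans hTS) (F.injective_of_mem hψ)
    ((inf_le_inf_right _ hTS).trans le_sup_right) fun g hg => ?_).1
  have hgS : g ∈ centralizerIn S R := ⟨hTS hg.1, hg.2⟩
  have h1 := map_mem_centralizerIn hψ (P := R) le_sup_left hgS (le_sup_right (a := R) hgS)
  rw [map_eq_range_of_eq le_sup_left h, hr] at h1
  exact ⟨map_mem_of_stronglyClosed hT hψ hg.1, h1.2⟩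

theorem fullyNormalized_sub [Finite S] (p : ℕ) [Fact p.Prime] (hS : IsPGroup p S)
    (hF : F.IsSaturated p) (hT : F.StronglyClosed T) (hsub : E.IsSubsystemOf F) {Q : Subgroup Ω}
    (hQT : Q ≤ T) (hQ : F.IsFullyNormalized Q) : E.IsFullyNormalized Q := by
  refine ⟨hQT, fun R hR => ?_⟩
  obtain ⟨h₁, h₂⟩ := good_of_fullyNormalized p hS hF hQ
  obtain ⟨φ, hφ, hmem, -⟩ :=
    exists_map_normalizer p hS h₁ h₂ (isConj_symm (isConj_of_subsystem hsub hR))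
  have hTS := le_of_subsystem hsub
  refine (card_le_card_map ((normalizerIn_le_S Q).trans hTS) (F.injective_of_mem hφ)
    (inf_le_inf_right _ hTS) fun g hg => ?_).1
  exact ⟨map_mem_of_stronglyClosed hT hφ hg.1, (hmem _).2⟩

/-- Conjugation of maps of an invariant subsystem by maps of the big system. -/
theorem invariant_conj (h : E.IsInvariantIn F) {P Q : Subgroup Ω} (hPQ : P ≤ Q) (hQT : Q ≤ T)
    {φ : P →* Ω} (hφ : φ ∈ E.Hom P) (hφQ : ∀ x : P, φ x ∈ Q) {ψ : Q →* Ω} (hψ : ψ ∈ F.Hom Q) :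
    ∃ χ ∈ E.Hom ((P.subgroupOf Q).map ψ),
      ∀ (x : P) (hx : ψ (Subgroup.inclusion hPQ x) ∈ (P.subgroupOf Q).map ψ),
        χ ⟨ψ (Subgroup.inclusion hPQ x), hx⟩ = ψ ⟨φ x, hφQ x⟩ := by
  obtain ⟨-, -, hinv, hfr⟩ := h
  obtain ⟨α, hα, ψ₀, hψ₀, hψe⟩ := hfr Q hQT ψ hψ
  have hψ₀T : ∀ x : Q, ψ₀ x ∈ T := fun x => apply_mem_S hψ₀ x
  have hψv : ∀ x : Q, ψ x = ((α ⟨ψ₀ x, hψ₀T x⟩ : T) : Ω) := fun x => hψe x _
  have hPT : P ≤ T := hPQ.trans hQT
  let P₀ : Subgroup Ω := (P.subgroupOf Q).map ψ₀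
  have hP₀T : P₀ ≤ T := (Subgroup.map_le_range _ _).trans (range_le_S hψ₀)
  obtain ⟨ν, hν, -, hν1, -⟩ :=
    exists_inv (restrict_mem hψ₀ hPQ) (range_restrict ψ₀ hPQ)
  have hνP : ∀ y, ν y ∈ P := by
    rintro ⟨_, ⟨x, hxQ⟩, hxP, rfl⟩
    exact Set.mem_of_eq_of_mem (hν1 ⟨x, hxP⟩ _) hxP
  let φ₁ : P₀ →* Ω := φ.comp (ν.codRestrict P hνP)
  have hφ₁ : φ₁ ∈ E.Hom P₀ := E.comp_mem hν hφ hνP
  have hφ₁Q : ∀ y, φ₁ y ∈ Q := fun y => hφQ _
  let φ₀ : P₀ →* Ω := ψ₀.comp (φ₁.codRestrict Q hφ₁Q)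
  have hφ₀ : φ₀ ∈ E.Hom P₀ := E.comp_mem hφ₁ hψ₀ hφ₁Q
  have hval : ∀ (x : P) (hx : ψ₀ (Subgroup.inclusion hPQ x) ∈ P₀),
      φ₀ ⟨_, hx⟩ = ψ₀ ⟨φ x, hφQ x⟩ := by
    intro x hx
    refine apply_congr ψ₀ ?_
    show φ₁ ⟨_, hx⟩ = φ x
    exact apply_congr φ (hν1 x hx)
  obtain ⟨χ, hχ, hχe⟩ := hinv P₀ hP₀T φ₀ hφ₀ α hα
  have hmap : (P₀.subgroupOf T).map (T.subtype.comp α.toMonoidHom) =
      (P.subgroupOf Q).map ψ := by
    ext y
    simp only [mem_map_subgroupOf]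
    constructor
    · rintro ⟨_, huT, ⟨⟨x, hxQ⟩, hxP, rfl⟩, rfl⟩
      exact ⟨x, hxQ, hxP, hψv _⟩
    · rintro ⟨x, hxQ, hxP, rfl⟩
      exact ⟨_, hψ₀T _, ⟨⟨x, hxQ⟩, hxP, rfl⟩, (hψv _).symm⟩
  refine ⟨χ.comp (Subgroup.inclusion hmap.ge), restrict_mem hχ hmap.ge, fun x hx => ?_⟩
  have hy : ψ₀ (Subgroup.inclusion hPQ x) ∈ P₀ := ⟨Subgroup.inclusion hPQ x, x.2, rfl⟩
  have h1 := hχe ⟨_, hy⟩ (apply_mem_S hφ₀ _)
    (by
      rw [hmap]
      exact Set.mem_of_eq_of_mem (hψv _).symm hx)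
  refine ((apply_congr χ ?_).trans h1).trans ?_
  · exact hψv _
  · rw [hψv]
    exact congrArg (fun z : T => ((α z : T) : Ω)) (Subtype.ext (hval x hy))

/-- `Aut_E(P)` is normalized by `Aut_F(P)` for invariant `E`. -/
theorem invariant_conj_aut (h : E.IsInvariantIn F) {P : Subgroup Ω} (hPT : P ≤ T)
    {α β : MulAut P} (hα : α ∈ F.autGroup P) (hβ : β ∈ E.autGroup P) :
    α * β * α⁻¹ ∈ E.autGroup P := by
  have hPS : P ≤ S := hPT.trans (le_of_subsystem h.1)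
  obtain ⟨χ, hχ, hχe⟩ := invariant_conj h le_rfl hPT ((autGroup_carrier hPT).1 hβ)
    (fun x => (β x).2) ((autGroup_carrier hPS).1 hα)
  have hr : (P.subgroupOf P).map (P.subtype.comp α.toMonoidHom) = P :=
    (map_subgroupOf_self _).trans (range_subtype_comp α)
  refine (autGroup_carrier hPT).2 (restrict_mem_of_eq hχ hr.ge fun x => ?_)
  have h1 := hχe (α⁻¹ x) (by rw [hr]; exact (α _).2)
  refine Eq.trans ?_ (h1.symm.trans (apply_congr χ ?_))
  · rfl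
  · show ((α (Subgroup.inclusion le_rfl (α⁻¹ x)) : P) : Ω) = x
    exact congrArg Subtype.val (MulAut.apply_inv_self P α x)

/-! ### Subsystems over the same group -/

variable {E₀ : FusionSystem S}

/-- For an invariant saturated subsystem over `S`, every `p`-automorphism of the system is in it. -/
theorem pElement_mem_of_invariant [Finite S] (p : ℕ) [Fact p.Prime] (hS : IsPGroup p S)
    (hF : F.IsSaturated p) (hinv : E₀.IsInvariantIn F) {P : Subgroup Ω} (hP : P ≤ S)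
    {α : MulAut P} (hα : α ∈ F.autGroup P) (hp : ∃ k : ℕ, α ^ p ^ k = 1) :
    α ∈ E₀.autGroup P := by
  obtain ⟨P', hc, hgood, -⟩ := hF P hP
  obtain ⟨φ, s, hφ, hr, hs, hse⟩ := exists_conj_of_pElement p hgood hc hα hp
  obtain ⟨ψ, hψ, hψr, h1, -⟩ := exists_inv hφ hr
  have hP' : P' ≤ S := IsConj.le_right hc
  obtain ⟨χ, hχ, hχe⟩ := invariant_conj hinv le_rfl hP' (φ := conjHom P' s)
    (E₀.conj_mem hP' hs.1) (fun x => (Subgroup.mem_normalizer_iff.1 hs.2 x).1 x.2) hψ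
  have hmap : (P'.subgroupOf P').map ψ = P := (map_subgroupOf_self _).trans hψr
  refine (autGroup_carrier hP).2 (restrict_mem_of_eq hχ hmap.ge fun x => ?_)
  have hx : ψ (Subgroup.inclusion le_rfl ⟨φ x, hr.le ⟨x, rfl⟩⟩) = (x : Ω) :=
    (apply_congr ψ rfl).trans (h1 x (hr.le ⟨x, rfl⟩))
  have h2 := hχe ⟨φ x, hr.le ⟨x, rfl⟩⟩ (by rw [hx, hmap]; exact x.2)
  refine Eq.trans ?_ (h2.symm.trans (apply_congr χ hx))
  refine ((h1 (α x) (hr.le ⟨_, rfl⟩)).symm).trans (apply_congr ψ ?_)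
  exact hse x

theorem closure_pElements_le_of_invariant [Finite S] (p : ℕ) [Fact p.Prime] (hS : IsPGroup p S)
    (hF : F.IsSaturated p) (hinv : E₀.IsInvariantIn F) {P : Subgroup Ω} (hP : P ≤ S) :
    (Subgroup.closure {α : F.autGroup P | ∃ k : ℕ, orderOf α = p ^ k}).map
      (F.autGroup P).subtype ≤ E₀.autGroup P := by
  rw [MonoidHom.map_closure, Subgroup.closure_le]
  rintro _ ⟨α, ⟨k, hk⟩, rfl⟩
  refine pElement_mem_of_invariant p hS hF hinv hP α.2 ⟨k, ?_⟩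
  exact congrArg (Subgroup.subtype _) (orderOf_dvd_iff_pow_eq_one.1 hk.dvd)

theorem isCentric_sub (hsub : E₀.IsSubsystemOf F) {P : Subgroup Ω} (hP : F.IsCentric P) :
    E₀.IsCentric P :=
  ⟨hP.1, fun Q hQ => hP.2 Q (isConj_of_subsystem hsub hQ)⟩

theorem conjHom_mem_comp {P : Subgroup Ω} {φ : P →* Ω} (hφ : φ ∈ F.Hom P) (z : P) {χ : P →* Ω}
    (h : ∀ y : P, χ y = φ (z * y * z⁻¹)) : χ ∈ F.Hom P :=
  comp_mem_of_eq (φ := conjHom P (z : Ω))
    (F.conj_mem (le_of_mem_hom hφ) (le_of_mem_hom hφ z.2)) hφ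
    (fun y => mul_mem (mul_mem z.2 y.2) (inv_mem z.2)) fun y => h y

/-- A map of the system lies in a saturated subsystem over `S` as soon as its restriction to a
centric subgroup does. -/
theorem mem_of_restrict_centric [Finite S] (p : ℕ) [Fact p.Prime] (hS : IsPGroup p S)
    (hF : F.IsSaturated p) (hE : E₀.IsSaturated p) (hsub : E₀.IsSubsystemOf F) {P : Subgroup Ω}
    {φ : P →* Ω} (hφ : φ ∈ F.Hom P) :
    ∀ {Q : Subgroup Ω} (h : Q ≤ P), F.IsCentric Q →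
      φ.comp (Subgroup.inclusion h) ∈ E₀.Hom Q → φ ∈ E₀.Hom P := by
  intro Q
  induction hn : Nat.card P - Nat.card Q using Nat.strong_induction_on generalizing Q with
  | _ n IH =>
  intro hQP hQ hres
  have hPS := le_of_mem_hom hφ
  rcases hQP.eq_or_lt with heq | hlt
  · exact restrict_mem_of_eq hres heq.ge fun x => rfl
  have hlt1 := lt_normalizerIn p hS hPS hlt
  have hN₁ : normalizerIn P Q ≤ P := normalizerIn_le_S Q
  have hc : E₀.IsFullyCentralized (φ.comp (Subgroup.inclusion hQP)).range :=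
    isFullyCentralized_of_centric (isCentric_sub hsub
      (isCentric_of_isConj hQ ⟨_, restrict_mem hφ hQP, rfl⟩))
  have hN : normalizerIn P Q ≤ extender S Q (φ.comp (Subgroup.inclusion hQP)) := by
    intro g hg
    refine mem_extender_of ⟨hPS hg.1, hg.2⟩ (apply_mem_S hφ ⟨g, hg.1⟩) fun x hx => ?_
    simp only [MonoidHom.comp_apply]
    rw [← map_inv, ← map_mul, ← map_mul]
    exact apply_congr φ rfl
  obtain ⟨ψ, hψ, hψe⟩ := saturated_extend p hS hE hres hc hN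
  obtain ⟨z, -, -, hz⟩ := centric_uniqueness p hS hF hlt1.le hQ (hsub _ hψ)
    (restrict_mem hφ hN₁) fun x hx => (hψe x hx x.2).trans (apply_congr φ rfl)
  have hN₁E : φ.comp (Subgroup.inclusion hN₁) ∈ E₀.Hom (normalizerIn P Q) :=
    conjHom_mem_comp hψ z hz
  have hcard : Nat.card Q < Nat.card (normalizerIn P Q) :=
    lt_of_not_ge fun hge => hlt1.ne (eq_of_le_of_card_le (hN₁.trans hPS) hlt1.le hge)
  have hcard' : Nat.card (normalizerIn P Q) ≤ Nat.card P := card_le_of_le hPS hN₁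
  exact IH (Nat.card P - Nat.card (normalizerIn P Q)) (by omega) rfl hN₁
    (isCentric_mono hQ hlt1.le (hN₁.trans hPS)) hN₁E

theorem eq_of_autGroup_S (hinv : E₀.IsInvariantIn F) (h : F.autGroup S ≤ E₀.autGroup S)
    (P : Subgroup Ω) : E₀.Hom P = F.Hom P := by
  refine Set.Subset.antisymm (hinv.1 P) fun φ hφ => ?_
  have hP := le_of_mem_hom hφ
  obtain ⟨α, hα, φ₀, hφ₀, he⟩ := hinv.2.2.2 P hP φ hφ
  exact comp_mem_of_eq hφ₀ ((autGroup_carrier le_rfl).1 (h hα)) (fun x => apply_mem_S hφ₀ x)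
    fun x => he x _

/-- Simplicity from the lack of strongly closed subgroups. -/
theorem isSimple_of (p : ℕ) (hF : F.IsSaturated p) (hS1 : S ≠ ⊥)
    (hsc : ∀ T : Subgroup Ω, F.StronglyClosed T → T = ⊥ ∨ T = S)
    (htop : ∀ E : FusionSystem S, E.IsSaturated p → E.IsInvariantIn F →
      F.autGroup S ≤ E.autGroup S) : F.IsSimple p := by
  refine ⟨hF, hS1, fun T E hE => ?_⟩
  obtain ⟨⟨hEs, -, hEi⟩, -⟩ := hE
  refine (hsc T hEi.2.1).imp id fun hTS => ?_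
  subst hTS
  exact ⟨rfl, eq_of_autGroup_S hEi (htop E hEs hEi)⟩

theorem isSimple_of_inn (p : ℕ) (hF : F.IsSaturated p) (hS1 : S ≠ ⊥)
    (hsc : ∀ T : Subgroup Ω, F.StronglyClosed T → T = ⊥ ∨ T = S)
    (htop : F.autGroup S = Inn S) : F.IsSimple p :=
  isSimple_of p hF hS1 hsc fun _ _ _ => htop ▸ inn_le_autGroup le_rfl

end CfsgLib.Fusion
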