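import Cfsg.Agent.Fusion.ModelGroup
import Cfsg.Agent.Fusion.Realized

/-!
Every model is isomorphic, compatibly with the embedding of `S`, to the monomial model: uniqueness
and rigidity of models.
-/

set_option autoImplicit false

open Cfsg Cfsg.FusionSystem
open scoped IsMulCommutative

namespace CfsgLib.Fusion

universe u v

variable {Ω : Type u} [Group Ω] {S : Subgroup Ω} {F : FusionSystem S} {G : Type v} [Group G]
  {ι : S →* G} [Finite S]

/-- The image of a normal subgroup of the system is normal in a model. -/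
theorem normal_img_of_isNormal (p : ℕ) [Fact p.Prime] (h : F.IsModel p G ι) {Q : Subgroup Ω}
    (hQ : F.IsNormal Q) : (img ι Q).Normal := by
  obtain ⟨hfin, hr, ⟨T, hT⟩, hC⟩ := h
  have hn : (pCore p G).Normal := (CfsgLib.Solvable.pCore_spec (G := G) p).1
  have hle := pCore_le_range p T hT
  have hQS := normal_S_le_normalizer hQ
  refine ⟨?_⟩
  rintro _ ⟨q, hq, rfl⟩ g
  obtain ⟨φ, hφ, hφι⟩ := exists_realized_hom hr (preimg_le (pCore p G)) (g := g) fun x =>
    hle (hn.conj_mem _ (mem_preimg.1 x.2).2 g)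
  obtain ⟨ψ, hψ, hext, hmap⟩ := hQ.2 _ φ hφ
  obtain ⟨g', hg'⟩ := realized_hom hr hψ
  have hc : g'⁻¹ * g ∈ Subgroup.centralizer ((pCore p G : Subgroup G) : Set G) := by
    refine Subgroup.mem_centralizer_iff.2 fun y hy => ?_
    obtain ⟨s, rfl⟩ := hle hy
    have hsQ : (s : Ω) ∈ preimg ι (pCore p G) := mem_preimg.2 ⟨s.2, hy⟩
    have h1 := hφι ⟨s, hsQ⟩
    have h2 := hg' (Subgroup.inclusion le_sup_left ⟨s, hsQ⟩)
    rw [show (⟨_, apply_mem_S hψ (Subgroup.inclusion le_sup_left ⟨s, hsQ⟩)⟩ : S) =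
      ⟨_, apply_mem_S hφ ⟨s, hsQ⟩⟩ from Subtype.ext (hext _), h1] at h2
    simp only [Subgroup.coe_inclusion, Subtype.coe_eta] at h2
    calc ι s * (g'⁻¹ * g) = g'⁻¹ * (g' * ι s * g'⁻¹) * g := by group
      _ = g'⁻¹ * (g * ι s * g⁻¹) * g := by rw [← h2]
      _ = g'⁻¹ * g * ι s := by group
  obtain ⟨t, ht⟩ := hle (hC hc)
  have htq : (t : Ω) * q * (t : Ω)⁻¹ ∈ Q := (Subgroup.mem_normalizer_iff.1 (hQS t.2) q).1 hq
  have hin : ψ ⟨_, le_sup_right (a := preimg ι (pCore p G)) htq⟩ ∈ Q :=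
    hmap.le (apply_mem_map_subgroupOf ψ htq)
  refine ⟨⟨_, hQ.1 hin⟩, hin, (hg' _).trans ?_⟩
  rw [show (⟨(t : Ω) * q * (t : Ω)⁻¹, le_of_mem_hom hψ
    (le_sup_right (a := preimg ι (pCore p G)) htq)⟩ : S) = t * q * t⁻¹ from rfl,
    map_mul, map_mul, map_inv, ht]
  group

/-- In a model the centralizer of a normal centric subgroup is inside it. -/
theorem centralizer_img_le (p : ℕ) [Fact p.Prime] (hS : IsPGroup p S) (h : F.IsModel p G ι)
    {Q : Subgroup Ω} (hQ : F.IsNormal Q) (hQc : F.IsCentric Q) :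
    Subgroup.centralizer (img ι Q : Set G) ≤ img ι Q := by
  have hQn := normal_img_of_isNormal p h hQ
  obtain ⟨hfin, hr, ⟨T, hT⟩, hC⟩ := h
  set C := Subgroup.centralizer (img ι Q : Set G) with hCdef
  have hn : (pCore p G).Normal := (CfsgLib.Solvable.pCore_spec (G := G) p).1
  have hle := pCore_le_range p T hT
  have hCn : C.Normal := inferInstance
  have hCS : ∀ c ∈ C, c ∈ ι.range → c ∈ img ι Q := by
    rintro _ hc ⟨s, rfl⟩
    refine apply_mem_img (centralizer_mem_of_centric hQc s.2 fun x hx => ?_)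
    have h1 := Subgroup.mem_centralizer_iff.1 hc _ (apply_mem_img (ι := ι) (x := ⟨x, hQ.1 hx⟩) hx)
    rw [← map_mul, ← map_mul] at h1
    exact congrArg Subtype.val (hr.1 h1)
  -- the centralizer is a `p`-group
  have hCp : IsPGroup p C := by
    intro c
    obtain ⟨k, m, hm, he⟩ := Nat.exists_eq_pow_mul_and_not_dvd (orderOf_pos c).ne' p
      (Fact.out : p.Prime).ne_one
    refine ⟨k, ?_⟩
    have hcm : ((c : G) ^ p ^ k) ^ m = 1 := by
      rw [← pow_mul, ← he, ← Subgroup.coe_pow, pow_orderOf_eq_one, Subgroup.coe_one]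
    generalize hd : (c : G) ^ p ^ k = d at hcm
    have hdC : d ∈ C := hd ▸ pow_mem c.2 _
    have hd1 : d ∈ Subgroup.centralizer ((pCore p G : Subgroup G) : Set G) := by
      refine Subgroup.mem_centralizer_iff.2 fun y hy => ?_
      set e := y * d * y⁻¹ * d⁻¹ with hedef
      have heC : e ∈ C := mul_mem (hCn.conj_mem d hdC y) (inv_mem hdC)
      have heR : e ∈ pCore p G := by
        rw [hedef, show y * d * y⁻¹ * d⁻¹ = y * (d * y⁻¹ * d⁻¹) by group]
        exact mul_mem hy (hn.conj_mem _ (inv_mem hy) d)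
      have heQ : e ∈ img ι Q := hCS e heC (hle heR)
      have hcomm : Commute e d := Subgroup.mem_centralizer_iff.1 hdC e heQ
      have h1 : y * d * y⁻¹ = e * d := by rw [hedef]; group
      have h2 : e ^ m = 1 := by
        have h3 : (y * d * y⁻¹) ^ m = 1 := by rw [conj_pow, hcm]; group
        rw [h1, hcomm.mul_pow, hcm, mul_one] at h3
        exact h3
      obtain ⟨j, hj⟩ := CfsgLib.Solvable.isPGroup_pCore (G := G) p ⟨e, heR⟩
      have he1 : e = 1 := orderOf_eq_one_iff.1 (Nat.eq_one_of_dvd_coprimes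
        (Nat.Coprime.pow_left j ((Fact.out : p.Prime).coprime_iff_not_dvd.2 hm))
        (orderOf_dvd_of_pow_eq_one (congrArg Subtype.val hj : e ^ p ^ j = 1))
        (orderOf_dvd_of_pow_eq_one h2))
      calc y * d = y * d * y⁻¹ * d⁻¹ * (d * y) := by group
        _ = d * y := by rw [← hedef, he1, one_mul]
    obtain ⟨j, hj⟩ := CfsgLib.Solvable.isPGroup_pCore (G := G) p ⟨d, hC hd1⟩
    refine Subtype.ext ?_
    rw [Subgroup.coe_pow, hd]
    exact orderOf_eq_one_iff.1 (Nat.eq_one_of_dvd_coprimes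
      (Nat.Coprime.pow_left j ((Fact.out : p.Prime).coprime_iff_not_dvd.2 hm))
      (orderOf_dvd_of_pow_eq_one (congrArg Subtype.val hj : d ^ p ^ j = 1))
      (orderOf_dvd_of_pow_eq_one hcm))
  intro c hc
  exact hCS c hc (hle (CfsgLib.Solvable.le_pCore p hCn hCp hc))

/-- The action of a realizing group on a subgroup with normal image. -/
theorem exists_realAct (hr : F.IsRealizedBy ι) {Q : Subgroup Ω} (hQ : Q ≤ S)
    (hn : (img ι Q).Normal) :
    ∃ α : G →* F.autGroup Q, Function.Surjective α ∧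
      ∀ (g : G) (q : Q), ι ⟨(((α g : MulAut Q) q : Q) : Ω), hQ ((α g : MulAut Q) q).2⟩ =
        g * ι ⟨q, hQ q.2⟩ * g⁻¹ := by
  have hex : ∀ g : G, ∃ a : F.autGroup Q, ∀ q : Q,
      ι ⟨(((a : MulAut Q) q : Q) : Ω), hQ ((a : MulAut Q) q).2⟩ =
        g * ι ⟨q, hQ q.2⟩ * g⁻¹ := by
    intro g
    obtain ⟨φ, hφ, hφι⟩ := exists_realized_hom hr hQ (g := g) fun q =>
      img_le_range Q (hn.conj_mem _ (apply_mem_img (ι := ι) (x := ⟨q, hQ q.2⟩) q.2) g)
    have hrange : φ.range = Q := by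
      refine eq_of_le_of_card_le hQ ?_ (card_range hφ).ge
      rintro _ ⟨q, rfl⟩
      refine (mem_img hr.1 (x := ⟨_, apply_mem_S hφ q⟩)).1 ?_
      rw [hφι]
      exact hn.conj_mem _ (apply_mem_img (ι := ι) (x := ⟨q, hQ q.2⟩) q.2) g
    refine ⟨⟨_, autOfRange_mem hφ hrange⟩, fun q => ?_⟩
    rw [← hφι q]
    exact congrArg ι (Subtype.ext (coe_autOfRange φ (F.injective_of_mem hφ) hrange q))
  choose a ha using hex
  have hext : ∀ x y : F.autGroup Q, (∀ q : Q,
      ι ⟨(((x : MulAut Q) q : Q) : Ω), hQ ((x : MulAut Q) q).2⟩ =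
        ι ⟨(((y : MulAut Q) q : Q) : Ω), hQ ((y : MulAut Q) q).2⟩) → x = y := fun x y h =>
    Subtype.ext (MulEquiv.ext fun q =>
      Subtype.ext (congrArg (fun s : S => (s : Ω)) (hr.1 (h q))))
  refine ⟨MonoidHom.mk' a fun g₁ g₂ => hext _ _ fun q => ?_, ?_, ha⟩
  · simp only [Subgroup.coe_mul, MulAut.mul_apply]
    rw [ha, ha, ha]
    group
  · intro b
    obtain ⟨g, hg⟩ := realized_hom hr ((autGroup_carrier hQ).1 b.2)
    refine ⟨g, hext _ _ fun q => ?_⟩
    show ι ⟨(((a g : MulAut Q) q : Q) : Ω), _⟩ = _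
    rw [ha]
    exact (hg q).symm

/-- The action of a model on a normal subgroup of the system. -/
theorem exists_modelAct (p : ℕ) [Fact p.Prime] (h : F.IsModel p G ι) {Q : Subgroup Ω}
    (hQ : F.IsNormal Q) :
    ∃ α : G →* F.autGroup Q, Function.Surjective α ∧
      ∀ (g : G) (q : Q), ι ⟨(((α g : MulAut Q) q : Q) : Ω), hQ.1 ((α g : MulAut Q) q).2⟩ =
        g * ι ⟨q, hQ.1 q.2⟩ * g⁻¹ :=
  exists_realAct h.2.1 hQ.1 (normal_img_of_isNormal p h hQ)

namespace Model

variable {Q : Subgroup Ω}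
  [hN : Fact (S ≤ Subgroup.normalizer (Q : Set Ω))] [hQS : Fact (Q ≤ S)]
  (p : ℕ) [Fact p.Prime] (hS : IsPGroup p S) (hF : F.IsSaturated p)
  (hfn : F.IsFullyNormalized Q)

/-- Every model maps isomorphically onto the monomial model, compatibly with `S`. -/
theorem exists_model_hom (hQc : F.IsCentric Q) [(kerMu hQc).Normal] (hr' : F.IsRealizedBy ι)
    (hn : (img ι Q).Normal) (hC : Subgroup.centralizer (img ι Q : Set G) ≤ img ι Q) :
    ∃ Φ : G →* mono F Q ⧸ kerMu hQc, Function.Bijective Φ ∧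
      ∀ s : S, Φ (ι s) = (lift p hS hF hfn s : mono F Q ⧸ kerMu hQc) := by
  obtain ⟨α, hαs, hα⟩ := exists_realAct hr' hQS.out hn
  have hinj : Function.Injective ι := hr'.1
  have hαι : ∀ s : S, α (ι s) = theta F Q s := by
    intro s
    refine Subtype.ext (MulEquiv.ext fun q => Subtype.ext (congrArg (fun s : S => (s : Ω))
      (hinj (a₁ := ⟨_, hQS.out ((α (ι s) : MulAut Q) q).2⟩)
        (a₂ := ⟨_, hQS.out ((theta F Q s : MulAut Q) q).2⟩) ?_)))
    rw [hα, ← map_inv, ← map_mul, ← map_mul]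
    exact congrArg ι (Subtype.ext (theta_apply F Q s q).symm)
  have hker : ∀ g, α g = 1 → g ∈ ι.range := by
    intro g hg
    refine img_le_range Q (hC (Subgroup.mem_centralizer_iff.2 ?_))
    rintro _ ⟨x, hx, rfl⟩
    have := hα g ⟨x, hx⟩
    rw [hg] at this
    calc ι x * g = g * ι ⟨x, hQS.out hx⟩ * g⁻¹ * g := by rw [← this]; rfl
      _ = g * ι x := by rw [inv_mul_cancel_right]
  choose r hr using fun c : Pts F Q => hαs (rep F Q c)
  have hcoord : ∀ (g : G) (c : Pts F Q), ∃ s : S, ι s = r c * g * (r ((α g)⁻¹ • c))⁻¹ := by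
    intro g c
    obtain ⟨s, hs⟩ := exists_theta F Q (rep_mul_mem (α g) (c := c) rfl)
    obtain ⟨t, ht⟩ := hker ((ι s)⁻¹ * (r c * g * (r ((α g)⁻¹ • c))⁻¹))
      (by rw [map_mul, map_inv, hαι, hs, map_mul, map_mul, map_inv, hr, hr, inv_mul_cancel])
    exact ⟨s * t, by rw [map_mul, ht, mul_inv_cancel_left]⟩
  choose co hco using hcoord
  have hmem : ∀ g : G, (⟨co g, α g⟩ : Wr F Q) ∈ mono F Q := by
    intro g c
    show theta F Q (co g c) = _
    rw [← hαι, hco, map_mul, map_mul, map_inv, hr, hr]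
  let τ : G →* mono F Q := MonoidHom.mk' (fun g => ⟨⟨co g, α g⟩, hmem g⟩) fun g₁ g₂ => by
    refine mono_ext (map_mul α g₁ g₂) fun c => hinj ?_
    rw [mono_left_mul]
    show ι (co (g₁ * g₂) c) = ι (co g₁ c * co g₂ ((α g₁)⁻¹ • c))
    rw [map_mul ι]
    rw [hco, hco, hco, map_mul, mul_inv_rev, mul_smul]
    group
  have hτQ : ∀ q : Q, τ (ι ⟨q, hQS.out q.2⟩) = lift p hS hF hfn ⟨q, hQS.out q.2⟩ := by
    intro q
    refine mono_ext ((hαι _).trans (proj_lift p hS hF hfn _).symm) fun c => ?_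
    refine Subtype.ext (Eq.trans ?_ (lift_left_Q p hS hF hfn q c).symm)
    refine congrArg Subtype.val (hinj (show ι (co (ι ⟨q, hQS.out q.2⟩) c) =
      ι ⟨_, hQS.out ((rep F Q c : MulAut Q) q).2⟩ from ?_))
    rw [hco, ← hr c, hα, hαι, show (theta F Q ⟨q, hQS.out q.2⟩)⁻¹ • c = c by
      rw [inv_smul_eq_iff]; exact (theta_Q_smul q.2 c).symm]
  let v : S →* mono F Q :=
    (lift p hS hF hfn).comp (S.subtype.codRestrict S fun y => y.2)
  have hu : Compat (τ.comp ι) := by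
    intro c R hR hfix
    obtain ⟨χ, hχ, hχι⟩ := exists_realized_hom hr' (fun x hx => hR hx) (g := r c) fun x => by
      refine ⟨co (ι (Subgroup.inclusion hR x)) c, ?_⟩
      rw [hco, show (α (ι (Subgroup.inclusion hR x)))⁻¹ • c = c from hfix x]
      rfl
    refine ⟨χ, hχ, fun x => congrArg Subtype.val (hinj (show ι ⟨_, apply_mem_S hχ x⟩ =
      ι (co (ι (Subgroup.inclusion hR x)) c) from ?_))⟩
    rw [hχι, hco, show (α (ι (Subgroup.inclusion hR x)))⁻¹ • c = c from hfix x]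
    rfl
  have hv : Compat v := compat_lift p hS hF hfn (subtype_mem le_rfl)
  obtain ⟨w, hw, hwc⟩ := exists_fibre_conj p hS hF hfn hQc hQS.out (τ.comp ι) v hu hv
    (fun x => hαι x) 1 (fun q => hτQ q) (fun q => rfl)
  let Φ : G →* mono F Q ⧸ kerMu hQc :=
    (QuotientGroup.mk' (kerMu hQc)).comp ((MulAut.conj w).toMonoidHom.comp τ)
  have hΦι : ∀ s : S, Φ (ι s) = (lift p hS hF hfn s : mono F Q ⧸ kerMu hQc) := fun s =>
    (congrArg (QuotientGroup.mk' (kerMu hQc)) (hwc s)).symm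
  let π : mono F Q ⧸ kerMu hQc →* F.autGroup Q :=
    QuotientGroup.lift _ (proj F Q) fun y hy => ((mem_kerMu hQc).1 hy).1
  have hπΦ : ∀ g, π (Φ g) = α g := by
    intro g
    show proj F Q (w * τ g * w⁻¹) = _
    rw [map_mul, map_mul, map_inv, hw, inv_one, mul_one, one_mul]
    rfl
  refine ⟨Φ, ⟨(injective_iff_map_eq_one Φ).2 fun g hg => ?_, fun y => ?_⟩, hΦι⟩
  · obtain ⟨s, rfl⟩ := hker g (by rw [← hπΦ, hg, map_one])
    rw [eq_one_of_lift_mem p hS hF hfn hQc
      ((QuotientGroup.eq_one_iff _).1 ((hΦι s).symm.trans hg)), map_one]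
  · obtain ⟨g, hg⟩ := hαs (π y)
    obtain ⟨x, hx⟩ := QuotientGroup.mk_surjective ((Φ g)⁻¹ * y)
    have hx1 : proj F Q x = 1 := by
      show π (x : mono F Q ⧸ kerMu hQc) = 1
      rw [hx, map_mul, map_inv, hπΦ, hg, inv_mul_cancel]
    obtain ⟨z, hz⟩ := exists_center_mul p hS hF hfn hQc hx1
    refine ⟨g * ι ⟨((z : Q) : Ω), hQS.out (z : Q).2⟩, ?_⟩
    rw [map_mul, hΦι, QuotientGroup.eq.2 hz, hx, mul_inv_cancel_left]

end Model

open Model in
/-- Two groups realizing a constrained system, each with normal self-centralizing image of a normal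
centric subgroup, are isomorphic compatibly with `S`. -/
theorem realized_unique (p : ℕ) [Fact p.Prime] (hS : IsPGroup p S) (hsat : F.IsSaturated p)
    {Q : Subgroup Ω} (hQn : F.IsNormal Q) (hQc : F.IsCentric Q) (h : F.IsRealizedBy ι)
    (hn : (img ι Q).Normal) (hC : Subgroup.centralizer (img ι Q : Set G) ≤ img ι Q)
    {G' : Type*} [Group G'] {ι' : S →* G'} (h' : F.IsRealizedBy ι') (hn' : (img ι' Q).Normal)
    (hC' : Subgroup.centralizer (img ι' Q : Set G') ≤ img ι' Q) :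
    ∃ φ : G ≃* G', ∀ x : S, φ (ι x) = ι' x := by
  haveI hN : Fact (S ≤ Subgroup.normalizer (Q : Set Ω)) := ⟨normal_S_le_normalizer hQn⟩
  haveI hQS : Fact (Q ≤ S) := ⟨hQn.1⟩
  have hfn : F.IsFullyNormalized Q := ⟨hQn.1, fun R _ => by
    rw [show normalizerIn S Q = S from le_antisymm (normalizerIn_le_S Q) (le_inf le_rfl hN.out)]
    exact card_le_of_le le_rfl (normalizerIn_le_S R)⟩
  haveI := kerMu_normal (F := F) hQc
  obtain ⟨Φ, hΦ, hΦι⟩ := exists_model_hom p hS hsat hfn hQc h hn hC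
  obtain ⟨Φ', hΦ', hΦ'ι⟩ := exists_model_hom p hS hsat hfn hQc h' hn' hC'
  refine ⟨(MulEquiv.ofBijective Φ hΦ).trans (MulEquiv.ofBijective Φ' hΦ').symm, fun x => ?_⟩
  show (MulEquiv.ofBijective Φ' hΦ').symm (Φ (ι x)) = ι' x
  rw [MulEquiv.symm_apply_eq]
  exact (hΦι x).trans (hΦ'ι x).symm

/-- **Uniqueness of models.** -/
theorem model_unique (p : ℕ) [Fact p.Prime] (hS : IsPGroup p S) (hF : F.IsConstrained p)
    {G' : Type*} [Group G'] {ι' : S →* G'} (h : F.IsModel p G ι) (h' : F.IsModel p G' ι') :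
    ∃ φ : G ≃* G', ∀ x : S, φ (ι x) = ι' x := by
  obtain ⟨hsat, Q, hQn, hQc⟩ := hF
  exact realized_unique p hS hsat hQn hQc h.2.1 (normal_img_of_isNormal p h hQn)
    (centralizer_img_le p hS h hQn hQc) h'.2.1 (normal_img_of_isNormal p h' hQn)
    (centralizer_img_le p hS h' hQn hQc)

/-- **Rigidity of models**: an automorphism fixing `S` is conjugation by a central element of
`S`. -/
theorem model_rigid (p : ℕ) [Fact p.Prime] (hS : IsPGroup p S) (hF : F.IsConstrained p)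
    (h : F.IsModel p G ι) (ψ : G ≃* G) (hψ : ∀ x : S, ψ (ι x) = ι x) :
    ∃ z : S, z ∈ Subgroup.center S ∧ ∀ g : G, ψ g = ι z * g * (ι z)⁻¹ := by
  obtain ⟨-, Q, hQn, hQc⟩ := hF
  have hn := normal_img_of_isNormal p h hQn
  have hcle := centralizer_img_le p hS h hQn hQc
  have := h.1
  set Z : Subgroup G := Subgroup.centralizer (img ι Q : Set G) with hZ
  have hZle : ∀ a ∈ Z, ∀ b ∈ Z, a * b = b * a := fun a ha b hb =>
    Subgroup.mem_centralizer_iff.1 hb a (hcle ha)
  haveI : IsMulCommutative Z := ⟨⟨fun a b => Subtype.ext (hZle _ a.2 _ b.2)⟩⟩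
  haveI hZn : Z.Normal := inferInstance
  have hd : ∀ g : G, ψ g * g⁻¹ ∈ Z := by
    intro g
    refine Subgroup.mem_centralizer_iff.2 ?_
    intro y hy
    have hy' : g⁻¹ * y * g ∈ img ι Q := by simpa using hn.conj_mem y hy g⁻¹
    obtain ⟨a, -, ha⟩ := hy'
    have h2 : ψ (g⁻¹ * y * g) = g⁻¹ * y * g := by rw [← ha, hψ]
    have h3 : ψ y = y := by
      obtain ⟨b, -, rfl⟩ := hy
      exact hψ b
    rw [map_mul, map_mul, map_inv, h3] at h2
    calc y * (ψ g * g⁻¹) = ψ g * ((ψ g)⁻¹ * y * ψ g) * g⁻¹ := by group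
      _ = ψ g * g⁻¹ * y := by rw [h2]; group
  let d : G → Z := fun g => ⟨ψ g * g⁻¹, hd g⟩
  let cz : G → Z → Z := fun g a => ⟨g * a * g⁻¹, hZn.conj_mem _ a.2 g⟩
  have hmul : ∀ g k : G, d (g * k) = d g * cz g (d k) := fun g k => Subtype.ext (by
    show ψ (g * k) * (g * k)⁻¹ = ψ g * g⁻¹ * (g * (ψ k * k⁻¹) * g⁻¹)
    rw [map_mul]; group)
  let T : Subgroup G := ι.range
  let dq : G ⧸ T → Z := fun c => Quotient.liftOn' c d fun a b hab => by
    rw [QuotientGroup.leftRel_apply] at hab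
    obtain ⟨s, hs⟩ := hab
    refine Subtype.ext ?_
    show ψ a * a⁻¹ = ψ b * b⁻¹
    rw [show b = a * ι s by rw [hs]; group, map_mul, hψ]
    group
  have hdq : ∀ g : G, dq (g : G ⧸ T) = d g := fun g => rfl
  have := Fintype.ofFinite (G ⧸ T)
  let W : Z := ∏ c : G ⧸ T, dq c
  let czh : G → (Z →* Z) := fun g =>
    { toFun := cz g
      map_one' := Subtype.ext (show g * 1 * g⁻¹ = 1 by group)
      map_mul' := fun a b => Subtype.ext
        (show g * ((a : G) * b) * g⁻¹ = g * a * g⁻¹ * (g * b * g⁻¹) by group) }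
  have hW : ∀ g : G, W = d g ^ T.index * cz g W := by
    intro g
    calc W = ∏ c : G ⧸ T, dq (g • c) :=
          (Equiv.prod_comp (MulAction.toPerm g) dq).symm
      _ = ∏ c : G ⧸ T, d g * czh g (dq c) := by
          refine Finset.prod_congr rfl fun c _ => ?_
          obtain ⟨k, rfl⟩ := QuotientGroup.mk_surjective c
          rw [MulAction.Quotient.smul_coe, smul_eq_mul, hdq, hdq]
          exact hmul g k
      _ = d g ^ T.index * cz g W := by
          rw [Finset.prod_mul_distrib, Finset.prod_const, Finset.card_univ,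
            ← Nat.card_eq_fintype_card, ← map_prod]
          rfl
  have hcop : (Nat.card Z).Coprime T.index := by
    have hZp : IsPGroup p Z := ((hS.of_surjective ι.rangeRestrict
      ι.rangeRestrict_surjective).to_le (img_le_range Q)).to_le hcle
    obtain ⟨k, hk⟩ := IsPGroup.iff_card.1 hZp
    rw [hk]
    obtain ⟨T', hT'⟩ := h.2.2.1
    refine Nat.Coprime.pow_left k ((Fact.out : p.Prime).coprime_iff_not_dvd.2 ?_)
    show ¬ p ∣ ι.range.index
    rw [← hT']
    exact T'.not_dvd_index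
  obtain ⟨v, hv⟩ := (powCoprime hcop).surjective W
  have key : ∀ g : G, ψ g = (v : G) * g * (v : G)⁻¹ := by
    intro g
    have h1 := hW g
    rw [← hv] at h1
    simp only [powCoprime_apply] at h1
    rw [show cz g (v ^ T.index) = czh g (v ^ T.index) from rfl, map_pow, ← mul_pow] at h1
    have h2 := congrArg Subtype.val ((powCoprime hcop).injective h1)
    change (v : G) = ψ g * g⁻¹ * (g * v * g⁻¹) at h2
    calc ψ g = ψ g * g⁻¹ * (g * v * g⁻¹) * g * (v : G)⁻¹ := by group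
      _ = (v : G) * g * (v : G)⁻¹ := by rw [← h2]
  obtain ⟨z, hzQ, hz⟩ := hcle v.2
  refine ⟨z, Subgroup.mem_center_iff.2 fun s => h.2.1.1 ?_, fun g => by rw [hz]; exact key g⟩
  have := key (ι s)
  rw [hψ, ← hz] at this
  rw [map_mul, map_mul]
  calc ι s * ι z = ι z * ι s * (ι z)⁻¹ * ι z := by rw [← this]
    _ = ι z * ι s := by rw [inv_mul_cancel_right]

end CfsgLib.Fusion
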