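import Cfsg.Agent.Fusion.LocalSaturation
import Cfsg.Agent.Fusion.ModelUnique
import Cfsg.Agent.Fusion.Invariant

/-!
Normalizer systems of centric subgroups and their models.
-/

set_option autoImplicit false

open Cfsg Cfsg.FusionSystem

namespace CfsgLib.Fusion

universe u v

variable {Ω : Type u} [Group Ω] {S : Subgroup Ω} {F : FusionSystem S} [Finite S]
  {Q : Subgroup Ω} {E : FusionSystem (normalizerIn S Q)}

theorem isNormal_normalizerSystem (hQ : Q ≤ S) (hE : F.IsNormalizerSystem Q E) : E.IsNormal Q := by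
  have hk := isKNorm_normalizer hQ hE
  refine ⟨le_normalizerIn hQ, fun P φ hφ => ?_⟩
  obtain ⟨hφF, hP, hφT, ψ, hψ, he, k, -, hkq⟩ := (hk.hom P φ).1 hφ
  have hm : (Q.subgroupOf (P ⊔ Q)).map ψ = Q := by
    ext y
    rw [mem_map_subgroupOf]
    constructor
    · rintro ⟨x, hx, hxQ, rfl⟩
      exact Set.mem_of_eq_of_mem ((apply_congr ψ rfl).trans (hkq ⟨x, hxQ⟩)) (k _).2
    · intro hy
      exact ⟨_, Subgroup.mem_sup_right (k⁻¹ ⟨y, hy⟩).2, (k⁻¹ ⟨y, hy⟩).2,
        (hkq _).trans (by simp)⟩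
  have hN : ∀ x, ψ x ∈ normalizerIn S Q := by
    intro x
    have hx : ψ x ∈ ψ.range := ⟨x, rfl⟩
    rw [range_eq_sup, hm] at hx
    refine (sup_le ?_ (le_normalizerIn hQ) : _ ≤ normalizerIn S Q) hx
    intro y hy
    obtain ⟨z, hz, hzP, rfl⟩ := mem_map_subgroupOf.1 hy
    exact Set.mem_of_eq_of_mem ((apply_congr ψ rfl).trans (he ⟨z, hzP⟩)) (hφT _)
  refine ⟨ψ, (hk.hom _ ψ).2 ⟨hψ, sup_le hP (le_normalizerIn hQ), hN,
    ψ.comp (Subgroup.inclusion (sup_le le_rfl le_sup_right)),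
    restrict_mem hψ (sup_le le_rfl le_sup_right), fun x => rfl, k, trivial, hkq⟩, he, hm⟩

theorem isCentric_normalizerSystem (hQ : F.IsCentric Q) (hE : F.IsNormalizerSystem Q E) :
    E.IsCentric Q := by
  have hk := isKNorm_normalizer hQ.1 hE
  refine ⟨le_normalizerIn hQ.1, fun R hR => ?_⟩
  obtain ⟨φ, hφ, rfl⟩ := hR
  intro x hx
  exact hQ.2 φ.range ⟨φ, ((hk.hom Q φ).1 hφ).1, rfl⟩ ⟨normalizerIn_le_S Q hx.1, hx.2⟩

theorem autGroup_normalizerSystem (hQ : Q ≤ S) (hE : F.IsNormalizerSystem Q E) :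
    E.autGroup Q = F.autGroup Q := by
  have hk := isKNorm_normalizer hQ hE
  ext α
  rw [autGroup_carrier (le_normalizerIn hQ), autGroup_carrier hQ]
  refine ⟨fun h => ((hk.hom _ _).1 h).1, fun h => (hk.hom _ _).2
    ⟨h, le_normalizerIn hQ, fun x => le_normalizerIn hQ (α x).2,
      (Q.subtype.comp α.toMonoidHom).comp (Subgroup.inclusion (sup_le le_rfl le_rfl)),
      restrict_mem h (sup_le le_rfl le_rfl), fun x => rfl, α, trivial, fun q => rfl⟩⟩

/-- The normalizer system of a fully normalized centric subgroup is constrained. -/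
theorem constrained_normalizerSystem (p : ℕ) [Fact p.Prime] (hS : IsPGroup p S)
    (hF : F.IsSaturated p) (hn : F.IsFullyNormalized Q) (hc : F.IsCentric Q)
    (hE : F.IsNormalizerSystem Q E) : E.IsConstrained p :=
  ⟨normalizerSystem_saturated p hS hF hn hE, Q, isNormal_normalizerSystem hn.1 hE,
    isCentric_normalizerSystem hc hE⟩

/-- In a model, a normal centric radical subgroup of the system is the largest normal
`p`-subgroup. -/
theorem pCore_model_eq {G : Type v} [Group G] {ι : S →* G} (p : ℕ) [Fact p.Prime]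
    (hS : IsPGroup p S) (h : F.IsModel p G ι) (hQ : F.IsNormal Q) (hc : F.IsCentric Q)
    (hr : F.IsRadical p Q) : pCore p G = img ι Q := by
  have hn := normal_img_of_isNormal p h hQ
  have hcle := centralizer_img_le p hS h hQ hc
  have : Finite G := h.1
  obtain ⟨α, hαs, hα⟩ := exists_modelAct p h hQ
  have hp : IsPGroup p (img ι Q) :=
    (hS.of_surjective ι.rangeRestrict ι.rangeRestrict_surjective).to_le (img_le_range Q)
  refine le_antisymm (fun g hg => ?_) (CfsgLib.Solvable.le_pCore p hn hp)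
  have := finite_of_le hQ.1
  have : Finite (MulAut Q) := finite_mulAut
  have h1 : α g ∈ pCore p (F.autGroup Q) := CfsgLib.Solvable.le_pCore p
    ((CfsgLib.Solvable.pCore_spec (G := G) p).1.map α hαs)
    ((CfsgLib.Solvable.isPGroup_pCore (G := G) p).map α) ⟨g, hg, rfl⟩
  have h2 : (α g : MulAut Q) ∈ Inn Q := hr.2 ▸ ⟨α g, h1, rfl⟩
  rw [inn_eq_autInducedBy] at h2
  obtain ⟨q, hq, hqα⟩ := mem_autInducedBy.1 h2
  let s : S := ⟨q, hQ.1 hq⟩
  have hs : ι s ∈ img ι Q := apply_mem_img hq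
  have hc' : (ι s)⁻¹ * g ∈ Subgroup.centralizer (img ι Q : Set G) := by
    refine Subgroup.mem_centralizer_iff.2 ?_
    rintro _ ⟨x, hx, rfl⟩
    have h3 := hα g ⟨x, hx⟩
    rw [show (⟨(((α g : MulAut Q) ⟨x, hx⟩ : Q) : Ω),
      hQ.1 ((α g : MulAut Q) ⟨x, hx⟩).2⟩ : S) = s * x * s⁻¹ from Subtype.ext (hqα ⟨x, hx⟩),
      map_mul, map_mul, map_inv] at h3
    calc ι x * ((ι s)⁻¹ * g) = (ι s)⁻¹ * (ι s * ι x * (ι s)⁻¹) * g := by group
      _ = (ι s)⁻¹ * (g * ι x * g⁻¹) * g := by rw [h3]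
      _ = (ι s)⁻¹ * g * ι x := by group
  rw [show g = ι s * ((ι s)⁻¹ * g) by group]
  exact mul_mem hs (hcle hc')

end CfsgLib.Fusion
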