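import Cfsg.Prelude.Def_FusionReduction
import Cfsg.Agent.Fusion.Factor
import Cfsg.Agent.Fusion.LocalSaturation
import Cfsg.Agent.Fusion.NormalizerModel
import Cfsg.Agent.Fusion.NormalCriteria
import Cfsg.Agent.Fusion.LocalModels

/-!
A criterion for a saturated system to be inner: an induction over the order of `S` reducing to a
statement about models.
-/

set_option autoImplicit false

open Cfsg Cfsg.FusionSystem

namespace CfsgLib.Fusion

universe u

variable {Ω : Type u} [Group Ω] {S : Subgroup Ω} {F : FusionSystem S}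

/-- All maps are conjugations by elements of `S`. -/
def IsInner (F : FusionSystem S) : Prop :=
  ∀ (P : Subgroup Ω) (φ : P →* Ω), φ ∈ F.Hom P → ∃ g ∈ S, ∀ x : P, φ x = g * x * g⁻¹

theorem isInner_iff : IsInner F ↔ ∀ P : Subgroup Ω, F.Hom P = (innerFusionSystem S).Hom P := by
  constructor
  · intro h P
    refine Set.Subset.antisymm (fun φ hφ => ⟨le_of_mem_hom hφ, h P φ hφ⟩) ?_
    exact inner_le F P
  · intro h P φ hφ
    rw [h] at hφ
    exact hφ.2

/-- All maps of `N_F(Q)` are conjugations by elements of `N_S(Q)`. -/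
def InnerAt (F : FusionSystem S) (Q : Subgroup Ω) : Prop :=
  ∀ (P : Subgroup Ω) (φ : P →* Ω), φ ∈ F.normalizerHom Q P →
    ∃ g ∈ normalizerIn S Q, ∀ x : P, φ x = g * x * g⁻¹

theorem innerAt_iff {Q : Subgroup Ω} (hQ : Q ≤ S) :
    InnerAt F Q ↔ ∀ N : FusionSystem (normalizerIn S Q), F.IsNormalizerSystem Q N →
      ∀ P : Subgroup Ω, N.Hom P = (innerFusionSystem (normalizerIn S Q)).Hom P := by
  constructor
  · intro h N hN P
    refine (isInner_iff.1 (fun R φ hφ => ?_)) P
    rw [hN] at hφ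
    exact h R φ hφ
  · intro h P φ hφ
    exact (isInner_iff.2 (h _ (normSystem_spec F Q hQ))) P φ hφ

/-- `C ≤ S` is invariant under all automorphisms of `S`. -/
def IsCharIn (S C : Subgroup Ω) : Prop := C ≤ S ∧ ∀ a : MulAut S, a ∈ stabX S C

theorem IsCharIn.le_normalizer {C : Subgroup Ω} (h : IsCharIn S C) [Finite S] :
    S ≤ Subgroup.normalizer (C : Set Ω) := fun g hg => by
  refine mem_normalizer_of_conj_mem h.1 fun x hx => ?_
  exact (h.2 (MulAut.conj ⟨g, hg⟩) ⟨x, h.1 hx⟩).2 hx

theorem IsCharIn.normalizerIn_eq {C : Subgroup Ω} (h : IsCharIn S C) [Finite S] :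
    normalizerIn S C = S :=
  le_antisymm (normalizerIn_le_S C) fun _ hg => ⟨hg, h.le_normalizer hg⟩

theorem InnerAt.of_le {E : FusionSystem S} (hle : ∀ P, E.Hom P ⊆ F.Hom P) {Q : Subgroup Ω}
    (h : InnerAt F Q) : InnerAt E Q := by
  rintro P φ ⟨hφ, hP, hN, ψ, hψ, he, hm⟩
  exact h P φ ⟨hle _ hφ, hP, hN, ψ, hle _ hψ, he, hm⟩

theorem innerAt_of_isInner [Finite S] (h : IsInner F) (Q : Subgroup Ω) : InnerAt F Q := by
  rintro P φ ⟨-, -, -, ψ, hψ, he, hm⟩
  obtain ⟨g, hg, hgx⟩ := h _ ψ hψ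
  have hQS : Q ≤ S := le_sup_right.trans (le_of_mem_hom hψ)
  refine ⟨g, ⟨hg, mem_normalizer_of_conj_mem hQS fun x hx => ?_⟩,
    fun x => (he x).symm.trans (hgx _)⟩
  rw [← hgx ⟨x, Subgroup.mem_sup_right hx⟩]
  exact hm.le (apply_mem_map_subgroupOf ψ hx)

/-- An inner system with a model: the model is the image of `S`. -/
theorem isInner_of_range_top {G : Type*} [Group G] {ι : S →* G} (h : F.IsRealizedBy ι)
    (htop : ι.range = ⊤) : IsInner F := by
  intro P φ hφ
  obtain ⟨g, hg⟩ := realized_hom h hφ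
  obtain ⟨s, rfl⟩ := htop.ge (Subgroup.mem_top g)
  refine ⟨s, s.2, fun x => ?_⟩
  have := hg x
  rw [← map_inv, ← map_mul, ← map_mul] at this
  exact congrArg Subtype.val (h.1 this)

variable [Finite S]

/-- In a model, the normalizer of `W` is inside the image of `S` when `N_F(W)` is inner. -/
theorem normalizer_img_le (p : ℕ) [Fact p.Prime] (hS : IsPGroup p S) {G : Type*} [Group G]
    {ι : S →* G} (h : F.IsModel p G ι) {Q : Subgroup Ω} (hQ : F.IsNormal Q) (hQc : F.IsCentric Q)
    {W : Subgroup Ω} (hWS : W ≤ S) (hW : S ≤ Subgroup.normalizer (W : Set Ω))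
    (hinn : InnerAt F W) :
    Subgroup.normalizer ((img ι W : Subgroup G) : Set G) ≤ ι.range := by
  intro g hg
  have hn := normal_img_of_isNormal p h hQ
  have hcle := centralizer_img_le p hS h hQ hQc
  have hNW : normalizerIn S W = S :=
    le_antisymm (normalizerIn_le_S W) fun _ hx => ⟨hx, hW hx⟩
  obtain ⟨-, hr, -, -⟩ := h
  have hP : Q ⊔ W ≤ S := sup_le hQ.1 hWS
  have hgQ : ∀ x : S, (x : Ω) ∈ Q → g * ι x * g⁻¹ ∈ img ι Q := fun x hx =>
    hn.conj_mem _ (apply_mem_img hx) g
  have hgW : ∀ x : S, (x : Ω) ∈ W → g * ι x * g⁻¹ ∈ img ι W := fun x hx =>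
    (Subgroup.mem_normalizer_iff.1 hg _).1 (apply_mem_img hx)
  have hle : Q ⊔ W ≤
      (ι.range.comap ((MulAut.conj g).toMonoidHom.comp ι)).map S.subtype := by
    refine sup_le (fun x hx => ⟨⟨x, hQ.1 hx⟩, ?_, rfl⟩) fun x hx => ⟨⟨x, hWS hx⟩, ?_, rfl⟩
    · exact img_le_range Q (hgQ ⟨x, hQ.1 hx⟩ hx)
    · exact img_le_range W (hgW ⟨x, hWS hx⟩ hx)
  obtain ⟨φ, hφ, hφι⟩ := exists_realized_hom hr hP (g := g) fun x => by
    obtain ⟨y, hy, hyx⟩ := hle x.2
    rw [← show y = ⟨x, hP x.2⟩ from Subtype.ext hyx]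
    exact hy
  have hsub : (Q ⊔ W) ⊔ W ≤ Q ⊔ W := sup_le le_rfl le_sup_right
  obtain ⟨s, hs, hsx⟩ := hinn (Q ⊔ W) φ ⟨hφ, hP.trans hNW.ge,
    fun x => hNW.ge (apply_mem_S hφ x), φ.comp (Subgroup.inclusion hsub),
    restrict_mem hφ hsub, fun x => rfl, by
      ext y
      rw [mem_map_subgroupOf]
      constructor
      · rintro ⟨x, hx, hxW, rfl⟩
        refine (mem_img hr.1 (x := ⟨_, apply_mem_S hφ _⟩)).1 ?_
        rw [hφι]
        exact hgW ⟨x, hWS hxW⟩ hxW
      · intro hy
        obtain ⟨x, hx, hxe⟩ := (Subgroup.mem_normalizer_iff''.1 hg _).1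
          (apply_mem_img (ι := ι) (x := ⟨y, hWS hy⟩) hy)
        refine ⟨x, Subgroup.mem_sup_right hx, hx, congrArg Subtype.val
          (hr.1 (a₁ := ⟨_, apply_mem_S hφ _⟩) (a₂ := ⟨y, hWS hy⟩) ((hφι _).trans ?_))⟩
        show g * ι x * g⁻¹ = _
        rw [hxe]
        group⟩
  let s' : S := ⟨s, normalizerIn_le_S W hs⟩
  have hc : (ι s')⁻¹ * g ∈ Subgroup.centralizer (img ι Q : Set G) := by
    refine Subgroup.mem_centralizer_iff.2 ?_
    rintro _ ⟨x, hx, rfl⟩
    have h1 := hφι ⟨x, Subgroup.mem_sup_left hx⟩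
    rw [show (⟨φ ⟨x, Subgroup.mem_sup_left hx⟩, apply_mem_S hφ _⟩ : S) = s' * x * s'⁻¹ from
      Subtype.ext (hsx ⟨x, Subgroup.mem_sup_left hx⟩), map_mul, map_mul, map_inv] at h1
    calc ι x * ((ι s')⁻¹ * g) = (ι s')⁻¹ * (ι s' * ι x * (ι s')⁻¹) * g := by group
      _ = (ι s')⁻¹ * (g * ι x * g⁻¹) * g := by rw [h1]
      _ = (ι s')⁻¹ * g * ι x := by group
  rw [show g = ι s' * ((ι s')⁻¹ * g) by group]
  exact mul_mem ⟨_, rfl⟩ (img_le_range Q (hcle hc))

/-- The automorphisms of `S` are inner when they form a `p`-group. -/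
theorem aut_S_inner (p : ℕ) [Fact p.Prime] (hS : IsPGroup p S) (hF : F.IsSaturated p)
    (hp : IsPGroup p (F.autGroup S)) {a : MulAut S} (ha : a ∈ F.autGroup S) :
    ∃ g ∈ S, ∀ x : S, ((a x : S) : Ω) = g * x * g⁻¹ := by
  have : Finite (MulAut S) := finite_mulAut
  obtain ⟨-, R, hR⟩ := (good_of_fullyNormalized p hS hF isFullyNormalized_S).1
  have htop : (⊤ : Subgroup (F.autGroup S)) = (R : Subgroup (F.autGroup S)) :=
    R.3 (hp.to_subgroup ⊤) le_top
  have h1 : (⟨a, ha⟩ : F.autGroup S) ∈ (R : Subgroup (F.autGroup S)) := htop ▸ trivial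
  rw [hR] at h1
  exact mem_autInducedBy.1 h1

/-! ### The criterion -/

/-- Data for the induction. -/
structure InnerCriterion (p : ℕ) where
  /-- An inherited hypothesis. -/
  Free : ∀ {Ω : Type u} [Group Ω] {S : Subgroup Ω}, FusionSystem S → Prop
  /-- The hypothesis on prescribed local systems. -/
  Loc : ∀ {Ω : Type u} [Group Ω] {S : Subgroup Ω}, FusionSystem S → Prop
  free_norm : ∀ {Ω : Type u} [Group Ω] {S : Subgroup Ω} (F : FusionSystem S) (Q : Subgroup Ω)
    (E : FusionSystem (normalizerIn S Q)), Finite S → IsPGroup p S → F.IsSaturated p →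
      F.IsFullyNormalized Q → F.IsNormalizerSystem Q E → Free F → Free E
  free_factor : ∀ {Ω : Type u} [Group Ω] {S : Subgroup Ω} (F : FusionSystem S) (Q : Subgroup Ω)
    {Ω' : Type u} [Group Ω'] {S' : Subgroup Ω'} (θ : S →* Ω') (E : FusionSystem S'),
      Finite S → IsPGroup p S → F.IsSaturated p → F.IsNormal Q → F.IsFactorSystem Q θ E →
        Free F → Free E
  loc_of_char : ∀ {Ω : Type u} [Group Ω] {S : Subgroup Ω} (F : FusionSystem S),
    Finite S → IsPGroup p S → S ≠ ⊥ → F.IsSaturated p →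
      (∀ C, IsCharIn S C → C ≠ ⊥ → InnerAt F C) → Loc F
  loc_mono : ∀ {Ω : Type u} [Group Ω] {S : Subgroup Ω} (F E : FusionSystem S),
    (∀ P, E.Hom P ⊆ F.Hom P) → Loc F → Loc E
  group : ∀ {Ω : Type u} [Group Ω] {S : Subgroup Ω} (F : FusionSystem S), Finite S →
    IsPGroup p S → F.IsConstrained p → Free F → Loc F → IsInner F

/-- `N_F(Q)` for `Q` normal in `S`, as a system over `S`. -/
theorem exists_normSystem_eq (p : ℕ) [Fact p.Prime] (hS : IsPGroup p S) (hF : F.IsSaturated p)
    (Pr : ∀ {T : Subgroup Ω}, FusionSystem T → Prop) {Q : Subgroup Ω} (hQ : Q ≤ S)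
    (hQn : S ≤ Subgroup.normalizer (Q : Set Ω))
    (hPr : ∀ E : FusionSystem (normalizerIn S Q), F.IsNormalizerSystem Q E → Pr E) :
    ∃ E : FusionSystem S, (∀ P, E.Hom P = F.normalizerHom Q P) ∧ E.IsSaturated p ∧ Pr E ∧
      E.IsNormal Q ∧ (∀ P, E.Hom P ⊆ F.Hom P) ∧
      (centralizerIn S Q ≤ Q → E.IsCentric Q) := by
  have hNS : normalizerIn S Q = S :=
    le_antisymm (normalizerIn_le_S Q) fun x hx => ⟨hx, hQn hx⟩
  have hfn : F.IsFullyNormalized Q := ⟨hQ, fun R _ => by
    rw [hNS]; exact card_le_of_le le_rfl (normalizerIn_le_S R)⟩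
  have key : ∀ (T : Subgroup Ω) (E : FusionSystem T), T = S →
      (∀ P, E.Hom P = F.normalizerHom Q P) → E.IsSaturated p → Pr E → E.IsNormal Q →
      (centralizerIn S Q ≤ Q → E.IsCentric Q) →
      ∃ E : FusionSystem S, (∀ P, E.Hom P = F.normalizerHom Q P) ∧ E.IsSaturated p ∧ Pr E ∧
        E.IsNormal Q ∧ (∀ P, E.Hom P ⊆ F.Hom P) ∧
        (centralizerIn S Q ≤ Q → E.IsCentric Q) := by
    intro T E hT h1 h2 h3 h4 h5
    subst hT
    exact ⟨E, h1, h2, h3, h4, fun P φ hφ => by rw [h1] at hφ; exact hφ.1, h5⟩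
  have hspec := normSystem_spec F Q hQ
  exact key _ (normSystem F Q hQ) hNS (fun _ => rfl)
    (normalizerSystem_saturated p hS hF hfn hspec) (hPr _ hspec)
    (isNormal_normalizerSystem hQ hspec) fun hc =>
      isCentric_normalizerSystem (isCentric_of_fullyCentralized
        (fullyCentralized_of_fullyNormalized p hS hF hfn) hc) hspec

/-- The step: `N_F(Q)` is inner for `Q` normal in `S`. -/
theorem innerAt_step (p : ℕ) [Fact p.Prime] (C : InnerCriterion.{u} p)
    (rec_small : ∀ {Ω' : Type u} [Group Ω'] (S' : Subgroup Ω') (E : FusionSystem S'), Finite S' →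
      IsPGroup p S' → Nat.card S' < Nat.card S → E.IsSaturated p → C.Free E → C.Loc E → IsInner E)
    (hS : IsPGroup p S) (hF : F.IsSaturated p) (hfree : C.Free F) {Q : Subgroup Ω}
    (hQ : Q ≤ S) (hQ1 : Q ≠ ⊥) (hQn : S ≤ Subgroup.normalizer (Q : Set Ω))
    (hcent : centralizerIn S Q ≤ Q → InnerAt F Q)
    (hautS : ∀ a ∈ F.autGroup S, a ∈ stabX S Q → ∃ g ∈ S, ∀ x : S, ((a x : S) : Ω) = g * x * g⁻¹)
    (hup : ∀ P, Q < P → P ≤ S → (∀ a : MulAut S, a ∈ stabX S Q → a ∈ stabX S P) → InnerAt F P) :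
    InnerAt F Q := by
  by_cases hc : centralizerIn S Q ≤ Q
  · exact hcent hc
  have hNS : normalizerIn S Q = S :=
    le_antisymm (normalizerIn_le_S Q) fun x hx => ⟨hx, hQn hx⟩
  have hfn : F.IsFullyNormalized Q := ⟨hQ, fun R _ => by
    rw [hNS]; exact card_le_of_le le_rfl (normalizerIn_le_S R)⟩
  obtain ⟨E, hE, hEs, hEfree, hEn, hEF, -⟩ :=
    exists_normSystem_eq p hS hF (fun {_} E => C.Free E) hQ hQn fun E hE =>
      C.free_norm F Q E inferInstance hS hF hfn hE hfree
  -- `Q C_S(Q)`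
  set R : Subgroup Ω := Q ⊔ centralizerIn S Q with hR
  have hQR : Q < R := lt_of_le_not_ge le_sup_left fun h => hc (le_sup_right.trans h)
  have hRS : R ≤ S := sup_le hQ (centralizerIn_le_S Q)
  have hRchar : ∀ a : MulAut S, a ∈ stabX S Q → a ∈ stabX S R := by
    intro a ha
    have key : ∀ b : MulAut S, b ∈ stabX S Q → ∀ x : S, (x : Ω) ∈ R → ((b x : S) : Ω) ∈ R := by
      intro b hb x hx
      have hle : R ≤ ((R.subgroupOf S).comap b.toMonoidHom).map S.subtype := by
        refine sup_le (fun y hy => ⟨⟨y, hQ hy⟩, ?_, rfl⟩) fun y hy => ⟨⟨y, hy.1⟩, ?_, rfl⟩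
        · exact Subgroup.mem_sup_left ((hb ⟨y, hQ hy⟩).2 hy)
        · refine Subgroup.mem_sup_right (mem_centralizerIn.2 ⟨(b ⟨y, hy.1⟩).2, fun z hz => ?_⟩)
          obtain ⟨w, hw⟩ := b.surjective ⟨z, hQ hz⟩
          have hwQ : (w : Ω) ∈ Q := (hb w).1 (by rw [hw]; exact hz)
          have h1 : b w * b ⟨y, hy.1⟩ = b ⟨y, hy.1⟩ * b w := by
            rw [← map_mul, ← map_mul]
            exact congrArg b (Subtype.ext ((mem_centralizerIn.1 hy).2 w hwQ))
          rw [hw] at h1
          exact congrArg Subtype.val h1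
      obtain ⟨y, hy, hyx⟩ := hle hx
      rwa [show y = x from Subtype.ext hyx] at hy
    exact fun x => ⟨fun hx => by simpa using key a⁻¹ (inv_mem ha) (a x) hx, key a ha x⟩
  have hRinn := hup R hQR hRS hRchar
  have hRn : S ≤ Subgroup.normalizer (R : Set Ω) := fun g hg => by
    refine mem_normalizer_of_conj_mem hRS fun x hx => ?_
    exact (hRchar (MulAut.conj ⟨g, hg⟩)
      (fun y => ((Subgroup.mem_normalizer_iff.1 (hQn hg)) y).symm) ⟨x, hRS hx⟩).2 hx
  -- `Aut_F(Q)` is induced by `S`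
  have hAQ : ∀ a ∈ F.autGroup Q, ∃ g ∈ S, ∀ x : Q, ((a x : Q) : Ω) = g * x * g⁻¹ := by
    intro a ha
    have hφ := (autGroup_carrier hQ).1 ha
    have hext : R ≤ extender S Q (Q.subtype.comp a.toMonoidHom) :=
      sup_le (le_extender hφ) (centralizerIn_le_extender Q _)
    obtain ⟨β, hβ, hβe⟩ := receptive_extend (good_of_fullyNormalized p hS hF hfn).2 hφ
      (range_subtype_comp a) hext
    have hβQ : (Q.subgroupOf R).map β = Q :=
      (map_eq_range_of_eq (le_sup_left : Q ≤ R) hβe).trans (range_subtype_comp a)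
    have hβR : β.range = R := by
      refine eq_of_le_of_card_le hRS ?_ (card_range hβ).ge
      have h0 : β.range = (Q.subgroupOf R).map β ⊔ ((centralizerIn S Q).subgroupOf R).map β := by
        refine (map_subgroupOf_self β).symm.trans ?_
        rw [← Subgroup.map_sup, ← Subgroup.subgroupOf_sup le_sup_left le_sup_right]
      rw [h0, hβQ]
      refine sup_le le_sup_left ?_
      intro y hy
      obtain ⟨x, hx, hxC, rfl⟩ := mem_map_subgroupOf.1 hy
      have := map_mem_centralizerIn hβ (le_sup_left : Q ≤ R) hxC hx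
      rw [hβQ] at this
      exact Subgroup.mem_sup_right this
    have hsub : R ⊔ R ≤ R := sup_le le_rfl le_rfl
    obtain ⟨g, hg, hgx⟩ := hRinn R β ⟨hβ, le_inf hRS (hRS.trans hRn),
      fun x => ⟨apply_mem_S hβ x, hRn (apply_mem_S hβ x)⟩, β.comp (Subgroup.inclusion hsub),
      restrict_mem hβ hsub, fun x => rfl, by
        rw [map_subgroupOf_congr (ψ := β.comp (Subgroup.inclusion hsub)) (χ := β) le_sup_right
          le_rfl fun _ _ => rfl, map_subgroupOf_self, hβR]⟩
    exact ⟨g, normalizerIn_le_S R hg, fun x =>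
      (hβe x x.2 (Subgroup.mem_sup_left x.2)).symm.trans (hgx ⟨x, Subgroup.mem_sup_left x.2⟩)⟩
  -- the factor system
  have hTn : (Q.subgroupOf S).Normal := ⟨fun x hx g =>
    (Subgroup.mem_normalizer_iff.1 (hQn g.2) x).1 hx⟩
  have hsc := stronglyClosed_of_isNormal hEn
  let θ : S →* S ⧸ Q.subgroupOf S := QuotientGroup.mk' _
  have hk : ∀ s : S, θ s = 1 ↔ (s : Ω) ∈ Q := fun s => QuotientGroup.eq_one_iff s
  have hr : θ.range = ⊤ := MonoidHom.range_eq_top.2 (QuotientGroup.mk'_surjective _)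
  let Ē := factorSystem hsc hk hr
  have hĒ : E.IsFactorSystem Q θ Ē := factorSystem_spec hsc hk hr
  have hfinT : Finite (⊤ : Subgroup (S ⧸ Q.subgroupOf S)) := inferInstance
  have hpT : IsPGroup p (⊤ : Subgroup (S ⧸ Q.subgroupOf S)) :=
    (hS.of_surjective θ (QuotientGroup.mk'_surjective _)).to_subgroup ⊤
  have hĒs := factor_saturated hsc hĒ p hS hEs
  have hcard : Nat.card (⊤ : Subgroup (S ⧸ Q.subgroupOf S)) < Nat.card S := by
    rw [Subgroup.card_top, Subgroup.card_eq_card_quotient_mul_card_subgroup (Q.subgroupOf S),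
      Nat.card_congr (Subgroup.subgroupOfEquivOfLe hQ).toEquiv]
    have := finite_of_le hQ
    exact lt_mul_of_one_lt_right Nat.card_pos ((Subgroup.one_lt_card_iff_ne_bot Q).2 hQ1)
  have hne : (⊤ : Subgroup (S ⧸ Q.subgroupOf S)) ≠ ⊥ := by
    intro h
    refine hc fun x hx => (hk ⟨x, hx.1⟩).1 ?_
    exact Subgroup.mem_bot.1 (h ▸ Subgroup.mem_top (θ ⟨x, hx.1⟩))
  have hĒinn : IsInner Ē := by
    refine rec_small _ Ē hfinT hpT hcard hĒs
      (C.free_factor E Q θ Ē inferInstance hS hEs hEn hĒ hEfree)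
      (C.loc_of_char Ē hfinT hpT hne hĒs fun D hD hD1 => ?_)
    -- a characteristic subgroup of the quotient
    set P := preimg θ D with hPdef
    have hQP : Q < P := by
      refine lt_of_le_not_ge (ker_le_preimg hQ hk D) fun hle => hD1 (eq_bot_iff.2 fun y hy => ?_)
      obtain ⟨x, rfl⟩ := QuotientGroup.mk'_surjective _ y
      exact (hk x).2 (hle (mem_preimg.2 ⟨x.2, hy⟩))
    have hPchar : ∀ a : MulAut S, a ∈ stabX S Q → a ∈ stabX S P := by
      intro a ha
      have hmap : (Q.subgroupOf S).map (a : S ≃* S).toMonoidHom = Q.subgroupOf S := by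
        ext y
        constructor
        · rintro ⟨x, hx, rfl⟩; exact (ha x).2 hx
        · intro hy
          exact ⟨a⁻¹ y, ((inv_mem ha) y).2 hy, MulAut.apply_inv_self _ _ _⟩
      let b : (S ⧸ Q.subgroupOf S) ≃* (S ⧸ Q.subgroupOf S) := QuotientGroup.congr _ _ a hmap
      let b' : MulAut (⊤ : Subgroup (S ⧸ Q.subgroupOf S)) :=
        Subgroup.topEquiv.trans (b.trans Subgroup.topEquiv.symm)
      intro x
      have h1 := hD.2 b' ⟨θ x, trivial⟩
      rw [hPdef, mem_preimg, mem_preimg]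
      exact ⟨fun ⟨_, h⟩ => ⟨x.2, h1.1 h⟩, fun ⟨_, h⟩ => ⟨(a x).2, h1.2 h⟩⟩
    have hPinn := hup P hQP (preimg_le D) hPchar
    rintro P' φ' ⟨-, -, -, ψ', hψ', he, hm⟩
    obtain ⟨ψ, hψ, hi⟩ := exists_lift_hom hĒ hψ'
    have hle : P ≤ preimg θ (P' ⊔ D) := preimg_mono le_sup_right
    have hPn : S ≤ Subgroup.normalizer (P : Set Ω) := fun g hg => by
      refine mem_normalizer_of_conj_mem (preimg_le D) fun x hx => ?_
      exact (hPchar (MulAut.conj ⟨g, hg⟩)
        (fun y => ((Subgroup.mem_normalizer_iff.1 (hQn hg)) y).symm) ⟨x, preimg_le D hx⟩).2 hx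
    have hmP : (P.subgroupOf (preimg θ (P' ⊔ D))).map ψ = P := by
      refine eq_of_le_of_card_le (preimg_le D) ?_
        (card_map_subgroupOf (F.injective_of_mem (hEF _ hψ)) hle).ge
      intro y hy
      obtain ⟨x, hx, hxP, rfl⟩ := mem_map_subgroupOf.1 hy
      refine mem_preimg.2 ⟨apply_mem_S hψ _, ?_⟩
      rw [← induced_apply hi ⟨x, hx⟩ (hP := preimg_le _ hx) (hP' := (mem_preimg.1 hx).2)]
      exact hm.le (apply_mem_map_subgroupOf ψ' (x := ⟨_, (mem_preimg.1 hx).2⟩)
        (mem_preimg.1 hxP).2)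
    have hsub : preimg θ (P' ⊔ D) ⊔ P ≤ preimg θ (P' ⊔ D) := sup_le le_rfl hle
    obtain ⟨g, hg, hgx⟩ := hPinn _ ψ ⟨hEF _ hψ, le_inf (preimg_le _) ((preimg_le _).trans hPn),
      fun x => ⟨apply_mem_S hψ x, hPn (apply_mem_S hψ x)⟩, ψ.comp (Subgroup.inclusion hsub),
      restrict_mem (hEF _ hψ) hsub, fun x => rfl, by
        rw [map_subgroupOf_congr (ψ := ψ.comp (Subgroup.inclusion hsub)) (χ := ψ) le_sup_right hle
          fun _ _ => rfl, hmP]⟩
    refine ⟨θ ⟨g, hg.1⟩, ⟨trivial, IsCharIn.le_normalizer hD trivial⟩, fun x => ?_⟩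
    rw [← he x]
    obtain ⟨s, hs⟩ := QuotientGroup.mk'_surjective _ (x : S ⧸ Q.subgroupOf S)
    change θ s = _ at hs
    have hsD : θ s ∈ P' ⊔ D := hs ▸ Subgroup.mem_sup_left x.2
    have hsP : (s : Ω) ∈ preimg θ (P' ⊔ D) := mem_preimg.2 ⟨s.2, hsD⟩
    rw [show Subgroup.inclusion le_sup_left x = ⟨θ s, hsD⟩ from Subtype.ext hs.symm,
      induced_apply hi ⟨s, hsP⟩ (hφ := apply_mem_S hψ _), ← hs, ← map_inv, ← map_mul, ← map_mul]
    exact congrArg θ (Subtype.ext (hgx ⟨s, hsP⟩))
  -- Alperin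
  obtain ⟨Ii, hIi⟩ : ∃ I : FusionSystem S, I = innerFusionSystem S := ⟨_, rfl⟩
  have hle : E ≤ Ii := by
    refine alperin_saturated p hS hEs Ii fun X hX => ?_
    subst hIi
    intro α hα
    rcases hX with rfl | hess
    · obtain ⟨g, hg, hgx⟩ := hautS α ((autGroup_carrier le_rfl).2
        (hEF _ ((autGroup_carrier le_rfl).1 hα))) (fun x => by
          have hm := (weaklyClosed_of_stronglyClosed hsc).2 _
            (restrict_mem ((autGroup_carrier le_rfl).1 hα) hQ)
          constructor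
          · intro hx
            obtain ⟨y, hy⟩ := hm.ge hx
            rw [show x = Subgroup.inclusion hQ y from α.injective (Subtype.ext hy.symm)]
            exact y.2
          · exact fun hx => hm.le ⟨⟨x, hx⟩, rfl⟩)
      exact (autGroup_carrier le_rfl).2 ⟨le_rfl, g, hg, hgx⟩
    · exfalso
      have hXS : X ≤ S := hess.1.1
      have hQX : Q ≤ X := le_essential p hS hEn hess
      have := finite_of_le hXS
      have : Finite (MulAut X) := finite_mulAut
      suffices hp : IsPGroup p (E.autGroup X) by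
        obtain ⟨R', hR'⟩ := (hp.to_subgroup ⊤).exists_le_sylow
        refine not_essential_of_normal_sylow p hess R' ?_
        rw [top_le_iff.1 hR']
        infer_instance
      intro a
      obtain ⟨k, m, hm, hkm⟩ := Nat.exists_eq_pow_mul_and_not_dvd (orderOf_pos a).ne' p
        (Fact.out : p.Prime).ne_one
      refine ⟨k, ?_⟩
      have hbm : (a ^ p ^ k) ^ m = 1 := by rw [← pow_mul, ← hkm, pow_orderOf_eq_one]
      generalize a ^ p ^ k = b at hbm ⊢
      have hpm : p.Coprime m := (Fact.out : p.Prime).coprime_iff_not_dvd.2 hm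
      have hbF := (autGroup_carrier hXS).1 b.2
      -- trivial on `Q`
      have hbQ : ∀ x : X, (x : Ω) ∈ Q → ((b : MulAut X) x : Ω) = x := by
        have hbst : (b : MulAut X) ∈ stabX X Q := by
          have hm' := (weaklyClosed_of_stronglyClosed hsc).2 _ (restrict_mem hbF hQX)
          intro x
          constructor
          · intro hx
            obtain ⟨y, hy⟩ := hm'.ge hx
            rw [show x = Subgroup.inclusion hQX y from
              (b : MulAut X).injective (Subtype.ext hy.symm)]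
            exact y.2
          · exact fun hx => hm'.le ⟨⟨x, hx⟩, rfl⟩
        have hres : resHom hQX ⟨_, hbst⟩ ∈ autInducedBy S Q := mem_autInducedBy.2
          (hAQ _ ((autGroup_carrier hQ).2 (hEF _ ((autGroup_carrier hQ).1
            (resHom_mem_autGroup hQX hXS b.2)))))
        obtain ⟨j, hj⟩ := isPGroup_autInducedBy hS Q ⟨_, hres⟩
        have h2 : resHom hQX ⟨_, hbst⟩ ^ m = 1 := by
          rw [← map_pow, show (⟨_, hbst⟩ : stabX X Q) ^ m = 1 from Subtype.ext
            (congrArg (Subtype.val : E.autGroup X → MulAut X) hbm), map_one]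
        have h3 : resHom hQX ⟨_, hbst⟩ = 1 := orderOf_eq_one_iff.1 (Nat.eq_one_of_dvd_coprimes
          (Nat.Coprime.pow_left j hpm)
          (orderOf_dvd_of_pow_eq_one (congrArg Subtype.val hj :))
          (orderOf_dvd_of_pow_eq_one h2))
        intro x hx
        exact congrArg (fun c : MulAut Q => ((c ⟨x, hx⟩ : Q) : Ω)) h3
      -- trivial on the quotient
      obtain ⟨φ', hφ', hi⟩ := exists_factor_hom hsc hĒ hbF hQX (P' := img θ X) rfl
      obtain ⟨t, -, htx⟩ := hĒinn _ φ' hφ'
      have hpow : ∀ (n : ℕ) (x : X),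
          θ ⟨(((b : MulAut X) ^ n) x : X), hXS (((b : MulAut X) ^ n) x).2⟩ =
            t ^ n * θ ⟨x, hXS x.2⟩ * (t ^ n)⁻¹ := by
        intro n
        induction n with
        | zero => intro x; simp
        | succ n ihn =>
          intro x
          have h1 : θ ⟨((b : MulAut X) x : X), hXS ((b : MulAut X) x).2⟩ =
              t * θ ⟨x, hXS x.2⟩ * t⁻¹ :=
            (induced_apply hi x (hP' := apply_mem_img (ι := θ) (x := ⟨x, hXS x.2⟩) x.2)).symm.trans
              (htx _)
          have h2 := ihn ((b : MulAut X) x)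
          rw [h1] at h2
          rw [pow_succ, pow_succ]
          refine h2.trans ?_
          group
      obtain ⟨j, hj⟩ := (hS.of_surjective θ (QuotientGroup.mk'_surjective _)) t
      have hmt : ∀ x : X, θ ⟨((b : MulAut X) x : X), hXS ((b : MulAut X) x).2⟩ =
          θ ⟨x, hXS x.2⟩ := by
        intro x
        have h0 : (b : MulAut X) ^ m = 1 := congrArg Subtype.val hbm
        obtain ⟨c, hc'⟩ : ∃ c, ((b : MulAut X) ^ p ^ j) ^ c = (b : MulAut X) :=
          exists_pow_eq_self_of_coprime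
            (Nat.Coprime.coprime_dvd_right (orderOf_dvd_of_pow_eq_one h0)
              (Nat.Coprime.pow_left j hpm))
        have := hpow (p ^ j * c) x
        rw [pow_mul, hc', pow_mul, hj, one_pow] at this
        rw [this]
        group
      refine Subtype.ext (MulEquiv.ext fun x => Subtype.ext ?_)
      show ((b : MulAut X) x : Ω) = x
      obtain ⟨q, hq, hqx⟩ : ∃ (q : Ω), q ∈ Q ∧ ((b : MulAut X) x : Ω) = x * q := by
        refine ⟨(x : Ω)⁻¹ * ((b : MulAut X) x : Ω), (hk ((⟨x, hXS x.2⟩ : S)⁻¹ *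
          ⟨_, hXS ((b : MulAut X) x).2⟩)).1 ?_, by group⟩
        rw [map_mul, map_inv, hmt, inv_mul_cancel]
      have hn : ∀ n : ℕ, (((b : MulAut X) ^ n) x : Ω) = x * q ^ n := by
        intro n
        induction n with
        | zero => simp
        | succ n ihn =>
          rw [pow_succ']
          show ((b : MulAut X) (((b : MulAut X) ^ n) x) : Ω) = _
          rw [show ((b : MulAut X) ^ n) x = x * (⟨q, hQX hq⟩ : X) ^ n from Subtype.ext (by
            simpa using ihn), map_mul, map_pow, Subgroup.coe_mul, Subgroup.coe_pow, hqx,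
            hbQ ⟨q, hQX hq⟩ hq, mul_assoc, ← pow_succ']
      have hqm : q ^ m = 1 := by
        have h1 := hn m
        rw [show (b : MulAut X) ^ m = 1 from congrArg Subtype.val hbm] at h1
        simpa using h1
      obtain ⟨j', hj'⟩ := isPGroup_of_le hS hQ ⟨q, hq⟩
      have hq1 : q = 1 := orderOf_eq_one_iff.1 (Nat.eq_one_of_dvd_coprimes
        (Nat.Coprime.pow_left j' hpm)
        (orderOf_dvd_of_pow_eq_one (congrArg Subtype.val hj' :))
        (orderOf_dvd_of_pow_eq_one hqm))
      rw [hqx, hq1, mul_one]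
  intro P φ hφ
  obtain ⟨-, g, hg, hgx⟩ := hIi ▸ hle P (hE P ▸ hφ)
  exact ⟨g, hNS.ge hg, hgx⟩

/-- `N_F(Q)` is inner for every normal subgroup, when it is for those containing their centralizer. -/
theorem innerAt_normal (p : ℕ) [Fact p.Prime] (C : InnerCriterion.{u} p)
    (rec_small : ∀ {Ω' : Type u} [Group Ω'] (S' : Subgroup Ω') (E : FusionSystem S'), Finite S' →
      IsPGroup p S' → Nat.card S' < Nat.card S → E.IsSaturated p → C.Free E → C.Loc E → IsInner E)
    (hS : IsPGroup p S) (hF : F.IsSaturated p) (hfree : C.Free F)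
    (hcentric : ∀ Q : Subgroup Ω, Q ≤ S → S ≤ Subgroup.normalizer (Q : Set Ω) →
      centralizerIn S Q ≤ Q → InnerAt F Q) :
    ∀ (k : ℕ) (Q : Subgroup Ω), Nat.card S - Nat.card Q = k → Q ≤ S → Q ≠ ⊥ →
      S ≤ Subgroup.normalizer (Q : Set Ω) → InnerAt F Q := by
  intro k
  induction k using Nat.strong_induction_on with
  | _ k ihk =>
    intro Q hk hQ hQ1 hQn
    refine innerAt_step p C rec_small hS hF hfree hQ hQ1 hQn (hcentric Q hQ hQn) ?_ ?_
    · intro a ha _
      have hcS : centralizerIn S S ≤ S := centralizerIn_le_S S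
      have hfS : F.IsFullyNormalized S := isFullyNormalized_S
      have hsub : (S ⊔ S) ≤ S := sup_le le_rfl le_rfl
      obtain ⟨g, hg, hgx⟩ := hcentric S le_rfl Subgroup.le_normalizer hcS S
        (S.subtype.comp a.toMonoidHom)
        ⟨(autGroup_carrier le_rfl).1 ha, normalizerIn_self.ge,
          fun x => normalizerIn_self.ge (a x).2,
          (S.subtype.comp a.toMonoidHom).comp (Subgroup.inclusion hsub),
          restrict_mem ((autGroup_carrier le_rfl).1 ha) hsub, fun x => rfl, by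
            rw [map_subgroupOf_congr (ψ := (S.subtype.comp a.toMonoidHom).comp
              (Subgroup.inclusion hsub)) (χ := S.subtype.comp a.toMonoidHom) le_sup_right
              le_rfl fun _ _ => rfl, map_subgroupOf_self, range_subtype_comp]⟩
      exact ⟨g, normalizerIn_le_S S hg, hgx⟩
    · intro P hQP hPS hP
      have h1 : Nat.card Q < Nat.card P := lt_of_le_of_ne (card_le_of_le hPS hQP.le)
        fun he => hQP.ne (eq_of_le_of_card_le hPS hQP.le he.ge)
      have h2 := card_le_of_le le_rfl hPS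
      refine ihk _ (by omega) P rfl hPS
        (fun h => by rw [h] at hQP; exact not_lt_bot hQP) fun g hg => ?_
      refine mem_normalizer_of_conj_mem hPS fun x hx => ?_
      exact (hP (MulAut.conj ⟨g, hg⟩)
        (fun y => ((Subgroup.mem_normalizer_iff.1 (hQn hg)) y).symm) ⟨x, hPS hx⟩).2 hx

/-- **The criterion**: local innerness and the model case give an inner system. -/
theorem isInner_of_criterion (p : ℕ) [Fact p.Prime] (C : InnerCriterion.{u} p) :
    ∀ (n : ℕ) {Ω : Type u} [Group Ω] (S : Subgroup Ω) (F : FusionSystem S), Finite S →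
      IsPGroup p S → Nat.card S = n → F.IsSaturated p → C.Free F → C.Loc F → IsInner F := by
  intro n
  induction n using Nat.strong_induction_on with
  | _ n ih =>
    intro Ω _ S F hfin hS hn hF hfree hloc
    have rec_small : ∀ {Ω' : Type u} [Group Ω'] (S' : Subgroup Ω') (E : FusionSystem S'),
        Finite S' → IsPGroup p S' → Nat.card S' < Nat.card S → E.IsSaturated p → C.Free E →
          C.Loc E → IsInner E :=
      fun S' E h1 h2 h3 => ih _ (hn ▸ h3) S' E h1 h2 rfl
    -- centric normal subgroups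
    have hcentric : ∀ Q : Subgroup Ω, Q ≤ S → S ≤ Subgroup.normalizer (Q : Set Ω) →
        centralizerIn S Q ≤ Q → InnerAt F Q := by
      intro Q hQ hQn hc P φ hφ
      have hNS : normalizerIn S Q = S :=
        le_antisymm (normalizerIn_le_S Q) fun x hx => ⟨hx, hQn hx⟩
      have hfn : F.IsFullyNormalized Q := ⟨hQ, fun R _ => by
        rw [hNS]; exact card_le_of_le le_rfl (normalizerIn_le_S R)⟩
      obtain ⟨E, hE, hEs, hEfree, hEn, hEF, hEc⟩ :=
        exists_normSystem_eq p hS hF (fun {_} E => C.Free E) hQ hQn fun E hE =>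
          C.free_norm F Q E hfin hS hF hfn hE hfree
      obtain ⟨g, hg, hgx⟩ := C.group E hfin hS ⟨hEs, Q, hEn, hEc hc⟩ hEfree
        (C.loc_mono F E hEF hloc) P φ (hE P ▸ hφ)
      exact ⟨g, hNS.ge hg, hgx⟩
    have hnormal := innerAt_normal p C rec_small hS hF hfree hcentric
    -- all fully normalized subgroups
    have hall : ∀ (k : ℕ) (U : Subgroup Ω), Nat.card S - Nat.card (normalizerIn S U) = k →
        U ≠ ⊥ → F.IsFullyNormalized U → InnerAt F U := by
      intro k
      induction k using Nat.strong_induction_on with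
      | _ k ihk =>
        intro U hk hU1 hfn
        set V := normalizerIn S U with hV
        by_cases hVS : S ≤ V
        · exact hnormal _ U rfl hfn.1 hU1 fun g hg => (hVS hg).2
        have hVS' : V ≤ S := normalizerIn_le_S U
        have := finite_of_le hVS'
        have hVp := isPGroup_of_le hS hVS'
        have hEspec := normSystem_spec F U hfn.1
        have hVlt : Nat.card V < Nat.card S :=
          lt_of_le_of_ne (card_le_of_le le_rfl hVS') fun he =>
            hVS (eq_of_le_of_card_le le_rfl hVS' he.ge).ge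
        have hUV : U ≤ V := le_normalizerIn hfn.1
        have hV1 : V ≠ ⊥ := fun h => hU1 (eq_bot_iff.2 (h ▸ hUV))
        have hEs := normalizerSystem_saturated p hS hF hfn hEspec
        refine fun P φ hφ => ?_
        refine rec_small V (normSystem F U hfn.1) inferInstance hVp hVlt hEs
          (C.free_norm F U _ hfin hS hF hfn hEspec hfree)
          (C.loc_of_char _ inferInstance hVp hV1 hEs fun D hD hD1 => ?_) P φ hφ
        -- move `D` to a fully normalized conjugate
        have hDS : D ≤ S := hD.1.trans hVS'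
        obtain ⟨D', hD', hD'fn⟩ := exists_fullyNormalized F hDS
        obtain ⟨hfa, hrec⟩ := good_of_fullyNormalized p hS hF hD'fn
        obtain ⟨χ, hχ, hχN, hχD⟩ := exists_map_normalizer p hS hfa hrec hD'
        have hVN : V ≤ normalizerIn S D := fun g hg => ⟨hVS' hg, hD.le_normalizer hg⟩
        have hVV : V < normalizerIn S D := by
          refine lt_of_le_of_ne hVN fun he => ?_
          obtain ⟨g, hg, hgV⟩ := SetLike.exists_of_lt (lt_normalizerIn p hS le_rfl
            (lt_of_le_not_ge hVS' hVS))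
          refine hgV (he.ge ⟨hg.1, mem_normalizer_of_conj_mem hDS fun x hx => ?_⟩)
          have hst : conjAut S V ⟨g, hg⟩ ∈ stabX V D := hD.2 _
          exact (hst ⟨x, hD.1 hx⟩).2 hx
        have hcardN : Nat.card V < Nat.card (normalizerIn S D') := by
          have := finite_of_le (normalizerIn_le_S (S := S) D')
          have h1 : Nat.card (normalizerIn S D) ≤ Nat.card (normalizerIn S D') :=
            Nat.card_le_card_of_injective (fun x => ⟨_, hχN x⟩) fun a b hab =>
              F.injective_of_mem hχ (congrArg Subtype.val hab :)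
          have := finite_of_le (normalizerIn_le_S (S := S) D)
          have h2 : Nat.card V < Nat.card (normalizerIn S D) :=
            lt_of_le_of_ne (card_le_of_le (normalizerIn_le_S D) hVN) fun he =>
              hVV.ne (eq_of_le_of_card_le (normalizerIn_le_S D) hVN he.ge)
          omega
        have hD'1 : D' ≠ ⊥ := by
          intro h
          have := IsConj.card_eq hD'
          rw [h, Subgroup.card_bot] at this
          exact hD1 (Subgroup.eq_bot_of_card_eq D this.symm)
        have hD'inn : InnerAt F D' := ihk _ (by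
          have := card_le_of_le le_rfl (normalizerIn_le_S (S := S) D')
          omega) D' rfl hD'1 hD'fn
        rintro X f ⟨-, hXN, -, ψ, hψ, he, hm⟩
        obtain ⟨-, hψV, hψvals, ψ₂, hψ₂, hψ₂e, hψ₂U⟩ := hψ
        have hXD : X ⊔ D ⊔ U ≤ V := sup_le (sup_le (hXN.trans (normalizerIn_le_S D)) hD.1) hUV
        have hψ₂V : ∀ y, ψ₂ y ∈ V := by
          intro y
          have hy : ψ₂ y ∈ ψ₂.range := ⟨y, rfl⟩
          rw [range_eq_sup, hψ₂U] at hy
          refine (sup_le ?_ hUV : _ ≤ V) hy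
          intro z hz
          obtain ⟨w, hw, hwX, rfl⟩ := mem_map_subgroupOf.1 hz
          exact Set.mem_of_eq_of_mem ((apply_congr ψ₂ rfl).trans (hψ₂e ⟨w, hwX⟩)) (hψvals _)
        let X' : Subgroup Ω := ((X ⊔ D ⊔ U).subgroupOf (normalizerIn S D)).map χ
        have hX'N : X' ≤ normalizerIn S D' := by rintro _ ⟨y, -, rfl⟩; exact hχN y
        have hX'r : X' ≤ χ.range := Subgroup.map_le_range _ _
        obtain ⟨χi, hχi, -, hχi1, -⟩ := exists_inv hχ (rfl : χ.range = χ.range)
        have hmem1 : ∀ y : X', χi (Subgroup.inclusion hX'r y) ∈ X ⊔ D ⊔ U := by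
          rintro ⟨_, z, hz, rfl⟩
          exact Set.mem_of_eq_of_mem (hχi1 z (hX'r ⟨z, hz, rfl⟩)) hz
        let ψ' : X' →* Ω := χ.comp ((ψ₂.comp ((χi.comp (Subgroup.inclusion hX'r)).codRestrict _
          hmem1)).codRestrict _ fun y => hVN (hψ₂V _))
        have hψ' : ψ' ∈ F.Hom X' := F.comp_mem
          (F.comp_mem (restrict_mem hχi hX'r) hψ₂ hmem1) hχ _
        have hval : ∀ (y : ↥(X ⊔ D ⊔ U)) (hy : χ ⟨y, hVN (hXD y.2)⟩ ∈ X'),
            ψ' ⟨_, hy⟩ = χ ⟨ψ₂ y, hVN (hψ₂V y)⟩ := fun y hy =>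
          apply_congr χ (apply_congr ψ₂ (hχi1 _ (hX'r hy)))
        have hin : ∀ (y : ↥(X ⊔ D ⊔ U)), χ ⟨y, hVN (hXD y.2)⟩ ∈ X' := fun y => ⟨_, y.2, rfl⟩
        have hD'X : D' ≤ X' := fun z hz => by
          obtain ⟨w, hw, hwD, rfl⟩ := mem_map_subgroupOf.1 (hχD.ge hz)
          exact ⟨⟨w, hw⟩, Subgroup.mem_sup_left (Subgroup.mem_sup_right hwD), rfl⟩
        have hmD' : (D'.subgroupOf X').map ψ' = D' := by
          refine eq_of_le_of_card_le hD'fn.1 ?_
            (card_map_subgroupOf (F.injective_of_mem hψ') hD'X).ge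
          intro z hz
          obtain ⟨w, hw, hwD, rfl⟩ := mem_map_subgroupOf.1 hz
          obtain ⟨v, hv, hvD, rfl⟩ := mem_map_subgroupOf.1 (hχD.ge hwD)
          have hvin : v ∈ X ⊔ D ⊔ U := Subgroup.mem_sup_left (Subgroup.mem_sup_right hvD)
          refine Set.mem_of_eq_of_mem ((apply_congr ψ' rfl).trans (hval ⟨v, hvin⟩ (hin _))) ?_
          refine hχD.le (apply_mem_map_subgroupOf χ ?_)
          refine Set.mem_of_eq_of_mem ((apply_congr ψ₂ rfl).trans
            (hψ₂e ⟨v, Subgroup.mem_sup_right hvD⟩)) ?_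
          exact hm.le (apply_mem_map_subgroupOf ψ hvD)
        have hsub : X' ⊔ D' ≤ X' := sup_le le_rfl hD'X
        obtain ⟨s, hs, hsx⟩ := hD'inn X' ψ' ⟨hψ', hX'N, fun y => hχN _,
          ψ'.comp (Subgroup.inclusion hsub), restrict_mem hψ' hsub, fun y => rfl, by
            rw [map_subgroupOf_congr (ψ := ψ'.comp (Subgroup.inclusion hsub)) (χ := ψ')
              le_sup_right hD'X fun _ _ => rfl, hmD']⟩
        -- `s` normalizes the image of `U`, so lies in the image of `V`
        let U' : Subgroup Ω := (U.subgroupOf (normalizerIn S D)).map χ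
        have hUN : U ≤ normalizerIn S D := hUV.trans hVN
        have hU'c : F.IsConj U U' := isConj_map hχ hUN
        have hsU : s ∈ normalizerIn S U' := by
          refine ⟨hs.1, mem_normalizer_of_conj_mem (IsConj.le_right hU'c) ?_⟩
          rintro _ ⟨w, hw, rfl⟩
          have hwin : (w : Ω) ∈ X ⊔ D ⊔ U := Subgroup.mem_sup_right hw
          rw [show s * χ w * s⁻¹ = ψ' ⟨_, hin ⟨w, hwin⟩⟩ from (hsx ⟨_, hin ⟨w, hwin⟩⟩).symm, hval]
          exact apply_mem_map_subgroupOf χ (hψ₂U.le (apply_mem_map_subgroupOf ψ₂ hw))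
        have hVeq : (V.subgroupOf (normalizerIn S D)).map χ = normalizerIn S U' := by
          refine eq_of_le_of_card_le (normalizerIn_le_S U') ?_ ?_
          · rintro _ ⟨w, hw, rfl⟩
            refine ⟨apply_mem_S hχ w, mem_normalizer_of_conj_mem (IsConj.le_right hU'c) ?_⟩
            rintro _ ⟨z, hz, rfl⟩
            rw [← map_inv, ← map_mul, ← map_mul]
            exact apply_mem_map_subgroupOf χ ((Subgroup.mem_normalizer_iff.1 hw.2 z).1 hz)
          · rw [card_map_subgroupOf (F.injective_of_mem hχ) hVN]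
            exact hfn.2 U' hU'c
        obtain ⟨v, hvN, hvV, hvs⟩ := mem_map_subgroupOf.1 (hVeq.ge hsU)
        refine ⟨v, ⟨hvV, hD.le_normalizer hvV⟩, fun x => ?_⟩
        have hxin : (x : Ω) ∈ X ⊔ D ⊔ U := Subgroup.mem_sup_left (Subgroup.mem_sup_left x.2)
        have h1 := (hval ⟨x, hxin⟩ (hin _)).symm.trans (hsx _)
        rw [← hvs, ← map_inv, ← map_mul, ← map_mul] at h1
        have h2 := congrArg Subtype.val (F.injective_of_mem hχ h1)
        refine Eq.trans ?_ h2
        exact (he x).symm.trans ((apply_congr ψ₂ rfl).trans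
          (hψ₂e (Subgroup.inclusion le_sup_left x))).symm
    -- Alperin
    obtain ⟨Ii, hIi⟩ : ∃ I : FusionSystem S, I = innerFusionSystem S := ⟨_, rfl⟩
    by_cases hS1 : S = ⊥
    · intro P φ hφ
      refine ⟨1, one_mem _, fun x => ?_⟩
      have h1 : φ x = 1 := Subgroup.mem_bot.1 (hS1 ▸ apply_mem_S hφ x)
      have h2 : (x : Ω) = 1 := Subgroup.mem_bot.1 (hS1 ▸ le_of_mem_hom hφ x.2)
      rw [h1, h2]; group
    have hle : F ≤ Ii := by
      refine alperin_saturated p hS hF Ii fun X hX => ?_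
      subst hIi
      intro α hα
      have hXS : X ≤ S := by
        rcases hX with rfl | hess
        exacts [le_rfl, hess.1.1]
      have hXfn : F.IsFullyNormalized X := by
        rcases hX with rfl | hess
        exacts [isFullyNormalized_S, hess.2.1]
      have hX1 : X ≠ ⊥ := by
        rintro rfl
        rcases hX with h | hess
        · exact hS1 h.symm
        · refine hS1 (eq_bot_iff.2 fun g hg => hess.1.2 ⊥ (isConj_refl bot_le)
            (mem_centralizerIn.2 ⟨hg, fun y hy => ?_⟩))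
          rw [Subgroup.mem_bot.1 hy]; group
      have hsub : X ⊔ X ≤ X := sup_le le_rfl le_rfl
      obtain ⟨g, hg, hgx⟩ := hall _ X rfl hX1 hXfn X (X.subtype.comp α.toMonoidHom)
        ⟨(autGroup_carrier hXS).1 hα, le_normalizerIn hXS,
          fun x => le_normalizerIn hXS (α x).2,
          (X.subtype.comp α.toMonoidHom).comp (Subgroup.inclusion hsub),
          restrict_mem ((autGroup_carrier hXS).1 hα) hsub, fun x => rfl, by
            rw [map_subgroupOf_congr (ψ := (X.subtype.comp α.toMonoidHom).comp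
              (Subgroup.inclusion hsub)) (χ := X.subtype.comp α.toMonoidHom) le_sup_right
              le_rfl fun _ _ => rfl, map_subgroupOf_self, range_subtype_comp]⟩
      exact (autGroup_carrier hXS).2 ⟨hXS, g, hg.1, hgx⟩
    intro P φ hφ
    exact (hIi ▸ hle P hφ : φ ∈ (innerFusionSystem S).Hom P).2

end CfsgLib.Fusion
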