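import Cfsg.Agent.Fusion.Factor
import Cfsg.Agent.Fusion.Invariant
import Cfsg.Agent.Fusion.NormalCriteria

/-!
Solvable fusion systems: chains of strongly closed subgroups with abelian sections.
-/

set_option autoImplicit false

open Cfsg Cfsg.FusionSystem
open scoped commutatorElement

namespace CfsgLib.Fusion

variable {Ω : Type*} [Group Ω] {S : Subgroup Ω}

/-- `R` is joined to `S` by a chain of strongly closed subgroups with abelian sections. -/
inductive SolvChain (F : FusionSystem S) : Subgroup Ω → Prop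
  | top : SolvChain F S
  | step {R V : Subgroup Ω} : R ≤ V → F.StronglyClosed R → ⁅V, V⁆ ≤ R → SolvChain F V →
      SolvChain F R

variable {F : FusionSystem S} {Ω' : Type*} [Group Ω'] {S' : Subgroup Ω'} {θ : S →* Ω'}
  {E : FusionSystem S'} {T : Subgroup Ω}

theorem stronglyClosed_self : F.StronglyClosed S :=
  ⟨le_rfl, fun _ _ _ hφ x => apply_mem_S hφ x⟩

theorem stronglyClosed_inf {A B : Subgroup Ω} (hA : F.StronglyClosed A)
    (hB : F.StronglyClosed B) : F.StronglyClosed (A ⊓ B) :=
  ⟨inf_le_left.trans hA.1, fun R hR φ hφ x =>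
    ⟨hA.2 R (hR.trans inf_le_left) φ hφ x, hB.2 R (hR.trans inf_le_right) φ hφ x⟩⟩

theorem SolvChain.stronglyClosed {R : Subgroup Ω} (h : SolvChain F R) : F.StronglyClosed R := by
  cases h with
  | top => exact stronglyClosed_self
  | step _ hR _ _ => exact hR

theorem solvChain_of_fin {n : ℕ} {C : Fin (n + 1) → Subgroup Ω} (hn : C (Fin.last n) = S)
    (hmono : Monotone C) (hsc : ∀ i, F.StronglyClosed (C i))
    (hcomm : ∀ i : Fin n, ⁅C i.succ, C i.succ⁆ ≤ C i.castSucc) (i : Fin (n + 1)) :
    SolvChain F (C i) := by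
  induction i using Fin.reverseInduction with
  | last => rw [hn]; exact .top
  | cast i ih => exact .step (hmono Fin.castSucc_lt_succ.le) (hsc _) (hcomm i) ih

theorem SolvChain.exists_fin {R : Subgroup Ω} (h : SolvChain F R) :
    ∃ (n : ℕ) (C : Fin (n + 1) → Subgroup Ω), C 0 = R ∧ C (Fin.last n) = S ∧ Monotone C ∧
      (∀ i, F.StronglyClosed (C i)) ∧ ∀ i : Fin n, ⁅C i.succ, C i.succ⁆ ≤ C (Fin.castSucc i) := by
  induction h with
  | top =>
    exact ⟨0, fun _ => S, rfl, rfl, monotone_const, fun _ => stronglyClosed_self,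
      fun i => i.elim0⟩
  | @step R V hRV hR hcomm _ ih =>
    obtain ⟨n, C, h0, hn, hm, hsc, hc⟩ := ih
    refine ⟨n + 1, Fin.cons R C, by simp, ?_, ?_, ?_, ?_⟩
    · rw [← Fin.succ_last, Fin.cons_succ]; exact hn
    · refine Fin.monotone_iff_le_succ.2 fun i => ?_
      induction i using Fin.cases with
      | zero => simpa [h0] using hRV
      | succ j =>
        rw [← Fin.succ_castSucc, Fin.cons_succ, Fin.cons_succ]
        exact hm Fin.castSucc_lt_succ.le
    · intro i
      induction i using Fin.cases with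
      | zero => simpa using hR
      | succ j => simpa using hsc j
    · intro i
      induction i using Fin.cases with
      | zero => simpa [h0] using hcomm
      | succ j =>
        rw [← Fin.succ_castSucc, Fin.cons_succ, Fin.cons_succ]
        exact hc j

theorem img_mono {A B : Subgroup Ω} (h : A ≤ B) : img θ A ≤ img θ B :=
  Subgroup.map_mono fun _ hx => h hx

theorem commutator_img_le {A B : Subgroup Ω} (h : ⁅A, A⁆ ≤ B) :
    ⁅img θ A, img θ A⁆ ≤ img θ B := by
  rw [Subgroup.commutator_le]
  rintro _ ⟨a, ha, rfl⟩ _ ⟨b, hb, rfl⟩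
  rw [← map_commutatorElement θ a b]
  refine apply_mem_img (x := ⁅a, b⁆) ?_
  have : ⁅(a : Ω), (b : Ω)⁆ ∈ B := h (Subgroup.commutator_mem_commutator ha hb)
  simpa [commutatorElement_def] using this

section

variable [Finite S] (hT : F.StronglyClosed T) (hE : F.IsFactorSystem T θ E)

include hE in
/-- The image of a strongly closed subgroup is strongly closed in the factor system. -/
theorem stronglyClosed_img {V : Subgroup Ω} (hV : F.StronglyClosed V) :
    E.StronglyClosed (img θ V) := by
  refine ⟨(img_le_range V).trans hE.2.2.1.le, fun P' hP' φ' hφ' x => ?_⟩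
  obtain ⟨φ, hφ, h⟩ := exists_lift_hom hE hφ'
  obtain ⟨v, hv, hvx⟩ := hP' x.2
  have hvP : (v : Ω) ∈ preimg θ P' := mem_preimg.2 ⟨v.2, by rw [Subtype.coe_eta, hvx]; exact x.2⟩
  have hφv : φ ⟨v, hvP⟩ ∈ V :=
    hV.2 (Subgroup.zpowers (v : Ω)) (Subgroup.zpowers_le.2 hv) _
      (restrict_mem hφ (Subgroup.zpowers_le.2 hvP)) ⟨v, Subgroup.mem_zpowers _⟩
  have e := induced_apply h ⟨v, hvP⟩ (hP := v.2) (hφ := apply_mem_S hφ _)
    (hP' := (mem_preimg.1 hvP).2)
  have hx : (⟨θ v, (mem_preimg.1 hvP).2⟩ : P') = x := Subtype.ext hvx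
  rw [hx] at e
  rw [e]
  exact apply_mem_img hφv

include hT hE in
/-- The preimage of a strongly closed subgroup of the factor system is strongly closed. -/
theorem stronglyClosed_preimg (p : ℕ) [Fact p.Prime] (hS : IsPGroup p S) (hF : F.IsSaturated p)
    {U : Subgroup Ω'} (hU : E.StronglyClosed U) : F.StronglyClosed (preimg θ U) := by
  refine ⟨preimg_le U, fun P hP φ hφ x => ?_⟩
  obtain ⟨φ', hφ', hPS, hφS, hP', he⟩ := induces_of_mem hT hE p hS hF hφ
  have hsub : img θ P ≤ U := by
    rintro _ ⟨y, hy, rfl⟩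
    exact (mem_preimg.1 (hP hy)).2
  refine mem_preimg.2 ⟨hφS x, ?_⟩
  rw [← he x]
  exact hU.2 _ hsub φ' hφ' _

omit [Finite S] in
include hE in
theorem isPGroup_factor (p : ℕ) (hS : IsPGroup p S) : IsPGroup p S' := by
  rw [← hE.2.2.1]
  exact hS.of_surjective θ.rangeRestrict θ.rangeRestrict_surjective

include hE in
theorem finite_factor : Finite S' := by
  rw [← hE.2.2.1]
  exact Finite.of_surjective θ.rangeRestrict θ.rangeRestrict_surjective

end

theorem normal_subgroupOf_of_stronglyClosed [Finite S] {R : Subgroup Ω} (hR : F.StronglyClosed R) :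
    (R.subgroupOf S).Normal := by
  refine ⟨fun n hn g => ?_⟩
  rw [Subgroup.mem_subgroupOf] at hn ⊢
  exact (Subgroup.mem_normalizer_iff.1 (stronglyClosed_normal_in_S hR g.2) _).1 hn

theorem isFactorSystem_mk' [Finite S] {R : Subgroup Ω} (hR : F.StronglyClosed R)
    [(R.subgroupOf S).Normal] :
    ∃ E : FusionSystem (⊤ : Subgroup (S ⧸ R.subgroupOf S)),
      F.IsFactorSystem R (QuotientGroup.mk' (R.subgroupOf S)) E :=
  ⟨_, factorSystem_spec hR (fun s => by
    rw [QuotientGroup.mk'_apply, QuotientGroup.eq_one_iff, Subgroup.mem_subgroupOf])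
    (MonoidHom.range_eq_top.2 (QuotientGroup.mk'_surjective _))⟩

theorem isSolvableSystem_of_chain [Finite S] (p : ℕ) [Fact p.Prime] (hS : IsPGroup p S)
    (hF : F.IsSaturated p) (h : SolvChain F ⊥) : F.IsSolvableSystem := by
  intro R hR hRS _ E hE
  have hE' : ∀ {W : Subgroup Ω}, SolvChain F W → W ≤ R → E.core ≠ ⊥ := by
    intro W hW
    induction hW with
    | top => intro hle; exact absurd (le_antisymm hR.1 hle) hRS
    | @step W V hWV hW hcomm hV ih =>
      intro hle
      by_cases hVR : V ≤ R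
      · exact ih hVR
      have := finite_factor hE
      have hsat := factor_saturated hR hE p hS hF
      have hU := stronglyClosed_img hE hV.stronglyClosed
      have hTV : ⁅img (QuotientGroup.mk' (R.subgroupOf S)) V,
          img (QuotientGroup.mk' (R.subgroupOf S)) V⁆ = ⊥ := by
        refine le_bot_iff.1 ((commutator_img_le (hcomm.trans hle)).trans ?_)
        rintro _ ⟨x, hx, rfl⟩
        exact Subgroup.mem_bot.2 ((hE.2.1 x).2 hx)
      have hab : IsMulCommutative (img (QuotientGroup.mk' (R.subgroupOf S)) V) := by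
        refine ⟨⟨fun a b => Subtype.ext ?_⟩⟩
        refine commutatorElement_eq_one_iff_mul_comm.1 ?_
        exact Subgroup.mem_bot.1 (hTV ▸ Subgroup.commutator_mem_commutator a.2 b.2)
      have hn := isNormal_of_abelian p (isPGroup_factor hE p hS) hsat hU hab
      intro hbot
      apply hVR
      intro x hx
      have hxS := hV.stronglyClosed.1 hx
      have h1 : (QuotientGroup.mk' (R.subgroupOf S)) ⟨x, hxS⟩ = 1 :=
        Subgroup.mem_bot.1 (hbot ▸ le_core hn (apply_mem_img (x := ⟨x, hxS⟩) hx))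
      exact (hE.2.1 _).1 h1
  exact hE' h bot_le

/-- In a solvable system every strongly closed subgroup starts a chain. -/
theorem chain_of_isSolvableSystem [Finite S] (p : ℕ) [Fact p.Prime] (hS : IsPGroup p S)
    (hF : F.IsSaturated p) (h : F.IsSolvableSystem) :
    ∀ {R : Subgroup Ω}, F.StronglyClosed R → SolvChain F R := by
  suffices H : ∀ (n : ℕ) (R : Subgroup Ω), Nat.card S - Nat.card R = n → F.StronglyClosed R →
      SolvChain F R from fun {R} hR => H _ R rfl hR
  intro n
  induction n using Nat.strong_induction_on with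
  | _ n ih =>
    intro R hn hR
    rcases eq_or_ne R S with rfl | hRS
    · exact .top
    have := normal_subgroupOf_of_stronglyClosed hR
    obtain ⟨E, hE⟩ := isFactorSystem_mk' hR
    have hne : E.core ≠ ⊥ := h R hR hRS E hE
    have := finite_factor hE
    have hS' := isPGroup_factor hE p hS
    have hsat := factor_saturated hR hE p hS hF
    have hQ : E.IsNormal E.core := isNormal_core
    let A : Subgroup _ := (Subgroup.center E.core).map E.core.subtype
    have hA : E.IsNormal A := by
      refine isNormal_of_characteristic hQ (Subgroup.map_subtype_le _) ?_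
      show (((Subgroup.center E.core).map E.core.subtype).subgroupOf E.core).Characteristic
      rw [show ((Subgroup.center E.core).map E.core.subtype).subgroupOf E.core
        = Subgroup.center E.core from
        Subgroup.comap_map_eq_self_of_injective E.core.subtype_injective _]
      infer_instance
    have hA1 : A ≠ ⊥ := by
      have := finite_of_le (core_le_S (F := E))
      have : Nontrivial E.core := (Subgroup.nontrivial_iff_ne_bot _).2 hne
      have := (isPGroup_of_le hS' (core_le_S (F := E))).center_nontrivial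
      show (Subgroup.center E.core).map E.core.subtype ≠ ⊥
      rw [Ne, Subgroup.map_eq_bot_iff_of_injective _ E.core.subtype_injective]
      exact (Subgroup.nontrivial_iff_ne_bot _).1 this
    have hV := stronglyClosed_preimg hR hE p hS hF (stronglyClosed_of_isNormal hA)
    have hRV : R ≤ preimg _ A := ker_le_preimg hE.1 hE.2.1 A
    refine .step hRV hR ?_ (ih _ ?_ _ rfl hV)
    · rw [Subgroup.commutator_le]
      intro a ha b hb
      obtain ⟨haS, ha'⟩ := mem_preimg.1 ha
      obtain ⟨hbS, hb'⟩ := mem_preimg.1 hb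
      have : (QuotientGroup.mk' (R.subgroupOf S)) ⁅(⟨a, haS⟩ : S), ⟨b, hbS⟩⁆ = 1 := by
        rw [map_commutatorElement, commutatorElement_eq_one_iff_mul_comm]
        obtain ⟨a₀, ha₀, ea⟩ := ha'
        obtain ⟨b₀, hb₀, eb⟩ := hb'
        rw [← ea, ← eb]
        exact congrArg E.core.subtype (Subgroup.mem_center_iff.1 hb₀ a₀)
      have := (hE.2.1 _).1 this
      simpa [commutatorElement_def] using this
    · have hlt : R < preimg (QuotientGroup.mk' (R.subgroupOf S)) A := by
        refine lt_of_le_of_ne hRV fun he => hA1 (le_bot_iff.1 fun y hy => ?_)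
        obtain ⟨⟨x, hx⟩, rfl⟩ := QuotientGroup.mk'_surjective _ y
        refine Subgroup.mem_bot.2 ((hE.2.1 _).2 ?_)
        exact he.symm ▸ mem_preimg.2 ⟨hx, hy⟩
      have h1 := finite_of_le hV.1
      have h2 : Nat.card R < Nat.card (preimg (QuotientGroup.mk' (R.subgroupOf S)) A) :=
        lt_of_le_of_ne (card_le_of_le hV.1 hRV) fun he =>
          hlt.ne (eq_of_le_of_card_le hV.1 hRV he.ge)
      have h3 := card_le_of_le (le_refl S) hV.1
      omega

theorem isSolvableSystem_iff_chain [Finite S] (p : ℕ) [Fact p.Prime] (hS : IsPGroup p S)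
    (hF : F.IsSaturated p) : F.IsSolvableSystem ↔ SolvChain F ⊥ :=
  ⟨fun h => chain_of_isSolvableSystem p hS hF h stronglyClosed_bot,
    isSolvableSystem_of_chain p hS hF⟩

/-- A solvable saturated system is constrained. -/
theorem isConstrained_of_solvable [Finite S] (p : ℕ) [Fact p.Prime] (hS : IsPGroup p S)
    (hF : F.IsSaturated p) (h : F.IsSolvableSystem) : F.IsConstrained p := by
  have hQ : F.IsNormal F.core := isNormal_core
  have hC : F.StronglyClosed (centralizerIn S F.core) := by
    refine ⟨centralizerIn_le_S _, fun P hP φ hφ x => mem_centralizerIn.2 ⟨apply_mem_S hφ x, ?_⟩⟩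
    obtain ⟨ψ, _, he, hm⟩ := hQ.2 P φ hφ
    intro y hy
    obtain ⟨q, hq, hqe⟩ := hm.ge hy
    rw [← he x, ← hqe, ← map_mul, ← map_mul]
    exact congrArg ψ (Subtype.ext ((mem_centralizerIn.1 (hP x.2)).2 _ hq))
  have key : ∀ {W : Subgroup Ω}, SolvChain F W → W ⊓ centralizerIn S F.core ≤ F.core →
      centralizerIn S F.core ≤ F.core := by
    intro W hW
    induction hW with
    | top => intro hle; rwa [inf_eq_right.2 (centralizerIn_le_S F.core)] at hle
    | @step W V hWV hW hcomm hV ih =>
      intro hle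
      refine ih ?_
      have hX := stronglyClosed_inf hV.stronglyClosed hC
      have hXQ := stronglyClosed_inf hX (stronglyClosed_of_isNormal hQ)
      refine (le_core (isNormal_of_series p hS hF hX (n := 2)
        ![⊥, V ⊓ centralizerIn S F.core ⊓ F.core, V ⊓ centralizerIn S F.core] rfl rfl ?_ ?_ ?_))
      · intro i
        fin_cases i
        · show ⁅V ⊓ centralizerIn S F.core ⊓ F.core, V ⊓ centralizerIn S F.core⁆ ≤ ⊥
          rw [Subgroup.commutator_le]
          intro a ha b hb
          rw [Subgroup.mem_bot, commutatorElement_eq_one_iff_mul_comm]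
          exact (mem_centralizerIn.1 hb.2).2 a ha.2
        · show ⁅V ⊓ centralizerIn S F.core, V ⊓ centralizerIn S F.core⁆ ≤
            V ⊓ centralizerIn S F.core ⊓ F.core
          rw [Subgroup.commutator_le]
          intro a ha b hb
          have hab : ⁅a, b⁆ ∈ V ⊓ centralizerIn S F.core := by
            rw [commutatorElement_def]
            exact mul_mem (mul_mem (mul_mem ha hb) (Subgroup.inv_mem _ ha)) (Subgroup.inv_mem _ hb)
          exact ⟨hab, hle ⟨hcomm (Subgroup.commutator_mem_commutator ha.1 hb.1), hab.2⟩⟩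
      · refine Fin.monotone_iff_le_succ.2 fun i => ?_
        fin_cases i
        · exact bot_le
        · exact inf_le_left
      · intro i
        fin_cases i
        · exact weaklyClosed_of_stronglyClosed stronglyClosed_bot
        · exact weaklyClosed_of_stronglyClosed hXQ
  refine ⟨hF, F.core, hQ, core_le_S, fun Q hconj => ?_⟩
  obtain ⟨φ, hφ, rfl⟩ := hconj
  rw [(weaklyClosed_of_stronglyClosed (stronglyClosed_of_isNormal hQ)).2 φ hφ]
  exact key (chain_of_isSolvableSystem p hS hF h stronglyClosed_bot) (inf_le_left.trans bot_le)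

/-- The largest part of `C` invariant under `Aut_F(T)`. -/
def autInf (F : FusionSystem S) (T C : Subgroup Ω) : Subgroup Ω :=
  (⨅ α : F.autGroup T, (C.subgroupOf T).comap (α : MulAut T).toMonoidHom).map T.subtype

theorem mem_autInf {C : Subgroup Ω} {x : Ω} :
    x ∈ autInf F T C ↔ ∃ hx : x ∈ T, ∀ α ∈ F.autGroup T, ((α ⟨x, hx⟩ : T) : Ω) ∈ C := by
  constructor
  · rintro ⟨y, hy, rfl⟩
    exact ⟨y.2, fun α hα => Subgroup.mem_iInf.1 hy ⟨α, hα⟩⟩
  · rintro ⟨hx, h⟩
    exact ⟨⟨x, hx⟩, Subgroup.mem_iInf.2 fun α => h α α.2, rfl⟩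

theorem autInf_le {C : Subgroup Ω} : autInf F T C ≤ T := Subgroup.map_subtype_le _

theorem autInf_self : autInf F T T = T :=
  le_antisymm autInf_le fun _ hx => mem_autInf.2 ⟨hx, fun _ _ => SetLike.coe_mem _⟩

theorem autInf_le_arg {C : Subgroup Ω} : autInf F T C ≤ C := fun _ hx => by
  obtain ⟨_, h⟩ := mem_autInf.1 hx
  exact h 1 (one_mem _)

theorem stronglyClosed_autInf {EE : FusionSystem T} (hE : EE.IsInvariantIn F) {C : Subgroup Ω}
    (hC : EE.StronglyClosed C) : F.StronglyClosed (autInf F T C) := by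
  obtain ⟨hsub, hT, hinv, hfr⟩ := hE
  refine ⟨autInf_le.trans hT.1, fun P hP φ hφ x => ?_⟩
  have hPT : P ≤ T := hP.trans autInf_le
  obtain ⟨α, hα, φ₀, hφ₀, he⟩ := hfr P hPT φ hφ
  have hφ₀T : ∀ y : P, φ₀ y ∈ T := fun y => apply_mem_S hφ₀ y
  refine mem_autInf.2 ⟨hT.2 P hPT φ hφ x, fun β hβ => ?_⟩
  obtain ⟨χ, hχ, hχe⟩ := hinv P hPT φ₀ hφ₀ (β * α) (mul_mem hβ hα)
  have hle : (P.subgroupOf T).map (T.subtype.comp (β * α).toMonoidHom) ≤ C := by
    rintro _ ⟨y, hy, rfl⟩
    obtain ⟨_, h⟩ := mem_autInf.1 (hP hy)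
    exact h (β * α) (mul_mem hβ hα)
  have hx : (((β * α) ⟨x, hPT x.2⟩ : T) : Ω) ∈
      (P.subgroupOf T).map (T.subtype.comp (β * α).toMonoidHom) :=
    ⟨⟨x, hPT x.2⟩, x.2, rfl⟩
  have h1 := hC.2 _ hle χ hχ ⟨_, hx⟩
  rw [hχe x (hφ₀T x) hx] at h1
  have e : (⟨φ x, hT.2 P hPT φ hφ x⟩ : T) = α ⟨φ₀ x, hφ₀T x⟩ := Subtype.ext (he x (hφ₀T x))
  rw [e]
  exact h1

theorem commutator_autInf_le {A B : Subgroup Ω} (h : ⁅A, A⁆ ≤ B) :
    ⁅autInf F T A, autInf F T A⁆ ≤ autInf F T B := by
  rw [Subgroup.commutator_le]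
  intro a ha b hb
  obtain ⟨haT, ha'⟩ := mem_autInf.1 ha
  obtain ⟨hbT, hb'⟩ := mem_autInf.1 hb
  refine mem_autInf.2 ⟨(⁅(⟨a, haT⟩ : T), ⟨b, hbT⟩⁆ : T).2, fun α hα => ?_⟩
  refine h ?_
  have := Subgroup.commutator_mem_commutator (ha' α hα) (hb' α hα)
  convert this using 1
  exact congrArg Subtype.val (map_commutatorElement α (⟨a, haT⟩ : T) ⟨b, hbT⟩)

/-- Solvability passes to and is detected by a normal subsystem and its factor system. -/
theorem solvable_iff_normal_factor [Finite S] (p : ℕ) [Fact p.Prime] (hS : IsPGroup p S)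
    (hF : F.IsSaturated p) {EE : FusionSystem T} (hN : EE.IsNormalIn F p)
    {D : FusionSystem S'} (hD : F.IsFactorSystem T θ D) :
    F.IsSolvableSystem ↔ EE.IsSolvableSystem ∧ D.IsSolvableSystem := by
  obtain ⟨⟨hEsat, -, hEinv⟩, -⟩ := hN
  have hT : F.StronglyClosed T := hEinv.2.1
  have := finite_of_le hT.1
  have hTp := isPGroup_of_le hS hT.1
  have := finite_factor hD
  have hS' := isPGroup_factor hD p hS
  have hDsat := factor_saturated hT hD p hS hF
  rw [isSolvableSystem_iff_chain p hS hF, isSolvableSystem_iff_chain p hTp hEsat,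
    isSolvableSystem_iff_chain p hS' hDsat]
  constructor
  · intro h
    have hET : ∀ {W : Subgroup Ω}, F.StronglyClosed W → EE.StronglyClosed (W ⊓ T) :=
      fun hW => ⟨inf_le_right, fun R hR φ hφ x =>
        ⟨hW.2 R (hR.trans inf_le_left) φ (hEinv.1 R hφ) x, apply_mem_S hφ x⟩⟩
    have hE : ∀ {W : Subgroup Ω}, SolvChain F W → SolvChain EE (W ⊓ T) := by
      intro W hW
      induction hW with
      | top => rw [inf_eq_right.2 hT.1]; exact .top
      | @step W V hWV hW hcomm hV ih =>
        refine .step (inf_le_inf_right T hWV) (hET hW) ?_ ih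
        exact le_inf ((Subgroup.commutator_mono inf_le_left inf_le_left).trans hcomm)
          ((Subgroup.commutator_mono inf_le_right inf_le_right).trans
            (Subgroup.commutator_le_self _))
    have hD' : ∀ {W : Subgroup Ω}, SolvChain F W → SolvChain D (img θ W) := by
      intro W hW
      induction hW with
      | top =>
        have : img θ S = S' := by
          rw [← hD.2.2.1, img, Subgroup.subgroupOf_self, MonoidHom.range_eq_map]
        rw [this]
        exact .top
      | @step W V hWV hW hcomm hV ih =>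
        exact .step (img_mono hWV) (stronglyClosed_img hD hW) (commutator_img_le hcomm) ih
    refine ⟨?_, ?_⟩
    · simpa using hE h
    · simpa [img] using hD' h
  · rintro ⟨hE, hD'⟩
    have h1 : ∀ {U : Subgroup Ω'}, SolvChain D U → SolvChain F (preimg θ U) := by
      intro U hU
      induction hU with
      | top =>
        have : preimg θ S' = S := by
          refine le_antisymm (preimg_le _) fun x hx => mem_preimg.2 ⟨hx, ?_⟩
          rw [← hD.2.2.1]
          exact ⟨_, rfl⟩
        rw [this]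
        exact .top
      | @step U V hUV hU hcomm hV ih =>
        refine .step (preimg_mono hUV) (stronglyClosed_preimg hT hD p hS hF hU) ?_ ih
        rw [Subgroup.commutator_le]
        intro a ha b hb
        obtain ⟨haS, ha'⟩ := mem_preimg.1 ha
        obtain ⟨hbS, hb'⟩ := mem_preimg.1 hb
        refine mem_preimg.2 ⟨(⁅(⟨a, haS⟩ : S), ⟨b, hbS⟩⁆ : S).2, ?_⟩
        convert hcomm (Subgroup.commutator_mem_commutator ha' hb') using 1
        exact map_commutatorElement θ (⟨a, haS⟩ : S) ⟨b, hbS⟩
    have hT0 : preimg θ (⊥ : Subgroup Ω') = T := by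
      ext x
      rw [mem_preimg]
      constructor
      · rintro ⟨hx, h⟩; exact (hD.2.1 _).1 (Subgroup.mem_bot.1 h)
      · intro hx; exact ⟨hT.1 hx, Subgroup.mem_bot.2 ((hD.2.1 _).2 hx)⟩
    have h2 : ∀ {W : Subgroup Ω}, SolvChain EE W → SolvChain F (autInf F T W) := by
      intro W hW
      induction hW with
      | top =>
        rw [autInf_self, ← hT0]
        exact h1 hD'
      | @step W V hWV hW hcomm hV ih =>
        refine .step ?_ (stronglyClosed_autInf hEinv hW) (commutator_autInf_le hcomm) ih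
        intro x hx
        obtain ⟨hxT, h⟩ := mem_autInf.1 hx
        exact mem_autInf.2 ⟨hxT, fun α hα => hWV (h α hα)⟩
    have := h2 hE
    rwa [show autInf F T (⊥ : Subgroup Ω) = ⊥ from le_bot_iff.1 autInf_le_arg] at this

theorem isSolvableSystem_iff_fin [Finite S] (p : ℕ) [Fact p.Prime] (hS : IsPGroup p S)
    (hF : F.IsSaturated p) : F.IsSolvableSystem ↔
      ∃ (n : ℕ) (C : Fin (n + 1) → Subgroup Ω), C 0 = ⊥ ∧ C (Fin.last n) = S ∧ Monotone C ∧
        (∀ i, F.StronglyClosed (C i)) ∧
        ∀ i : Fin n, ⁅C i.succ, C i.succ⁆ ≤ C (Fin.castSucc i) := by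
  rw [isSolvableSystem_iff_chain p hS hF]
  refine ⟨fun h => h.exists_fin, ?_⟩
  rintro ⟨n, C, h0, hn, hm, hsc, hc⟩
  exact h0 ▸ solvChain_of_fin hn hm hsc hc 0

end CfsgLib.Fusion
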