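import Cfsg.Agent.Fusion.SmallControl
import Cfsg.Agent.Fusion.SolvableSystem
import Cfsg.Prelude.Def_PLocal

/-!
For odd `p` a strongly closed subgroup is normal iff the subgroup generated by its elements of
order `p` has a central series of strongly closed subgroups.
-/

set_option autoImplicit false

open Cfsg Cfsg.FusionSystem
open scoped commutatorElement

namespace CfsgLib.Fusion

variable {Ω : Type*} [Group Ω] {S : Subgroup Ω} {F : FusionSystem S}

theorem omegaOne_le_self (p : ℕ) (P : Subgroup Ω) : Cfsg.omegaOne p P ≤ P :=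
  (Subgroup.closure_le _).2 fun _ hx => hx.1

theorem mem_omegaOne {p : ℕ} {P : Subgroup Ω} {x : Ω} (hx : x ∈ P) (h : x ^ p = 1) :
    x ∈ Cfsg.omegaOne p P :=
  Subgroup.subset_closure ⟨hx, h⟩

theorem omegaOne_characteristic (p : ℕ) (P : Subgroup Ω) :
    ((Cfsg.omegaOne p P).subgroupOf P).Characteristic := by
  refine Subgroup.characteristic_iff_le_comap.2 fun φ x hx => ?_
  have key : ∀ y (hy : y ∈ Cfsg.omegaOne p P),
      ((φ ⟨y, omegaOne_le_self p P hy⟩ : P) : Ω) ∈ Cfsg.omegaOne p P := by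
    intro y hy
    induction hy using Subgroup.closure_induction with
    | mem z hz =>
      refine mem_omegaOne (φ _).2 ?_
      have h1 : (⟨z, hz.1⟩ : P) ^ p = 1 := Subtype.ext hz.2
      have h2 := congrArg (fun w : P => (w : Ω)) (congrArg φ h1)
      simp only [map_pow, map_one, Subgroup.coe_pow, Subgroup.coe_one] at h2
      exact h2
    | one =>
      have h1 : φ (1 : P) = 1 := map_one φ
      show ((φ (1 : P) : P) : Ω) ∈ _
      rw [h1]
      exact one_mem _
    | mul a b ha hb iha ihb =>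
      have h1 := congrArg (fun w : P => (w : Ω))
        (map_mul φ ⟨a, omegaOne_le_self p P ha⟩ ⟨b, omegaOne_le_self p P hb⟩)
      exact Set.mem_of_eq_of_mem h1 (mul_mem iha ihb)
    | inv a ha iha =>
      have h1 := congrArg (fun w : P => (w : Ω)) (map_inv φ ⟨a, omegaOne_le_self p P ha⟩)
      exact Set.mem_of_eq_of_mem h1 (inv_mem iha)
  exact key _ hx

/-- An automorphism fixing the elements of order `p`, `p` odd, has `p`-power order. -/
theorem exists_pow_eq_one_of_fix {G : Type*} [Group G] [Finite G] {p : ℕ} [Fact p.Prime]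
    (hp2 : p ≠ 2) (hG : IsPGroup p G) (δ : MulAut G) (h : ∀ x, x ^ p = 1 → δ x = x) :
    ∃ a, δ ^ p ^ a = 1 := by
  have : Finite (MulAut G) := .of_injective _ DFunLike.coe_injective
  obtain ⟨a, m, hm, he⟩ := Nat.exists_eq_pow_mul_and_not_dvd (orderOf_pos δ).ne' p
    (Fact.out : p.Prime).ne_one
  refine ⟨a, ?_⟩
  obtain ⟨D, hD, -, hctl⟩ := exists_small_char hG
  have hD' : ∀ x ∈ D, δ x = x := fun x hx => h x (by
    simpa [CfsgLib.OrderPFix.small, hp2] using hD x hx)
  refine hctl _ ?_ fun x hx => ?_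
  · rw [orderOf_pow_of_dvd (pow_pos (Fact.out : p.Prime).pos a).ne' (he ▸ dvd_mul_right _ _), he,
      Nat.mul_div_cancel_left _ (pow_pos (Fact.out : p.Prime).pos a)]
    exact ((Fact.out : p.Prime).coprime_iff_not_dvd.2 hm).symm
  · generalize p ^ a = n
    induction n with
    | zero => simp
    | succ n ih => rw [pow_succ', MulAut.mul_apply, ih, hD' x hx]

/-- A strongly closed subgroup is normal when its elements of order `p` admit a central series of
strongly closed subgroups. -/
theorem isNormal_of_omega_series [Finite S] (p : ℕ) [Fact p.Prime] (hp2 : p ≠ 2) (hS : IsPGroup p S)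
    (hF : F.IsSaturated p) {P : Subgroup Ω} (hP : F.StronglyClosed P) {n : ℕ}
    (Q : Fin (n + 1) → Subgroup Ω) (h0 : Q 0 = ⊥) (hlast : ∀ x ∈ P, x ^ p = 1 → x ∈ Q (Fin.last n))
    (hmono : Monotone Q) (hsc : ∀ i, F.StronglyClosed (Q i))
    (hcomm : ∀ i : Fin n, ⁅Q i.succ, P⁆ ≤ Q i.castSucc) : F.IsNormal P := by
  refine isNormal_of_stronglyClosed p hS hF hP fun R hR => ?_
  have hc := hR.1
  have hr := isRadical_of_essential p hS hR
  have := finite_of_le hc.1
  have : Finite (MulAut R) := finite_mulAut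
  refine le_of_normalizer_le p hS hc.1 hP.1 (hc.1.trans (stronglyClosed_normal_in_S hP)) ?_
  intro g hgP hgN
  have hgS : g ∈ normalizerIn S R := ⟨hP.1 hgP, hgN⟩
  let M₀ : Submonoid (MulAut R) :=
    { carrier := {γ | ∀ i : Fin n, ∀ x : R, (x : Ω) ∈ Q i.succ →
        ((x⁻¹ * γ x : R) : Ω) ∈ Q i.castSucc}
      one_mem' := fun i x _ => by simp [one_mem]
      mul_mem' := fun {γ δ} hγ hδ i x hx => by
        have h1 := hδ i x hx
        have hle : Q i.castSucc ≤ Q i.succ := hmono (Fin.castSucc_le_succ i)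
        have h3 : ((δ x : R) : Ω) ∈ Q i.succ := by
          have e : ((δ x : R) : Ω) = (x : Ω) * ((x⁻¹ * δ x : R) : Ω) := by simp
          rw [e]
          exact mul_mem hx (hle h1)
        have h2 := hγ i (δ x) h3
        have e : x⁻¹ * (γ * δ) x = (x⁻¹ * δ x) * ((δ x)⁻¹ * γ (δ x)) := by
          rw [MulAut.mul_apply]; group
        rw [e, Subgroup.coe_mul]
        exact mul_mem h1 h2 }
  let M : Subgroup (MulAut R) :=
    { M₀ with
      inv_mem' := fun {γ} hγ => by
        have e : γ⁻¹ = γ ^ (orderOf γ - 1) := by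
          refine inv_eq_of_mul_eq_one_left ?_
          rw [← pow_succ, Nat.sub_add_cancel (orderOf_pos γ), pow_orderOf_eq_one]
        show γ⁻¹ ∈ M₀
        rw [e]
        exact M₀.pow_mem hγ _ }
  refine mem_of_chain p hS hc hr (m := 1) ![P.subgroupOf R, ⊤] rfl ?_ M
    (fun α hα γ hγA hγ => ?_) (fun γ hγ hγM => ?_) hgS ?_ ?_
  · intro α hα i x hx
    fin_cases i
    · exact le_of_stronglyClosed_aut hP hc.1 hα x hx
    · trivial
  · intro i x hx
    have h1 := hγ i (α⁻¹ x) (le_of_stronglyClosed_aut (hsc _) hc.1 (inv_mem hα) x hx)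
    have h2 := le_of_stronglyClosed_aut (hsc _) hc.1 hα _ h1
    simpa [MulAut.mul_apply] using h2
  · let D : Fin (n + 1) → Subgroup R := fun i => (Q i).subgroupOf R
    obtain ⟨k, hk⟩ := exists_pow_fix (isPGroup_of_le hS hc.1) γ D
      (fun i x hx => le_of_stronglyClosed_aut (hsc i) hc.1 hγ x hx) hγM
      ⟨0, fun x hx => by
        have hx1 : (x : Ω) ∈ Q 0 := hx
        rw [h0, Subgroup.mem_bot] at hx1
        rw [show x = 1 from Subtype.ext hx1, map_one]⟩ (Fin.last n)
    let ε := γ ^ p ^ k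
    have hεU : ∀ x : P.subgroupOf R, ε x ∈ P.subgroupOf R := fun x =>
      le_of_stronglyClosed_aut hP hc.1 (pow_mem hγ _) _ x.2
    let d : (P.subgroupOf R) →* (P.subgroupOf R) :=
      (ε.toMonoidHom.comp (P.subgroupOf R).subtype).codRestrict _ hεU
    have hdinj : Function.Injective d := fun a b hab =>
      Subtype.ext (ε.injective (congrArg Subtype.val hab))
    let δ : MulAut (P.subgroupOf R) := MulEquiv.ofBijective d (Finite.injective_iff_bijective.1 hdinj)
    have hU : IsPGroup p (P.subgroupOf R) := (isPGroup_of_le hS hc.1).to_subgroup _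
    obtain ⟨a, ha⟩ := exists_pow_eq_one_of_fix hp2 hU δ fun x hx => by
      refine Subtype.ext (hk x.1 ?_)
      exact hlast _ x.2 (congrArg (fun w : P.subgroupOf R => ((w : R) : Ω)) hx)
    have hpow : ∀ (j : ℕ) (x : P.subgroupOf R), ((δ ^ j) x : R) = (ε ^ j) x := by
      intro j
      induction j with
      | zero => intro x; rfl
      | succ j ih =>
        intro x
        rw [pow_succ', MulAut.mul_apply, pow_succ', MulAut.mul_apply, ← ih]
        rfl
    refine ⟨k + a, fun x hx => ?_⟩
    have h1 := hpow (p ^ a) ⟨x, hx⟩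
    rw [ha] at h1
    rw [pow_add, pow_mul]
    exact h1.symm
  · intro i x _
    fin_cases i
    refine inv_commutator_mem hgS x ?_
    rw [commutatorElement_def]
    exact mul_mem ((Subgroup.mem_normalizer_iff.1
      (stronglyClosed_normal_in_S hP (inv_mem (hc.1 x.2))) g).1 hgP) (inv_mem hgP)
  · intro i x hx
    exact inv_commutator_mem hgS x
      (hcomm i (Subgroup.commutator_mem_commutator (inv_mem hx) hgP))

/-- The converse: a normal subgroup gives such a series. -/
theorem exists_omega_series [Finite S] (p : ℕ) [Fact p.Prime] (hS : IsPGroup p S)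
    {P : Subgroup Ω} (hP : F.IsNormal P) :
    ∃ (n : ℕ) (Q : Fin (n + 1) → Subgroup Ω), Q 0 = ⊥ ∧ Q (Fin.last n) = Cfsg.omegaOne p P ∧
      Monotone Q ∧ (∀ i, F.StronglyClosed (Q i)) ∧ ∀ i : Fin n, ⁅Q i.succ, P⁆ ≤ Q i.castSucc := by
  have hO : F.IsNormal (Cfsg.omegaOne p P) :=
    isNormal_of_characteristic hP (omegaOne_le_self p P) (omegaOne_characteristic p P)
  obtain ⟨n, C, h0, hn, hmono, hcomm, hC⟩ := exists_series p hS hP
  refine ⟨n, fun i => C i ⊓ Cfsg.omegaOne p P, by simp only [h0, bot_inf_eq], ?_,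
    fun i j hij => inf_le_inf_right _ (hmono hij),
    fun i => stronglyClosed_inf (stronglyClosed_of_isNormal (hC i)) (stronglyClosed_of_isNormal hO),
    fun i => le_inf ((Subgroup.commutator_mono inf_le_left le_rfl).trans (hcomm i)) ?_⟩
  · simp only [hn]
    exact inf_eq_right.2 (omegaOne_le_self p P)
  · rw [Subgroup.commutator_le]
    intro x hx y hy
    have h1 := (Subgroup.mem_normalizer_iff.1 (normal_S_le_normalizer hO (hP.1 hy)) x⁻¹).1
      (inv_mem hx.2)
    rw [commutatorElement_def, mul_assoc, mul_assoc, ← mul_assoc y]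
    exact mul_mem hx.2 h1

end CfsgLib.Fusion
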