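import Cfsg.Agent.Fusion.MetacyclicAut
import Cfsg.Agent.Fusion.OmegaSeries
import Cfsg.Agent.Solvable.TwoMaximalClass

/-!
A strongly closed metacyclic 2-subgroup that is not of maximal class is normal in a saturated
fusion system.
-/

set_option autoImplicit false
set_option linter.unusedSectionVars false

open Cfsg Cfsg.FusionSystem
open scoped commutatorElement

namespace CfsgLib.Fusion

universe u

/-! ### The group-theoretic obstruction -/

theorem two_mul_card_le {G : Type u} [Group G] [Finite G] {A B : Subgroup G} (h : A < B) :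
    2 * Nat.card A ≤ Nat.card B := by
  obtain ⟨k, hk⟩ := Subgroup.card_dvd_of_le h.le
  have hne : k ≠ 1 := fun h1 => h.ne (Subgroup.eq_of_le_of_card_ge h.le (by rw [hk, h1, mul_one]))
  have hk0 : k ≠ 0 := fun h0 => Nat.card_pos.ne' (hk.trans (by rw [h0, mul_zero]))
  rw [hk, mul_comm]
  exact Nat.mul_le_mul_left _ (by omega)

theorem elementary_of_gens {Q : Type u} [Group Q] {s : Set Q} (hs : Subgroup.closure s = ⊤)
    (hc : ∀ a ∈ s, ∀ b ∈ s, Commute a b) (h2 : ∀ a ∈ s, a ^ 2 = 1) :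
    (∀ x y : Q, Commute x y) ∧ ∀ x : Q, x ^ 2 = 1 := by
  have key : ∀ x y : Q, Commute x y := by
    intro x y
    have hx : x ∈ Subgroup.closure s := hs.ge trivial
    have hy : y ∈ Subgroup.closure s := hs.ge trivial
    induction hy using Subgroup.closure_induction with
    | mem b hb =>
      induction hx using Subgroup.closure_induction with
      | mem a ha => exact hc a ha b hb
      | one => exact Commute.one_left b
      | mul a c _ _ ha hc => exact ha.mul_left hc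
      | inv a _ ha => exact ha.inv_left
    | one => exact Commute.one_right x
    | mul a c _ _ ha hc => exact ha.mul_right hc
    | inv a _ ha => exact ha.inv_right
  refine ⟨key, fun x => ?_⟩
  have hx : x ∈ Subgroup.closure s := hs.ge trivial
  induction hx using Subgroup.closure_induction with
  | mem a ha => exact h2 a ha
  | one => exact one_pow 2
  | mul a c _ _ ha hc => rw [(key a c).mul_pow, ha, hc, one_mul]
  | inv a _ ha => rw [inv_pow, ha, inv_one]

/-- A metacyclic 2-group has no element acting as a transvection on a homocyclic subgroup of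
exponent at least four. -/
theorem false_of_transvection {X : Type u} [Group X] [Finite X] (hX : IsPGroup 2 X)
    (hm : Cfsg.IsMetacyclic X) (U : Subgroup X) (hU : ∀ a ∈ U, ∀ b ∈ U, Commute a b) {n : ℕ}
    (hn : 2 ≤ n) (hcard : Nat.card U = 2 ^ n * 2 ^ n) (hexp : ∀ a ∈ U, a ^ 2 ^ n = 1)
    (hroot : ∀ a ∈ U, a ^ 2 ^ (n - 1) = 1 → ∃ b ∈ U, b ^ 2 = a) {g u : X}
    (hgn : ∀ a ∈ U, g * a * g⁻¹ ∈ U) (hg2 : g ^ 2 ∈ U) (hu : u ∈ U)
    (hv : ¬ ∃ b ∈ U, b ^ 2 = u⁻¹ * (g * u * g⁻¹)) : False := by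
  obtain ⟨v, hvdef⟩ : ∃ v, u⁻¹ * (g * u * g⁻¹) = v := ⟨_, rfl⟩
  rw [hvdef] at hv
  have hvU : v ∈ U := hvdef ▸ mul_mem (inv_mem hu) (hgn u hu)
  have hgu : g * u * g⁻¹ = u * v := by rw [← hvdef, mul_inv_cancel_left]
  have hgg : g * (g * u * g⁻¹) * g⁻¹ = u := by
    have h := (hU _ hg2 u hu).eq
    calc g * (g * u * g⁻¹) * g⁻¹ = g ^ 2 * u * (g ^ 2)⁻¹ := by rw [pow_two]; group
      _ = u := by rw [h, mul_inv_cancel_right]
  have hgv : g * v * g⁻¹ = v⁻¹ := by
    have e : g * v * g⁻¹ = (g * u * g⁻¹)⁻¹ * (g * (g * u * g⁻¹) * g⁻¹) := by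
      rw [← hvdef]; group
    rw [e, hgg, hgu, mul_inv_rev, mul_assoc, inv_mul_cancel, mul_one]
  have hord : ∀ a ∈ U, (¬ ∃ b ∈ U, b ^ 2 = a) → orderOf a = 2 ^ n := by
    intro a ha hns
    obtain ⟨k, rfl⟩ : ∃ k, n = k + 1 := ⟨n - 1, by omega⟩
    exact orderOf_eq_prime_pow (fun h => hns (hroot a ha h)) (hexp a ha)
  have hvord := hord v hvU hv
  have hind : ∀ a b : ℤ, u ^ a * v ^ b = 1 → ((2 ^ n : ℕ) : ℤ) ∣ a ∧ ((2 ^ n : ℕ) : ℤ) ∣ b := by
    intro a b h
    have h1 : MulAut.conj g (u ^ a * v ^ b) = 1 := by rw [h, map_one]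
    rw [map_mul, map_zpow, map_zpow, MulAut.conj_apply, MulAut.conj_apply, hgu, hgv,
      (hU u hu v hvU).mul_zpow] at h1
    have h2 : v ^ (a - b) = v ^ b := by
      rw [mul_assoc, inv_zpow, ← zpow_neg, ← zpow_add, ← sub_eq_add_neg] at h1
      exact mul_left_cancel (h1.trans h.symm)
    rw [← mul_inv_eq_one, ← zpow_neg, ← zpow_add, ← orderOf_dvd_iff_zpow_eq_one, hvord] at h2
    have hu2b : u ^ a = u ^ (2 * b) := by
      rw [zpow_eq_zpow_iff_modEq, Int.modEq_iff_dvd]
      refine (Int.natCast_dvd_natCast.2 (orderOf_dvd_of_pow_eq_one (hexp u hu))).trans ?_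
      rw [show 2 * b - a = -(a - b + -b) by ring]
      exact dvd_neg.2 h2
    rw [hu2b, zpow_mul, ← ((hU (u ^ (2 : ℤ)) (zpow_mem hu 2) v hvU)).mul_zpow,
      ← orderOf_dvd_iff_zpow_eq_one, hord _ (mul_mem (zpow_mem hu 2) hvU) ?_] at h
    · refine ⟨?_, h⟩
      have h3 := dvd_add h2 (h.mul_left 2)
      rwa [show a - b + -b + 2 * b = a by ring] at h3
    · rintro ⟨c, hc, hc2⟩
      refine hv ⟨u⁻¹ * c, mul_mem (inv_mem hu) hc, ?_⟩
      rw [(hU _ (inv_mem hu) c hc).mul_pow, hc2, inv_pow, ← zpow_natCast, Nat.cast_ofNat,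
        inv_mul_cancel_left]
  -- coordinates
  have : NeZero (2 ^ n) := ⟨by positivity⟩
  have hcoord : ∀ a ∈ U, ∃ i j : ℤ, a = u ^ i * v ^ j := by
    let ψ : ZMod (2 ^ n) × ZMod (2 ^ n) → U := fun w =>
      ⟨u ^ (w.1.val : ℤ) * v ^ (w.2.val : ℤ), mul_mem (zpow_mem hu _) (zpow_mem hvU _)⟩
    have hψ : Function.Injective ψ := by
      intro s t h
      have h' : u ^ (s.1.val : ℤ) * v ^ (s.2.val : ℤ) = u ^ (t.1.val : ℤ) * v ^ (t.2.val : ℤ) :=
        congrArg Subtype.val h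
      have h0 : u ^ ((s.1.val : ℤ) - t.1.val) * v ^ ((s.2.val : ℤ) - t.2.val) = 1 := by
        have hc : Commute v u := hU v hvU u hu
        rw [zpow_sub, zpow_sub, mul_mul_mul_comm' ((hc.symm.zpow_zpow _ _).inv_left), h',
          ← mul_inv_rev, (hU (v ^ (t.2.val : ℤ)) (zpow_mem hvU _) (u ^ (t.1.val : ℤ)) (zpow_mem hu _)).eq,
          mul_inv_cancel]
      obtain ⟨h1, h2⟩ := hind _ _ h0
      refine Prod.ext (ZMod.val_injective _ ?_) (ZMod.val_injective _ ?_)
      · have := Int.eq_zero_of_dvd_of_natAbs_lt_natAbs h1 (by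
          have := ZMod.val_lt s.1
          have := ZMod.val_lt t.1
          omega)
        omega
      · have := Int.eq_zero_of_dvd_of_natAbs_lt_natAbs h2 (by
          have := ZMod.val_lt s.2
          have := ZMod.val_lt t.2
          omega)
        omega
    have hbij : Function.Bijective ψ := (Nat.bijective_iff_injective_and_card ψ).2
      ⟨hψ, by rw [Nat.card_prod, Nat.card_zmod, hcard]⟩
    intro a ha
    obtain ⟨w, hw⟩ := hbij.2 ⟨a, ha⟩
    exact ⟨_, _, (congrArg Subtype.val hw).symm⟩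
  obtain ⟨i, j, hij⟩ := hcoord _ hg2
  have hdij : ((2 ^ n : ℕ) : ℤ) ∣ i - 2 * j := by
    have h1 : MulAut.conj g (u ^ i * v ^ j) = u ^ i * v ^ j := by
      rw [← hij, MulAut.conj_apply, pow_two]; group
    rw [map_mul, map_zpow, map_zpow, MulAut.conj_apply, MulAut.conj_apply, hgu, hgv,
      (hU u hu v hvU).mul_zpow, mul_assoc, inv_zpow, ← zpow_neg, ← zpow_add, mul_right_inj,
      ← mul_inv_eq_one, ← zpow_neg, ← zpow_add, ← orderOf_dvd_iff_zpow_eq_one, hvord] at h1
    rwa [show i + -j + -j = i - 2 * j by ring] at h1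
  obtain ⟨h, hhdef⟩ : ∃ h, g * u ^ (-j) = h := ⟨_, rfl⟩
  have hhh : h ^ 2 = 1 := by
    have e : h ^ 2 = (g * u * g⁻¹) ^ (-j) * g ^ 2 * u ^ (-j) := by
      rw [← hhdef, conj_zpow, pow_two, pow_two]; group
    rw [e, hgu, hij, (hU u hu v hvU).mul_zpow]
    have hc : ∀ x y : ℤ, Commute (u ^ x) (v ^ y) := fun x y => hU _ (zpow_mem hu x) _ (zpow_mem hvU y)
    calc u ^ (-j) * v ^ (-j) * (u ^ i * v ^ j) * u ^ (-j)
        = u ^ (-j) * (v ^ (-j) * u ^ i) * v ^ j * u ^ (-j) := by group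
      _ = u ^ (-j) * (u ^ i * v ^ (-j)) * v ^ j * u ^ (-j) := by rw [(hc i (-j)).eq]
      _ = u ^ (i - 2 * j) := by group
      _ = 1 := orderOf_dvd_iff_zpow_eq_one.1
        ((Int.natCast_dvd_natCast.2 (orderOf_dvd_of_pow_eq_one (hexp u hu))).trans hdij)
  have hhU : h ∉ U := fun hh => hv ⟨1, one_mem _, by
    have hgU : g ∈ U := by
      rw [show g = h * (u ^ (-j))⁻¹ by rw [← hhdef, mul_inv_cancel_right]]
      exact mul_mem hh (inv_mem (zpow_mem hu _))
    rw [one_pow, ← hvdef, (hU g hgU u hu).eq, mul_inv_cancel_right, inv_mul_cancel]⟩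
  have hconj : ∀ a ∈ U, h * a * h⁻¹ = g * a * g⁻¹ := by
    intro a ha
    rw [← hhdef]
    calc g * u ^ (-j) * a * (g * u ^ (-j))⁻¹ = g * (u ^ (-j) * a * (u ^ (-j))⁻¹) * g⁻¹ := by group
      _ = g * a * g⁻¹ := by rw [(hU _ (zpow_mem hu _) a ha).eq, mul_inv_cancel_right]
  obtain ⟨k, rfl⟩ : ∃ k, n = k + 2 := ⟨n - 2, by omega⟩
  obtain ⟨w, hwdef⟩ : ∃ w, u ^ 2 ^ (k + 1) = w := ⟨_, rfl⟩
  have hwU : w ∈ U := hwdef ▸ pow_mem hu _
  -- the elementary section
  let T : Subgroup X := Subgroup.closure {w, v, h}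
  have hwT : w ∈ T := Subgroup.subset_closure (by simp)
  have hvT : v ∈ T := Subgroup.subset_closure (by simp)
  have hhT : h ∈ T := Subgroup.subset_closure (by simp)
  have hTn : T ≤ Subgroup.normalizer (Subgroup.zpowers (v ^ 2) : Set X) := by
    have key : ∀ x : X, x * v ^ 2 * x⁻¹ ∈ Subgroup.zpowers (v ^ 2) →
        x⁻¹ * v ^ 2 * x ∈ Subgroup.zpowers (v ^ 2) → x ∈ Subgroup.normalizer (Subgroup.zpowers (v ^ 2) : Set X) := by
      intro x hx hx'
      refine Subgroup.mem_normalizer_iff.2 fun y => ⟨fun hy => ?_, fun hy => ?_⟩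
      · obtain ⟨e, rfl⟩ := Subgroup.mem_zpowers_iff.1 hy
        rw [← conj_zpow]; exact zpow_mem hx e
      · obtain ⟨e, he⟩ := Subgroup.mem_zpowers_iff.1 hy
        have h3 : y = (x⁻¹ * v ^ 2 * x⁻¹⁻¹) ^ e := by rw [conj_zpow, he]; group
        rw [h3, inv_inv]
        exact zpow_mem hx' e
    have hUv : ∀ x ∈ U, x ∈ Subgroup.normalizer (Subgroup.zpowers (v ^ 2) : Set X) := fun x hx =>
      key x (by rw [(hU x hx _ (pow_mem hvU 2)).eq, mul_inv_cancel_right]; exact Subgroup.mem_zpowers _)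
        (by rw [(hU _ (inv_mem hx) _ (pow_mem hvU 2)).eq, inv_mul_cancel_right]; exact Subgroup.mem_zpowers _)
    refine (Subgroup.closure_le _).2 ?_
    rintro y (e | e | e) <;> rw [SetLike.mem_coe, e]
    · exact hUv _ hwU
    · exact hUv _ hvU
    · have h1 : h * v ^ 2 * h⁻¹ = (v ^ 2)⁻¹ := by rw [hconj _ (pow_mem hvU 2), ← conj_pow, hgv, inv_pow]
      refine key h (h1 ▸ inv_mem (Subgroup.mem_zpowers _)) ?_
      rw [show h⁻¹ = h from inv_eq_of_mul_eq_one_left (by rwa [pow_two] at hhh)] at h1 ⊢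
      exact h1 ▸ inv_mem (Subgroup.mem_zpowers _)
  have hN : ((Subgroup.zpowers (v ^ 2)).subgroupOf T).Normal :=
    ⟨fun a ha x => (Subgroup.mem_normalizer_iff.1 (hTn x.2) _).1 ha⟩
  let q := QuotientGroup.mk' ((Subgroup.zpowers (v ^ 2)).subgroupOf T)
  have hq : ∀ x y : T, (x : X)⁻¹ * y ∈ Subgroup.zpowers (v ^ 2) → q x = q y := fun x y hxy =>
    QuotientGroup.eq.2 (Subgroup.mem_subgroupOf.2 hxy)
  have hgens : Subgroup.closure (q '' (((↑) : T → X) ⁻¹' {w, v, h})) = ⊤ := by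
    rw [← MonoidHom.map_closure, Subgroup.closure_closure_coe_preimage,
      Subgroup.map_top_of_surjective _ (QuotientGroup.mk'_surjective _)]
  have hwv : Commute w v := hU w hwU v hvU
  have hpre : ∀ a ∈ ({w, v, h} : Set X), ∀ b ∈ ({w, v, h} : Set X),
      (a * b)⁻¹ * (b * a) ∈ Subgroup.zpowers (v ^ 2) := by
    have h1 : (v * h)⁻¹ * (h * v) ∈ Subgroup.zpowers (v ^ 2) := by
      have e : h * v = v⁻¹ * h := by
        rw [← hgv, ← hconj v hvU]; group
      rw [e, show (v * h)⁻¹ * (v⁻¹ * h) = h⁻¹ * (v ^ 2)⁻¹ * h by rw [pow_two]; group]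
      exact ((Subgroup.mem_normalizer_iff''.1 (hTn hhT)) _).1 (inv_mem (Subgroup.mem_zpowers _))
    have h2 : (w * h)⁻¹ * (h * w) ∈ Subgroup.zpowers (v ^ 2) := by
      have e : h * w = w * (v ^ 2) ^ 2 ^ k * h := by
        rw [← pow_mul, ← pow_succ']
        have e' : h * w * h⁻¹ = w * v ^ 2 ^ (k + 1) := by
          rw [hconj w hwU, ← hwdef, ← conj_pow, hgu, (hU u hu v hvU).mul_pow]
        rw [← e']; group
      rw [e, show (w * h)⁻¹ * (w * (v ^ 2) ^ 2 ^ k * h) = h⁻¹ * (v ^ 2) ^ 2 ^ k * h by group]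
      exact ((Subgroup.mem_normalizer_iff''.1 (hTn hhT)) _).1 (pow_mem (Subgroup.mem_zpowers _) _)
    have hflip : ∀ a b : X, (a * b)⁻¹ * (b * a) ∈ Subgroup.zpowers (v ^ 2) →
        (b * a)⁻¹ * (a * b) ∈ Subgroup.zpowers (v ^ 2) := fun a b hm => by
      have := inv_mem hm
      rwa [mul_inv_rev, inv_inv] at this
    have h3 : (w * v)⁻¹ * (v * w) ∈ Subgroup.zpowers (v ^ 2) := by
      rw [hwv.eq, inv_mul_cancel]; exact one_mem _
    rintro a (e | e | e) b (e' | e' | e') <;> rw [e, e']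
    all_goals first
      | (rw [inv_mul_cancel]; exact one_mem _)
      | exact h1
      | exact h2
      | exact h3
      | exact hflip _ _ h1
      | exact hflip _ _ h2
      | exact hflip _ _ h3
  have hsq : ∀ a ∈ ({w, v, h} : Set X), a ^ 2 ∈ Subgroup.zpowers (v ^ 2) := by
    rintro a (e | e | e) <;> rw [e]
    · rw [← hwdef, ← pow_mul, ← pow_succ, hexp u hu]; exact one_mem _
    · exact Subgroup.mem_zpowers _
    · rw [hhh]; exact one_mem _
  obtain ⟨hQc, hQ2⟩ := elementary_of_gens hgens (by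
      rintro _ ⟨a, ha, rfl⟩ _ ⟨b, hb, rfl⟩
      show q a * q b = q b * q a
      rw [← map_mul, ← map_mul]
      exact hq _ _ (hpre _ ha _ hb)) (by
      rintro _ ⟨a, ha, rfl⟩
      rw [← map_pow]
      exact (QuotientGroup.eq_one_iff _).2 (Subgroup.mem_subgroupOf.2 (hsq _ ha)))
  have hfr : frattini T ≤ (Subgroup.zpowers (v ^ 2)).subgroupOf T := by
    refine CfsgLib.PGroupBasic.frattini_le_of_elementary (p := 2) _
      (Subgroup.Normal.quotient_commutative_iff_commutator_le.1 ⟨⟨fun a b => (hQc a b).eq⟩⟩) fun x => ?_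
    rw [← QuotientGroup.eq_one_iff, QuotientGroup.mk_pow]
    exact hQ2 _
  have h4 := CfsgLib.MetacyclicAut.card_quotient_frattini_le (p := 2) (hX.to_subgroup T)
    (CfsgLib.MetacyclicAut.isMetacyclic_of_injective T.subtype T.subtype_injective hm)
  have hle : Subgroup.zpowers (v ^ 2) ≤ T := Subgroup.zpowers_le.2 (pow_mem hvT 2)
  -- the chain
  have c1 : Subgroup.zpowers (v ^ 2) < Subgroup.zpowers v := by
    refine lt_of_le_of_ne (Subgroup.zpowers_le.2 (pow_mem (Subgroup.mem_zpowers v) 2)) fun e => ?_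
    obtain ⟨c, hc⟩ := Subgroup.mem_zpowers_iff.1 (e.ge (Subgroup.mem_zpowers v))
    have hd : v ^ (2 * c - 1) = 1 := by
      rw [zpow_sub_one, zpow_mul, show v ^ (2 : ℤ) = v ^ 2 from zpow_natCast v 2, hc, mul_inv_cancel]
    rw [← orderOf_dvd_iff_zpow_eq_one, hvord] at hd
    have : (2 : ℤ) ∣ 2 * c - 1 := dvd_trans ⟨2 ^ (k + 1), by push_cast; ring⟩ hd
    omega
  have c2 : Subgroup.zpowers v < Subgroup.zpowers v ⊔ Subgroup.zpowers w := by
    refine lt_of_le_of_ne le_sup_left fun e => ?_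
    obtain ⟨c, hc⟩ := Subgroup.mem_zpowers_iff.1
      (e.ge (Subgroup.mem_sup_right (Subgroup.mem_zpowers w)))
    have hd := (hind ((2 ^ (k + 1) : ℕ) : ℤ) (-c) (by rw [zpow_natCast, hwdef, zpow_neg, hc, mul_inv_cancel])).1
    rw [Int.natCast_dvd_natCast, Nat.pow_dvd_pow_iff_le_right (le_refl 2)] at hd
    omega
  have c3 : Subgroup.zpowers v ⊔ Subgroup.zpowers w < T := by
    refine lt_of_le_of_ne (sup_le (Subgroup.zpowers_le.2 hvT) (Subgroup.zpowers_le.2 hwT)) fun e => ?_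
    exact hhU ((sup_le (Subgroup.zpowers_le.2 hvU) (Subgroup.zpowers_le.2 hwU) :
      Subgroup.zpowers v ⊔ Subgroup.zpowers w ≤ U) (e.ge hhT))
  have e1 := two_mul_card_le c1
  have e2 := two_mul_card_le c2
  have e3 := two_mul_card_le c3
  have hidx := ((Subgroup.zpowers (v ^ 2)).subgroupOf T).card_mul_index
  rw [Nat.card_congr (Subgroup.subgroupOfEquivOfLe hle).toEquiv] at hidx
  have hbound : ((Subgroup.zpowers (v ^ 2)).subgroupOf T).index ≤ 4 := by
    refine le_trans ?_ h4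
    rw [← Subgroup.index_eq_card]
    exact Nat.le_of_dvd (Nat.pos_of_ne_zero Subgroup.index_ne_zero_of_finite) (Subgroup.index_dvd_of_le hfr)
  have := Nat.mul_le_mul_left (Nat.card (Subgroup.zpowers (v ^ 2))) hbound
  have : 0 < Nat.card (Subgroup.zpowers (v ^ 2)) := Nat.card_pos
  omega
where
  mul_mul_mul_comm' {G : Type u} [Group G] {a b c d : G} (h : Commute b c) :
      a * b * (c * d) = a * c * (b * d) := by
    rw [mul_assoc, ← mul_assoc b, h.eq, mul_assoc c, ← mul_assoc]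

/-! ### The fusion statement -/

variable {Ω : Type u} [Group Ω] {S : Subgroup Ω} {F : FusionSystem S}

/-- The restriction of an automorphism to an invariant subgroup. -/
noncomputable def resAut {G : Type u} [Group G] [Finite G] (U : Subgroup G) (α : MulAut G)
    (h : ∀ x ∈ U, α x ∈ U) : MulAut U :=
  MulEquiv.ofBijective ((α.toMonoidHom.comp U.subtype).codRestrict U fun x => h x x.2)
    (Finite.injective_iff_bijective.1 fun _ _ e => Subtype.ext (α.injective (congrArg Subtype.val e)))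

@[simp] theorem coe_resAut {G : Type u} [Group G] [Finite G] (U : Subgroup G) (α : MulAut G)
    (h : ∀ x ∈ U, α x ∈ U) (x : U) : ((resAut U α h x : U) : G) = α x := rfl

/-- An element of the strongly closed `P` lies in the essential subgroup `R` when it acts on
`P ∩ R` like a member of a normal `p`-subgroup of the automorphisms of `P ∩ R`. -/
theorem mem_of_pAction [Finite S] (p : ℕ) [Fact p.Prime] (hS : IsPGroup p S) {P R : Subgroup Ω}
    (hP : F.StronglyClosed P) (hR : F.IsEssential p R) (M : Subgroup (MulAut (P.subgroupOf R)))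
    [hMn : M.Normal] (hMp : IsPGroup p M) {g : Ω} (hgP : g ∈ P) (hg : g ∈ normalizerIn S R)
    {δ : MulAut (P.subgroupOf R)} (hδM : δ ∈ M)
    (hδ : ∀ x : P.subgroupOf R, ((δ x : P.subgroupOf R) : R) = conjAut S R ⟨g, hg⟩ x) : g ∈ R := by
  have hc := hR.1
  have := finite_of_le hc.1
  let M₀ : Subgroup (MulAut R) :=
    { carrier := {γ | ∃ δ ∈ M, ∀ x : P.subgroupOf R, ((δ x : P.subgroupOf R) : R) = γ x}
      one_mem' := ⟨1, one_mem _, fun x => rfl⟩
      mul_mem' := by
        rintro γ γ' ⟨d, hd, hdγ⟩ ⟨d', hd', hdγ'⟩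
        exact ⟨d * d', mul_mem hd hd', fun x => by
          rw [MulAut.mul_apply, MulAut.mul_apply, hdγ, hdγ']⟩
      inv_mem' := by
        rintro γ ⟨d, hd, hdγ⟩
        refine ⟨d⁻¹, inv_mem hd, fun x => γ.injective ?_⟩
        rw [MulAut.apply_inv_self, ← hdγ, MulAut.apply_inv_self] }
  refine mem_of_chain p hS hc (isRadical_of_essential p hS hR) (m := 1) ![P.subgroupOf R, ⊤] rfl ?_
    M₀ (fun α hα γ _ hγ => ?_) (fun γ _ hγ => ?_) hg ?_ ⟨δ, hδM, hδ⟩
  · intro α hα i x hx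
    fin_cases i
    · exact le_of_stronglyClosed_aut hP hc.1 hα x hx
    · trivial
  · obtain ⟨d, hd, hdγ⟩ := hγ
    let α' := resAut (P.subgroupOf R) α fun x hx => le_of_stronglyClosed_aut hP hc.1 hα x hx
    refine ⟨α' * d * α'⁻¹, hMn.conj_mem d hd α', fun x => ?_⟩
    obtain ⟨y, rfl⟩ := α'.surjective x
    simp only [MulAut.mul_apply, MulAut.inv_apply_self]
    show α ((d y : P.subgroupOf R) : R) = α (γ (α⁻¹ (α (y : R))))
    rw [hdγ, MulAut.inv_apply_self]
  · obtain ⟨d, hd, hdγ⟩ := hγ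
    obtain ⟨k, hk⟩ := hMp ⟨d, hd⟩
    refine ⟨k, fun x hx => ?_⟩
    have hit : ∀ (j : ℕ) (y : P.subgroupOf R), (((d ^ j) y : P.subgroupOf R) : R) = (γ ^ j) y := by
      intro j
      induction j with
      | zero => intro y; rfl
      | succ j ih => intro y; rw [pow_succ', MulAut.mul_apply, hdγ, ih, pow_succ', MulAut.mul_apply]
    have h1 := hit (p ^ k) ⟨x, hx⟩
    rw [show d ^ p ^ k = 1 from congrArg Subtype.val hk] at h1
    exact h1.symm
  · intro i x _
    fin_cases i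
    refine inv_commutator_mem hg x ?_
    rw [commutatorElement_def]
    exact mul_mem ((Subgroup.mem_normalizer_iff.1
      (stronglyClosed_normal_in_S hP (Subgroup.inv_mem _ (hc.1 x.2))) g).1 hgP) (inv_mem hgP)

/-- A strongly closed metacyclic 2-subgroup that is not dihedral, semidihedral or quaternion is
normal. -/
theorem isNormal_of_metacyclic_two [Finite S] (hS : IsPGroup 2 S) (hF : F.IsSaturated 2)
    {P : Subgroup Ω} (hP : F.StronglyClosed P) (hm : Cfsg.IsMetacyclic P)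
    (hdsq : ¬ CfsgLib.TwoMax.DSQ P) : F.IsNormal P := by
  have := finite_of_le hP.1
  refine isNormal_of_stronglyClosed 2 hS hF hP fun R hR => ?_
  have hc := hR.1
  have := finite_of_le hc.1
  refine le_of_normalizer_le 2 hS hc.1 hP.1 (hc.1.trans (stronglyClosed_normal_in_S hP)) ?_
  intro g hgP hgN
  by_contra hgR
  have hgS : g ∈ normalizerIn S R := ⟨hP.1 hgP, hgN⟩
  let α := conjAut S R ⟨g, hgS⟩
  have hαA : α ∈ F.autGroup R :=
    autInducedBy_le_autGroup hc.1 (mem_autInducedBy.2 ⟨g, hP.1 hgP, fun _ => rfl⟩)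
  have hαU : ∀ x ∈ P.subgroupOf R, α x ∈ P.subgroupOf R := fun x hx =>
    le_of_stronglyClosed_aut hP hc.1 hαA x hx
  let δ := resAut (P.subgroupOf R) α hαU
  have : Finite (MulAut (P.subgroupOf R)) := .of_injective _ DFunLike.coe_injective
  have hA : ¬ IsPGroup 2 (MulAut (P.subgroupOf R)) := fun h =>
    hgR (mem_of_pAction 2 hS hP hR ⊤ (h.to_subgroup ⊤) hgP hgS (δ := δ) trivial fun x => rfl)
  let j : P.subgroupOf R →* P :=
    (R.subtype.comp (P.subgroupOf R).subtype).codRestrict P fun x => x.2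
  have hj : Function.Injective j := fun a b h =>
    Subtype.ext (Subtype.ext (congrArg (fun z : P => (z : Ω)) h))
  have hUp : IsPGroup 2 (P.subgroupOf R) := (isPGroup_of_le hS hc.1).to_subgroup _
  have hUm : Cfsg.IsMetacyclic (P.subgroupOf R) :=
    CfsgLib.MetacyclicAut.isMetacyclic_of_injective j hj hm
  have hPp : IsPGroup 2 P := isPGroup_of_le hS hP.1
  -- elements centralizing `P ∩ R` lie in `R`
  have hC : P ⊓ Subgroup.centralizer ((P ⊓ R : Subgroup Ω) : Set Ω) ≤ R := by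
    refine le_of_normalizer_le 2 hS hc.1 (inf_le_left.trans hP.1) ?_ ?_
    · intro r hr
      have hn := Subgroup.mem_normalizer_iff.1 (stronglyClosed_normal_in_S hP (hc.1 hr))
      refine mem_normalizer_of_conj_mem (inf_le_left.trans hP.1) fun x hx => ⟨(hn x).1 hx.1, ?_⟩
      refine Subgroup.mem_centralizer_iff.2 fun y hy => ?_
      have hy' : r⁻¹ * y * r ∈ P ⊓ R :=
        ⟨((Subgroup.mem_normalizer_iff''.1 (stronglyClosed_normal_in_S hP (hc.1 hr))) y).1 hy.1,
          mul_mem (mul_mem (Subgroup.inv_mem _ hr) hy.2) hr⟩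
      have h1 : Commute (r⁻¹ * y * r) x := Subgroup.mem_centralizer_iff.1 hx.2 _ hy'
      have h2 : Commute (MulAut.conj r (r⁻¹ * y * r)) (MulAut.conj r x) :=
        h1.map (MulAut.conj r).toMonoidHom
      rw [MulAut.conj_apply, MulAut.conj_apply] at h2
      simpa [mul_assoc] using h2.eq
    · intro c hcC hcN
      have hcS : c ∈ normalizerIn S R := ⟨hP.1 hcC.1, hcN⟩
      refine mem_of_pAction 2 hS hP hR ⊥ IsPGroup.of_bot hcC.1 hcS (δ := 1) (one_mem _) fun x => ?_
      refine Subtype.ext ?_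
      have h := Subgroup.mem_centralizer_iff.1 hcC.2 (x : R) ⟨x.2, (x : R).2⟩
      show ((x : R) : Ω) = c * ((x : R) : Ω) * c⁻¹
      rw [← h, mul_inv_cancel_right]
  have hCU : Subgroup.centralizer (j.range : Set P) ≤ j.range := by
    intro c hc'
    have hcR : (c : Ω) ∈ R := hC ⟨c.2, Subgroup.mem_centralizer_iff.2 fun y hy =>
      congrArg (fun z : P => (z : Ω))
        (Subgroup.mem_centralizer_iff.1 hc' ⟨y, hy.1⟩ ⟨⟨⟨y, hy.2⟩, hy.1⟩, rfl⟩)⟩
    exact ⟨⟨⟨c, hcR⟩, c.2⟩, rfl⟩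
  have hcardU : Nat.card j.range = Nat.card (P.subgroupOf R) :=
    (Nat.card_congr (MonoidHom.ofInjective hj).toEquiv).symm
  rcases CfsgLib.MetacyclicAut.quaternion_or_homocyclic hUp hUm hA with ⟨⟨e⟩⟩ | ⟨n, ⟨e⟩⟩
  · -- quaternion of order eight
    have h8 : Nat.card j.range = 8 := by
      rw [hcardU, Nat.card_congr e.toEquiv, Nat.card_eq_fintype_card, QuaternionGroup.card]
    have hna : ¬ IsMulCommutative j.range := fun hab => by
      let e' := (MonoidHom.ofInjective hj).symm.trans e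
      have h1 := congrArg e' (hab.is_comm.comm (e'.symm (QuaternionGroup.a 1)) (e'.symm (QuaternionGroup.xa 0)))
      simp only [map_mul, MulEquiv.apply_symm_apply] at h1
      exact absurd h1 (by decide)
    obtain ⟨m, a, b, r, hm2, ha, hi, hb, hr⟩ :=
      CfsgLib.TwoMax.str_of_order_eight _ P le_rfl hPp j.range h8 hna hCU
    exact hdsq (CfsgLib.TwoMax.dsq_of_cyclic hPp hm2 ha hi hb hr)
  have hcardn : Nat.card j.range = 2 ^ n * 2 ^ n := by
    rw [hcardU, Nat.card_congr e.toEquiv, Nat.card_prod, Nat.card_congr Multiplicative.toAdd,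
      Nat.card_zmod]
  have hcommU : ∀ a ∈ j.range, ∀ b ∈ j.range, Commute a b := by
    rintro _ ⟨a, rfl⟩ _ ⟨b, rfl⟩
    exact (show Commute a b from e.injective (by rw [map_mul, map_mul, mul_comm])).map j
  rcases Nat.lt_or_ge n 2 with hn | hn
  · interval_cases n
    · refine hA fun a => ⟨0, ?_⟩
      have : Subsingleton (P.subgroupOf R) := by
        refine ⟨fun x y => e.injective ?_⟩
        haveI : Subsingleton (ZMod (2 ^ 0)) := by rw [pow_zero]; infer_instance
        exact Subsingleton.elim _ _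
      exact MulEquiv.ext fun x => Subsingleton.elim _ _
    · -- four group
      have h4 : Nat.card j.range = 2 ^ 2 := by rw [hcardn]; norm_num
      obtain ⟨m, hm'⟩ := IsPGroup.iff_card.1 hPp
      have hgU : (⟨g, hgP⟩ : P) ∉ j.range := fun ⟨x, hx⟩ =>
        hgR (Set.mem_of_eq_of_mem (s := (R : Set Ω)) (congrArg (fun z : P => (z : Ω)) hx).symm (x : R).2)
      have hlt : 2 * 4 ≤ 2 ^ m := by
        have := two_mul_card_le (lt_top_iff_ne_top.2 fun h => hgU (h ▸ trivial) : j.range < ⊤)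
        rwa [Subgroup.card_top, h4, hm'] at this
      have hm3 : 3 ≤ m := by
        by_contra h
        have := Nat.pow_le_pow_right two_pos (show m ≤ 2 by omega)
        omega
      have hceq : Subgroup.centralizer (j.range : Set P) = j.range :=
        le_antisymm hCU fun a ha => Subgroup.mem_centralizer_iff.2 fun b hb => (hcommU b hb a ha).eq
      have hcl := CfsgLib.MaximalClass.class_of_self_centralizing (p := 2) m hm' j.range h4 hceq
      rcases CfsgLib.TwoMax.dsq_of_index_commutator hPp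
        (CfsgLib.MaximalClass.index_commutator_of_class hm3 hm' hcl) with h | h
      · omega
      · exact hdsq h
  -- exponent at least four
  let θ := QuotientGroup.congr (frattini (P.subgroupOf R)) (frattini (P.subgroupOf R)) δ
    (Subgroup.characteristic_iff_map_eq.1 frattini_characteristic δ)
  have hθ : ∀ (i : ℕ) (x : P.subgroupOf R),
      (θ ^ i) (QuotientGroup.mk x) = QuotientGroup.mk ((δ ^ i) x) := by
    intro i
    induction i with
    | zero => intro x; rfl
    | succ i ih => intro x; rw [pow_succ', MulAut.mul_apply, ih, pow_succ', MulAut.mul_apply]; rfl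
  obtain ⟨l, hl⟩ := hS ⟨g, hP.1 hgP⟩
  have hδit : ∀ (i : ℕ) (x : P.subgroupOf R), (((δ ^ i) x : P.subgroupOf R) : R) = (α ^ i) x := by
    intro i
    induction i with
    | zero => intro x; rfl
    | succ i ih =>
      intro x
      rw [pow_succ', MulAut.mul_apply, coe_resAut, ih, pow_succ', MulAut.mul_apply]
  have hδl : δ ^ 2 ^ l = 1 := MulEquiv.ext fun x => Subtype.ext (by
    rw [hδit, show α ^ 2 ^ l = 1 by
      show conjAut S R ⟨g, hgS⟩ ^ 2 ^ l = 1
      rw [← map_pow, show (⟨g, hgS⟩ : ↥(S ⊓ Subgroup.normalizer (R : Set Ω))) ^ 2 ^ l = 1 from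
        Subtype.ext (by have := congrArg Subtype.val hl; simpa using this), map_one]]
    rfl)
  have : Finite (MulAut (P.subgroupOf R ⧸ frattini (P.subgroupOf R))) :=
    .of_injective _ DFunLike.coe_injective
  have hθ2 : θ ^ 2 = 1 := by
    have h1 : orderOf θ ∣ 2 ^ l := orderOf_dvd_of_pow_eq_one (MulEquiv.ext fun q => by
      induction q using QuotientGroup.induction_on with
      | H x => rw [hθ, hδl]; rfl)
    have h6 := (orderOf_dvd_natCard θ).trans (CfsgLib.MetacyclicAut.card_mulAut_dvd_six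
      ((CfsgLib.MetacyclicAut.card_quotient_frattini_le (p := 2) hUp hUm).trans (by norm_num)))
    obtain ⟨i, -, hi⟩ := (Nat.dvd_prime_pow Nat.prime_two).1 h1
    rw [← orderOf_dvd_iff_pow_eq_one, hi]
    rw [hi] at h6
    have hi1 : i ≤ 1 := by
      by_contra hcon
      have h4 : 2 ^ 2 ∣ 6 := (pow_dvd_pow 2 (show 2 ≤ i by omega)).trans h6
      norm_num at h4
    exact (pow_dvd_pow 2 hi1).trans (pow_one 2).dvd
  have hk := CfsgLib.MetacyclicAut.frattiniKernel_normal (P.subgroupOf R)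
  have hkp := CfsgLib.MetacyclicAut.isPGroup_frattiniKernel (p := 2) hUp
  have hg2S : g ^ 2 ∈ normalizerIn S R := pow_mem hgS 2
  have hg2R : g ^ 2 ∈ R := by
    refine mem_of_pAction 2 hS hP hR _ hkp (pow_mem hgP 2) hg2S (δ := δ ^ 2) ?_ fun x => ?_
    · intro x
      have h := DFunLike.congr_fun hθ2 (QuotientGroup.mk x)
      rw [hθ, MulAut.one_apply] at h
      have h' := QuotientGroup.eq.1 h.symm
      have := (Subgroup.Normal.mem_comm_iff inferInstance).1 h'
      exact this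
    · rw [hδit]
      show ((conjAut S R ⟨g, hgS⟩) ^ 2) _ = _
      rw [← map_pow]
      rfl
  have hnk : δ ∉ CfsgLib.MetacyclicAut.frattiniKernel (P.subgroupOf R) := fun h =>
    hgR (mem_of_pAction 2 hS hP hR _ hkp hgP hgS h fun x => rfl)
  obtain ⟨x, hx⟩ := not_forall.1 hnk
  have hz : ∀ c : Multiplicative (ZMod (2 ^ n)), c ^ 2 ^ n = 1 := fun c => by
    have h := pow_card_eq_one' (x := c)
    rwa [Nat.card_congr Multiplicative.toAdd, Nat.card_zmod] at h
  have hexpU : ∀ a : P.subgroupOf R, a ^ 2 ^ n = 1 := fun a => e.injective (by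
    rw [map_pow, map_one]
    exact Prod.ext (hz (e a).1) (hz (e a).2))
  refine false_of_transvection hPp hm j.range hcommU hn hcardn ?_ ?_ (g := ⟨g, hgP⟩) (u := j x)
    ?_ ?_ ⟨x, rfl⟩ ?_
  · rintro _ ⟨a, rfl⟩
    rw [← map_pow, hexpU, map_one]
  · rintro _ ⟨a, rfl⟩ ha
    rw [← map_pow, map_eq_one_iff j hj] at ha
    have ha' := congrArg e ha
    rw [map_pow, map_one] at ha'
    obtain ⟨k, rfl⟩ : ∃ k, n = k + 2 := ⟨n - 2, by omega⟩
    obtain ⟨c₁, hc₁⟩ := exists_root (E := k + 2) (n := k) Nat.prime_two le_rfl (e a).1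
      (congrArg Prod.fst ha')
    obtain ⟨c₂, hc₂⟩ := exists_root (E := k + 2) (n := k) Nat.prime_two le_rfl (e a).2
      (congrArg Prod.snd ha')
    refine ⟨j (e.symm (c₁, c₂)), ⟨_, rfl⟩, ?_⟩
    rw [← map_pow, ← map_pow]
    congr 1
    rw [show ((c₁, c₂) : _ × _) ^ 2 = e a from Prod.ext hc₁ hc₂, MulEquiv.symm_apply_apply]
  · rintro _ ⟨a, rfl⟩
    exact ⟨δ a, rfl⟩
  · exact ⟨⟨⟨g ^ 2, hg2R⟩, pow_mem hgP 2⟩, rfl⟩
  · rintro ⟨_, ⟨b, rfl⟩, hb⟩
    apply hx
    have hb' : b ^ 2 = x⁻¹ * δ x := hj (by rw [map_pow, hb, map_mul, map_inv]; rfl)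
    have hcx : Commute (x⁻¹) (δ x) := e.injective (by rw [map_mul, map_mul, mul_comm])
    rw [← hcx.eq, ← hb']
    exact (CfsgLib.PGroupBasic.commutator_pow_le_frattini hUp).2 b

end CfsgLib.Fusion
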