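import Cfsg.Agent.Fusion.ModelExists
import Cfsg.Agent.Solvable.Basics

/-!
Existence of a model for a saturated system with a normal centric subgroup: the quotient of the
monomial group by the kernel of the product map on the fibre.
-/

set_option autoImplicit false

open Cfsg Cfsg.FusionSystem
open scoped IsMulCommutative

namespace CfsgLib.Fusion.Model

universe u

variable {Ω : Type u} [Group Ω] {S : Subgroup Ω} {F : FusionSystem S} {Q : Subgroup Ω}
  [hN : Fact (S ≤ Subgroup.normalizer (Q : Set Ω))] [hQS : Fact (Q ≤ S)] [Finite S]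
  (p : ℕ) [Fact p.Prime] (hS : IsPGroup p S) (hF : F.IsSaturated p)
  (hfn : F.IsFullyNormalized Q)

/-- The kernel of the product map, inside the monomial group. -/
noncomputable def kerMu (hQc : F.IsCentric Q) : Subgroup (mono F Q) :=
  (mu hQc).ker.map (proj F Q).ker.subtype

omit [Fact p.Prime] in
theorem mem_kerMu (hQc : F.IsCentric Q) {x : mono F Q} :
    x ∈ kerMu hQc ↔ ∃ h : x ∈ (proj F Q).ker, mu hQc ⟨x, h⟩ = 1 := by
  constructor
  · rintro ⟨⟨y, hy⟩, h, rfl⟩; exact ⟨hy, h⟩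
  · rintro ⟨h, h'⟩; exact ⟨⟨x, h⟩, h', rfl⟩

theorem kerMu_normal (hQc : F.IsCentric Q) : (kerMu hQc).Normal := by
  refine ⟨fun n hn x => ?_⟩
  obtain ⟨h, h'⟩ := (mem_kerMu hQc).1 hn
  have hx : x * n * x⁻¹ ∈ (proj F Q).ker := (MonoidHom.normal_ker _).conj_mem n h x
  exact (mem_kerMu hQc).2 ⟨hx, by rw [mu_conj hQc x ⟨n, h⟩ hx, h', map_one]⟩

theorem proj_lift_center (z : Subgroup.center Q) :
    lift p hS hF hfn ⟨((z : Q) : Ω), hQS.out (z : Q).2⟩ ∈ (proj F Q).ker := by
  rw [MonoidHom.mem_ker, proj_lift]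
  exact theta_center z

theorem mu_lift (hQc : F.IsCentric Q) (z : Subgroup.center Q) :
    mu hQc ⟨_, proj_lift_center p hS hF hfn z⟩ = z ^ Nat.card (Pts F Q) := by
  rw [Nat.card_eq_fintype_card, ← Finset.card_univ, ← Finset.prod_const]
  refine Finset.prod_congr rfl fun c _ => Subtype.ext ?_
  rw [coe_onCenter]
  have h : ((toCenter hQc ((lift p hS hF hfn ⟨((z : Q) : Ω), hQS.out (z : Q).2⟩ : Wr F Q).left c)
      (fibre_theta (proj_lift_center p hS hF hfn z) c) : Subgroup.center Q) : Q) =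
      (rep F Q c : MulAut Q) (z : Q) :=
    Subtype.ext (lift_left_Q p hS hF hfn (z : Q) c)
  rw [h]
  simp

include hS hF hfn in
theorem coprime_card_pts : (Nat.card (Subgroup.center Q)).Coprime (Nat.card (Pts F Q)) := by
  have hQ : IsPGroup p Q := isPGroup_of_le hS hQS.out
  have := finite_of_le hQS.out
  obtain ⟨k, hk⟩ := IsPGroup.iff_card.1 (hQ.to_subgroup (Subgroup.center Q))
  rw [hk]
  refine Nat.Coprime.pow_left k ((Fact.out : p.Prime).coprime_iff_not_dvd.2 ?_)
  obtain ⟨R, hR⟩ := (good_of_fullyNormalized p hS hF hfn).1.2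
  have h := R.not_dvd_index
  rw [hR] at h
  exact h

theorem eq_one_of_lift_mem (hQc : F.IsCentric Q) {s : S}
    (h : lift p hS hF hfn s ∈ kerMu hQc) : s = 1 := by
  obtain ⟨hk, hm⟩ := (mem_kerMu hQc).1 h
  have hθ : theta F Q s = 1 := by rw [← proj_lift p hS hF hfn]; exact hk
  let z := toCenter hQc s hθ
  have := mu_lift p hS hF hfn hQc z
  rw [show (⟨_, proj_lift_center p hS hF hfn z⟩ : (proj F Q).ker) =
    ⟨lift p hS hF hfn s, hk⟩ from Subtype.ext rfl, hm] at this
  have hz : z = 1 := (powCoprime (coprime_card_pts p hS hF hfn)).injective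
    (show z ^ Nat.card (Pts F Q) = 1 ^ Nat.card (Pts F Q) by rw [one_pow, ← this])
  exact Subtype.ext (congrArg (fun w : Subgroup.center Q => ((w : Q) : Ω)) hz)

theorem exists_center_mul (hQc : F.IsCentric Q) {y : mono F Q} (hy : proj F Q y = 1) :
    ∃ z : Subgroup.center Q,
      (lift p hS hF hfn ⟨((z : Q) : Ω), hQS.out (z : Q).2⟩)⁻¹ * y ∈ kerMu hQc := by
  obtain ⟨z, hz⟩ := (powCoprime (coprime_card_pts p hS hF hfn)).surjective (mu hQc ⟨y, hy⟩)
  have hk := proj_lift_center p hS hF hfn z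
  refine ⟨z, (mem_kerMu hQc).2 ⟨mul_mem (inv_mem hk) hy, ?_⟩⟩
  rw [show (⟨_, mul_mem (inv_mem hk) hy⟩ : (proj F Q).ker) = ⟨_, hk⟩⁻¹ * ⟨y, hy⟩ from rfl,
    map_mul, map_inv, mu_lift p hS hF hfn hQc z, ← hz]
  exact inv_mul_cancel _

/-- A map of the system on a subgroup containing `Q` is conjugation by an element of the monomial
group with the prescribed image in `Aut_F(Q)`, up to the fibre. -/
theorem exists_conj_hom (hQc : F.IsCentric Q) {P : Subgroup Ω} (hQP : Q ≤ P) {ψ : P →* Ω}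
    (hψ : ψ ∈ F.Hom P) (x : mono F Q)
    (hx : ∀ q : Q, ψ ⟨q, hQP q.2⟩ = (((proj F Q x : MulAut Q) q : Q) : Ω)) :
    ∃ w : mono F Q, proj F Q w = 1 ∧ ∀ y : P,
      lift p hS hF hfn ⟨ψ y, apply_mem_S hψ y⟩ =
        w * x * lift p hS hF hfn ⟨y, le_of_mem_hom hψ y.2⟩ * (w * x)⁻¹ := by
  have hPS : P ≤ S := le_of_mem_hom hψ
  have hproj : ∀ y : P, proj F Q (x * lift p hS hF hfn ⟨y, hPS y.2⟩ * x⁻¹) =
      proj F Q (lift p hS hF hfn ⟨ψ y, apply_mem_S hψ y⟩) := by
    intro y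
    rw [map_mul, map_mul, map_inv, proj_lift, proj_lift, mul_inv_eq_iff_eq_mul]
    refine Subtype.ext (MulEquiv.ext fun q => Subtype.ext ?_)
    rw [Subgroup.coe_mul, Subgroup.coe_mul, MulAut.mul_apply, MulAut.mul_apply, theta_apply,
      ← hx, ← hx]
    rw [apply_congr ψ (y := y * ⟨q, hQP q.2⟩ * y⁻¹)
      (by rw [Subgroup.coe_mul, Subgroup.coe_mul]; exact theta_apply F Q ⟨y, hPS y.2⟩ q),
      map_mul, map_mul, map_inv]
  obtain ⟨w, hw, hwc⟩ := exists_fibre_conj p hS hF hfn hQc hQP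
    ((MulAut.conj x).toMonoidHom.comp
      ((lift p hS hF hfn).comp (P.subtype.codRestrict S fun y => hPS y.2)))
    ((lift p hS hF hfn).comp (ψ.codRestrict S fun y => apply_mem_S hψ y))
    (compat_conj (compat_lift p hS hF hfn (subtype_mem hPS)) x)
    (compat_lift p hS hF hfn hψ) hproj (proj F Q x : MulAut Q)
    (fun q => conj_lift_Q p hS hF hfn x q)
    (fun q => congrArg (lift p hS hF hfn) (Subtype.ext (hx q)))
  refine ⟨w, hw, fun y => (hwc y).trans ?_⟩
  show w * (x * lift p hS hF hfn _ * x⁻¹) * w⁻¹ = _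
  group
  rfl

end CfsgLib.Fusion.Model

namespace CfsgLib.Fusion

universe u

open Model in
/-- **Existence of models**: a saturated system with a normal centric subgroup has a model. -/
theorem exists_model {Ω : Type u} [Group Ω] {S : Subgroup Ω} [Finite S] (p : ℕ) [Fact p.Prime]
    (hS : IsPGroup p S) {F : FusionSystem S} (hF : F.IsSaturated p) {Q : Subgroup Ω}
    (hQn : F.IsNormal Q) (hQc : F.IsCentric Q) :
    ∃ (G : Type u) (_ : Group G) (ι : S →* G), F.IsModel p G ι := by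
  haveI hN : Fact (S ≤ Subgroup.normalizer (Q : Set Ω)) := ⟨normal_S_le_normalizer hQn⟩
  haveI hQS : Fact (Q ≤ S) := ⟨hQn.1⟩
  have hfn : F.IsFullyNormalized Q := ⟨hQn.1, fun R _ => by
    rw [show normalizerIn S Q = S from le_antisymm (normalizerIn_le_S Q) (le_inf le_rfl hN.out)]
    exact card_le_of_le le_rfl (normalizerIn_le_S R)⟩
  haveI := kerMu_normal (F := F) hQc
  haveI : Finite (Wr F Q) := Finite.of_equiv _ SemidirectProduct.equivProd.symm
  let K := kerMu (F := F) hQc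
  let ι : S →* mono F Q ⧸ K := (QuotientGroup.mk' K).comp (lift p hS hF hfn)
  let π : mono F Q ⧸ K →* F.autGroup Q :=
    QuotientGroup.lift K (proj F Q) fun y hy => ((mem_kerMu hQc).1 hy).1
  have hπι : ∀ s : S, π (ι s) = theta F Q s := fun s => rfl
  have hπsurj : Function.Surjective π := fun a => by
    obtain ⟨x, hx⟩ := proj_surjective (F := F) (Q := Q) a
    exact ⟨(x : mono F Q ⧸ K), hx⟩
  have hinj : Function.Injective ι := (injective_iff_map_eq_one ι).2 fun s hs =>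
    eq_one_of_lift_mem p hS hF hfn hQc ((QuotientGroup.eq_one_iff _).1 hs)
  have hker : ∀ g, π g = 1 → ∃ z : Subgroup.center Q,
      g = ι ⟨((z : Q) : Ω), hQS.out (z : Q).2⟩ := by
    intro g
    obtain ⟨y, rfl⟩ := QuotientGroup.mk_surjective g
    intro hy
    obtain ⟨z, hz⟩ := exists_center_mul p hS hF hfn hQc hy
    exact ⟨z, (QuotientGroup.eq.2 hz).symm⟩
  have hrange : ι.range = (autS F Q).comap π := by
    ext g
    constructor
    · rintro ⟨s, rfl⟩
      exact theta_mem F Q s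
    · intro hg
      obtain ⟨s, hs⟩ := exists_theta F Q hg
      obtain ⟨z, hz⟩ := hker ((ι s)⁻¹ * g) (by rw [map_mul, map_inv, hπι, hs, inv_mul_cancel])
      exact ⟨s * ⟨((z : Q) : Ω), hQS.out (z : Q).2⟩, by
        rw [map_mul, ← hz, mul_inv_cancel_left]⟩
  -- conjugation on `Q`
  have hconjQ : ∀ (g : mono F Q ⧸ K) (q : Q), g * ι ⟨q, hQS.out q.2⟩ * g⁻¹ =
      ι ⟨(((π g : MulAut Q) q : Q) : Ω), hQS.out ((π g : MulAut Q) q).2⟩ := by
    intro g q
    obtain ⟨x, rfl⟩ := QuotientGroup.mk_surjective g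
    exact congrArg (QuotientGroup.mk' K) (conj_lift_Q p hS hF hfn x q)
  refine ⟨mono F Q ⧸ K, inferInstance, ι, inferInstance, ⟨hinj, fun P hP φ hφ => ⟨?_, ?_⟩⟩,
    ?_, ?_⟩
  · -- maps of the system are conjugations
    intro h
    obtain ⟨ψ, hψ, hext, hψQ⟩ := hQn.2 P φ h
    have hr : (ψ.comp (Subgroup.inclusion (le_sup_right : Q ≤ P ⊔ Q))).range = Q := by
      rw [range_restrict ψ le_sup_right]
      exact hψQ
    have ha := autOfRange_mem (restrict_mem hψ (le_sup_right : Q ≤ P ⊔ Q)) hr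
    obtain ⟨x, hx⟩ := proj_surjective (F := F) (Q := Q) ⟨_, ha⟩
    obtain ⟨w, -, hw⟩ := exists_conj_hom p hS hF hfn hQc le_sup_right hψ x fun q => by
      rw [hx]
      exact (coe_autOfRange _ (F.injective_of_mem (restrict_mem hψ le_sup_right)) hr q).symm
    refine ⟨((w * x : mono F Q) : mono F Q ⧸ K), fun y => ?_⟩
    rw [show (⟨φ y, hφ y⟩ : S) = ⟨_, apply_mem_S hψ (Subgroup.inclusion le_sup_left y)⟩ from
      Subtype.ext (hext y).symm]
    exact congrArg (QuotientGroup.mk' K) (hw (Subgroup.inclusion le_sup_left y))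
  · -- conjugations are maps of the system
    rintro ⟨g, hg⟩
    have hM : ∀ (y : Ω) (hy : y ∈ P ⊔ Q), ∃ (hyS : y ∈ S) (h : S),
        g * ι ⟨y, hyS⟩ * g⁻¹ = ι h := by
      intro y hy
      have hle : P ⊔ Q ≤
          (ι.range.comap ((MulAut.conj g).toMonoidHom.comp ι)).map S.subtype := by
        refine sup_le (fun y hy => ?_) fun y hy => ?_
        · exact ⟨⟨y, hP hy⟩, ⟨_, hg ⟨y, hy⟩⟩, rfl⟩
        · exact ⟨⟨y, hQS.out hy⟩, ⟨_, (hconjQ g ⟨y, hy⟩).symm⟩, rfl⟩
      obtain ⟨⟨z, hz⟩, ⟨h, hh⟩, rfl⟩ := hle hy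
      exact ⟨hz, h, hh.symm⟩
    have hext : P ⊔ Q ≤ extender S Q (Q.subtype.comp (π g : MulAut Q).toMonoidHom) := by
      intro y hy
      obtain ⟨hyS, h, hh⟩ := hM y hy
      refine mem_extender_of ⟨hyS, hN.out hyS⟩ h.2 fun q hq => ?_
      have h1 := congrArg π hh
      rw [map_mul, map_mul, map_inv, hπι, hπι, mul_inv_eq_iff_eq_mul] at h1
      have h2 := congrArg (fun α : F.autGroup Q => (((α : MulAut Q) q : Q) : Ω)) h1
      simp only [Subgroup.coe_mul, MulAut.mul_apply, theta_apply] at h2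
      show (((π g : MulAut Q) ⟨y * q * y⁻¹, hq⟩ : Q) : Ω) =
        (h : Ω) * (((π g : MulAut Q) q : Q) : Ω) * (h : Ω)⁻¹
      rw [← h2]
      exact congrArg (fun r : Q => (((π g : MulAut Q) r : Q) : Ω))
        (Subtype.ext (theta_apply F Q ⟨y, hyS⟩ q).symm)
    obtain ⟨ψ, hψ, hψQ⟩ := receptive_extend (good_of_fullyNormalized p hS hF hfn).2
      ((autGroup_carrier hQS.out).1 (π g).2) (range_subtype_comp _) hext
    obtain ⟨x, rfl⟩ := QuotientGroup.mk_surjective g
    obtain ⟨w, hw1, hw⟩ := exists_conj_hom p hS hF hfn hQc le_sup_right hψ x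
      fun q => hψQ q q.2 _
    obtain ⟨z, hz⟩ := hker (w : mono F Q ⧸ K) hw1
    have key : ∀ y : P, ψ (Subgroup.inclusion le_sup_left y) =
        ((z : Q) : Ω) * φ y * ((z : Q) : Ω)⁻¹ := by
      intro y
      have e : ι ⟨_, apply_mem_S hψ (Subgroup.inclusion le_sup_left y)⟩ =
          (w : mono F Q ⧸ K) * ((x : mono F Q ⧸ K) * ι ⟨y, hP y.2⟩ * (x : mono F Q ⧸ K)⁻¹) *
            (w : mono F Q ⧸ K)⁻¹ := by
        refine (congrArg (QuotientGroup.mk' K)
          (hw (Subgroup.inclusion le_sup_left y))).trans ?_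
        simp only [map_mul, map_inv, QuotientGroup.mk'_apply, mul_inv_rev, mul_assoc]
        rfl
      rw [← hg y, hz, ← map_inv, ← map_mul, ← map_mul] at e
      exact congrArg Subtype.val (hinj e)
    refine comp_mem_of_eq (restrict_mem hψ le_sup_left)
      (F.conj_mem (range_le_S (restrict_mem hψ le_sup_left)) (inv_mem (hQS.out (z : Q).2)))
      (fun y => ⟨y, rfl⟩) fun y => ?_
    simp [key y, mul_assoc]
  · -- the image of `S` is Sylow
    have h1 : IsPGroup p ι.range := hS.of_surjective ι.rangeRestrict ι.rangeRestrict_surjective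
    have h2 : ¬ p ∣ ι.range.index := by
      rw [hrange, Subgroup.index_comap_of_surjective _ hπsurj]
      obtain ⟨R, hR⟩ := (good_of_fullyNormalized p hS hF hfn).1.2
      have h := R.not_dvd_index
      rw [hR] at h
      exact h
    exact ⟨h1.toSylow h2, rfl⟩
  · -- the largest normal `p`-subgroup is self-centralizing
    let f : Q →* mono F Q ⧸ K := ι.comp (Subgroup.inclusion hQS.out)
    have hn : f.range.Normal := ⟨by
      rintro _ ⟨q, rfl⟩ g
      exact ⟨(π g : MulAut Q) q, (hconjQ g q).symm⟩⟩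
    have hle : f.range ≤ pCore p (mono F Q ⧸ K) := CfsgLib.Solvable.le_pCore p hn
      ((isPGroup_of_le hS hQS.out).of_surjective f.rangeRestrict f.rangeRestrict_surjective)
    intro g hg
    have hg1 : π g = 1 := by
      refine Subtype.ext (MulEquiv.ext fun q => ?_)
      have h1 := Subgroup.mem_centralizer_iff.1 hg (f q) (hle ⟨q, rfl⟩)
      have h2 := hconjQ g q
      rw [show g * ι ⟨q, hQS.out q.2⟩ = ι ⟨q, hQS.out q.2⟩ * g from h1.symm,
        mul_inv_cancel_right] at h2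
      exact Subtype.ext (congrArg Subtype.val (hinj h2)).symm
    obtain ⟨z, rfl⟩ := hker g hg1
    exact hle ⟨(z : Q), rfl⟩

end CfsgLib.Fusion
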