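import Cfsg.Agent.Fusion.Quotient
import Cfsg.Agent.Fusion.ModelGroup
import Cfsg.Agent.Fusion.ModelUnique
import Cfsg.Agent.PLocal.PConstrained

/-!
Systems realized by `p`-soluble groups.
-/

set_option autoImplicit false
universe u

open Cfsg Cfsg.FusionSystem

namespace CfsgLib.Fusion

/-- An extension of a `p`-soluble group by a `p`-group is `p`-soluble. -/
theorem isPSolvable_of_pKernel {G H : Type*} [Group G] [Group H] {p : ℕ} [Fact p.Prime] [Finite G]
    (f : G →* H) (hf : Function.Surjective f) (hk : IsPGroup p f.ker)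
    (h : Cfsg.IsPSolvable p H) : Cfsg.IsPSolvable p G := by
  obtain ⟨n, C, h0, hn, hm, hnor, hstep⟩ := h
  refine ⟨n + 1, Fin.cons ⊥ (fun i => (C i).comap f), rfl, ?_, ?_, ?_, ?_⟩
  · rw [← Fin.succ_last, Fin.cons_succ, hn, Subgroup.comap_top]
  · refine Fin.monotone_iff_le_succ.2 fun i => ?_
    induction i using Fin.cases with
    | zero => simp
    | succ j =>
      rw [← Fin.succ_castSucc, Fin.cons_succ, Fin.cons_succ]
      exact Subgroup.comap_mono (hm Fin.castSucc_lt_succ.le)
  · intro i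
    induction i using Fin.cases with
    | zero => rw [Fin.cons_zero]; infer_instance
    | succ j => rw [Fin.cons_succ]; exact (hnor j).comap f
  · intro i
    induction i using Fin.cases with
    | zero =>
      left
      obtain ⟨m, hm'⟩ := IsPGroup.iff_card.1 hk
      refine ⟨m, ?_⟩
      rw [Fin.castSucc_zero, Fin.cons_zero, Fin.cons_succ, h0, Subgroup.relIndex_bot_left,
        MonoidHom.comap_bot]
      exact hm'
    | succ j =>
      rw [← Fin.succ_castSucc, Fin.cons_succ, Fin.cons_succ, Subgroup.relIndex_comap,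
        Subgroup.map_comap_eq_self_of_surjective hf]
      exact hstep j

variable {Ω : Type u} [Group Ω] {S : Subgroup Ω} [Finite S] {F : FusionSystem S}

/-- A system realized on a Sylow subgroup of a `p`-soluble group has a `p`-soluble model. -/
theorem exists_model_of_pSolvable (p : ℕ) [Fact p.Prime] (hS : IsPGroup p S) {G : Type u}
    [Group G] [Finite G] {ι : S →* G} (hG : Cfsg.IsPSolvable p G) (h : F.IsRealizedBy ι)
    (T : Sylow p G) (hT : (T : Subgroup G) = ι.range) :
    ∃ (M : Type u) (_ : Group M) (ι' : S →* M), F.IsModel p M ι' ∧ Cfsg.IsPSolvable p M := by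
  have := CfsgLib.Solvable.pPrimeCore_normal (G := G) p
  let π := QuotientGroup.mk' (Cfsg.pPrimeCore p G)
  have hπ : Function.Surjective π := QuotientGroup.mk'_surjective _
  have hsol := CfsgLib.PConstrained.isPSolvable_map π hπ hG
  refine ⟨_, inferInstance, π.comp ι, ⟨inferInstance,
    realized_quotient_pPrime p hS h _ (CfsgLib.Solvable.coprime_card_pPrimeCore p),
    ⟨T.mapSurjective hπ, ?_⟩, ?_⟩, hsol⟩
  · rw [Sylow.coe_mapSurjective, hT, MonoidHom.range_comp]
  · exact CfsgLib.PConstrained.selfCent_of_pSolvable (CfsgLib.Fitting.pPrimeCore_quotient_eq_bot p)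
      (CfsgLib.PConstrained.isPSolvable_comap _ (Subgroup.subtype_injective _) hsol)

/-- The core of a constrained system is centric. -/
theorem isCentric_core (p : ℕ) (h : F.IsConstrained p) : F.IsCentric F.core := by
  obtain ⟨-, Q, hQn, hQc⟩ := h
  have hQ : Q ≤ F.core := le_core hQn
  refine ⟨core_le_S, fun R hR => ?_⟩
  obtain ⟨φ, hφ, rfl⟩ := hR
  rw [(weaklyClosed_of_stronglyClosed (stronglyClosed_of_isNormal isNormal_core)).2 φ hφ]
  intro x hx
  refine hQ (hQc.2 Q (isConj_refl hQn.1) (mem_centralizerIn.2 ⟨(mem_centralizerIn.1 hx).1,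
    fun y hy => (mem_centralizerIn.1 hx).2 y (hQ hy)⟩))

theorem pSolvable_model_iff (p : ℕ) [Fact p.Prime] (hS : IsPGroup p S) (hc : F.IsConstrained p)
    {G : Type u} [Group G] {ι : S →* G} (hm : F.IsModel p G ι) :
    Cfsg.IsPSolvable p G ↔ Cfsg.IsPSolvable p (F.autGroup F.core) := by
  have := hm.1
  have hQ : F.IsNormal F.core := isNormal_core
  obtain ⟨α, hα, he⟩ := exists_modelAct p hm hQ
  refine ⟨CfsgLib.PConstrained.isPSolvable_map α hα, isPSolvable_of_pKernel α hα ?_⟩
  refine ((hS.of_surjective ι.rangeRestrict ι.rangeRestrict_surjective).to_le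
    (img_le_range F.core)).to_le fun g hg => ?_
  refine centralizer_img_le p hS hm hQ (isCentric_core p hc) ?_
  refine Subgroup.mem_centralizer_iff.2 ?_
  rintro _ ⟨x, hx, rfl⟩
  have h1 := he g ⟨x, hx⟩
  rw [MonoidHom.mem_ker.1 hg] at h1
  calc ι x * g = g * ι x * g⁻¹ * g := congrArg (· * g) h1
    _ = g * ι x := by group

/-- Realizability by a finite `p`-soluble group. -/
theorem realizable_pSolvable_iff (p : ℕ) [Fact p.Prime] (hS : IsPGroup p S)
    (hF : F.IsSaturated p) :
    (∃ (G : Type u) (_ : Group G) (_ : Finite G) (ι : S →* G), Cfsg.IsPSolvable p G ∧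
        F.IsRealizedBy ι ∧ ∃ T : Sylow p G, (T : Subgroup G) = ι.range) ↔
      (F.IsConstrained p ∧ Cfsg.IsPSolvable p (F.autGroup F.core)) := by
  constructor
  · rintro ⟨G, _, _, ι, hG, hr, T, hT⟩
    obtain ⟨M, _, ι', hm, hM⟩ := exists_model_of_pSolvable p hS hG hr T hT
    have hc := constrained_of_model p hS hm
    exact ⟨hc, (pSolvable_model_iff p hS hc hm).1 hM⟩
  · rintro ⟨hc, hsol⟩
    obtain ⟨-, Q, hQn, hQc⟩ := id hc
    obtain ⟨G, _, ι, hm⟩ := exists_model p hS hF hQn hQc
    exact ⟨G, ‹Group G›, hm.1, ι, (pSolvable_model_iff p hS hc hm).2 hsol, hm.2.1, hm.2.2.1⟩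

end CfsgLib.Fusion
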