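import Cfsg.Prelude.Def_PLocal
import Cfsg.Prelude.Def_Transfer
import Cfsg.Agent.Fusion.InnerCriterion
import Cfsg.Agent.ZJ.NormalPComplement
import Cfsg.Agent.ZJ.ThompsonTwo

/-!
The abelian Thompson subgroup inside a fusion system, and the Glauberman–Thompson criterion.
-/

set_option autoImplicit false

open Cfsg Cfsg.FusionSystem

namespace CfsgLib.Fusion

universe u

/-! ### Isomorphisms and the abelian Thompson subgroup -/

section Iso

variable {G H : Type*} [Group G] [Group H]

theorem map_maxAbelian_subset (e : G ≃* H) {A : Subgroup G} (hA : A ∈ maxAbelianSubgroups G) :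
    A.map e.toMonoidHom ∈ maxAbelianSubgroups H := by
  haveI := hA.1
  refine ⟨Subgroup.map_isMulCommutative A _, fun B hB => ?_⟩
  haveI := hB
  rw [← Nat.card_congr (A.equivMapOfInjective e.toMonoidHom e.injective).toEquiv,
    Nat.card_congr (B.equivMapOfInjective e.symm.toMonoidHom e.symm.injective).toEquiv]
  exact hA.2 _ (Subgroup.map_isMulCommutative B _)

theorem thompsonSubgroupA_map (e : G ≃* H) :
    (thompsonSubgroupA G).map e.toMonoidHom = thompsonSubgroupA H := by
  refine le_antisymm (Subgroup.map_le_iff_le_comap.2 (sSup_le fun A hA => ?_))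
    (sSup_le fun B hB => ?_)
  · exact Subgroup.map_le_iff_le_comap.1 (le_sSup (map_maxAbelian_subset e hA))
  · intro y hy
    refine ⟨e.symm y, ?_, e.apply_symm_apply y⟩
    exact le_sSup (map_maxAbelian_subset e.symm hB) ⟨y, hy, rfl⟩

theorem thompsonAOf_range (f : G →* H) (hf : Function.Injective f) :
    thompsonSubgroupAOf f.range = (thompsonSubgroupA G).map f := by
  unfold thompsonSubgroupAOf
  rw [← thompsonSubgroupA_map (MonoidHom.ofInjective hf), Subgroup.map_map]
  rfl

/-- The centre of the abelian Thompson subgroup, as a subgroup of the group. -/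
def centerThompsonA (G : Type*) [Group G] : Subgroup G :=
  thompsonSubgroupA G ⊓ Subgroup.centralizer (thompsonSubgroupA G : Set G)

theorem centerThompsonA_map (e : G ≃* H) :
    (centerThompsonA G).map e.toMonoidHom = centerThompsonA H := by
  unfold centerThompsonA
  rw [← thompsonSubgroupA_map e]
  ext y
  constructor
  · rintro ⟨x, ⟨hx, hc⟩, rfl⟩
    refine ⟨⟨x, hx, rfl⟩, Subgroup.mem_centralizer_iff.2 ?_⟩
    rintro _ ⟨z, hz, rfl⟩
    rw [← map_mul, ← map_mul, Subgroup.mem_centralizer_iff.1 hc z hz]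
  · rintro ⟨⟨x, hx, rfl⟩, hc⟩
    refine ⟨x, ⟨hx, Subgroup.mem_centralizer_iff.2 fun z hz => e.injective ?_⟩, rfl⟩
    rw [map_mul, map_mul]
    exact Subgroup.mem_centralizer_iff.1 hc _ ⟨z, hz, rfl⟩

theorem centerThompsonAOf_range (f : G →* H) (hf : Function.Injective f) :
    centerThompsonAOf f.range = (centerThompsonA G).map f := by
  unfold centerThompsonAOf centerThompsonA
  rw [thompsonAOf_range f hf]
  ext y
  constructor
  · rintro ⟨⟨x, hx, rfl⟩, hc⟩
    refine ⟨x, ⟨hx, Subgroup.mem_centralizer_iff.2 fun z hz => hf ?_⟩, rfl⟩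
    rw [map_mul, map_mul]
    exact Subgroup.mem_centralizer_iff.1 hc _ ⟨z, hz, rfl⟩
  · rintro ⟨x, ⟨hx, hc⟩, rfl⟩
    refine ⟨⟨x, hx, rfl⟩, Subgroup.mem_centralizer_iff.2 ?_⟩
    rintro _ ⟨z, hz, rfl⟩
    rw [← map_mul, ← map_mul, Subgroup.mem_centralizer_iff.1 hc z hz]

theorem center_le_thompsonA [Finite G] : Subgroup.center G ≤ thompsonSubgroupA G := by
  classical
  obtain ⟨A, hA, hmax⟩ := Set.exists_max_image {A : Subgroup G | IsMulCommutative A}
    (fun A => Nat.card A) (Set.toFinite _) ⟨⊥, show IsMulCommutative (⊥ : Subgroup G) from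
      ⟨⟨fun a b => Subsingleton.elim _ _⟩⟩⟩
  change IsMulCommutative A at hA
  intro z hz
  have hAmem : A ∈ maxAbelianSubgroups G := ⟨hA, fun B hB => hmax B hB⟩
  refine le_sSup hAmem ?_
  have hc : IsMulCommutative (Subgroup.closure (insert z (A : Set G))) := by
    refine Subgroup.isMulCommutative_closure ?_
    rintro a (rfl | ha) b (rfl | hb)
    · rfl
    · exact (Subgroup.mem_center_iff.1 hz b).symm
    · exact Subgroup.mem_center_iff.1 hz a
    · exact congrArg Subtype.val (hA.is_comm.comm ⟨a, ha⟩ ⟨b, hb⟩)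
  have hle : A ≤ Subgroup.closure (insert z (A : Set G)) :=
    fun a ha => Subgroup.subset_closure (Set.mem_insert_of_mem _ ha)
  rw [Subgroup.eq_of_le_of_card_ge hle (hmax _ hc)]
  exact Subgroup.subset_closure (Set.mem_insert _ _)

theorem center_le_centerThompsonA [Finite G] : Subgroup.center G ≤ centerThompsonA G :=
  le_inf center_le_thompsonA fun _ hz => Subgroup.mem_centralizer_iff.2 fun y _ =>
    Subgroup.mem_center_iff.1 hz y

end Iso

variable {Ω : Type u} [Group Ω] {S : Subgroup Ω} {F : FusionSystem S}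

theorem thompsonAOf_eq : thompsonSubgroupAOf S = (thompsonSubgroupA S).map S.subtype := rfl

theorem centerThompsonAOf_eq : centerThompsonAOf S = (centerThompsonA S).map S.subtype := by
  rw [← centerThompsonAOf_range S.subtype S.subtype_injective, S.range_subtype]

theorem isCharIn_map {C : Subgroup S} (h : ∀ a : MulAut S, C.map a.toMonoidHom = C) :
    IsCharIn S (C.map S.subtype) := by
  refine ⟨Subgroup.map_subtype_le C, fun a x => ?_⟩
  rw [show ((x : Ω) ∈ C.map S.subtype) ↔ x ∈ C from Subgroup.mem_map_iff_mem S.subtype_injective,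
    show (((a x : S) : Ω) ∈ C.map S.subtype) ↔ a x ∈ C from
      Subgroup.mem_map_iff_mem S.subtype_injective]
  nth_rw 1 [← h a]
  exact Subgroup.mem_map_iff_mem (f := a.toMonoidHom) (K := C) (x := x) a.injective

theorem isCharIn_thompsonAOf : IsCharIn S (thompsonSubgroupAOf S) :=
  isCharIn_map thompsonSubgroupA_map

theorem isCharIn_centerThompsonAOf : IsCharIn S (centerThompsonAOf S) :=
  centerThompsonAOf_eq (S := S) ▸ isCharIn_map centerThompsonA_map

theorem center_ne_bot [Finite S] {p : ℕ} [Fact p.Prime] (hS : IsPGroup p S) (h : S ≠ ⊥) :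
    Subgroup.center S ≠ ⊥ := by
  haveI := (Subgroup.nontrivial_iff_ne_bot S).2 h
  haveI := hS.center_nontrivial
  exact (Subgroup.nontrivial_iff_ne_bot _).1 inferInstance

theorem centerThompsonAOf_ne_bot [Finite S] {p : ℕ} [Fact p.Prime] (hS : IsPGroup p S)
    (h : S ≠ ⊥) : centerThompsonAOf S ≠ ⊥ := by
  rw [centerThompsonAOf_eq]
  intro hb
  refine center_ne_bot hS h (eq_bot_iff.2 (center_le_centerThompsonA.trans ?_))
  exact ((Subgroup.map_eq_bot_iff_of_injective _ S.subtype_injective).1 hb).le

theorem thompsonAOf_ne_bot [Finite S] {p : ℕ} [Fact p.Prime] (hS : IsPGroup p S)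
    (h : S ≠ ⊥) : thompsonSubgroupAOf S ≠ ⊥ := by
  intro hb
  refine center_ne_bot hS h (eq_bot_iff.2 (center_le_thompsonA.trans ?_))
  exact ((Subgroup.map_eq_bot_iff_of_injective _ S.subtype_injective).1 hb).le

theorem img_map_subtype {G : Type*} [Group G] (ι : S →* G) (C : Subgroup S) :
    img ι (C.map S.subtype) = C.map ι := by
  unfold img Subgroup.subgroupOf
  rw [Subgroup.comap_map_eq_self_of_injective S.subtype_injective]

/-! ### Models with a normal `p`-complement -/

theorem hasNormalPComplement_of_isPGroup {G : Type*} [Group G] {p : ℕ} [Fact p.Prime]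
    (h : IsPGroup p G) : HasNormalPComplement p G := by
  let P : Sylow p G := default
  refine ⟨P, ⊥, inferInstance, ?_⟩
  rw [← P.3 (h.to_subgroup ⊤) le_top]
  exact Subgroup.isComplement'_bot_top

theorem range_eq_top_of_hasNormalPComplement {G : Type*} [Group G] {p : ℕ} [Fact p.Prime]
    {ι : S →* G} (h : F.IsModel p G ι) (hc : HasNormalPComplement p G) : ι.range = ⊤ := by
  obtain ⟨hfin, -, ⟨T, hT⟩, hC⟩ := h
  obtain ⟨P, N, hN, hNP⟩ := hc
  have hcop : (Nat.card N).Coprime p := by
    rw [← hNP.index_eq_card]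
    exact ((Fact.out : p.Prime).coprime_iff_not_dvd.2 P.not_dvd_index).symm
  have hn : (pCore p G).Normal := (CfsgLib.Solvable.pCore_spec (G := G) p).1
  have hd := CfsgLib.ZJ.isPGroup_inf_coprime (CfsgLib.Solvable.isPGroup_pCore (G := G) p) hcop
  have hN1 : N = ⊥ := by
    refine eq_bot_iff.2 fun x hx => hd.le ⟨hC (Subgroup.mem_centralizer_iff.2 fun y hy => ?_), hx⟩
    exact Subgroup.commute_of_normal_of_disjoint (pCore p G) N hn hN (disjoint_iff.2 hd) y x hy hx
  have hcard : Nat.card P = Nat.card G := by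
    have := hNP.card_mul_card
    rwa [hN1, Subgroup.card_bot, one_mul] at this
  rw [← hT]
  refine Subgroup.eq_top_of_card_eq _ ?_
  rw [← hcard, T.card_eq_multiplicity, P.card_eq_multiplicity]

/-- A characteristic subgroup that controls normal `p`-complements controls innerness. -/
theorem isInner_of_constrained_zkind [Finite S] (p : ℕ) [Fact p.Prime] (hp : p ≠ 2)
    (hS : IsPGroup p S) (hF : F.IsConstrained p) (hinn : InnerAt F (centerThompsonAOf S)) :
    IsInner F := by
  obtain ⟨hFs, Q, hQ, hQc⟩ := hF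
  obtain ⟨G, hG, ι, hm⟩ := exists_model p hS hFs hQ hQc
  have hch := isCharIn_centerThompsonAOf (S := S)
  have hle := normalizer_img_le p hS hm hQ hQc hch.1 hch.le_normalizer hinn
  have := hm.1
  obtain ⟨T, hT⟩ := hm.2.2.1
  refine isInner_of_range_top hm.2.1 (range_eq_top_of_hasNormalPComplement hm ?_)
  refine (CfsgLib.ZJ.zkind_centerThompsonA hp).hasNormalPComplement hp G T ?_
  rw [hT, centerThompsonAOf_range ι hm.2.1.1]
  rw [centerThompsonAOf_eq, img_map_subtype] at hle
  exact hasNormalPComplement_of_isPGroup ((hT ▸ T.2).to_le hle)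

/-- The data of the Glauberman–Thompson criterion. -/
def criterionZJ (p : ℕ) [Fact p.Prime] (hp : p ≠ 2) : InnerCriterion.{u} p where
  Free := fun {_} _ {_} _ => True
  Loc := fun {_} _ {S} F => InnerAt F (centerThompsonAOf S)
  free_norm := fun _ _ _ _ _ _ _ _ _ => trivial
  free_factor := by intros; trivial
  loc_of_char := fun _ hfin hS hne _ h =>
    haveI := hfin
    h _ isCharIn_centerThompsonAOf (centerThompsonAOf_ne_bot hS hne)
  loc_mono := fun _ _ hle h => h.of_le hle
  group := fun _ hfin hS hF _ hL =>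
    haveI := hfin
    isInner_of_constrained_zkind p hp hS hF hL

/-- `F` is inner as soon as `N_F(Z(J(S)))` is. -/
theorem isInner_of_centerThompson [Finite S] (p : ℕ) [Fact p.Prime] (hp : p ≠ 2)
    (hS : IsPGroup p S) (hF : F.IsSaturated p) (hinn : InnerAt F (centerThompsonAOf S)) :
    IsInner F :=
  isInner_of_criterion p (criterionZJ p hp) (Nat.card S) S F inferInstance hS rfl hF trivial hinn

end CfsgLib.Fusion
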