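import Cfsg.Agent.Fusion.InnerCriterion
import Cfsg.Agent.Fusion.ModelGroup
import Cfsg.Agent.Fusion.ModelUnique
import Cfsg.Agent.Solvable.Basics

/-!
Extremely sparse fusion systems.
-/

set_option autoImplicit false
universe u

open Cfsg Cfsg.FusionSystem

namespace CfsgLib.Fusion

variable {Ω : Type u} [Group Ω] {S : Subgroup Ω}

/-- The system induced by a subgroup `H` of a group containing a copy of `S`. -/
def pullSystem {G : Type*} [Group G] (ι : S →* G) (hι : Function.Injective ι) (H : Subgroup G)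
    {T : Subgroup Ω} (hTS : T ≤ S) (hTH : img ι T ≤ H) : FusionSystem T where
  Hom R := {φ | R ≤ T ∧ (∀ x, φ x ∈ T) ∧ ∃ g ∈ H, ∀ (x : R) (h1 : (x : Ω) ∈ S) (h2 : φ x ∈ S),
    ι ⟨φ x, h2⟩ = g * ι ⟨x, h1⟩ * g⁻¹}
  le_of_mem h := ⟨h.1, h.2.1⟩
  injective_of_mem := by
    rintro R φ ⟨hR, hφ, g, -, hg⟩ a b hab
    have ha := hg a (hTS (hR a.2)) (hTS (hφ a))
    have hb := hg b (hTS (hR b.2)) (hTS (hφ b))
    rw [show (⟨φ a, hTS (hφ a)⟩ : S) = ⟨φ b, hTS (hφ b)⟩ from Subtype.ext hab, hb] at ha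
    exact Subtype.ext (congrArg (fun s : S => (s : Ω))
      (hι (mul_left_cancel (mul_right_cancel ha)))).symm
  conj_mem := by
    intro R g hR hg
    refine ⟨hR, fun x => ?_, ι ⟨g, hTS hg⟩, hTH (apply_mem_img hg), fun x h1 h2 => ?_⟩
    · exact T.mul_mem (T.mul_mem hg (hR x.2)) (T.inv_mem hg)
    · rw [← map_inv, ← map_mul, ← map_mul]
      rfl
  comp_mem := by
    rintro R Q φ ψ ⟨hR, hφ, g, hgH, hg⟩ ⟨-, hψ, k, hkH, hk⟩ h
    refine ⟨hR, fun x => hψ _, k * g, H.mul_mem hkH hgH, fun x h1 h2 => ?_⟩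
    have e := hk ⟨φ x, h x⟩ (hTS (hφ x)) (hTS (hψ _))
    rw [hg x h1 (hTS (hφ x))] at e
    refine e.trans ?_
    group
  inv_mem := by
    rintro R φ ⟨hR, hφ, g, hgH, hg⟩
    have hinj : Function.Injective φ := fun a b hab => by
      have ha := hg a (hTS (hR a.2)) (hTS (hφ a))
      have hb := hg b (hTS (hR b.2)) (hTS (hφ b))
      rw [show (⟨φ a, hTS (hφ a)⟩ : S) = ⟨φ b, hTS (hφ b)⟩ from Subtype.ext hab, hb] at ha
      exact Subtype.ext (congrArg (fun s : S => (s : Ω))
        (hι (mul_left_cancel (mul_right_cancel ha)))).symm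
    refine ⟨R.subtype.comp (MonoidHom.ofInjective hinj).symm.toMonoidHom,
      ⟨fun y hy => ?_, fun y => hR ((MonoidHom.ofInjective hinj).symm y).2, g⁻¹, H.inv_mem hgH,
        fun y h1 h2 => ?_⟩, fun x => ?_⟩
    · obtain ⟨x, rfl⟩ := hy
      exact hφ x
    · obtain ⟨x, rfl⟩ := (MonoidHom.ofInjective hinj).surjective y
      have e : ((R.subtype.comp (MonoidHom.ofInjective hinj).symm.toMonoidHom)
          (MonoidHom.ofInjective hinj x) : Ω) = x := by simp
      rw [show (⟨_, h2⟩ : S) = ⟨x, hTS (hR x.2)⟩ from Subtype.ext e]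
      have := hg x (hTS (hR x.2)) h1
      simp only [MonoidHom.ofInjective_apply] at this ⊢
      rw [this]
      group
    · show (R.subtype ((MonoidHom.ofInjective hinj).symm ⟨φ x, ⟨x, rfl⟩⟩) : Ω) = x
      rw [show (⟨φ x, ⟨x, rfl⟩⟩ : φ.range) = MonoidHom.ofInjective hinj x from rfl,
        MulEquiv.symm_apply_apply]
      rfl

variable [Finite S] {F : FusionSystem S} {G : Type u} [Group G] [Finite G] {ι : S →* G}

theorem pullSystem_le (h : F.IsRealizedBy ι) (H : Subgroup G) {T : Subgroup Ω} (hTS : T ≤ S)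
    (hTH : img ι T ≤ H) : (pullSystem ι h.1 H hTS hTH).IsSubsystemOf F := by
  rintro R φ ⟨hR, hφ, g, -, hg⟩
  exact (h.2 R (hR.trans hTS) φ fun x => hTS (hφ x)).2
    ⟨g, fun x => hg x (hTS (hR x.2)) (hTS (hφ x))⟩

/-- The system of `T⟨g⟩`, with `g` of order prime to `p` normalizing `T`, is saturated. -/
theorem pullSystem_saturated (p : ℕ) [Fact p.Prime] (hS : IsPGroup p S)
    (hι : Function.Injective ι) {T : Subgroup Ω} (hTS : T ≤ S) {g : G}
    (hg : g ∈ Subgroup.normalizer (img ι T : Set G)) (hgp : (orderOf g).Coprime p) :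
    (pullSystem ι hι (Subgroup.zpowers g ⊔ img ι T) hTS le_sup_right).IsSaturated p := by
  have := finite_of_le hTS
  have hT : IsPGroup p T := isPGroup_of_le hS hTS
  let j : T →* ↥(Subgroup.zpowers g ⊔ img ι T) :=
    (ι.comp (Subgroup.inclusion hTS)).codRestrict _ fun t =>
      le_sup_right (a := Subgroup.zpowers g) (apply_mem_img (x := Subgroup.inclusion hTS t) t.2)
  have hjr : ∀ y : ↥(Subgroup.zpowers g ⊔ img ι T), y ∈ j.range ↔ (y : G) ∈ img ι T := by
    intro y
    constructor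
    · rintro ⟨t, rfl⟩
      exact apply_mem_img (x := Subgroup.inclusion hTS t) t.2
    · rintro ⟨s, hs, e⟩
      exact ⟨⟨s, hs⟩, Subtype.ext e⟩
  have hjp : IsPGroup p j.range := hT.of_surjective j.rangeRestrict j.rangeRestrict_surjective
  let Y : Sylow p ↥(Subgroup.zpowers g ⊔ img ι T) :=
    { toSubgroup := j.range
      isPGroup' := hjp
      is_maximal' := by
        intro R hR hle
        refine le_antisymm (fun r hr => ?_) hle
        obtain ⟨a, ha, k, hk, he⟩ := (CfsgLib.Solvable.mem_sup_of_le_normalizer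
          (Subgroup.zpowers_le.2 hg)).1 r.2
        have hk' : (⟨k, Subgroup.mem_sup_right hk⟩ : ↥(Subgroup.zpowers g ⊔ img ι T)) ∈ R :=
          hle ((hjr _).2 hk)
        have haR : (⟨a, Subgroup.mem_sup_left ha⟩ : ↥(Subgroup.zpowers g ⊔ img ι T)) ∈ R := by
          have : r * (⟨k, Subgroup.mem_sup_right hk⟩ : ↥(Subgroup.zpowers g ⊔ img ι T))⁻¹ ∈ R :=
            mul_mem hr (inv_mem hk')
          convert this using 1
          exact Subtype.ext (by simp [← he])
        obtain ⟨n, hn⟩ := hR ⟨_, haR⟩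
        have hn' : a ^ p ^ n = 1 :=
          congrArg (fun z : R => ((z : ↥(Subgroup.zpowers g ⊔ img ι T)) : G)) hn
        have ha1 : a = 1 := by
          rw [← orderOf_eq_one_iff]
          refine Nat.eq_one_of_dvd_coprimes (hgp.pow_right n) ?_ (orderOf_dvd_of_pow_eq_one hn')
          obtain ⟨m, rfl⟩ := Subgroup.mem_zpowers_iff.1 ha
          exact orderOf_dvd_of_mem_zpowers ha
        refine (hjr _).2 ?_
        rw [← he, ha1, one_mul]
        exact hk }
  refine saturated_of_realized (ι := j) p hT ?_ Y rfl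
  refine ⟨fun a b hab => Subgroup.inclusion_injective hTS (hι (congrArg Subtype.val hab)),
    fun R hR φ hφ => ⟨?_, ?_⟩⟩
  · rintro ⟨-, -, k, hk, hke⟩
    exact ⟨⟨k, hk⟩, fun x => Subtype.ext (hke x (hTS (hR x.2)) (hTS (hφ x)))⟩
  · rintro ⟨k, hk⟩
    exact ⟨hR, hφ, k, k.2, fun x h1 h2 => congrArg Subtype.val (hk x)⟩

omit [Finite S] in
/-- Every saturated proper subsystem is inner. -/
def IsSparse (F : FusionSystem S) (p : ℕ) : Prop :=
  ∀ (T : Subgroup Ω) (E : FusionSystem T), E.IsSaturated p → E.IsSubsystemOf F →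
    (T = S ∧ ∀ P, E.Hom P = F.Hom P) ∨ ∀ P, E.Hom P = (innerFusionSystem T).Hom P

theorem IsSparse.conj_cases (p : ℕ) [Fact p.Prime] (hS : IsPGroup p S) (hxs : IsSparse F p)
    (h : F.IsRealizedBy ι) {T : Subgroup Ω} (hTS : T ≤ S) {g : G}
    (hg : g ∈ Subgroup.normalizer (img ι T : Set G)) (hgp : (orderOf g).Coprime p)
    (α : MulAut T) (hα : ∀ x : T, ι ⟨(α x : T), hTS (α x).2⟩ = g * ι ⟨x, hTS x.2⟩ * g⁻¹) :
    (T = S ∧ ∀ (R : Subgroup Ω) (φ : R →* Ω), φ ∈ F.Hom R →
      ∃ k ∈ Subgroup.zpowers g ⊔ img ι T, ∀ (x : R) (h1 : (x : Ω) ∈ S) (h2 : φ x ∈ S),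
        ι ⟨φ x, h2⟩ = k * ι ⟨x, h1⟩ * k⁻¹) ∨ α ∈ Inn T := by
  rcases hxs T _ (pullSystem_saturated p hS h.1 hTS hg hgp) (pullSystem_le h _ hTS le_sup_right)
    with ⟨hT, he⟩ | hin
  · refine Or.inl ⟨hT, fun R φ hφ => ?_⟩
    rw [← he R] at hφ
    exact hφ.2.2
  · right
    rw [inn_eq_autInducedBy, mem_autInducedBy]
    have hmem : T.subtype.comp α.toMonoidHom ∈
        (pullSystem ι h.1 (Subgroup.zpowers g ⊔ img ι T) hTS le_sup_right).Hom T :=
      ⟨le_rfl, fun x => (α x).2, g, Subgroup.mem_sup_left (Subgroup.mem_zpowers g),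
        fun x _ _ => hα x⟩
    rw [hin T] at hmem
    exact hmem.2

omit [Finite S] in
theorem eq_one_of_mem_inn (p : ℕ) [Fact p.Prime] {T : Subgroup Ω} (hT : IsPGroup p T) [Finite T]
    {α : MulAut T} (hα : α ∈ Inn T) (hc : (orderOf α).Coprime p) : α = 1 := by
  rw [inn_eq_autInducedBy] at hα
  obtain ⟨n, hn⟩ := isPGroup_autInducedBy hT T ⟨α, hα⟩
  rw [← orderOf_eq_one_iff]
  exact Nat.eq_one_of_dvd_coprimes (hc.pow_right n) dvd_rfl
    (orderOf_dvd_of_pow_eq_one (congrArg Subtype.val hn))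

/-- Some local automorphism group is not a `p`-group when `F` is not inner. -/
theorem exists_not_pGroup (p : ℕ) [Fact p.Prime] (hS : IsPGroup p S) (hF : F.IsSaturated p)
    (hne : ¬ ∀ P, F.Hom P = (innerFusionSystem S).Hom P) :
    ∃ P, (P = S ∨ F.IsEssential p P) ∧ ¬ IsPGroup p (F.autGroup P) := by
  by_contra hcon
  simp only [not_exists, not_and, not_not] at hcon
  apply hne
  have hle : F ≤ innerFusionSystem S := by
    refine alperin_saturated p hS hF _ fun P hP => ?_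
    have hpg := hcon P hP
    rcases hP with rfl | hP
    · intro a ha
      obtain ⟨g, hg, hgx⟩ := aut_S_inner p hS hF hpg ha
      exact Subgroup.subset_closure ⟨le_rfl, g, hg, hgx⟩
    · have := finite_of_le hP.1.1
      have : Finite (MulAut P) := finite_mulAut
      obtain ⟨R⟩ : Nonempty (Sylow p (F.autGroup P)) := inferInstance
      have htop : (R : Subgroup (F.autGroup P)) = ⊤ := (R.3 (hpg.to_subgroup ⊤) le_top).symm
      exact (not_essential_of_normal_sylow p hP R (by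
        rw [htop]; infer_instance)).elim
  exact fun P => Set.Subset.antisymm (hle P) (inner_le F P)

theorem isNormal_of_not_pGroup (p : ℕ) [Fact p.Prime] (hS : IsPGroup p S) (hF : F.IsSaturated p)
    (hxs : IsSparse F p) {P : Subgroup Ω} (hfn : F.IsFullyNormalized P)
    (hP : ¬ IsPGroup p (F.autGroup P)) : F.IsNormal P := by
  have hN := normSystem_spec F P hfn.1
  rcases hxs _ _ (normalizerSystem_saturated p hS hF hfn hN) (fun R φ hφ => hφ.1) with
    ⟨hT, he⟩ | hin
  · refine ⟨hfn.1, fun R φ hφ => ?_⟩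
    obtain ⟨ψ, hψ, h1, h2⟩ := (isNormal_normalizerSystem hfn.1 hN).2 R φ ((he R).symm ▸ hφ)
    exact ⟨ψ, he _ ▸ hψ, h1, h2⟩
  · refine absurd ((isPGroup_autInducedBy hS P).to_le fun a ha => ?_) hP
    rw [← autGroup_normalizerSystem hfn.1 hN] at ha
    have h1 := (autGroup_carrier (le_normalizerIn hfn.1)).1 ha
    rw [hin] at h1
    obtain ⟨-, g, hg, hgx⟩ := h1
    exact mem_autInducedBy.2 ⟨g, normalizerIn_le_S P hg, hgx⟩

theorem exists_prime_aut (p : ℕ) [Fact p.Prime] {P : Subgroup Ω} (hP : P ≤ S)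
    (h : ¬ IsPGroup p (F.autGroup P)) : ∃ (q : ℕ) (a : F.autGroup P), q.Prime ∧ q ≠ p ∧
      orderOf a = q := by
  have := finite_of_le hP
  have : Finite (MulAut P) := finite_mulAut
  by_contra hcon
  refine h (IsPGroup.of_card (n := (Nat.card (F.autGroup P)).primeFactorsList.length)
    (Nat.eq_prime_pow_of_unique_prime_dvd Nat.card_pos.ne' fun {q} hq hqd => ?_))
  by_contra hne
  have : Fact q.Prime := ⟨hq⟩
  obtain ⟨a, ha⟩ := exists_prime_orderOf_dvd_card' q hqd
  exact hcon ⟨q, a, hq, hne, ha⟩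

/-- The structure of an extremely sparse system. -/
theorem sparse_structure (p : ℕ) [Fact p.Prime] (hS : IsPGroup p S) (hF : F.IsSaturated p)
    (hne : ¬ ∀ P, F.Hom P = (innerFusionSystem S).Hom P) (hxs : IsSparse F p) :
    F.IsNormal S ∧ F.focalSubgroup = S ∧ F.hyperfocalSubgroup p = S ∧
      ∃ (q : ℕ) (β : MulAut S), q.Prime ∧ q ≠ p ∧ β ∈ F.autGroup S ∧ orderOf β = q ∧
        F.autGroup S = Inn S ⊔ Subgroup.zpowers β := by
  obtain ⟨P, hP, hPp⟩ := exists_not_pGroup p hS hF hne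
  have hfn : F.IsFullyNormalized P := by
    rcases hP with rfl | hP
    · exact isFullyNormalized_S
    · exact hP.2.1
  have hPc : F.IsCentric P := by
    rcases hP with rfl | hP
    · exact isCentric_S
    · exact hP.1
  have hPn := isNormal_of_not_pGroup p hS hF hxs hfn hPp
  obtain ⟨G, _, ι, hm⟩ := exists_model p hS hF hPn hPc
  have := hm.1
  have hr := hm.2.1
  obtain ⟨act, hact, hacte⟩ := exists_modelAct p hm hPn
  have hn := normal_img_of_isNormal p hm hPn
  have hPS := hPn.1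
  have := finite_of_le hPS
  have hPp' := isPGroup_of_le hS hPS
  obtain ⟨q, a, hq, hqp, ha⟩ := exists_prime_aut p hPS hPp
  obtain ⟨g₀, hg₀⟩ := hact a
  obtain ⟨k, m, hkm, hm0⟩ : ∃ k m, (m : ℕ).Coprime p ∧ orderOf g₀ = p ^ k * m := by
    obtain ⟨k, m, hm, he⟩ := Nat.exists_eq_pow_mul_and_not_dvd (orderOf_pos g₀).ne' p
      (Fact.out (p := p.Prime)).ne_one
    exact ⟨k, m, ((Fact.out (p := p.Prime)).coprime_iff_not_dvd.2 hm).symm, he⟩
  let g := g₀ ^ p ^ k
  have hgp : (orderOf g).Coprime p := by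
    refine hkm.coprime_dvd_left (orderOf_dvd_of_pow_eq_one ?_)
    rw [← pow_mul, ← hm0, pow_orderOf_eq_one]
  let β : MulAut P := (act g : MulAut P)
  have hβ : orderOf β = q := by
    show orderOf ((act g : MulAut P)) = q
    rw [Subgroup.orderOf_coe, map_pow, hg₀, orderOf_pow' _ (pow_ne_zero _
      (Fact.out (p := p.Prime)).ne_zero), ha, Nat.Coprime.gcd_eq_one, Nat.div_one]
    exact ((Nat.coprime_primes hq Fact.out).2 hqp).pow_right k
  have hqc : q.Coprime p := (Nat.coprime_primes hq Fact.out).2 hqp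
  have hβ1 : β ≠ 1 := fun h => hq.ne_one (by rw [← hβ, h, orderOf_one])
  have hgn : g ∈ Subgroup.normalizer (img ι P : Set G) :=
    (Subgroup.normalizer_eq_top_iff.2 hn).ge trivial
  rcases hxs.conj_cases p hS hr hPS hgn hgp β (hacte g) with ⟨hPeq, hall⟩ | hinn
  swap
  · exact absurd (eq_one_of_mem_inn p hPp' hinn (hβ.symm ▸ hqc)) hβ1
  subst hPeq
  have hS1 : P ≤ P := le_rfl
  have hsup : F.autGroup P = Inn P ⊔ Subgroup.zpowers β := by
    refine le_antisymm (fun γ hγ => ?_)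
      (sup_le (inn_le_autGroup le_rfl) (Subgroup.zpowers_le.2 (act g).2))
    obtain ⟨c, hc, hce⟩ := hall P _ ((autGroup_carrier le_rfl).1 hγ)
    obtain ⟨b, hb, t, ⟨s, _, rfl⟩, rfl⟩ := (CfsgLib.Solvable.mem_sup_of_le_normalizer
      (Subgroup.zpowers_le.2 hgn)).1 hc
    obtain ⟨n, rfl⟩ := Subgroup.mem_zpowers_iff.1 hb
    have e : γ = β ^ n * MulAut.conj s := by
      refine MulEquiv.ext fun x => hr.1 ?_
      have h1 := hce x x.2 (γ x).2
      have h2 := hacte (g ^ n) (MulAut.conj s x)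
      rw [map_zpow, Subgroup.coe_zpow] at h2
      rw [MulAut.mul_apply]
      refine h1.trans (Eq.trans ?_ h2.symm)
      show _ = g ^ n * ι (s * x * s⁻¹) * (g ^ n)⁻¹
      rw [map_mul, map_mul, map_inv]
      group
    rw [e]
    exact mul_mem (Subgroup.mem_sup_right (Subgroup.mem_zpowers_iff.2 ⟨n, rfl⟩))
      (Subgroup.mem_sup_left ⟨s, rfl⟩)
  let K : Subgroup Ω := Subgroup.closure {y | ∃ x : P, y = (x : Ω)⁻¹ * (β x : P)}
  have hKS : K ≤ P := by
    refine (Subgroup.closure_le _).2 ?_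
    rintro _ ⟨x, rfl⟩
    exact mul_mem (inv_mem x.2) (β x).2
  have hKβ : ∀ x : P, (x : Ω) ∈ K → ((β x : P) : Ω) ∈ K := by
    intro x hx
    have hle : K ≤ ((K.subgroupOf P).comap β.toMonoidHom).map P.subtype := by
      refine (Subgroup.closure_le _).2 ?_
      rintro _ ⟨z, rfl⟩
      refine ⟨z⁻¹ * β z, ?_, rfl⟩
      refine Subgroup.subset_closure ⟨β z, ?_⟩
      simp
    obtain ⟨y, hy, he⟩ := hle hx
    rw [show x = y from Subtype.ext he.symm]
    exact hy
  have := finite_of_le hKS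
  have hgK : g ∈ Subgroup.normalizer (img ι K : Set G) := by
    refine mem_normalizer_of_conj_mem (S := (⊤ : Subgroup G)) le_top ?_
    rintro _ ⟨s, hs, rfl⟩
    rw [← hacte g s]
    exact apply_mem_img (hKβ s hs)
  have hKall : K = P := by
    by_contra hK
    have hcard : Function.Injective fun x : K => (⟨_, hKβ ⟨x, hKS x.2⟩ x.2⟩ : K) := fun x y h => by
      have := β.injective (Subtype.ext (congrArg (fun z : K => (z : Ω)) h))
      exact Subtype.ext (congrArg (fun z : P => (z : Ω)) this)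
    let βK : MulAut K := MulEquiv.ofBijective (MonoidHom.mk'
      (fun x : K => (⟨_, hKβ ⟨x, hKS x.2⟩ x.2⟩ : K)) fun x y => Subtype.ext (by
        show ((β (⟨x, hKS x.2⟩ * ⟨y, hKS y.2⟩) : P) : Ω) = _
        rw [map_mul]
        rfl)) (Finite.injective_iff_bijective.1 hcard)
    rcases hxs.conj_cases p hS hr hKS hgK hgp βK (fun x => hacte g ⟨x, hKS x.2⟩) with h | h
    · exact hK h.1
    have hpow : ∀ (n : ℕ) (x : K), (((βK ^ n) x : K) : Ω) = ((β ^ n) ⟨x, hKS x.2⟩ : P) := by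
      intro n
      induction n with
      | zero => intro x; rfl
      | succ n ih =>
        intro x
        rw [pow_succ', MulAut.mul_apply, pow_succ', MulAut.mul_apply]
        show ((β ⟨((βK ^ n) x : K), _⟩ : P) : Ω) = _
        exact congrArg (fun z : P => ((β z : P) : Ω)) (Subtype.ext (ih x))
    have hq1 : βK ^ q = 1 := MulEquiv.ext fun x => Subtype.ext (by
      rw [hpow, ← hβ, pow_orderOf_eq_one]
      rfl)
    have h1 : βK = 1 := eq_one_of_mem_inn p (isPGroup_of_le hS hKS) h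
      (hqc.coprime_dvd_left (orderOf_dvd_of_pow_eq_one hq1))
    apply hβ1
    refine MulEquiv.ext fun x => ?_
    let c : P := x⁻¹ * β x
    have hc : β c = c := Subtype.ext (congrArg (fun z : MulAut K => ((z ⟨c, Subgroup.subset_closure
      ⟨x, rfl⟩⟩ : K) : Ω)) h1)
    have hn : ∀ n : ℕ, (β ^ n) x = x * c ^ n := by
      intro n
      induction n with
      | zero => simp
      | succ n ih =>
        rw [pow_succ', MulAut.mul_apply, ih, map_mul, map_pow, hc, pow_succ']
        simp [c, mul_assoc]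
    have hcq : c ^ q = 1 := by
      have := hn q
      rw [← hβ, pow_orderOf_eq_one, MulAut.one_apply, left_eq_mul, hβ] at this
      exact this
    obtain ⟨e, he⟩ := hS c
    have : orderOf c = 1 := Nat.eq_one_of_dvd_coprimes (hqc.pow_right e)
      (orderOf_dvd_of_pow_eq_one hcq) (orderOf_dvd_of_pow_eq_one he)
    exact (inv_mul_eq_one.1 (orderOf_eq_one_iff.1 this)).symm
  have hhyp : F.hyperfocalSubgroup p = P := by
    refine le_antisymm ((Subgroup.closure_le _).2 ?_) (hKall.ge.trans ((Subgroup.closure_le _).2 ?_))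
    · rintro _ ⟨R, γ, x, hR, -, rfl⟩
      exact mul_mem (inv_mem (hR x.2)) (hR ((γ : MulAut R) x).2)
    · rintro _ ⟨x, rfl⟩
      refine Subgroup.subset_closure ⟨P, act g, x, le_rfl, ?_, rfl⟩
      refine Subgroup.subset_closure ?_
      show (orderOf (act g)).Coprime p
      rw [← Subgroup.orderOf_coe]
      exact hβ.symm ▸ hqc
  refine ⟨hPn, le_antisymm ((Subgroup.closure_le _).2 ?_) (hKall.ge.trans
    ((Subgroup.closure_le _).2 ?_)), hhyp, q, β, hq, hqp, (act g).2, hβ, hsup⟩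
  · rintro _ ⟨R, φ, x, hφ, rfl⟩
    exact mul_mem (inv_mem (le_of_mem_hom hφ x.2)) (apply_mem_S hφ x)
  · rintro _ ⟨x, rfl⟩
    exact Subgroup.subset_closure ⟨P, _, x, (autGroup_carrier le_rfl).1 (act g).2, rfl⟩

end CfsgLib.Fusion
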