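import Cfsg.Agent.Fusion.Centric
import Cfsg.Agent.Fusion.GroupSystem

/-!
Alperin's fusion theorem for saturated fusion systems, with the dichotomy for the subgroup of
automorphisms that extend to larger subgroups.
-/

set_option autoImplicit false

open Cfsg Cfsg.FusionSystem

namespace CfsgLib.Fusion

/-! ### Strongly embedded subgroups, elementary form -/

section Embedded

variable {X : Type*} [Group X] [Finite X] (p : ℕ) [Fact p.Prime] {Y : Subgroup X} {P : Sylow p X}

theorem sylow_le_of_kGen (hP : kGeneratedCore p 1 (P : Subgroup X) ≤ Y)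
    (hne : (P : Subgroup X) ≠ ⊥) : (P : Subgroup X) ≤ Y :=
  Subgroup.le_normalizer.trans ((eq_bot_or_normalizer_le p hP le_rfl).resolve_left hne)

theorem normalizer_le_of_kGen (hP : kGeneratedCore p 1 (P : Subgroup X) ≤ Y)
    (hne : (P : Subgroup X) ≠ ⊥) {D : Subgroup X} (hD : IsPGroup p D) (hDY : D ≤ Y)
    (hD1 : D ≠ ⊥) : Subgroup.normalizer (D : Set X) ≤ Y := by
  have hPY := sylow_le_of_kGen p hP hne
  have hs : SylowIn p (P : Subgroup X) Y := ⟨hPY, P.subtype hPY, rfl⟩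
  obtain ⟨y, hy, hyD⟩ := hs.exists_conj_le hD hDY
  have hle : D.map (MulAut.conj y).toMonoidHom ≤ P := by
    rintro _ ⟨x, hx, rfl⟩
    exact hyD x hx
  have h1 := (eq_bot_or_normalizer_le p hP hle).resolve_left
    (fun h => hD1 ((Subgroup.map_eq_bot_iff_of_injective D (MulAut.conj y).injective).1 h))
  intro n hn
  have h2 : y * n * y⁻¹ ∈ Y :=
    h1 (Subgroup.le_normalizer_map (MulAut.conj y).toMonoidHom ⟨n, hn, rfl⟩)
  simpa [mul_assoc] using Y.mul_mem (Y.mul_mem (Y.inv_mem hy) h2) hy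

theorem pSubgroup_le_of_kGen (hP : kGeneratedCore p 1 (P : Subgroup X) ≤ Y)
    (hne : (P : Subgroup X) ≠ ⊥) {R : Subgroup X} (hR : IsPGroup p R) {q : X} (hq : q ∈ R)
    (hqP : q ∈ (P : Subgroup X)) (hq1 : q ≠ 1) : R ≤ Y := by
  by_contra hRY
  have hlt : R ⊓ Y < R := lt_of_le_of_ne inf_le_left fun h => hRY (inf_eq_left.1 h)
  have h1 := lt_normalizerIn (S := R) p hR le_rfl hlt
  obtain ⟨r, hr, hr'⟩ := SetLike.exists_of_lt h1
  refine hr' ⟨hr.1, normalizer_le_of_kGen p hP hne (hR.to_le inf_le_left) inf_le_right ?_ hr.2⟩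
  intro h
  have : q ∈ R ⊓ Y := ⟨hq, sylow_le_of_kGen p hP hne hqP⟩
  rw [h, Subgroup.mem_bot] at this
  exact hq1 this

/-- If a nontrivial element of the Sylow subgroup is conjugated back into it by `x`, then `x`
lies in the strongly embedded subgroup. -/
theorem mem_of_kGen (hP : kGeneratedCore p 1 (P : Subgroup X) ≤ Y) {x q : X}
    (hq : q ∈ (P : Subgroup X)) (hxq : x * q * x⁻¹ ∈ (P : Subgroup X)) (hq1 : q ≠ 1) : x ∈ Y := by
  have hne : (P : Subgroup X) ≠ ⊥ := fun h => hq1 (by rw [h, Subgroup.mem_bot] at hq; exact hq)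
  have hPY := sylow_le_of_kGen p hP hne
  have hR : ((x⁻¹ • P : Sylow p X) : Subgroup X) ≤ Y := by
    refine pSubgroup_le_of_kGen p hP hne (x⁻¹ • P).2 ?_ hq hq1
    rw [Sylow.coe_subgroup_smul]
    exact ⟨x * q * x⁻¹, hxq, by simp [mul_assoc]⟩
  obtain ⟨y, hy⟩ := MulAction.exists_smul_eq Y ((x⁻¹ • P).subtype hR) (P.subtype hPY)
  have h3 : ((y : X) * x⁻¹) • P = P := by
    refine Sylow.ext ?_
    rw [Sylow.coe_subgroup_smul]
    ext z
    constructor
    · rintro ⟨w, hw, rfl⟩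
      have hw' : x⁻¹ * w * x ∈ ((x⁻¹ • P : Sylow p X) : Subgroup X) := by
        rw [Sylow.coe_subgroup_smul]
        exact ⟨w, hw, by simp [MulAut.conj_apply]⟩
      have h4 : y * ⟨x⁻¹ * w * x, hR hw'⟩ * y⁻¹ ∈ (P.subtype hPY : Subgroup Y) := by
        rw [← hy, Sylow.coe_subgroup_smul]
        exact ⟨⟨_, hR hw'⟩, hw', rfl⟩
      have h5 : (y : X) * (x⁻¹ * w * x) * (y : X)⁻¹ ∈ (P : Subgroup X) := h4
      simpa [MulAut.conj_apply, mul_assoc] using h5
    · intro hz
      have h4 : (⟨z, hPY hz⟩ : Y) ∈ (P.subtype hPY : Subgroup Y) := hz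
      rw [← hy, Sylow.coe_subgroup_smul] at h4
      obtain ⟨⟨w, hwY⟩, hw, hwe⟩ := h4
      have hw' : w ∈ ((x⁻¹ • P : Sylow p X) : Subgroup X) := hw
      rw [Sylow.coe_subgroup_smul] at hw'
      obtain ⟨v, hv, rfl⟩ := hw'
      refine ⟨v, hv, ?_⟩
      have h6 := congrArg (fun t : Y => (t : X)) hwe
      refine Eq.trans ?_ h6
      simp [MulAut.conj_apply, mul_assoc]
  have hn : (y : X) * x⁻¹ ∈ Y :=
    (eq_bot_or_normalizer_le p hP le_rfl).resolve_left hne (Sylow.smul_eq_iff_mem_normalizer.1 h3)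
  have : x⁻¹ ∈ Y := by simpa using Y.mul_mem (Y.inv_mem y.2) hn
  simpa using Y.inv_mem this

end Embedded

variable {Ω : Type*} [Group Ω] {S : Subgroup Ω} {F : FusionSystem S}

/-- The automorphisms of `P` extending to maps of the system on strictly larger subgroups. -/
def extendSet (F : FusionSystem S) (P : Subgroup Ω) : Set (MulAut P) :=
  {α : MulAut P | ∃ (Q : Subgroup Ω) (hPQ : P < Q) (φ : Q →* Ω),
    φ ∈ F.Hom Q ∧ ∀ x : P, φ (Subgroup.inclusion hPQ.le x) = α x}

theorem extendSet_subset {P : Subgroup Ω} (hP : P ≤ S) :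
    extendSet F P ⊆ F.autGroup P := by
  rintro α ⟨Q, hPQ, φ, hφ, h⟩
  exact (autGroup_carrier hP).2 (restrict_mem_of_eq hφ hPQ.le fun x => (h x).symm)

/-- Extension to a larger subgroup from one element of `N_S(P)` outside `P`. -/
theorem mem_extendSet [Finite S] (p : ℕ) [Fact p.Prime] (hS : IsPGroup p S)
    (hF : F.IsSaturated p) {P : Subgroup Ω} (hPn : F.IsFullyNormalized P) {α : MulAut P}
    (hα : α ∈ F.autGroup P) {g : Ω} (hgP : g ∉ P)
    (hg : g ∈ extender S P (P.subtype.comp α.toMonoidHom)) : α ∈ extendSet F P := by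
  have hφ := (autGroup_carrier hPn.1).1 hα
  have hle := le_extender hφ
  have hlt : P < extender S P (P.subtype.comp α.toMonoidHom) :=
    lt_of_le_of_ne hle fun h => hgP (h.ge hg)
  obtain ⟨ψ, hψ, he⟩ := receptive_extend (good_of_fullyNormalized p hS hF hPn).2 hφ
    (range_subtype_comp α) le_rfl
  exact ⟨_, hlt, ψ, hψ, fun x => he x x.2 (hle x.2)⟩

theorem inn_mem_iff {P : Subgroup Ω} (hc : F.IsCentric P) {g : Ω} (hg : g ∈ S) {α : MulAut P}
    (hα : ∀ x : P, ((α x : P) : Ω) = g * x * g⁻¹) : α ∈ Inn P ↔ g ∈ P := by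
  constructor
  · rintro ⟨q, rfl⟩
    have h1 : (q : Ω)⁻¹ * g ∈ P := by
      refine centralizer_mem_of_centric hc (mul_mem (inv_mem (hc.1 q.2)) hg) fun x hx => ?_
      have h2 : (q : Ω) * x * (q : Ω)⁻¹ = g * x * g⁻¹ := hα ⟨x, hx⟩
      calc x * ((q : Ω)⁻¹ * g) = (q : Ω)⁻¹ * ((q : Ω) * x * (q : Ω)⁻¹) * g := by group
        _ = (q : Ω)⁻¹ * (g * x * g⁻¹) * g := by rw [h2]
        _ = (q : Ω)⁻¹ * g * x := by group
    simpa using P.mul_mem q.2 h1
  · exact fun h => ⟨⟨g, h⟩, MulEquiv.ext fun x => Subtype.ext (hα x).symm⟩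

theorem extends_of_conj_mem [Finite S] (p : ℕ) [Fact p.Prime] (hS : IsPGroup p S)
    (hF : F.IsSaturated p) {P : Subgroup Ω} (hPn : F.IsFullyNormalized P) {α β : MulAut P}
    (hα : α ∈ F.autGroup P) (hβ : β ∈ autInducedBy S P) (hβI : β ∉ Inn P)
    (h : α * β * α⁻¹ ∈ autInducedBy S P) : α ∈ extendSet F P := by
  obtain ⟨g, hg, hgβ⟩ := mem_autInducedBy.1 hβ
  obtain ⟨k, hk, hk'⟩ := mem_autInducedBy.1 h
  refine mem_extendSet p hS hF hPn hα (g := g)
    (fun hgP => hβI ⟨⟨g, hgP⟩, MulEquiv.ext fun x => Subtype.ext (hgβ x).symm⟩)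
    (mem_extender_of ⟨hg, mem_normalizer_of_aut hgβ⟩ hk fun x hx => ?_)
  have h1 := hk' (α x)
  simp only [MulAut.mul_apply, MulAut.inv_apply_self] at h1
  refine Eq.trans ?_ h1
  show ((α _ : P) : Ω) = _
  exact congrArg (fun z : P => ((α z : P) : Ω)) (Subtype.ext (hgβ x).symm)

/-- For `P < S` fully normalized, the extendable automorphisms generate `Aut_F(P)` unless `P` is
essential, in which case they give a strongly `p`-embedded subgroup of the outer automorphism
group. -/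
theorem extend_dichotomy [Finite S] (p : ℕ) [Fact p.Prime] (hS : IsPGroup p S)
    (hF : F.IsSaturated p) {P : Subgroup Ω} (hPS : P < S) (hPn : F.IsFullyNormalized P)
    (H : Subgroup (MulAut P)) (hH : H = Subgroup.closure (extendSet F P)) :
    (¬ F.IsEssential p P ∧ H = F.autGroup P) ∨
      (F.IsEssential p P ∧ ∃ _ : ((Inn P).subgroupOf (F.autGroup P)).Normal,
        IsStronglyPEmbedded p ((H.subgroupOf (F.autGroup P)).map
          (QuotientGroup.mk' ((Inn P).subgroupOf (F.autGroup P))))) := by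
  have hPle := hPS.le
  have := finite_of_le hPle
  have : Finite (MulAut P) := finite_mulAut
  have hHA : H ≤ F.autGroup P := by
    rw [hH]; exact (Subgroup.closure_le _).2 (extendSet_subset hPle)
  have hPN := lt_normalizerIn p hS le_rfl hPS
  by_cases hc : F.IsCentric P
  swap
  · -- a non-centric subgroup: everything extends
    left
    refine ⟨fun h => hc h.1, le_antisymm hHA fun α hα => ?_⟩
    rw [hH]
    apply Subgroup.subset_closure
    have hfc := fullyCentralized_of_fullyNormalized p hS hF hPn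
    obtain ⟨c, hcC, hcP⟩ : ∃ c ∈ centralizerIn S P, c ∉ P := by
      by_contra hne
      push Not at hne
      refine hc ⟨hPle, fun Q hQ => ?_⟩
      obtain ⟨φ, hφ, hr⟩ := hQ
      have himg : ∀ g (hg : g ∈ centralizerIn S P), φ ⟨g, hne g hg⟩ ∈ centralizerIn S Q := by
        intro g hg
        have := map_mem_centralizerIn hφ (P := P) le_rfl hg (hne g hg)
        rwa [map_subgroupOf_self, hr] at this
      intro y hy
      obtain ⟨g, hg, rfl⟩ := (card_le_card_map (centralizerIn_le_S Q) (F.injective_of_mem hφ)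
        hne himg).2 (hfc.2 Q ⟨φ, hφ, hr⟩) y hy
      exact hr.le ⟨_, rfl⟩
    exact mem_extendSet p hS hF hPn hα hcP (centralizerIn_le_extender P _ hcC)
  have hnorm := inn_subgroupOf_normal (F := F) P
  let I := (Inn P).subgroupOf (F.autGroup P)
  let π : F.autGroup P →* F.autGroup P ⧸ I := QuotientGroup.mk' I
  obtain ⟨hAut, -⟩ := good_of_fullyNormalized p hS hF hPn
  obtain ⟨R, hR⟩ := hAut.2
  let P₀ : Sylow p (F.autGroup P ⧸ I) := R.mapSurjective (QuotientGroup.mk'_surjective I)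
  have hP₀ : (P₀ : Subgroup (F.autGroup P ⧸ I)) =
      ((autInducedBy S P).subgroupOf (F.autGroup P)).map π := by
    show (R.mapSurjective (QuotientGroup.mk'_surjective I) : Subgroup (F.autGroup P ⧸ I)) = _
    rw [Sylow.coe_mapSurjective, hR]
  have hπ1 : ∀ a : F.autGroup P, π a = 1 ↔ (a : MulAut P) ∈ Inn P := fun a =>
    (QuotientGroup.eq_one_iff a).trans Subgroup.mem_subgroupOf
  have hmem : ∀ a : F.autGroup P, π a ∈ (P₀ : Subgroup (F.autGroup P ⧸ I)) →
      (a : MulAut P) ∈ autInducedBy S P := by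
    intro a ha
    rw [hP₀] at ha
    obtain ⟨b, hb, hbe⟩ := ha
    have h1 : π (b⁻¹ * a) = 1 := by rw [map_mul, map_inv, hbe, inv_mul_cancel]
    have h2 := inn_le_autInducedBy hPle ((hπ1 _).1 h1)
    simpa using mul_mem (Subgroup.mem_subgroupOf.1 hb) h2
  obtain ⟨g₀, hg₀, hg₀P⟩ := SetLike.exists_of_lt hPN
  let a₀ : F.autGroup P := ⟨conjAut S P ⟨g₀, hg₀⟩,
    autInducedBy_le_autGroup hPle (mem_autInducedBy.2 ⟨g₀, hg₀.1, fun _ => rfl⟩)⟩
  have ha₀ : (a₀ : MulAut P) ∈ autInducedBy S P := mem_autInducedBy.2 ⟨g₀, hg₀.1, fun _ => rfl⟩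
  have ha₀I : (a₀ : MulAut P) ∉ Inn P :=
    fun h => hg₀P ((inn_mem_iff hc hg₀.1 fun x => rfl).1 h)
  have hp : p ∣ Nat.card (F.autGroup P ⧸ I) := by
    have hne : (P₀ : Subgroup (F.autGroup P ⧸ I)) ≠ ⊥ := by
      intro h
      have h1 : π a₀ ∈ (P₀ : Subgroup (F.autGroup P ⧸ I)) :=
        hP₀.ge ⟨a₀, Subgroup.mem_subgroupOf.2 ha₀, rfl⟩
      rw [h, Subgroup.mem_bot] at h1
      exact ha₀I ((hπ1 _).1 h1)
    have : Nontrivial (P₀ : Subgroup (F.autGroup P ⧸ I)) :=
      (Subgroup.nontrivial_iff_ne_bot _).2 hne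
    obtain ⟨k, hk0, hk⟩ := P₀.2.nontrivial_iff_card.1 inferInstance
    exact (hk ▸ dvd_pow_self p hk0.ne').trans (Subgroup.card_subgroup_dvd_card _)
  have hΓ : kGeneratedCore p 1 (P₀ : Subgroup (F.autGroup P ⧸ I)) ≤
      (H.subgroupOf (F.autGroup P)).map π := by
    refine iSup_le fun Q => ?_
    obtain ⟨Q, hQ, hrank⟩ := Q
    intro x hx
    obtain ⟨q, hqQ, hq1⟩ : ∃ q ∈ Q, q ≠ 1 := by
      by_contra hne
      push Not at hne
      refine hrank fun A _ _ => ?_
      have : Subsingleton A := ⟨fun a b => Subtype.ext (Subtype.ext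
        ((hne _ (a : Q).2).trans (hne _ (b : Q).2).symm))⟩
      simp
    obtain ⟨a, rfl⟩ := QuotientGroup.mk'_surjective I x
    obtain ⟨b, rfl⟩ := QuotientGroup.mk'_surjective I q
    have hc' : π (a * b * a⁻¹) ∈ Q := by
      rw [map_mul, map_mul, map_inv]
      exact (Subgroup.mem_normalizer_iff.1 hx _).1 hqQ
    refine ⟨a, Subgroup.mem_subgroupOf.2 ?_, rfl⟩
    rw [hH]
    exact Subgroup.subset_closure (extends_of_conj_mem p hS hF hPn a.2 (hmem b (hQ hqQ))
      (fun h => hq1 ((hπ1 b).2 h)) (hmem _ (hQ hc')))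
  have hIH : Inn P ≤ H := by
    rw [hH, inn_eq_autInducedBy]
    refine fun β hβ => Subgroup.subset_closure (extends_of_conj_mem p hS hF hPn
      (inn_le_autGroup hPle (inn_eq_autInducedBy P ▸ hβ)) ha₀ ha₀I ?_)
    have hβS := autInducedBy_mono hPle P hβ
    exact mul_mem (mul_mem hβS ha₀) (inv_mem hβS)
  by_cases htop : (H.subgroupOf (F.autGroup P)).map π = ⊤
  · left
    refine ⟨?_, le_antisymm hHA fun α hα => ?_⟩
    · rintro ⟨-, -, hn', E, -, hEtop, P₁, hP₁⟩
      obtain ⟨c, hc'⟩ := MulAction.exists_smul_eq (F.autGroup P ⧸ I) P₁ P₀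
      apply hEtop
      rw [eq_top_iff]
      -- conjugate `E` so that it contains the core of `P₀`
      let E' : Subgroup (F.autGroup P ⧸ I) := E.map (MulAut.conj c).toMonoidHom
      have hE' : kGeneratedCore p 1 (P₀ : Subgroup (F.autGroup P ⧸ I)) ≤ E' := by
        refine iSup_le fun Q x hx => ?_
        obtain ⟨Q, hQ, hrank⟩ := Q
        have hQ' : Q.map (MulAut.conj c⁻¹).toMonoidHom ≤ (P₁ : Subgroup (F.autGroup P ⧸ I)) := by
          rintro _ ⟨q, hq, rfl⟩
          have hq' := hQ hq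
          rw [← hc', Sylow.coe_subgroup_smul] at hq'
          obtain ⟨r, hr, rfl⟩ := hq'
          have e : MulAut.conj c⁻¹ (MulAut.conj c r) = r := by simp [mul_assoc]
          exact Set.mem_of_eq_of_mem e hr
        rcases eq_bot_or_normalizer_le p hP₁ hQ' with h | h
        · exfalso
          have hQb := (Subgroup.map_eq_bot_iff_of_injective Q (MulAut.conj c⁻¹).injective).1 h
          refine hrank fun A _ _ => ?_
          have : Subsingleton A := ⟨fun a b => Subtype.ext (Subtype.ext (by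
            rw [Subgroup.mem_bot.1 (hQb.le (a : Q).2), Subgroup.mem_bot.1 (hQb.le (b : Q).2)]))⟩
          simp
        · refine ⟨c⁻¹ * x * c, ?_, by simp [MulAut.conj_apply, mul_assoc]⟩
          refine h ?_
          have := Subgroup.le_normalizer_map (MulAut.conj c⁻¹).toMonoidHom ⟨x, hx, rfl⟩
          simpa [MulAut.conj_apply] using this
      have key : (H.subgroupOf (F.autGroup P)).map π ≤ E' := by
        have hgen : H ≤ (E'.comap π).map (F.autGroup P).subtype := by
          rw [hH, Subgroup.closure_le]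
          rintro α ⟨Q, hPQ, φ, hφ, he⟩
          have hα : α ∈ F.autGroup P := extendSet_subset hPle ⟨Q, hPQ, φ, hφ, he⟩
          refine ⟨⟨α, hα⟩, ?_, rfl⟩
          have hQS := le_of_mem_hom hφ
          obtain ⟨g, hg, hgP⟩ := SetLike.exists_of_lt (lt_normalizerIn p hS hQS hPQ)
          have hgS : g ∈ normalizerIn S P := ⟨hQS hg.1, hg.2⟩
          let b : F.autGroup P := ⟨conjAut S P ⟨g, hgS⟩,
            autInducedBy_le_autGroup hPle (mem_autInducedBy.2 ⟨g, hgS.1, fun _ => rfl⟩)⟩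
          refine mem_of_kGen p hE' (x := π ⟨α, hα⟩) (q := π b) ?_ ?_ ?_
          · exact hP₀.ge ⟨b, Subgroup.mem_subgroupOf.2
              (mem_autInducedBy.2 ⟨g, hgS.1, fun _ => rfl⟩), rfl⟩
          · rw [← map_inv, ← map_mul, ← map_mul]
            refine hP₀.ge ⟨_, Subgroup.mem_subgroupOf.2 (mem_autInducedBy.2
              ⟨φ ⟨g, hg.1⟩, apply_mem_S hφ _, fun x => ?_⟩), rfl⟩
            obtain ⟨z, rfl⟩ := α.surjective x
            simp only [Subgroup.coe_mul, InvMemClass.coe_inv, MulAut.mul_apply,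
              MulAut.inv_apply_self]
            rw [← he, ← he, ← map_inv, ← map_mul, ← map_mul]
            exact apply_congr φ rfl
          · intro h
            exact hgP ((inn_mem_iff hc hgS.1 fun x => rfl).1 ((hπ1 b).1 h))
        intro x hx
        obtain ⟨a, ha, rfl⟩ := hx
        obtain ⟨a', ha', hae⟩ := hgen (Subgroup.mem_subgroupOf.1 ha)
        have : a' = a := Subtype.ext hae
        exact this ▸ ha'
      rw [htop] at key
      intro x _
      obtain ⟨e, he, hxe⟩ := key (Subgroup.mem_top (c * x * c⁻¹))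
      have : e = x := by
        simpa [MulAut.conj_apply, mul_assoc] using hxe
      exact this ▸ he
    · obtain ⟨b, hb, hbe⟩ := htop.ge (Subgroup.mem_top (π ⟨α, hα⟩))
      have h1 : π (b⁻¹ * ⟨α, hα⟩) = 1 := by rw [map_mul, map_inv, hbe, inv_mul_cancel]
      simpa using mul_mem (Subgroup.mem_subgroupOf.1 hb) (hIH ((hπ1 _).1 h1))
  · right
    exact ⟨⟨hc, hPn, hnorm, _, hp, htop, P₀, hΓ⟩, hnorm, hp, htop, P₀, hΓ⟩

theorem mem_closure_extendSet_of_not_essential [Finite S] (p : ℕ) [Fact p.Prime]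
    (hS : IsPGroup p S) (hF : F.IsSaturated p) {P : Subgroup Ω} (hPS : P < S)
    (hPn : F.IsFullyNormalized P) (hne : ¬ F.IsEssential p P) :
    F.autGroup P = Subgroup.closure (extendSet F P) := by
  rcases extend_dichotomy p hS hF hPS hPn _ rfl with h | h
  · exact h.2.symm
  · exact absurd h.1 hne

/-- Alperin's fusion theorem above a given order: maps on subgroups of order at least `m` are in `E` as
soon as the automorphism groups of `S` and of the essential subgroups of order at least `m` are. -/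
theorem alperin_above [Finite S] (p : ℕ) [Fact p.Prime] (hS : IsPGroup p S) (hF : F.IsSaturated p)
    (E : FusionSystem S) (m₀ : ℕ)
    (hE : ∀ P : Subgroup Ω, (P = S ∨ F.IsEssential p P) → m₀ ≤ Nat.card P →
      F.autGroup P ≤ E.autGroup P) :
    ∀ P : Subgroup Ω, m₀ ≤ Nat.card P → F.Hom P ⊆ E.Hom P := by
  intro P
  induction hn : Nat.card S - Nat.card P using Nat.strong_induction_on generalizing P with
  | _ n IH =>
  intro hm φ hφ
  have hPS := le_of_mem_hom hφ
  rcases hPS.eq_or_lt with heq | hlt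
  · subst heq
    have hr := range_eq_S hφ
    exact restrict_mem_of_eq ((autGroup_carrier le_rfl).1 (hE P (Or.inl rfl) hm
      (autOfRange_mem hφ hr))) le_rfl fun x => rfl
  obtain ⟨P', hPP', hP'n⟩ := exists_fullyNormalized F hPS
  obtain ⟨h₁, h₂⟩ := good_of_fullyNormalized p hS hF hP'n
  have hcard : ∀ {R : Subgroup Ω}, F.IsConj R P' → ∃ ψ : R →* Ω,
      ψ ∈ F.Hom R ∧ ψ ∈ E.Hom R ∧ ψ.range = P' := by
    intro R hR
    obtain ⟨ψ, hψ, -, hmap⟩ := exists_map_normalizer p hS h₁ h₂ hR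
    have hRS := IsConj.le_left hR
    have hRlt : R < S := lt_of_le_of_ne hRS fun h => by
      have h1 := IsConj.card_eq hR
      have h2 := IsConj.card_eq hPP'
      exact hlt.ne (eq_of_le_of_card_le le_rfl hPS (by rw [← h] at *; omega))
    have hRN := lt_normalizerIn p hS le_rfl hRlt
    have hc1 : Nat.card R < Nat.card (normalizerIn S R) := lt_of_not_ge fun hge =>
      hRN.ne (eq_of_le_of_card_le (normalizerIn_le_S R) hRN.le hge)
    have hc2 : Nat.card (normalizerIn S R) ≤ Nat.card S :=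
      card_le_of_le le_rfl (normalizerIn_le_S R)
    have h1 := IsConj.card_eq hR
    have h2 := IsConj.card_eq hPP'
    have hψE := IH (Nat.card S - Nat.card (normalizerIn S R)) (by omega) _ rfl (by omega) hψ
    exact ⟨ψ.comp (Subgroup.inclusion hRN.le), restrict_mem hψ _, restrict_mem hψE _,
      (range_restrict ψ hRN.le).trans hmap⟩
  -- automorphisms of `P'`
  have hP'S := hP'n.1
  have hAut : F.autGroup P' ≤ E.autGroup P' := by
    by_cases hess : F.IsEssential p P'
    · exact hE P' (Or.inr hess) ((IsConj.card_eq hPP') ▸ hm)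
    have hc0 := IsConj.card_eq hPP'
    have hlt' : P' < S := lt_of_le_of_ne hP'S fun h =>
      hlt.ne (eq_of_le_of_card_le le_rfl hPS (by rw [← h]; exact hc0.le))
    rw [mem_closure_extendSet_of_not_essential p hS hF hlt' hP'n hess, Subgroup.closure_le]
    rintro α ⟨Q, hPQ, ψ, hψ, he⟩
    have hQS := le_of_mem_hom hψ
    have hc1 : Nat.card P' < Nat.card Q := lt_of_not_ge fun hge =>
      hPQ.ne (eq_of_le_of_card_le hQS hPQ.le hge)
    have hc2 : Nat.card Q ≤ Nat.card S := card_le_of_le le_rfl hQS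
    have hψE := IH (Nat.card S - Nat.card Q) (by omega) _ rfl (by omega) hψ
    exact (autGroup_carrier hP'S).2 (restrict_mem_of_eq hψE hPQ.le fun x => (he x).symm)
  obtain ⟨u, huF, huE, hur⟩ := hcard hPP'
  obtain ⟨v, hvF, hvE, hvr⟩ := hcard (isConj_trans (isConj_symm ⟨φ, hφ, rfl⟩) hPP')
  -- `v ∘ φ ∘ u⁻¹` is an automorphism of `P'`
  obtain ⟨u', hu'F, hu'r, hu'1, hu'2⟩ := exists_inv huF hur
  have hu'P : ∀ y, u' y ∈ P := fun y => hu'r.le ⟨y, rfl⟩
  let m : P' →* Ω := v.comp ((φ.comp (u'.codRestrict P hu'P)).codRestrict φ.range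
    fun y => ⟨_, rfl⟩)
  have hm : m ∈ F.Hom P' := F.comp_mem (F.comp_mem hu'F hφ hu'P) hvF _
  have hmr : m.range = P' := by
    refine eq_of_le_of_card_le hP'S ?_ (card_range hm).ge
    rintro _ ⟨y, rfl⟩
    exact hvr.le ⟨_, rfl⟩
  have hmE : m ∈ E.Hom P' :=
    restrict_mem_of_eq ((autGroup_carrier hP'S).1 (hAut (autOfRange_mem hm hmr))) le_rfl
      fun x => rfl
  obtain ⟨v', hv'E, -, hv'1, -⟩ := exists_inv hvE hvr
  have huP : ∀ x, u x ∈ P' := fun x => hur.le ⟨x, rfl⟩
  have hm1 : ∀ x : P, m ⟨u x, huP x⟩ = v ⟨φ x, ⟨x, rfl⟩⟩ := fun x =>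
    apply_congr v (apply_congr φ (hu'1 x (huP x)))
  refine comp_mem_of_eq (E.comp_mem huE hmE huP) hv'E (fun x => hmr.le ⟨_, rfl⟩) fun x => ?_
  exact (hv'1 ⟨φ x, ⟨x, rfl⟩⟩ (hvr.le ⟨_, rfl⟩)).symm.trans (apply_congr v' (hm1 x).symm)

/-- Alperin's fusion theorem. -/
theorem alperin_saturated [Finite S] (p : ℕ) [Fact p.Prime] (hS : IsPGroup p S) (hF : F.IsSaturated p)
    (E : FusionSystem S)
    (hE : ∀ P : Subgroup Ω, (P = S ∨ F.IsEssential p P) → F.autGroup P ≤ E.autGroup P) :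
    F ≤ E := fun P =>
  alperin_above p hS hF E 0 (fun P hP _ => hE P hP) P (Nat.zero_le _)

end CfsgLib.Fusion
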