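import Mathlib.GroupTheory.SpecificGroups.Cyclic
import Mathlib.Algebra.Group.End
import Mathlib.GroupTheory.OrderOfElement

/-!
The centre of a transvection is invariant when commuting conjugates share it and the centraliser
of the transvection fixes it.
-/

set_option autoImplicit false
set_option linter.unusedSectionVars false

open Subgroup

namespace CfsgLib.TransvectionCentre

variable {A : Type*} [CommGroup A] {p : ℕ} [hp : Fact p.Prime]

/-- The shears of centre `b` in `G`. -/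
def shear (G : Subgroup (MulAut A)) (b : A) : Subgroup (MulAut A) where
  carrier := {α | α ∈ G ∧ α b = b ∧ ∀ x, x⁻¹ * α x ∈ zpowers b}
  one_mem' := ⟨one_mem _, rfl, fun x => by simp⟩
  mul_mem' := fun {α β} ha hb => ⟨mul_mem ha.1 hb.1, by rw [MulAut.mul_apply, hb.2.1, ha.2.1],
    fun x => by
      have := mul_mem (hb.2.2 x) (ha.2.2 (β x))
      simpa [mul_assoc] using this⟩
  inv_mem' := fun {α} ha => ⟨inv_mem ha.1, by
      conv_lhs => rw [← ha.2.1]
      exact MulAut.inv_apply_self A α b, fun x => by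
      have := inv_mem (ha.2.2 (α⁻¹ x))
      simpa [mul_comm] using this⟩

variable {G : Subgroup (MulAut A)}

theorem exists_zpow {α : MulAut A} {b : A} (h : α ∈ shear G b) (x : A) :
    ∃ n : ℤ, α x = x * b ^ n := by
  obtain ⟨n, hn⟩ := mem_zpowers_iff.1 (h.2.2 x)
  exact ⟨n, by rw [hn, mul_inv_cancel_left]⟩

theorem conj_shear {α g : MulAut A} {a : A} (h : α ∈ shear G a) (hg : g ∈ G) :
    g * α * g⁻¹ ∈ shear G (g a) := by
  refine ⟨mul_mem (mul_mem hg h.1) (inv_mem hg), ?_, fun x => ?_⟩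
  · rw [MulAut.mul_apply, MulAut.mul_apply, MulAut.inv_apply_self, h.2.1]
  · obtain ⟨n, hn⟩ := exists_zpow h (g⁻¹ x)
    refine ⟨n, ?_⟩
    simp only [MulAut.mul_apply, hn, map_mul, map_zpow, MulAut.apply_inv_self, inv_mul_cancel_left]

theorem shear_commute {α β : MulAut A} {a b : A} (hα : α ∈ shear G a) (hβ : β ∈ shear G b)
    (hαb : α b = b) (hβa : β a = a) : Commute α β := by
  refine MulEquiv.ext fun x => ?_
  obtain ⟨m, hm⟩ := exists_zpow hα x
  obtain ⟨n, hn⟩ := exists_zpow hβ x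
  show α (β x) = β (α x)
  rw [hn, hm, map_mul, map_mul, map_zpow, map_zpow, hαb, hβa, hm, hn, mul_right_comm]

theorem mem_zpowers_swap {a w : A} (ha : orderOf a = p) (hw : w ∈ zpowers a) (hw1 : w ≠ 1) :
    a ∈ zpowers w := by
  obtain ⟨k, hk⟩ := mem_zpowers_iff.1 (mem_zpowers_of_prime_card (G := zpowers a) (p := p)
    (by rw [Nat.card_zpowers, ha]) (g := ⟨w, hw⟩) (g' := ⟨a, mem_zpowers a⟩)
    (fun h => hw1 (congrArg Subtype.val h)))
  exact ⟨k, congrArg Subtype.val hk⟩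

theorem centre_invariant [Finite A] (hp2 : p ≠ 2) {t : MulAut A} (htG : t ∈ G) {z : A}
    (hzo : orderOf z = p) (htz : t z = z) (htd : ∀ x, x⁻¹ * t x ∈ zpowers z)
    (h1 : ∀ g ∈ G, Commute t (g * t * g⁻¹) → g z ∈ zpowers z)
    (h2 : ∀ g ∈ G, Commute g t → g z = z) : ∀ g ∈ G, g z ∈ zpowers z := by
  have hts : t ∈ shear G z := ⟨htG, htz, htd⟩
  have hz1 : z ≠ 1 := fun h => by rw [h, orderOf_one] at hzo; exact hp.out.one_lt.ne hzo
  have hA : ∀ g ∈ G, t (g z) = g z → g z ∈ zpowers z := by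
    intro g hg htb
    have hbo : orderOf (g z) = p := by rw [MulEquiv.orderOf_eq, hzo]
    have hs := conj_shear hts hg
    obtain ⟨n, hn⟩ := exists_zpow hs z
    obtain ⟨m, hm⟩ := exists_zpow (inv_mem hs) z
    have hs' := conj_shear hts hs.1
    have hc : Commute t ((g * t * g⁻¹) * t * (g * t * g⁻¹)⁻¹) := by
      refine shear_commute hts hs' ?_ ?_
      · rw [hn, map_mul, map_zpow, htz, htb]
      · have h3 : t ((g * t * g⁻¹)⁻¹ z) = (g * t * g⁻¹)⁻¹ z := by
          rw [hm, map_mul, map_zpow, htz, htb]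
        rw [MulAut.mul_apply, MulAut.mul_apply, h3, MulAut.apply_inv_self]
    have hsz := h1 _ hs.1 hc
    have hbn : g z ^ n ∈ zpowers z := by
      have := mul_mem (inv_mem (mem_zpowers z)) hsz
      rwa [hn, inv_mul_cancel_left] at this
    by_cases hne : g z ^ n = 1
    · exact h1 g hg (shear_commute hts hs htb (by rw [hn, hne, mul_one]))
    · exact zpowers_le.2 hbn (mem_zpowers_swap hbo (zpow_mem (mem_zpowers _) n) hne)
  intro g hg
  by_cases htb : t (g z) = g z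
  · exact hA g hg htb
  have hs := conj_shear hts hg
  by_cases hsz : (g * t * g⁻¹) z = z
  · have h3 : t (g⁻¹ z) = g⁻¹ z := by
      have := congrArg (g⁻¹ : MulAut A) hsz
      simpa [MulAut.mul_apply] using this
    have h4 := hA g⁻¹ (inv_mem hg) h3
    obtain ⟨k, hk⟩ := mem_zpowers_iff.1 h4
    have h5 : g z ^ k = z := by rw [← map_zpow, hk, MulAut.apply_inv_self]
    exact mem_zpowers_swap (by rw [MulEquiv.orderOf_eq, hzo]) ⟨k, h5⟩ hz1
  -- the remaining case: an element centralizing `t` inverts the centre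
  exfalso
  set b := g z with hb
  have hbo : orderOf b = p := by rw [hb, MulEquiv.orderOf_eq, hzo]
  obtain ⟨z₁, hz₁⟩ : ∃ z₁, b⁻¹ * t b = z₁ := ⟨_, rfl⟩
  have hz₁Z : z₁ ∈ zpowers z := hz₁ ▸ htd b
  have hz₁1 : z₁ ≠ 1 := fun h => htb (by rw [← hz₁, inv_mul_eq_one] at h; exact h.symm)
  have hZ₁ : z ∈ zpowers z₁ := mem_zpowers_swap hzo hz₁Z hz₁1
  have htz₁ : t z₁ = z₁ := by
    obtain ⟨k, rfl⟩ := mem_zpowers_iff.1 hz₁Z
    rw [map_zpow, htz]
  have htb' : t b = b * z₁ := by rw [← hz₁, mul_inv_cancel_left]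
  obtain ⟨n, hn⟩ := exists_zpow hs z₁
  have hn1 : b ^ n ≠ 1 := fun h => hsz (by
    obtain ⟨k, rfl⟩ := mem_zpowers_iff.1 hZ₁
    rw [map_zpow, hn, h, mul_one])
  obtain ⟨j, hj⟩ := (Submonoid.mem_powers_iff _ _).1
    ((isOfFinOrder_of_finite (b ^ n)).mem_powers_iff_mem_zpowers.2
      (inv_mem (mem_zpowers_swap hbo (zpow_mem (mem_zpowers b) n) hn1)))
  have hpow : ∀ j : ℕ, ((g * t * g⁻¹) ^ j) z₁ = z₁ * (b ^ n) ^ j := by
    intro j
    induction j with
    | zero => simp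
    | succ j ih =>
      rw [pow_succ', MulAut.mul_apply, ih, map_mul, map_pow, map_zpow, hs.2.1, hn, pow_succ']
      simp only [mul_assoc]
  set s := (g * t * g⁻¹) ^ j with hsdef
  have hs' : s ∈ shear G b := pow_mem hs j
  have hsz₁ : s z₁ = z₁ * b⁻¹ := by rw [hsdef, hpow, hj]
  set T := t * s * t with hTdef
  have hTz : T z₁ = b⁻¹ := by
    rw [hTdef, MulAut.mul_apply, MulAut.mul_apply, htz₁, hsz₁, map_mul, htz₁, map_inv, htb',
      mul_inv_rev, mul_inv_cancel_left]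
  have hTb : T b = z₁ := by
    rw [hTdef, MulAut.mul_apply, MulAut.mul_apply, htb', map_mul, hs'.2.1, hsz₁, mul_comm z₁,
      mul_inv_cancel_left, htz₁]
  have hTG : T ∈ G := mul_mem (mul_mem htG hs'.1) htG
  have hh1 : (T * T) z₁ = z₁⁻¹ := by rw [MulAut.mul_apply, hTz, map_inv, hTb]
  have hh2 : (T * T) b = b⁻¹ := by rw [MulAut.mul_apply, hTb, hTz]
  have hcomm : Commute (T * T) t := by
    refine MulEquiv.ext fun x => ?_
    let K := ((T * T) * t).toMonoidHom.eqLocus (t * (T * T)).toMonoidHom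
    suffices h : x ∈ K from h
    have hzK : z₁ ∈ K := by
      show (T * T) (t z₁) = t ((T * T) z₁)
      rw [htz₁, hh1, map_inv, htz₁]
    have hbK : b ∈ K := by
      show (T * T) (t b) = t ((T * T) b)
      rw [htb', map_mul, hh1, hh2, map_inv, htb', mul_inv_rev, mul_comm]
    have hfix : ∀ y, t y = y → s y = y → y ∈ K := by
      intro y ht hsy
      have hT : T y = y := by rw [hTdef, MulAut.mul_apply, MulAut.mul_apply, ht, hsy, ht]
      show (T * T) (t y) = t ((T * T) y)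
      rw [ht, MulAut.mul_apply, hT, hT, ht]
    obtain ⟨a, ha⟩ := mem_zpowers_iff.1 (zpowers_le.2 hZ₁ (htd x))
    have hx1 : t (x * b ^ (-a)) = x * b ^ (-a) := by
      rw [map_mul, map_zpow, htb', show t x = x * z₁ ^ a by rw [ha, mul_inv_cancel_left], mul_zpow,
        mul_assoc, mul_comm (z₁ ^ a), mul_assoc, ← zpow_add, neg_add_cancel, zpow_zero, mul_one]
    obtain ⟨c, hc⟩ := exists_zpow hs' (x * b ^ (-a))
    have hx2 : x * b ^ (-a) * z₁ ^ c ∈ K := by
      refine hfix _ ?_ ?_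
      · rw [map_mul, hx1, map_zpow, htz₁]
      · rw [map_mul, hc, map_zpow, hsz₁, mul_zpow, inv_zpow]
        rw [mul_assoc (x * b ^ (-a)), mul_comm (z₁ ^ c), mul_inv_cancel_left]
    have e : x = x * b ^ (-a) * z₁ ^ c * (z₁ ^ c)⁻¹ * b ^ a := by simp [mul_assoc]
    rw [e]
    exact mul_mem (mul_mem hx2 (inv_mem (zpow_mem hzK c))) (zpow_mem hbK a)
  have hfixz := h2 _ (mul_mem hTG hTG) hcomm
  have h6 : (T * T) z₁ = z₁ := by
    obtain ⟨k, rfl⟩ := mem_zpowers_iff.1 hz₁Z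
    rw [map_zpow, hfixz]
  rw [hh1, inv_eq_iff_mul_eq_one, ← pow_two] at h6
  have hd := orderOf_dvd_of_pow_eq_one h6
  have hzo₁ : orderOf z₁ = p := orderOf_eq_prime (by
    obtain ⟨k, rfl⟩ := mem_zpowers_iff.1 hz₁Z
    rw [← zpow_natCast, ← zpow_mul, mul_comm, zpow_mul, zpow_natCast, ← hzo, pow_orderOf_eq_one,
      one_zpow]) hz₁1
  rw [hzo₁] at hd
  exact hp2 ((Nat.prime_dvd_prime_iff_eq hp.out Nat.prime_two).1 hd)

end CfsgLib.TransvectionCentre
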