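import Cfsg.Agent.Fusion.Alperin
import Cfsg.Agent.Fusion.TransvectionCentre
import Cfsg.Agent.ZJ.QdSection
import Mathlib.LinearAlgebra.Matrix.SpecialLinearGroup

/-!
Essential subgroups of order `p²`.
-/

set_option autoImplicit false
set_option linter.unusedSectionVars false

open Cfsg Cfsg.FusionSystem

namespace CfsgLib.Fusion

universe u

section module

variable {A : Type u} [CommGroup A] [Finite A] {p : ℕ} [hp : Fact p.Prime]

theorem shear_isPGroup (G : Subgroup (MulAut A)) {c : A} (hcp : c ^ p = 1) :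
    IsPGroup p (TransvectionCentre.shear G c) := by
  intro α
  refine ⟨1, Subtype.ext (MulEquiv.ext fun x => ?_)⟩
  obtain ⟨n, hn⟩ := TransvectionCentre.exists_zpow α.2 x
  have hpow : ∀ k : ℕ, (((α : MulAut A)) ^ k) x = x * (c ^ n) ^ k := by
    intro k
    induction k with
    | zero => simp
    | succ k ih =>
      rw [pow_succ', MulAut.mul_apply, ih, map_mul, map_pow, map_zpow, α.2.2.1, hn, pow_succ']
      simp only [mul_assoc]
  show ((α : MulAut A) ^ p ^ 1) x = x
  rw [pow_one, hpow, ← zpow_natCast, ← zpow_mul, mul_comm n, zpow_mul, zpow_natCast, hcp, one_zpow,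
    mul_one]

/-- A `p`-element of `G` on a group of order `p²` is a shear. -/
theorem exists_shear (G : Subgroup (MulAut A)) (hA : Nat.card A = p ^ 2) (hexp : ∀ x : A, x ^ p = 1)
    {t : MulAut A} (htG : t ∈ G) {k : ℕ} (ht : t ^ p ^ k = 1) :
    ∃ c : A, orderOf c = p ∧ t ∈ TransvectionCentre.shear G c := by
  have hAp : IsPGroup p A := IsPGroup.of_card hA
  have hT : IsPGroup p (Subgroup.zpowers t) := by
    obtain ⟨j, -, hj⟩ := (Nat.dvd_prime_pow hp.out).1 (orderOf_dvd_of_pow_eq_one ht)
    exact IsPGroup.of_card (n := j) (by rw [Nat.card_zpowers, hj])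
  have hdvd : p ∣ Nat.card A := by rw [hA]; exact dvd_pow_self p two_ne_zero
  obtain ⟨c, hc, hc1⟩ := hT.exists_fixed_point_of_prime_dvd_card_of_fixed_point A hdvd
    (a := (1 : A)) (fun g => map_one (g : MulAut A))
  have hcfix : t c = c := hc ⟨t, Subgroup.mem_zpowers t⟩
  have hco : orderOf c = p := orderOf_eq_prime (hexp c) fun h => hc1 h.symm
  refine ⟨c, hco, htG, hcfix, fun x => ?_⟩
  have hzc : ∀ y ∈ Subgroup.zpowers c, t y = y := by
    intro y hy
    obtain ⟨i, rfl⟩ := Subgroup.mem_zpowers_iff.1 hy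
    rw [map_zpow, hcfix]
  have hidx : Nat.card (A ⧸ Subgroup.zpowers c) = p := by
    have h := (Subgroup.zpowers c).index_mul_card
    rw [Nat.card_zpowers, hco, hA, Subgroup.index_eq_card, pow_two] at h
    exact Nat.eq_of_mul_eq_mul_right hp.out.pos h
  by_cases hx : x ∈ Subgroup.zpowers c
  · rw [hzc x hx, inv_mul_cancel]; exact one_mem _
  have hx' : (x : A ⧸ Subgroup.zpowers c) ≠ 1 := fun h => hx ((QuotientGroup.eq_one_iff x).1 h)
  obtain ⟨i, hi⟩ := Subgroup.mem_zpowers_iff.1 (mem_zpowers_of_prime_card hidx hx'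
    (g' := ((t x : A) : A ⧸ Subgroup.zpowers c)))
  have hmem : (x ^ i)⁻¹ * t x ∈ Subgroup.zpowers c := by
    refine (QuotientGroup.eq_one_iff _).1 ?_
    rw [QuotientGroup.mk_mul, QuotientGroup.mk_inv, QuotientGroup.mk_zpow, hi, inv_mul_cancel]
  have hpow : ∀ m : ℕ, (x ^ i ^ m)⁻¹ * (t ^ m) x ∈ Subgroup.zpowers c := by
    intro m
    induction m with
    | zero => simp
    | succ m ih =>
      have h1 : t ((x ^ i ^ m)⁻¹ * (t ^ m) x) = (x ^ i ^ m)⁻¹ * (t ^ m) x := hzc _ ih
      have h2 : (t ^ m) x = x ^ i ^ m * ((x ^ i ^ m)⁻¹ * (t ^ m) x) := by rw [mul_inv_cancel_left]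
      have h3 : t x = x ^ i * ((x ^ i)⁻¹ * t x) := by rw [mul_inv_cancel_left]
      rw [pow_succ' t, MulAut.mul_apply, h2, map_mul, h1, map_zpow, h3, mul_zpow, ← zpow_mul,
        pow_succ' i, mul_assoc (x ^ (i * i ^ m)), inv_mul_cancel_left]
      exact mul_mem (zpow_mem hmem _) ih
  have h2 := hpow (p ^ k)
  rw [ht, MulAut.one_apply, ← QuotientGroup.eq] at h2
  have hxo : orderOf (x : A ⧸ Subgroup.zpowers c) = p := orderOf_eq_prime (by
    rw [← QuotientGroup.mk_pow, hexp, QuotientGroup.mk_one]) hx'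
  rw [QuotientGroup.mk_zpow] at h2
  conv_rhs at h2 => rw [← zpow_one (x : A ⧸ Subgroup.zpowers c)]
  rw [zpow_eq_zpow_iff_modEq, hxo, ← ZMod.intCast_eq_intCast_iff] at h2
  push_cast at h2
  rw [ZMod.pow_card_pow] at h2
  have h4 : (x : A ⧸ Subgroup.zpowers c) ^ i = (x : A ⧸ Subgroup.zpowers c) := by
    conv_rhs => rw [← zpow_one (x : A ⧸ Subgroup.zpowers c)]
    rw [zpow_eq_zpow_iff_modEq, hxo, ← ZMod.intCast_eq_intCast_iff]
    exact_mod_cast h2
  exact QuotientGroup.eq.1 (h4.symm.trans hi)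

/-- Two shears with independent centres on a group of order `p²` give a copy of `SL₂(p)`. -/
theorem exists_sl_of_shears (G : Subgroup (MulAut A)) (hA : Nat.card A = p ^ 2)
    (hexp : ∀ x : A, x ^ p = 1) {t u : MulAut A} {c a : A} (hco : orderOf c = p)
    (ha : a ∉ Subgroup.zpowers c) (ht : t ∈ TransvectionCentre.shear G c)
    (hu : u ∈ TransvectionCentre.shear G a) (ht1 : t a ≠ a) (hu1 : u c ≠ c) :
    ∃ K : Subgroup G, Nonempty (K ≃* Matrix.SpecialLinearGroup (Fin 2) (ZMod p)) := by
  have hao : orderOf a = p := orderOf_eq_prime (hexp a) fun h => ha (h ▸ one_mem _)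
  have hval : ∀ (x : A) (m n : ℕ), m ≡ n [MOD p] → x ^ m = x ^ n := fun x m n h =>
    pow_eq_pow_iff_modEq.2 (h.of_dvd (orderOf_dvd_of_pow_eq_one (hexp x)))
  let ψ : Multiplicative (Fin 2 → ZMod p) →* A := MonoidHom.mk'
    (fun v => c ^ (v.toAdd 0).val * a ^ (v.toAdd 1).val) fun v w => by
      have h : ∀ (x : A) (i : Fin 2), x ^ ((v * w).toAdd i).val =
          x ^ (v.toAdd i).val * x ^ (w.toAdd i).val := fun x i => by
        rw [← pow_add]
        refine hval x _ _ ?_
        rw [← ZMod.natCast_eq_natCast_iff]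
        push_cast
        simp only [ZMod.natCast_zmod_val]
        rfl
      rw [h c 0, h a 1]
      exact mul_mul_mul_comm _ _ _ _
  have hψi : Function.Injective ψ := by
    refine (injective_iff_map_eq_one ψ).2 fun v hv => ?_
    have h : c ^ (v.toAdd 0).val * a ^ (v.toAdd 1).val = 1 := hv
    have h1 : a ^ (v.toAdd 1).val = 1 := by
      by_contra hne
      refine ha ?_
      have hmem : a ^ (v.toAdd 1).val ∈ Subgroup.zpowers c := by
        rw [eq_inv_of_mul_eq_one_right h]
        exact inv_mem (pow_mem (Subgroup.mem_zpowers c) _)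
      exact Subgroup.zpowers_le.2 hmem
        (TransvectionCentre.mem_zpowers_swap hao (pow_mem (Subgroup.mem_zpowers a) _) hne)
    rw [h1, mul_one] at h
    have e0 : v.toAdd 0 = 0 := by
      rw [← ZMod.val_eq_zero]
      by_contra hne
      exact pow_ne_one_of_lt_orderOf hne (hco.symm ▸ ZMod.val_lt _) h
    have e1 : v.toAdd 1 = 0 := by
      rw [← ZMod.val_eq_zero]
      by_contra hne
      exact pow_ne_one_of_lt_orderOf hne (hao.symm ▸ ZMod.val_lt _) h1
    refine Multiplicative.toAdd.injective (funext fun i => ?_)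
    fin_cases i
    exacts [e0, e1]
  have hψ : Function.Bijective ψ := (Nat.bijective_iff_injective_and_card _).2 ⟨hψi, by
    rw [hA, Nat.card_congr Multiplicative.toAdd, Nat.card_fun, Nat.card_zmod, Nat.card_fin]⟩
  let e := MulEquiv.ofBijective ψ hψ
  let f : CfsgLib.ZJ.SL2 (ZMod p) →* MulAut A :=
    (MulAut.congr e).toMonoidHom.comp (MonoidHom.mk'
      (fun M => AddEquiv.toMultiplicative (Matrix.SpecialLinearGroup.toLin' M).toAddEquiv)
      fun M N => MulEquiv.ext fun v => by
        show Multiplicative.ofAdd (Matrix.SpecialLinearGroup.toLin' (M * N) v.toAdd) = _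
        rw [map_mul]; rfl)
  have hf : ∀ (M : CfsgLib.ZJ.SL2 (ZMod p)) (v : Multiplicative (Fin 2 → ZMod p)),
      f M (ψ v) = ψ (Multiplicative.ofAdd (Matrix.SpecialLinearGroup.toLin' M v.toAdd)) := by
    intro M v
    show e (AddEquiv.toMultiplicative (Matrix.SpecialLinearGroup.toLin' M).toAddEquiv
      (e.symm (e v))) = _
    rw [e.symm_apply_apply]; rfl
  have h10 : ψ (Multiplicative.ofAdd ![1, 0]) = c := by
    show c ^ (1 : ZMod p).val * a ^ (0 : ZMod p).val = c
    rw [ZMod.val_one, ZMod.val_zero, pow_one, pow_zero, mul_one]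
  have h01 : ψ (Multiplicative.ofAdd ![0, 1]) = a := by
    show c ^ (0 : ZMod p).val * a ^ (1 : ZMod p).val = a
    rw [ZMod.val_one, ZMod.val_zero, pow_one, pow_zero, one_mul]
  have h11 : ψ (Multiplicative.ofAdd ![1, 1]) = c * a := by
    show c ^ (1 : ZMod p).val * a ^ (1 : ZMod p).val = c * a
    rw [ZMod.val_one, pow_one, pow_one]
  have htl : ∀ (M : CfsgLib.ZJ.SL2 (ZMod p)) (v : Fin 2 → ZMod p),
      Matrix.SpecialLinearGroup.toLin' M v = (M : Matrix (Fin 2) (Fin 2) (ZMod p)).mulVec v :=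
    fun M v => rfl
  -- automorphisms are determined by `c` and `a`
  have hext : ∀ α β : MulAut A, α c = β c → α a = β a → α = β := by
    intro α β hc ha'
    refine MulEquiv.ext fun x => ?_
    obtain ⟨v, rfl⟩ := hψ.2 x
    show α (c ^ (v.toAdd 0).val * a ^ (v.toAdd 1).val) = β (c ^ (v.toAdd 0).val * a ^ (v.toAdd 1).val)
    rw [map_mul, map_mul, map_pow, map_pow, map_pow, map_pow, hc, ha']
  -- normalised powers
  have hnorm : ∀ {s : MulAut A} {b d : A}, s ∈ TransvectionCentre.shear G b → orderOf b = p → s d ≠ d →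
      ∃ j : ℕ, (s ^ j) d = d * b := by
    intro s b d hs hbo hsd
    obtain ⟨n, hn⟩ := TransvectionCentre.exists_zpow hs d
    have hb1 : b ^ n ≠ 1 := fun h => hsd (by rw [hn, h, mul_one])
    obtain ⟨j, hj⟩ := (Submonoid.mem_powers_iff _ _).1
      ((isOfFinOrder_of_finite (b ^ n)).mem_powers_iff_mem_zpowers.2
        (TransvectionCentre.mem_zpowers_swap hbo (zpow_mem (Subgroup.mem_zpowers b) n) hb1))
    refine ⟨j, ?_⟩
    have hpow : ∀ m : ℕ, (s ^ m) d = d * (b ^ n) ^ m := by
      intro m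
      induction m with
      | zero => simp
      | succ m ih =>
        rw [pow_succ', MulAut.mul_apply, ih, map_mul, map_pow, map_zpow, hs.2.1, hn, pow_succ']
        simp only [mul_assoc]
    rw [hpow, hj]
  obtain ⟨i, hi⟩ := hnorm ht hco ht1
  obtain ⟨j, hj⟩ := hnorm hu hao hu1
  have hup : f (CfsgLib.ZJ.upper 1) = t ^ i := by
    refine hext _ _ ?_ ?_
    · rw [(pow_mem ht i).2.1, ← h10, hf]
      refine congrArg ψ (congrArg Multiplicative.ofAdd (funext fun r => ?_))
      fin_cases r <;> simp [CfsgLib.ZJ.upper, Matrix.SpecialLinearGroup.toLin', Matrix.mulVec, dotProduct, Fin.sum_univ_two]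
    · rw [hi, mul_comm, ← h11]
      conv_lhs => rw [← h01, hf]
      refine congrArg ψ (congrArg Multiplicative.ofAdd (funext fun r => ?_))
      fin_cases r <;> simp [CfsgLib.ZJ.upper, Matrix.SpecialLinearGroup.toLin', Matrix.mulVec, dotProduct, Fin.sum_univ_two]
  have hlo : f (CfsgLib.ZJ.lower 1) = u ^ j := by
    refine hext _ _ ?_ ?_
    · rw [hj, ← h11]
      conv_lhs => rw [← h10, hf]
      refine congrArg ψ (congrArg Multiplicative.ofAdd (funext fun r => ?_))
      fin_cases r <;> simp [CfsgLib.ZJ.lower, Matrix.SpecialLinearGroup.toLin', Matrix.mulVec, dotProduct, Fin.sum_univ_two]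
    · rw [(pow_mem hu j).2.1, ← h01, hf]
      refine congrArg ψ (congrArg Multiplicative.ofAdd (funext fun r => ?_))
      fin_cases r <;> simp [CfsgLib.ZJ.lower, Matrix.SpecialLinearGroup.toLin', Matrix.mulVec, dotProduct, Fin.sum_univ_two]
  have hle : f.range ≤ G := by
    rintro _ ⟨M, rfl⟩
    have htop := CfsgLib.ZJ.sl2_zmod_generated (G.comap f)
      (show f _ ∈ G by rw [hup]; exact (pow_mem ht i).1) (show f _ ∈ G by rw [hlo]; exact (pow_mem hu j).1)
    exact htop.ge (Subgroup.mem_top M)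
  have hfi : Function.Injective f := by
    intro M N h
    have h' : ∀ v, Matrix.SpecialLinearGroup.toLin' M v = Matrix.SpecialLinearGroup.toLin' N v := fun v => by
      have h2 := DFunLike.congr_fun h (ψ (Multiplicative.ofAdd v))
      rw [hf, hf] at h2
      exact Multiplicative.ofAdd.injective (hψi h2)
    refine Matrix.SpecialLinearGroup.ext _ _ fun r s => ?_
    have h3 := congrFun (h' (Pi.single s 1)) r
    simpa [htl, Matrix.mulVec_single] using h3
  exact ⟨f.range.subgroupOf G, ⟨(Subgroup.subgroupOfEquivOfLe hle).trans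
    (MonoidHom.ofInjective hfi).symm⟩⟩

end module

variable {Ω : Type u} [Group Ω] {S : Subgroup Ω} {F : FusionSystem S}

/-- An essential subgroup is proper. -/
theorem essential_lt [Finite S] (p : ℕ) [Fact p.Prime] (hS : IsPGroup p S) (hF : F.IsSaturated p)
    {H : Subgroup Ω} (hH : F.IsEssential p H) : H < S := by
  refine lt_of_le_of_ne hH.1.1 fun hHS => ?_
  subst hHS
  obtain ⟨hc, hn, hN, E, hpdvd, -⟩ := hH
  have : Finite (MulAut H) := finite_mulAut
  obtain ⟨-, R, hR⟩ := (good_of_fullyNormalized p hS hF hn).1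
  rw [← inn_eq_autInducedBy] at hR
  have h := R.not_dvd_index
  rw [hR, Subgroup.index_eq_card] at h
  exact h hpdvd

/-- An essential subgroup of order `p²` is elementary abelian and its automizer contains `SL₂(p)`. -/
theorem essential_of_card_sq [Finite S] (p : ℕ) [Fact p.Prime] (hS : IsPGroup p S)
    (hF : F.IsSaturated p) {H : Subgroup Ω} (hH : F.IsEssential p H) (hcard : Nat.card H = p ^ 2) :
    Cfsg.IsElementaryAbelian p H ∧
      ∃ K : Subgroup (F.autGroup H), Nonempty (K ≃* Matrix.SpecialLinearGroup (Fin 2) (ZMod p)) := by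
  classical
  have hp := (Fact.out : p.Prime)
  have := finite_of_le hH.1.1
  have : Finite (MulAut H) := finite_mulAut
  have hab : ∀ x y : H, x * y = y * x := IsPGroup.commutative_of_card_eq_prime_sq hcard
  have hab' : IsMulCommutative H := ⟨⟨hab⟩⟩
  have hinn : Inn H = ⊥ := by
    refine eq_bot_iff.2 ?_
    rintro _ ⟨q, rfl⟩
    exact Subgroup.mem_bot.2 (MulEquiv.ext fun x => by
      show q * x * q⁻¹ = x
      rw [hab q x, mul_inv_cancel_right])
  have hrad := (isRadical_of_essential p hS hH).2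
  rw [hinn, Subgroup.map_eq_bot_iff_of_injective _ (F.autGroup H).subtype_injective] at hrad
  have hHS := essential_lt p hS hF hH
  obtain ⟨g, hg, hgH⟩ := SetLike.exists_of_lt (lt_normalizerIn p hS le_rfl hHS)
  set t : MulAut H := conjAut S H ⟨g, hg⟩ with htdef
  have htA : t ∈ autInducedBy S H := mem_autInducedBy.2 ⟨g, hg.1, fun _ => rfl⟩
  have htG : t ∈ F.autGroup H := autInducedBy_le_autGroup hH.1.1 htA
  have ht1 : t ≠ 1 := fun h => hgH ((inn_mem_iff hH.1 hg.1 (α := t) fun _ => rfl).1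
    (by rw [h]; exact one_mem _))
  obtain ⟨k, hk⟩ := (isPGroup_autInducedBy hS H) ⟨t, htA⟩
  have htk : t ^ p ^ k = 1 := congrArg Subtype.val hk
  letI : CommGroup H := { (inferInstance : Group H) with mul_comm := hab }
  by_cases hexp : ∀ x : H, x ^ p = 1
  swap
  · exfalso
    push Not at hexp
    obtain ⟨x, hx⟩ := hexp
    have hxo : orderOf x = p ^ 2 := by
      obtain ⟨j, hj, hjo⟩ := (Nat.dvd_prime_pow hp).1 (hcard ▸ orderOf_dvd_natCard x)
      interval_cases j
      · exact absurd (show x ^ p = 1 by rw [orderOf_eq_one_iff.1 (hjo.trans (pow_zero p)), one_pow]) hx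
      · exact absurd (show x ^ p = 1 by rw [← pow_orderOf_eq_one x, hjo, pow_one]) hx
      · exact hjo
    haveI : IsCyclic H := isCyclic_of_orderOf_eq_card x (hxo.trans hcard.symm)
    have hcom : ∀ α β : MulAut H, α * β = β * α := fun α β => by
      obtain ⟨i, hi⟩ := MonoidHom.map_cyclic α.toMonoidHom
      obtain ⟨j, hj⟩ := MonoidHom.map_cyclic β.toMonoidHom
      refine MulEquiv.ext fun y => ?_
      show α (β y) = β (α y)
      simp only [MulEquiv.coe_toMonoidHom] at hi hj
      rw [hj y, map_zpow, hi y, map_zpow, hj y, ← zpow_mul, ← zpow_mul, mul_comm]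
    let Q : Subgroup (F.autGroup H) := (autInducedBy S H).subgroupOf (F.autGroup H)
    have hQn : Q.Normal := ⟨fun a ha b => by
      rw [show b * a = a * b from Subtype.ext (hcom b a), mul_inv_cancel_right]
      exact ha⟩
    have hQp : IsPGroup p Q :=
      (isPGroup_autInducedBy hS H).comap_of_injective _ (F.autGroup H).subtype_injective
    have hmem : (⟨t, htG⟩ : F.autGroup H) ∈ pCore p (F.autGroup H) :=
      CfsgLib.Solvable.le_pCore p hQn hQp htA
    rw [hrad, Subgroup.mem_bot] at hmem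
    exact ht1 (congrArg Subtype.val hmem)
  refine ⟨⟨hab', fun x hx => congrArg Subtype.val (hexp ⟨x, hx⟩)⟩, ?_⟩
  obtain ⟨c, hco, hts⟩ := exists_shear (F.autGroup H) hcard hexp htG htk
  obtain ⟨h, hh, hhc⟩ : ∃ h ∈ F.autGroup H, h c ∉ Subgroup.zpowers c := by
    by_contra hcon
    push Not at hcon
    let U := (TransvectionCentre.shear (F.autGroup H) c).subgroupOf (F.autGroup H)
    have hUn : U.Normal := ⟨fun a ha b => by
      obtain ⟨-, hbc, hbd⟩ := TransvectionCentre.conj_shear
        (show (a : MulAut H) ∈ TransvectionCentre.shear (F.autGroup H) c from ha) b.2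
      have hsub : Subgroup.zpowers ((b : MulAut H) c) ≤ Subgroup.zpowers c :=
        Subgroup.zpowers_le.2 (hcon _ b.2)
      obtain ⟨i, hi⟩ := Subgroup.mem_zpowers_iff.1 (TransvectionCentre.mem_zpowers_swap hco
        (hcon _ b.2) fun h1 => hp.one_lt.ne (by
          rw [← hco, (map_eq_one_iff _ (b : MulAut H).injective).1 h1, orderOf_one]))
      refine ⟨(b * a * b⁻¹).2, ?_, fun y => hsub (hbd y)⟩
      show ((b : MulAut H) * (a : MulAut H) * (b : MulAut H)⁻¹) c = c
      conv_lhs => rw [← hi]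
      rw [map_zpow, hbc, hi]⟩
    have hmem : (⟨t, htG⟩ : F.autGroup H) ∈ pCore p (F.autGroup H) :=
      CfsgLib.Solvable.le_pCore p hUn ((shear_isPGroup (F.autGroup H)
        (by rw [← hco, pow_orderOf_eq_one])).comap_of_injective _ (F.autGroup H).subtype_injective) hts
    rw [hrad, Subgroup.mem_bot] at hmem
    exact ht1 (congrArg Subtype.val hmem)
  have hu := TransvectionCentre.conj_shear hts hh
  have hfix : ∀ {s : MulAut H} {b d : H}, s b = b → d ∉ Subgroup.zpowers b → orderOf b = p → s d = d →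
      s = 1 := by
    intro s b d hb hd hbo hsd
    let K : Subgroup H := s.toMonoidHom.eqLocus (MonoidHom.id H)
    have htop : K = ⊤ := by
      have hlt : Subgroup.zpowers b < K :=
        SetLike.lt_iff_le_and_exists.2 ⟨Subgroup.zpowers_le.2 hb, d, hsd, hd⟩
      refine Subgroup.eq_top_of_le_card _ ?_
      obtain ⟨j, hj⟩ := IsPGroup.iff_card.1 ((isPGroup_of_le hS hH.1.1).to_subgroup K)
      have h1 : Nat.card (Subgroup.zpowers b) < Nat.card K := lt_of_not_ge fun hge =>
        hlt.ne (Subgroup.eq_of_le_of_card_ge hlt.le hge)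
      rw [Nat.card_zpowers, hbo, hj] at h1
      rw [hcard, hj]
      refine Nat.pow_le_pow_right hp.pos ?_
      by_contra hcon
      have h2 := Nat.pow_le_pow_right hp.pos (show j ≤ 1 by omega)
      rw [pow_one] at h2
      omega
    exact MulEquiv.ext fun y => (htop.ge (Subgroup.mem_top y) : y ∈ K)
  refine exists_sl_of_shears (F.autGroup H) hcard hexp hco hhc hts hu (fun e => ?_) fun e => ?_
  · exact ht1 (hfix hts.2.1 hhc hco e)
  · have hho : orderOf (h c) = p := by rw [MulEquiv.orderOf_eq, hco]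
    have h1 := hfix hu.2.1 (fun h' => hhc (TransvectionCentre.mem_zpowers_swap hho h'
      fun h'' => hp.one_lt.ne (by rw [← hco, h'', orderOf_one]))) hho e
    exact ht1 (conj_eq_one_iff.1 h1)

end CfsgLib.Fusion
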