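import Cfsg.Agent.Fusion.SmallCentre
import Cfsg.Agent.CharP.ResidualBasics
import Cfsg.Agent.Transfer.WielandtYoshidaApps

/-!
Trivial largest normal subgroup, hyperfocal subgroup `S` and a centre of index at most `p²`:
`S` is extraspecial of order `p³`.
-/

set_option autoImplicit false

open Cfsg Cfsg.FusionSystem
open scoped commutatorElement

namespace CfsgLib.Fusion.SmallCentre

universe u

variable {Ω : Type u} [Group Ω] {S : Subgroup Ω} {F : FusionSystem S} [Finite S] {p : ℕ}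
  [hp : Fact p.Prime]

/-- The restriction of an automorphism of `S` to `P`, and its image. -/
def resS (γ : MulAut S) {P : Subgroup Ω} (hP : P ≤ S) : P →* Ω :=
  (S.subtype.comp γ.toMonoidHom).comp (Subgroup.inclusion hP)

theorem resS_mem {γ : MulAut S} (hγ : γ ∈ F.autGroup S) {P : Subgroup Ω} (hP : P ≤ S) :
    resS γ hP ∈ F.Hom P :=
  restrict_mem ((autGroup_carrier le_rfl).1 hγ) hP

theorem isGood_of_essential (hS : IsPGroup p S) (hF : F.IsSaturated p) {P : Subgroup Ω}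
    (hP : F.IsEssential p P) : IsGood F P := by
  have hc := hP.1
  have hPS := hc.1
  have hfa := (good_of_fullyNormalized p hS hF hP.2.1).1
  obtain ⟨-, R, hR⟩ := hfa
  have hmoves : ¬ ∀ α ∈ F.autGroup P, ∀ τ ∈ autInducedBy S P, α * τ * α⁻¹ ∈ autInducedBy S P := by
    intro hall
    refine not_essential_of_normal_sylow p hP R (hR ▸ ⟨fun n hn g => ?_⟩)
    exact Subgroup.mem_subgroupOf.2 (hall g g.2 n (Subgroup.mem_subgroupOf.1 hn))
  have hne : P ≠ S := by
    intro he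
    obtain ⟨-, -, hn, -⟩ := id hP
    refine not_essential_of_normal_sylow p hP R (hR ▸ ?_)
    subst he
    rw [← inn_eq_autInducedBy]
    exact hn
  refine ⟨fun z hz => centralizer_mem_of_centric hc hz.1 fun y hy => (mem_zc.1 hz).2 y (hPS hy),
    hPS, hne, fun he => hne ?_, hmoves⟩
  refine le_antisymm hPS fun s hs => centralizer_mem_of_centric hc hs fun y hy => ?_
  exact ((mem_zc.1 (he.le hy)).2 s hs).symm

theorem IsGood.image {γ : MulAut S} (hγ : γ ∈ F.autGroup S) {P : Subgroup Ω} (h : IsGood F P) :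
    IsGood F (resS γ h.leS).range ∧ (orb F P).subgroupOf S =
      ((orb F (resS γ h.leS).range).subgroupOf S).comap γ.toMonoidHom := by
  have hφ := resS_mem hγ h.leS
  set Q := (resS γ h.leS).range with hQ
  have hQS : Q ≤ S := range_le_S hφ
  have := finite_of_le h.leS
  let e := isoRange (resS γ h.leS) (F.injective_of_mem hφ) (rfl : (resS γ h.leS).range = Q)
  have he : ∀ x : P, ((e x : Q) : Ω) = γ ⟨x, h.leS x.2⟩ := fun _ => rfl
  have hmap := map_autGroup_iso h.leS hφ e fun _ => rfl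
  have hz : ∀ z ∈ zc S, ∃ (x : P) (_ : (x : Ω) ∈ zc S), ((e x : Q) : Ω) = z := fun z hz => by
    have hz' := aut_mem_zc γ⁻¹ (x := ⟨z, hz.1⟩) hz
    refine ⟨⟨_, h.zle hz'⟩, hz', ?_⟩
    rw [he]
    exact congrArg Subtype.val (MulAut.apply_inv_self S γ ⟨z, hz.1⟩)
  have hcard : Nat.card Q = Nat.card P := card_range hφ
  refine ⟨⟨fun z hz' => ?_, hQS, fun hQS' => h.neS (eq_of_le_of_card_le le_rfl h.leS
    (by rw [← hcard, hQS'])), fun hQZ => h.neZ (eq_of_le_of_card_le h.leS h.zle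
    (by rw [← hcard, hQZ])).symm, fun hall => h.moves fun α hα τ hτ => ?_⟩, ?_⟩
  · obtain ⟨x, -, hx⟩ := hz z hz'
    exact hx ▸ (e x).2
  · obtain ⟨s, hs, hse⟩ := mem_autInducedBy.1 hτ
    have hτ' : MulAut.congr e τ ∈ autInducedBy S Q := by
      refine mem_autInducedBy.2 ⟨γ ⟨s, hs⟩, (γ ⟨s, hs⟩).2, fun y => ?_⟩
      obtain ⟨x, rfl⟩ := e.surjective y
      simp only [MulAut.congr_apply, MulEquiv.trans_apply, MulEquiv.symm_apply_apply, he]
      rw [← Subgroup.coe_inv, ← map_inv, ← Subgroup.coe_mul, ← map_mul, ← Subgroup.coe_mul,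
        ← map_mul]
      exact congrArg (fun z : S => ((γ z : S) : Ω)) (Subtype.ext (hse x))
    have h1 := hall _ (hmap.le ⟨α, hα, rfl⟩) _ hτ'
    change (MulAut.congr e) α * MulAut.congr e τ * ((MulAut.congr e) α)⁻¹ ∈ _ at h1
    rw [← map_inv, ← map_mul, ← map_mul] at h1
    obtain ⟨t, ht, hte⟩ := mem_autInducedBy.1 h1
    refine mem_autInducedBy.2 ⟨γ⁻¹ ⟨t, ht⟩, (γ⁻¹ ⟨t, ht⟩).2, fun x => ?_⟩
    have h2 := hte (e x)
    simp only [MulAut.congr_apply, MulEquiv.trans_apply, MulEquiv.symm_apply_apply, he] at h2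
    have h3 : γ ⟨_, h.leS ((α * τ * α⁻¹) x).2⟩ = ⟨t, ht⟩ * γ ⟨x, h.leS x.2⟩ * (⟨t, ht⟩ : S)⁻¹ :=
      Subtype.ext h2
    have h4 := congrArg (fun z : S => γ⁻¹ z) h3
    simp only [map_mul, map_inv, MulAut.inv_apply_self] at h4
    exact congrArg Subtype.val h4
  · ext x
    simp only [Subgroup.mem_subgroupOf, Subgroup.mem_comap, MulEquiv.coe_toMonoidHom, mem_orb]
    constructor
    · rintro ⟨hxP, hx⟩
      have hxe : ((e ⟨x, hxP⟩ : Q) : Ω) = γ x := (he _).trans rfl
      refine ⟨hxe ▸ (e ⟨x, hxP⟩).2, fun β hβ => ?_⟩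
      obtain ⟨α, hα, rfl⟩ := hmap.ge hβ
      rw [show (⟨(γ x : Ω), hxe ▸ (e ⟨x, hxP⟩).2⟩ : Q) = e ⟨x, hxP⟩ from Subtype.ext hxe.symm]
      show ((MulAut.congr e α (e ⟨x, hxP⟩) : Q) : Ω) ∈ _
      simp only [MulAut.congr_apply, MulEquiv.trans_apply, MulEquiv.symm_apply_apply, he]
      exact aut_mem_zc γ (x := ⟨_, h.leS (α ⟨x, hxP⟩).2⟩) (hx α hα)
    · rintro ⟨hxQ, hx⟩
      obtain ⟨x', hx'⟩ := e.surjective ⟨_, hxQ⟩
      have hxx : (x' : Ω) = x := by
        have := congrArg Subtype.val hx'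
        rw [he] at this
        exact congrArg Subtype.val (γ.injective (Subtype.ext this))
      refine ⟨hxx ▸ x'.2, fun α hα => ?_⟩
      have h1 := hx _ (hmap.le ⟨α, hα, rfl⟩)
      rw [← hx'] at h1
      simp only [MulEquiv.coe_toMonoidHom, MulAut.congr_apply, MulEquiv.trans_apply,
        MulEquiv.symm_apply_apply, he] at h1
      have h2 := aut_mem_zc γ⁻¹ h1
      rw [MulAut.inv_apply_self] at h2
      rw [show (⟨(x : Ω), hxx ▸ x'.2⟩ : P) = x' from Subtype.ext hxx.symm]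
      exact h2

/-- When the largest normal subgroup is trivial there are two good subgroups. -/
theorem exists_two_good (hS : IsPGroup p S) (hF : F.IsSaturated p) (hS1 : S ≠ ⊥)
    (hcore : F.core = ⊥) : ∃ A B, IsGood F A ∧ IsGood F B ∧ A ≠ B := by
  obtain ⟨A, hA⟩ : ∃ A, IsGood F A := by
    by_contra hcon
    push Not at hcon
    refine hS1 (le_bot_iff.1 (hcore ▸ le_core (isNormal_of_stronglyClosed p hS hF
      ⟨le_rfl, fun _ _ _ hφ x => apply_mem_S hφ x⟩ fun P hP => ?_)))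
    exact absurd (isGood_of_essential hS hF hP) (hcon P)
  by_contra hcon
  push Not at hcon
  have hall : ∀ P, IsGood F P → P = A := fun P hP => hcon P A hP hA
  have hn : F.IsNormal A := by
    refine isNormal_of_essential p hS hF (fun P hP => ?_) fun P hP α hα x hx => ?_
    · rcases hP with rfl | hP
      exacts [hA.leS, (hall P (isGood_of_essential hS hF hP)).ge]
    · rcases hP with rfl | hP
      · exact (hall _ (hA.image hα).1).le ⟨⟨x, hx⟩, rfl⟩
      · exact (hall P (isGood_of_essential hS hF hP)).le (α x).2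
  have hbot : A = ⊥ := le_bot_iff.1 (hcore ▸ le_core hn)
  exact hA.neZ (hbot.trans (le_bot_iff.1 (hbot ▸ hA.zle)).symm)

section main

variable (hidx : (Subgroup.center S).index = p ^ 2) (hna : ¬ IsMulCommutative S)
variable (hS : IsPGroup p S) (hF : F.IsSaturated p)

include hidx in
theorem IsGood.eq_of_mem {A B : Subgroup Ω} (hA : IsGood F A) (hB : IsGood F B) {x : Ω}
    (hxA : x ∈ A) (hxB : x ∈ B) (hx : x ∉ zc S) : A = B :=
  (hA.eq_sup hidx hxA hx).trans (hB.eq_sup hidx hxB hx).symm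

include hS hF in
/-- An automorphism whose `p`-th power fixes the centre fixes it. -/
theorem fix_zc {q : MulAut S} (hq : q ∈ F.autGroup S)
    (h : ∀ z : S, (z : Ω) ∈ zc S → (q ^ p) z = z) {z : S} (hz : (z : Ω) ∈ zc S) : q z = z := by
  have : Finite (MulAut S) := finite_mulAut
  obtain ⟨-, R, hR⟩ := (good_of_fullyNormalized p hS hF (isFullyNormalized_S (F := F))).1
  have hn : (R : Subgroup (F.autGroup S)).Normal := by
    rw [hR, ← inn_eq_autInducedBy]
    refine ⟨fun n hn g => ?_⟩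
    rw [Subgroup.mem_subgroupOf] at hn ⊢
    obtain ⟨s, hs⟩ := hn
    refine ⟨(g : MulAut S) s, ?_⟩
    rw [Subgroup.coe_mul, Subgroup.coe_mul, Subgroup.coe_inv, ← hs]
    refine MulEquiv.ext fun y => ?_
    simp
  have hfix : (q ^ (R : Subgroup (F.autGroup S)).index) z = z := by
    have h1 : (⟨q, hq⟩ : F.autGroup S) ^ (R : Subgroup (F.autGroup S)).index ∈
        (R : Subgroup (F.autGroup S)) := Subgroup.pow_index_mem _ _
    rw [hR] at h1
    obtain ⟨g, hg, hge⟩ := mem_autInducedBy.1 (Subgroup.mem_subgroupOf.1 h1)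
    rw [← hR] at hge
    have h3 := hge z
    rw [Subgroup.coe_pow, (mem_zc.1 hz).2 g hg, mul_inv_cancel_right] at h3
    exact Subtype.ext h3
  have hcop : p.Coprime (R : Subgroup (F.autGroup S)).index :=
    hp.out.coprime_iff_not_dvd.2 R.not_dvd_index
  let Z : Subgroup (MulAut S) := MulAction.stabilizer (MulAut S) z
  have h1 : q ^ p ∈ Z := h z hz
  have h2 : q ^ (R : Subgroup (F.autGroup S)).index ∈ Z := hfix
  obtain ⟨x, y, hxy⟩ := Int.isCoprime_iff_nat_coprime.2 (show Nat.Coprime (p : ℤ).natAbs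
    ((R : Subgroup (F.autGroup S)).index : ℤ).natAbs by simpa using hcop)
  have h3 : q ∈ Z := by
    have h4 := mul_mem (zpow_mem h1 x) (zpow_mem h2 y)
    rwa [← zpow_natCast, ← zpow_natCast, ← zpow_mul, ← zpow_mul, ← zpow_add,
      mul_comm (p : ℤ) x, mul_comm ((R : Subgroup (F.autGroup S)).index : ℤ) y, hxy, zpow_one] at h4
  exact h3

include hidx hna hS hF in
theorem orb_le_of_odd (h2' : p ≠ 2) {A B : Subgroup Ω} (hA : IsGood F A) (hB : IsGood F B) :
    orb F A ≤ orb F B := by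
  obtain ⟨-, hAs, hc, -, β, hβ, hβW, hβc⟩ := hA.data hidx hna hS hF
  obtain ⟨hBi, hBs, -, -, β', hβ', hβ'W, hβ'c⟩ := hB.data hidx hna hS hF
  have hcS : ⁅S, S⁆ ≤ zc S := comm_le_zc hidx hna
  have := finite_of_le (hcS.trans (inf_le_left : zc S ≤ S))
  have hdec : ∀ {W : Subgroup Ω}, W ⊔ ⁅S, S⁆ = zc S → ∀ z : S, (z : Ω) ∈ zc S →
      ∃ w r : S, (w : Ω) ∈ W ∧ (r : Ω) ∈ ⁅S, S⁆ ∧ z = w * r := by
    intro W hW z hz
    have hWz : W ≤ zc S := hW ▸ le_sup_left
    have hz' : (z : Ω) ∈ W ⊔ ⁅S, S⁆ := hW.symm ▸ hz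
    obtain ⟨w, hw, r, hr, e⟩ := (CfsgLib.Solvable.mem_sup_of_le_normalizer (A := W) (fun w hw =>
      mem_normalizer_of_conj_mem (hcS.trans inf_le_left) fun x hx => by
        rw [(mem_zc.1 (hcS hx)).2 w (hWz hw).1, mul_inv_cancel_right]
        exact hx)).1 hz'
    exact ⟨⟨w, (hWz hw).1⟩, ⟨r, (hcS hr).1⟩, hw, hr, Subtype.ext e.symm⟩
  set q := β'⁻¹ * β with hq
  have hqc : ∀ r : S, (r : Ω) ∈ ⁅S, S⁆ → q r = r := fun r hr => by
    rw [hq, MulAut.mul_apply, hβc r hr, map_inv]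
    have h1 := hβ'c r hr
    rw [show (β'⁻¹ : MulAut S) r = r⁻¹ from by
      have := congrArg (fun z => (β'⁻¹ : MulAut S) z) h1
      simp only [MulAut.inv_apply_self, map_inv] at this
      exact inv_eq_iff_eq_inv.1 this.symm]
    rw [inv_inv]
  have hpow : ∀ r : S, (r : Ω) ∈ ⁅S, S⁆ → r ^ p = 1 := fun r hr => by
    have : (⟨(r : Ω), hr⟩ : (⁅S, S⁆ : Subgroup Ω)) ^ Nat.card (⁅S, S⁆ : Subgroup Ω) = 1 :=
      pow_card_eq_one'
    rw [hc] at this
    exact Subtype.ext (congrArg (fun z : (⁅S, S⁆ : Subgroup Ω) => (z : Ω)) this)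
  have hqz : ∀ z : S, (z : Ω) ∈ zc S → ∃ r : S, (r : Ω) ∈ ⁅S, S⁆ ∧ q z = z * r := by
    intro z hz
    obtain ⟨v, r, hv, hr, rfl⟩ := hdec hAs z hz
    obtain ⟨v', r', hv', hr', rfl⟩ := hdec hBs v (orb_le_zc hv)
    refine ⟨(r' ^ 2)⁻¹, inv_mem (pow_mem hr' 2), ?_⟩
    have hinv : ∀ u : S, (u : Ω) ∈ orb F B → (β'⁻¹ : MulAut S) u = u := fun u hu => by
      conv_lhs => rw [← hβ'W u hu]
      exact MulAut.inv_apply_self S β' u
    have hinvc : (β'⁻¹ : MulAut S) r' = r'⁻¹ := by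
      have := congrArg (fun z => (β'⁻¹ : MulAut S) z) (hβ'c r' hr')
      simp only [MulAut.inv_apply_self, map_inv] at this
      exact inv_eq_iff_eq_inv.1 this.symm
    rw [map_mul, hqc r hr, hq, MulAut.mul_apply, hβW _ hv, map_mul, hinv v' hv', hinvc]
    have hr0 : ∀ y : S, Commute y r' := fun y =>
      Subtype.ext ((mem_zc.1 (hcS hr')).2 (y : Ω) y.2)
    rw [mul_assoc (v' * r') r, ((hr0 r).pow_right 2).inv_right.eq]
    group
  have hqfix : ∀ z : S, (z : Ω) ∈ zc S → q z = z := fun z hz => by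
    refine fix_zc hS hF (mul_mem (inv_mem hβ') hβ) (fun z hz => ?_) hz
    obtain ⟨r, hr, hzr⟩ := hqz z hz
    have hn : ∀ n : ℕ, (q ^ n) z = z * r ^ n := by
      intro n
      induction n with
      | zero => simp
      | succ n ih =>
        rw [pow_succ', MulAut.mul_apply, ih, map_mul, map_pow, hqc r hr, hzr, mul_assoc, pow_succ']
    rw [hn p, hpow r hr, mul_one]
  intro x hx
  have hxS := (orb_le_zc hx).1
  obtain ⟨v', r', hv', hr', hxe⟩ := hdec hBs ⟨x, hxS⟩ (orb_le_zc hx)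
  have h1 := hqfix ⟨x, hxS⟩ (orb_le_zc hx)
  rw [hq, MulAut.mul_apply, hβW ⟨x, hxS⟩ hx] at h1
  have h2 := congrArg (fun z => β' z) h1
  simp only [MulAut.apply_inv_self] at h2
  rw [hxe, map_mul, hβ'W v' hv', hβ'c r' hr', mul_right_inj] at h2
  have h3 : r' ^ 2 = 1 := by
    rw [pow_two]
    conv_lhs => arg 1; rw [h2]
    exact inv_mul_cancel r'
  have h4 : r' = 1 := by
    rw [← orderOf_eq_one_iff]
    exact Nat.eq_one_of_dvd_coprimes ((Nat.coprime_primes hp.out Nat.prime_two).2 h2')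
      (orderOf_dvd_of_pow_eq_one (hpow r' hr')) (orderOf_dvd_of_pow_eq_one h3)
  rw [h4, mul_one] at hxe
  rw [show x = (v' : Ω) from congrArg Subtype.val hxe]
  exact hv'

omit [Finite S] in
theorem zpow_two_cases {a : Ω} (h : a ^ 2 = 1) (i : ℤ) : a ^ i = 1 ∨ a ^ i = a := by
  obtain ⟨k, rfl | rfl⟩ := Int.even_or_odd' i
  · left; rw [zpow_mul, zpow_ofNat, h, one_zpow]
  · right; rw [zpow_add, zpow_mul, zpow_ofNat, h, one_zpow, one_mul, zpow_one]

omit [Finite S] in
theorem mul_mem_of_relIndex_two {H K : Subgroup Ω} (h : H.relIndex K = 2) {x y : Ω} (hxK : x ∈ K)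
    (hyK : y ∈ K) (hx : x ∉ H) (hy : y ∉ H) : x * y ∈ H := by
  have := (Subgroup.mul_mem_iff_of_index_two (H := H.subgroupOf K) h (a := ⟨x, hxK⟩)
    (b := ⟨y, hyK⟩)).2 (by simp [Subgroup.mem_subgroupOf, hx, hy])
  simpa [Subgroup.mem_subgroupOf] using this

include hidx hna hS hF in
theorem good_cases_two (h2 : p = 2) {A B C : Subgroup Ω} (hA : IsGood F A) (hB : IsGood F B)
    (hAB : A ≠ B) (hC : IsGood F C) : C = A ∨ C = B := by
  obtain ⟨hAi, hAs, hc, ⟨a, haA, ha, hap, -, -⟩, -⟩ := hA.data hidx hna hS hF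
  obtain ⟨-, -, -, ⟨b, hbB, hb, hbp, -, -⟩, -⟩ := hB.data hidx hna hS hF
  obtain ⟨-, -, -, ⟨e, heC, he, hep, -, -⟩, -⟩ := hC.data hidx hna hS hF
  rw [h2] at hap hbp hep
  by_contra hcon
  push Not at hcon
  have hbA : b ∉ A := fun h => hAB (hA.eq_of_mem hidx hB h hbB hb)
  have heA : e ∉ A := fun h => hcon.1 (hC.eq_of_mem hidx hA heC h he)
  have heB : e ∉ B := fun h => hcon.2 (hC.eq_of_mem hidx hB heC h he)
  have hbS := hB.leS hbB
  have heS := hC.leS heC
  have hx : e * b ∈ A := mul_mem_of_relIndex_two ((hA.index_eq hidx).2.trans h2) heS hbS heA hbA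
  have hxz : e * b ∉ zc S := fun h => heB (by
    have := mul_mem (hB.zle h) (inv_mem hbB)
    rwa [mul_inv_cancel_right] at this)
  have hz : e * b * a ∈ zc S :=
    mul_mem_of_relIndex_two ((hA.index_eq hidx).1.trans h2) hx haA hxz ha
  have haS := hA.leS haA
  have hai : a⁻¹ = a := inv_eq_of_mul_eq_one_right (by rw [← pow_two, hap])
  have hbi : b⁻¹ = b := inv_eq_of_mul_eq_one_right (by rw [← pow_two, hbp])
  set z := e * b * a with hzdef
  have hez : e = z * (a * b) := by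
    rw [hzdef, ← mul_assoc, mul_assoc (e * b), ← pow_two, hap, mul_one, mul_assoc, ← pow_two, hbp,
      mul_one]
  have hzc := (mem_zc.1 hz).2
  have hab : (a * b) * (a * b) = ⁅a, b⁆ := by rw [commutatorElement_def, hai, hbi]; group
  have hcS : ⁅a, b⁆ ∈ ⁅S, S⁆ := Subgroup.commutator_mem_commutator haS hbS
  have hsq : z * z * ⁅a, b⁆ = 1 := by
    rw [← hab]
    rw [pow_two, hez, mul_assoc, ← mul_assoc (a * b) z, hzc _ (mul_mem haS hbS)] at hep
    rw [← hep]
    group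
  have hne : ⁅a, b⁆ ≠ 1 := by
    intro h1
    refine ha (mem_zc.2 ⟨haS, fun y hy => ?_⟩)
    have hle : A ⊔ Subgroup.zpowers b ≤ Subgroup.centralizer ({a} : Set Ω) := by
      refine sup_le (fun w hw => Subgroup.mem_centralizer_iff.2 ?_) (Subgroup.zpowers_le.2 ?_)
      · rintro _ rfl; exact hA.comm hidx _ haA _ hw
      · refine Subgroup.mem_centralizer_iff.2 fun _ e' => ?_
        rw [Set.mem_singleton_iff.1 e']
        exact commutatorElement_eq_one_iff_mul_comm.1 h1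
    exact (Subgroup.mem_centralizer_iff.1 (hle ((hA.sup_eq_S hidx hbS hbA).ge hy)) a rfl).symm
  have hcle := comm_le_zc hidx hna
  have hWn : orb F A ≤ Subgroup.normalizer ((⁅S, S⁆ : Subgroup Ω) : Set Ω) := fun w hw =>
    mem_normalizer_of_conj_mem (hcle.trans inf_le_left) fun x hx => by
      rw [(mem_zc.1 (hcle hx)).2 w (orb_le_zc hw).1, mul_inv_cancel_right]
      exact hx
  obtain ⟨w, hw, r, hr, hwr⟩ := (CfsgLib.Solvable.mem_sup_of_le_normalizer hWn).1 (hAs.ge hz)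
  have hrr : r * r = 1 := by
    have : (⟨r, hr⟩ : (⁅S, S⁆ : Subgroup Ω)) ^ Nat.card (⁅S, S⁆ : Subgroup Ω) = 1 :=
      pow_card_eq_one'
    rw [hc, h2, pow_two] at this
    exact congrArg (fun y : (⁅S, S⁆ : Subgroup Ω) => (y : Ω)) this
  have hzz : z * z = w * w := by
    rw [← hwr, mul_assoc, ← mul_assoc r w, ← (mem_zc.1 (hcle hr)).2 w (orb_le_zc hw).1,
      mul_assoc w r r, hrr, mul_one]
  rw [hzz, mul_eq_one_iff_eq_inv] at hsq
  have hmem : w * w ∈ orb F A ⊓ ⁅S, S⁆ := ⟨mul_mem hw hw, hsq ▸ Subgroup.inv_mem _ hcS⟩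
  rw [hAi, Subgroup.mem_bot] at hmem
  rw [hmem] at hsq
  exact hne (inv_eq_one.1 hsq.symm)

theorem IsGood.image_apply {γ : MulAut S} (hγ : γ ∈ F.autGroup S) {P : Subgroup Ω} (h : IsGood F P)
    {α : MulAut P} (hα : α ∈ F.autGroup P) (x : P) :
    ∃ (α' : MulAut (resS γ h.leS).range) (y : (resS γ h.leS).range),
      α' ∈ F.autGroup (resS γ h.leS).range ∧ (y : Ω) = γ ⟨x, h.leS x.2⟩ ∧
      ((α' y : (resS γ h.leS).range) : Ω) = γ ⟨(α x : P), h.leS (α x).2⟩ := by
  have hφ := resS_mem hγ h.leS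
  have := finite_of_le h.leS
  let e := isoRange (resS γ h.leS) (F.injective_of_mem hφ)
    (rfl : (resS γ h.leS).range = (resS γ h.leS).range)
  have he : ∀ x : P, ((e x : (resS γ h.leS).range) : Ω) = γ ⟨x, h.leS x.2⟩ := fun _ => rfl
  refine ⟨_, e x, (map_autGroup_iso h.leS hφ e fun _ => rfl).le ⟨α, hα, rfl⟩, he x, ?_⟩
  simp only [MulEquiv.coe_toMonoidHom, MulAut.congr_apply, MulEquiv.trans_apply,
    MulEquiv.symm_apply_apply, he]

include hidx hna hS hF in
theorem orb_le_of_two (h2 : p = 2) (hhyp : F.hyperfocalSubgroup p = S) {A B : Subgroup Ω}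
    (hA : IsGood F A) (hB : IsGood F B) (hAB : A ≠ B) : orb F A ≤ orb F B := by
  obtain ⟨hAi, hAs, hc, ⟨a, haA, ha, hap, ⟨αa, xa, hαa, hxa, haeq⟩, hAd⟩, -⟩ :=
    hA.data hidx hna hS hF
  obtain ⟨hBi, hBs, -, ⟨b, hbB, hb, hbp, ⟨αb, xb, hαb, hxb, hbeq⟩, hBd⟩, -⟩ :=
    hB.data hidx hna hS hF
  rw [h2] at hap hbp
  have hcle := comm_le_zc hidx hna
  have hn_of : ∀ {N : Subgroup Ω}, ⁅S, S⁆ ≤ N → N ≤ S → S ≤ Subgroup.normalizer (N : Set Ω) :=
    fun hc' hNS g hg => mem_normalizer_of_conj_mem hNS fun x hx => by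
      have := mul_mem (hc' (Subgroup.commutator_mem_commutator hg (hNS hx))) hx
      simpa [commutatorElement_def] using this
  set N₀ := orb F A ⊓ orb F B ⊔ ⁅S, S⁆ with hN₀
  have hN₀z : N₀ ≤ zc S := sup_le (inf_le_left.trans orb_le_zc) hcle
  set M := N₀ ⊔ Subgroup.zpowers a ⊔ Subgroup.zpowers b with hM
  have hN₀M : N₀ ≤ M := le_sup_left.trans le_sup_left
  have hcM : ⁅S, S⁆ ≤ M := le_sup_right.trans hN₀M
  have haM : a ∈ M := Subgroup.mem_sup_left (Subgroup.mem_sup_right (Subgroup.mem_zpowers a))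
  have hbM : b ∈ M := Subgroup.mem_sup_right (Subgroup.mem_zpowers b)
  have haS := hA.leS haA
  have hbS := hB.leS hbB
  have hMS : M ≤ S := sup_le (sup_le (hN₀z.trans inf_le_left) (Subgroup.zpowers_le.2 haS))
    (Subgroup.zpowers_le.2 hbS)
  have hMn := hn_of hcM hMS
  have hbA : b ∉ A := fun h => hAB (hA.eq_of_mem hidx hB h hbB hb)
  -- orbits of the derived subgroup
  have horbit : ∀ {C : Subgroup Ω}, C = A ∨ C = B → ∀ {α : MulAut C}, α ∈ F.autGroup C →
      ∀ x : C, (x : Ω) ∈ ⁅S, S⁆ → ((α x : C) : Ω) ∈ M := by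
    intro C hC α hα x hx
    have hkey : ∀ {C : Subgroup Ω} {a : Ω} (hCS : C ≤ S), a ∈ M →
        (∀ α ∈ F.autGroup C, ∃ β ∈ F.autGroup S, ∀ x : C,
          ((β ⟨x, hCS x.2⟩ : S) : Ω)⁻¹ * ((α x : C) : Ω) ∈ ⁅S, S⁆ ⊔ Subgroup.zpowers a) →
        ∀ {α : MulAut C}, α ∈ F.autGroup C → ∀ x : C, (x : Ω) ∈ ⁅S, S⁆ → ((α x : C) : Ω) ∈ M := by
      intro C a hCS ha hd α hα x hx
      obtain ⟨β, hβ, hβe⟩ := hd α hα
      have h1 : ((β ⟨x, hCS x.2⟩ : S) : Ω) ∈ M := hcM (aut_mem_comm β hx)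
      have := mul_mem h1 ((sup_le hcM (Subgroup.zpowers_le.2 ha) : _ ≤ M) (hβe x))
      rwa [mul_inv_cancel_left] at this
    rcases hC with rfl | rfl
    exacts [hkey hA.leS haM hAd hα x hx, hkey hB.leS hbM hBd hα x hx]
  -- automorphisms of `S`
  have hS_disp : ∀ γ ∈ F.autGroup S, ∀ x : S, (x : Ω)⁻¹ * ((γ x : S) : Ω) ∈ M := by
    intro γ hγ
    have hperm : ∀ γ ∈ F.autGroup S, ∀ x : S, (x : Ω) ∈ N₀ → ((γ x : S) : Ω) ∈ N₀ := by
      intro γ hγ x hx
      have hmem : ∀ y : S, (y : Ω) ∈ orb F A ⊓ orb F B →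
          ((γ y : S) : Ω) ∈ orb F A ⊓ orb F B := by
        intro y hy
        obtain ⟨hgA, heA⟩ := hA.image hγ
        obtain ⟨hgB, heB⟩ := hB.image hγ
        have hne : (resS γ hA.leS).range ≠ (resS γ hB.leS).range := by
          intro he
          refine hAB (hA.eq_of_mem hidx hB haA ?_ ha)
          obtain ⟨⟨w, hw⟩, hwe⟩ := he.le ⟨⟨a, haA⟩, rfl⟩
          have hwa : γ ⟨w, hB.leS hw⟩ = γ ⟨a, hA.leS haA⟩ := Subtype.ext hwe
          rw [show a = w from (congrArg Subtype.val (γ.injective hwa)).symm]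
          exact hw
        have h1 : ((γ y : S) : Ω) ∈ orb F (resS γ hA.leS).range :=
          (heA.le (Subgroup.mem_subgroupOf.2 hy.1) : _)
        have h2' : ((γ y : S) : Ω) ∈ orb F (resS γ hB.leS).range :=
          (heB.le (Subgroup.mem_subgroupOf.2 hy.2) : _)
        rcases good_cases_two hidx hna hS hF h2 hA hB hAB hgA with e1 | e1 <;>
          rcases good_cases_two hidx hna hS hF h2 hA hB hAB hgB with e2 | e2
        · exact absurd (e1.trans e2.symm) hne
        · exact ⟨e1 ▸ h1, e2 ▸ h2'⟩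
        · exact ⟨e2 ▸ h2', e1 ▸ h1⟩
        · exact absurd (e1.trans e2.symm) hne
      have hle : N₀ ≤ ((N₀.subgroupOf S).comap γ.toMonoidHom).map S.subtype := by
        refine sup_le (fun w hw => ⟨⟨w, (orb_le_zc hw.1).1⟩,
          Subgroup.mem_sup_left (hmem ⟨w, (orb_le_zc hw.1).1⟩ hw), rfl⟩)
          fun w hw => ⟨⟨w, (hcle hw).1⟩,
            Subgroup.mem_sup_right (aut_mem_comm γ (x := ⟨w, (hcle hw).1⟩) hw), rfl⟩
      obtain ⟨y, hy, hyx⟩ := hle hx
      obtain rfl : y = x := Subtype.ext hyx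
      exact hy
    have htwo : ∀ x ∈ zc S, x ∉ N₀ → ∀ y ∈ zc S, y ∉ N₀ → x⁻¹ * y ∈ N₀ := by
      have hWn : ∀ {W : Subgroup Ω}, W ≤ zc S →
          W ≤ Subgroup.normalizer ((⁅S, S⁆ : Subgroup Ω) : Set Ω) := fun hW w hw =>
        mem_normalizer_of_conj_mem (hcle.trans inf_le_left) fun x hx => by
          rw [(mem_zc.1 (hcle hx)).2 w (hW hw).1, mul_inv_cancel_right]
          exact hx
      have hdec : ∀ x ∈ zc S, x ∉ N₀ → ∃ u ∈ orb F B, ∃ c' ∈ ⁅S, S⁆, c' ≠ 1 ∧
          ∃ r ∈ ⁅S, S⁆, u * c' ∈ orb F A ∧ x = u * c' * r := by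
        intro x hx hxN
        obtain ⟨w, hw, r, hr, hwr⟩ :=
          (CfsgLib.Solvable.mem_sup_of_le_normalizer (hWn orb_le_zc)).1 (hAs.ge hx)
        obtain ⟨u, hu, c', hc', huc⟩ :=
          (CfsgLib.Solvable.mem_sup_of_le_normalizer (hWn orb_le_zc)).1 (hBs.ge (orb_le_zc hw))
        refine ⟨u, hu, c', hc', fun h1 => hxN ?_, r, hr, huc ▸ hw, by rw [huc, hwr]⟩
        rw [h1, mul_one] at huc
        exact hwr ▸ mul_mem (Subgroup.mem_sup_left ⟨hw, huc ▸ hu⟩) (Subgroup.mem_sup_right hr)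
      intro x hx hxN y hy hyN
      obtain ⟨u, hu, c₁, hc₁, hc₁1, r, hr, huA, rfl⟩ := hdec x hx hxN
      obtain ⟨u', hu', c₂, hc₂, hc₂1, r', hr', hu'A, rfl⟩ := hdec y hy hyN
      have hcc : c₁ = c₂ := by
        have := finite_of_le (hcle.trans (inf_le_left : zc S ≤ S))
        obtain ⟨c₀, -, hc₀⟩ := (Nat.card_eq_two_iff' (1 : (⁅S, S⁆ : Subgroup Ω))).1
          (hc.trans h2)
        exact congrArg Subtype.val ((hc₀ ⟨c₁, hc₁⟩ fun h => hc₁1 (congrArg Subtype.val h)).trans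
          (hc₀ ⟨c₂, hc₂⟩ fun h => hc₂1 (congrArg Subtype.val h)).symm)
      subst hcc
      have hzc' := fun {v : Ω} (hv : v ∈ zc S) {w : Ω} (hw : w ∈ S) => (mem_zc.1 hv).2 w hw
      have huS := (orb_le_zc hu).1
      have hu'S := (orb_le_zc hu').1
      have hd : (u * c₁)⁻¹ * (u' * c₁) = u⁻¹ * u' := by
        rw [mul_inv_rev, mul_assoc, ← mul_assoc u⁻¹,
          hzc' (hcle hc₁) (mul_mem (Subgroup.inv_mem _ huS) hu'S), inv_mul_cancel_left]
      have hmem : u⁻¹ * u' ∈ orb F A ⊓ orb F B :=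
        ⟨hd ▸ mul_mem (Subgroup.inv_mem _ huA) hu'A, mul_mem (Subgroup.inv_mem _ hu) hu'⟩
      rw [mul_inv_rev, mul_assoc r⁻¹, ← mul_assoc (u * c₁)⁻¹ (u' * c₁), hd]
      exact mul_mem (Subgroup.mem_sup_right (Subgroup.inv_mem _ hr))
        (mul_mem (Subgroup.mem_sup_left hmem) (Subgroup.mem_sup_right hr'))
    let D : Subgroup S :=
      { carrier := {x | (x : Ω)⁻¹ * ((γ x : S) : Ω) ∈ M}
        one_mem' := by simp
        mul_mem' := fun {u v} hu hv => by
          have h1 : (v : Ω)⁻¹ * ((u : Ω)⁻¹ * ((γ u : S) : Ω)) * ((v : Ω)⁻¹)⁻¹ ∈ M :=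
            (Subgroup.mem_normalizer_iff.1 (hMn (inv_mem v.2)) _).1 hu
          have := mul_mem h1 hv
          simpa [mul_assoc] using this
        inv_mem' := fun {u} hu => by
          have h1 := (Subgroup.mem_normalizer_iff.1 (hMn u.2) _).1 (inv_mem hu)
          simpa [mul_assoc] using h1 }
    have hgen : ∀ {P : Subgroup Ω} (hP : IsGood F P) {α : MulAut P} (_ : α ∈ F.autGroup P)
        (x : P) (_ : (x : Ω) ∈ ⁅S, S⁆) (_ : ((α x : P) : Ω) ∈ M),
        (⟨(α x : P), hP.leS (α x).2⟩ : S) ∈ D := by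
      intro P hP α hα x hx hαM
      obtain ⟨α', y, hα', hy, hy'⟩ := hP.image_apply hγ hα x
      show ((α x : P) : Ω)⁻¹ * _ ∈ M
      rw [← hy']
      refine mul_mem (inv_mem hαM) (horbit (good_cases_two hidx hna hS hF h2 hA hB hAB
        (hP.image hγ).1) hα' y ?_)
      rw [hy]
      exact aut_mem_comm γ hx
    intro x
    suffices hx : x ∈ D from hx
    have hle : zc S ⊔ Subgroup.zpowers a ⊔ Subgroup.zpowers b ≤ D.map S.subtype := by
      refine sup_le (sup_le (fun z hz => ⟨⟨z, hz.1⟩, ?_, rfl⟩)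
        (Subgroup.zpowers_le.2 ⟨⟨a, haS⟩, ?_, rfl⟩)) (Subgroup.zpowers_le.2 ⟨⟨b, hbS⟩, ?_, rfl⟩)
      · refine hN₀M ?_
        by_cases hzN : z ∈ N₀
        · exact mul_mem (inv_mem hzN) (hperm γ hγ ⟨z, hz.1⟩ hzN)
        · refine htwo z hz hzN _ (aut_mem_zc γ (x := ⟨z, hz.1⟩) hz) fun h => hzN ?_
          have := hperm γ⁻¹ (inv_mem hγ) _ h
          simpa using this
      · have := hgen hA hαa xa hxa (haeq ▸ haM)
        rwa [show (⟨a, haS⟩ : S) = ⟨((αa xa : A) : Ω), hA.leS (αa xa).2⟩ from Subtype.ext haeq]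
      · have := hgen hB hαb xb hxb (hbeq ▸ hbM)
        rwa [show (⟨b, hbS⟩ : S) = ⟨((αb xb : B) : Ω), hB.leS (αb xb).2⟩ from Subtype.ext hbeq]
    obtain ⟨y, hy, hyx⟩ := hle (show (x : Ω) ∈ zc S ⊔ Subgroup.zpowers a ⊔ Subgroup.zpowers b by
      rw [← hA.eq_sup hidx haA ha, hA.sup_eq_S hidx hbS hbA]; exact x.2)
    rwa [show x = y from Subtype.ext hyx.symm]
  have hfoc : F.focalSubgroup ≤ M := by
    refine focalSubgroup_le_of_aut p hS hF hcM fun P hP α hα x => ?_
    rcases hP with rfl | hP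
    · exact hS_disp α hα x
    · have hkey : ∀ {C : Subgroup Ω} {a : Ω} (hCS : C ≤ S), a ∈ M →
          (∀ α ∈ F.autGroup C, ∃ β ∈ F.autGroup S, ∀ x : C,
            ((β ⟨x, hCS x.2⟩ : S) : Ω)⁻¹ * ((α x : C) : Ω) ∈ ⁅S, S⁆ ⊔ Subgroup.zpowers a) →
          ∀ α ∈ F.autGroup C, ∀ x : C, (x : Ω)⁻¹ * ((α x : C) : Ω) ∈ M := by
        intro C a hCS ha hd α hα x
        obtain ⟨β, hβ, hβe⟩ := hd α hα
        have := mul_mem (hS_disp β hβ ⟨x, hCS x.2⟩)
          ((sup_le hcM (Subgroup.zpowers_le.2 ha) : _ ≤ M) (hβe x))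
        simpa [mul_assoc] using this
      rcases good_cases_two hidx hna hS hF h2 hA hB hAB (isGood_of_essential hS hF hP) with e | e
      · subst e; exact hkey hA.leS haM hAd α hα x
      · subst e; exact hkey hB.leS hbM hBd α hα x
  have hzN : zc S ≤ N₀ := by
    intro z hz
    have hzM : z ∈ M := hfoc (hyperfocal_le_focal p (hhyp.symm ▸ hz.1))
    set N₁ := N₀ ⊔ Subgroup.zpowers a with hN₁
    have hN₁A : N₁ ≤ A := sup_le (hN₀z.trans hA.zle) (Subgroup.zpowers_le.2 haA)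
    have hbn : Subgroup.zpowers b ≤ Subgroup.normalizer (N₁ : Set Ω) := Subgroup.zpowers_le.2
      (hn_of (le_sup_right.trans le_sup_left) (hN₁A.trans hA.leS) hbS)
    have han : Subgroup.zpowers a ≤ Subgroup.normalizer (N₀ : Set Ω) := Subgroup.zpowers_le.2
      (hn_of le_sup_right (hN₀z.trans inf_le_left) haS)
    rw [hM, sup_comm] at hzM
    obtain ⟨_, ⟨i, rfl⟩, n, hn, e⟩ := (CfsgLib.Solvable.mem_sup_of_le_normalizer hbn).1 hzM
    rcases zpow_two_cases hbp i with hi | hi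
    · simp only [hi, one_mul] at e
      subst e
      rw [hN₁, sup_comm] at hn
      obtain ⟨_, ⟨j, rfl⟩, m, hm, e'⟩ := (CfsgLib.Solvable.mem_sup_of_le_normalizer han).1 hn
      rcases zpow_two_cases hap j with hj | hj
      · simp only [hj, one_mul] at e'
        exact e' ▸ hm
      · simp only [hj] at e'
        refine absurd ?_ ha
        rw [show a = n * m⁻¹ by rw [← e', mul_inv_cancel_right]]
        exact mul_mem hz (inv_mem (hN₀z hm))
    · simp only [hi] at e
      refine absurd ?_ hbA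
      rw [show b = z * n⁻¹ by rw [← e, mul_inv_cancel_right]]
      exact mul_mem (hA.zle hz) (inv_mem (hN₁A hn))
  intro w hw
  have hWn : orb F A ⊓ orb F B ≤ Subgroup.normalizer ((⁅S, S⁆ : Subgroup Ω) : Set Ω) :=
    fun v hv => mem_normalizer_of_conj_mem (hcle.trans inf_le_left) fun x hx => by
      rw [(mem_zc.1 (hcle hx)).2 v (orb_le_zc hv.1).1, mul_inv_cancel_right]
      exact hx
  obtain ⟨k, hk, r, hr, hkr⟩ :=
    (CfsgLib.Solvable.mem_sup_of_le_normalizer hWn).1 (hzN (orb_le_zc hw))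
  have hr1 : r ∈ orb F A ⊓ ⁅S, S⁆ := by
    refine ⟨?_, hr⟩
    rw [show r = k⁻¹ * w by rw [← hkr, inv_mul_cancel_left]]
    exact mul_mem (Subgroup.inv_mem _ hk.1) hw
  rw [hAi, Subgroup.mem_bot] at hr1
  rw [hr1, mul_one] at hkr
  exact hkr ▸ hk.2

end main

/-- The theorem. -/
theorem small_centre (hS : IsPGroup p S) (hF : F.IsSaturated p) (hS1 : S ≠ ⊥) (hcore : F.core = ⊥)
    (hhyp : F.hyperfocalSubgroup p = S) (hZ : (Subgroup.center S).index ≤ p ^ 2) :
    IsExtraspecial p S ∧ Nat.card S = p ^ 3 ∧ (p ≠ 2 → Monoid.exponent S = p) ∧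
      (p = 2 → Nonempty (S ≃* DihedralGroup 4)) := by
  have hna : ¬ IsMulCommutative S := fun hab => hS1 (le_bot_iff.1 (hcore ▸
    le_core (isNormal_of_abelian p hS hF ⟨le_rfl, fun _ _ _ hφ x => apply_mem_S hφ x⟩ hab)))
  have hidx : (Subgroup.center S).index = p ^ 2 := by
    obtain ⟨k, hk⟩ := hS.index (Subgroup.center S)
    rw [hk] at hZ ⊢
    have hk2 : k ≤ 2 := (Nat.pow_le_pow_iff_right hp.out.one_lt).1 hZ
    by_contra hne
    have hk1 : k ≤ 1 := by
      by_contra h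
      exact hne (by rw [show k = 2 by omega])
    refine hna ?_
    have : IsCyclic (S ⧸ Subgroup.center S) := by
      rcases Nat.le_one_iff_eq_zero_or_eq_one.1 hk1 with rfl | rfl
      · have : Subsingleton (S ⧸ Subgroup.center S) := (Nat.card_eq_one_iff_unique.1
          (by rw [← Subgroup.index_eq_card, hk, pow_zero])).1
        infer_instance
      · exact isCyclic_of_prime_card (p := p) (by rw [← Subgroup.index_eq_card, hk, pow_one])
    exact (QuotientGroup.mk' (Subgroup.center S)).isMulCommutative_of_isCyclic_of_ker_le_center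
      (by rw [QuotientGroup.ker_mk'])
  obtain ⟨A, B, hA, hB, hAB⟩ := exists_two_good hS hF hS1 hcore
  have horb : ∀ {C D : Subgroup Ω}, IsGood F C → IsGood F D → orb F C ≤ orb F D := by
    intro C D hC hD
    by_cases h2 : p = 2
    · rcases eq_or_ne C D with rfl | hne
      · exact le_rfl
      · exact orb_le_of_two hidx hna hS hF h2 hhyp hC hD hne
    · exact orb_le_of_odd hidx hna hS hF h2 hC hD
  have hWbot : orb F A = ⊥ := by
    refine le_bot_iff.1 (hcore ▸ le_core (isNormal_of_essential p hS hF (fun P hP => ?_)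
      fun P hP α hα x hx => ?_))
    · rcases hP with rfl | hP
      · exact orb_le_zc.trans inf_le_left
      · exact (orb_le_zc.trans (isGood_of_essential hS hF hP).zle)
    · rcases hP with rfl | hP
      · obtain ⟨hg, he⟩ := hA.image hα
        exact horb hg hA (he.le (Subgroup.mem_subgroupOf.2 hx) : _)
      · have hPg := isGood_of_essential hS hF hP
        exact horb hPg hA (orb_invariant hα (horb hA hPg hx))
  obtain ⟨-, hAs, hc, ⟨a, haA, ha, hap, -, -⟩, -⟩ := hA.data hidx hna hS hF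
  obtain ⟨-, -, -, ⟨b, hbB, hb, hbp, -, -⟩, -⟩ := hB.data hidx hna hS hF
  rw [hWbot, bot_sup_eq] at hAs
  have hbA : b ∉ A := fun h => hAB (hA.eq_of_mem hidx hB h hbB hb)
  have haS := hA.leS haA
  have hbS := hB.leS hbB
  have hcenter : commutator S = Subgroup.center S := by
    rw [← zc_subgroupOf, ← hAs]
    have e : ⁅S, S⁆ = (commutator S).map S.subtype := by
      rw [_root_.commutator_def, Subgroup.map_commutator, ← MonoidHom.range_eq_map,
        Subgroup.range_subtype]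
    rw [e, Subgroup.subgroupOf, Subgroup.comap_map_eq_self_of_injective S.subtype_injective]
  have hcardZ : Nat.card (Subgroup.center S) = p := by
    have hzS : zc S ≤ S := fun x hx => hx.1
    rw [← zc_subgroupOf, Nat.card_congr (Subgroup.subgroupOfEquivOfLe hzS).toEquiv, ← hAs, hc]
  have hcard : Nat.card S = p ^ 3 := by
    rw [← Subgroup.card_mul_index (Subgroup.center S), hcardZ, hidx, ← pow_succ']
  have hfr : frattini S = Subgroup.center S := by
    have := hS.isNilpotent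
    refine le_antisymm ?_ (hcenter ▸ CfsgLib.ResidualBasics.commutator_le_frattini_of_nilpotent S)
    have hcoA : ∀ {C : Subgroup Ω}, IsGood F C → frattini S ≤ C.subgroupOf S := fun {C} hC =>
      frattini_le_coatom (CfsgLib.WY.isCoatom_of_index_prime hp.out (hC.index_eq hidx).2)
    intro x hx
    rw [← zc_subgroupOf]
    by_contra hxz
    exact hAB (hA.eq_of_mem hidx hB (hcoA hA hx) (hcoA hB hx) hxz)
  refine ⟨⟨⟨hS, hfr, hcenter⟩, hcardZ⟩, hcard, fun h2 => ?_, fun h2 => ?_⟩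
  · have hodd : Odd p := hp.out.odd_of_ne_two h2
    have hgen : ∀ x : S, (x : Ω) ∈ zc S ⊔ Subgroup.zpowers a ⊔ Subgroup.zpowers b := fun x => by
      rw [← hA.eq_sup hidx haA ha, hA.sup_eq_S hidx hbS hbA]; exact x.2
    have hzp : ∀ z : S, (z : Ω) ∈ zc S → z ^ p = 1 := fun z hz => by
      have hz' : z ∈ Subgroup.center S := by rw [← zc_subgroupOf]; exact hz
      have : (⟨z, hz'⟩ : Subgroup.center S) ^ Nat.card (Subgroup.center S) = 1 := pow_card_eq_one'
      rw [hcardZ] at this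
      exact congrArg Subtype.val this
    have hmul : ∀ x y : S, x ^ p = 1 → y ^ p = 1 → (x * y) ^ p = 1 := by
      intro x y hx hy
      set c := ⁅y, x⁆ with hcdef
      have hcz : (c : Ω) ∈ zc S :=
        comm_le_zc hidx hna (Subgroup.commutator_mem_commutator y.2 x.2)
      have hcc : ∀ w : S, w * c = c * w := fun w => Subtype.ext ((mem_zc.1 hcz).2 w w.2)
      have hyx : ∀ n : ℕ, y ^ n * x = x * y ^ n * c ^ n := by
        intro n
        induction n with
        | zero => simp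
        | succ n ih =>
          rw [pow_succ', mul_assoc, ih, ← mul_assoc, ← mul_assoc,
            show y * x = x * y * c by
              rw [hcc (x * y), hcdef, commutatorElement_def]; group]
          rw [mul_assoc (x * y) c, ← (show Commute (y ^ n) c from hcc (y ^ n)).eq, ← mul_assoc,
            mul_assoc x y, mul_assoc _ c, pow_succ' c]
      have hpowxy : ∀ n : ℕ, (x * y) ^ n = x ^ n * y ^ n * c ^ n.choose 2 := by
        intro n
        induction n with
        | zero => simp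
        | succ n ih =>
          have hck : ∀ w : S, c ^ n.choose 2 * w = w * c ^ n.choose 2 := fun w =>
            ((show Commute w c from hcc w).pow_right _).eq.symm
          have hcn : ∀ w : S, c ^ n * w = w * c ^ n := fun w =>
            ((show Commute w c from hcc w).pow_right _).eq.symm
          rw [pow_succ (x * y), ih, mul_assoc _ (c ^ n.choose 2), hck, ← mul_assoc, ← mul_assoc,
            mul_assoc (x ^ n) (y ^ n) x, hyx, ← mul_assoc, ← mul_assoc, ← pow_succ x,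
            mul_assoc _ (c ^ n) y, hcn, ← mul_assoc, mul_assoc _ (y ^ n) y, ← pow_succ y,
            mul_assoc _ (c ^ n), ← pow_add, Nat.choose_succ_succ' n 1, Nat.choose_one_right]
      rw [hpowxy p, hx, hy, one_mul, one_mul]
      obtain ⟨m, hm⟩ := hodd
      have : p.choose 2 = p * m := by
        rw [Nat.choose_two_right, hm, Nat.add_sub_cancel, ← mul_assoc, mul_comm (2 * m + 1) 2,
          mul_assoc, Nat.mul_div_cancel_left _ two_pos]
      rw [this, pow_mul, hzp c hcz, one_pow]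
    let E : Subgroup S :=
      { carrier := {x | x ^ p = 1}
        one_mem' := one_pow p
        mul_mem' := fun {x y} hx hy => hmul x y hx hy
        inv_mem' := fun {x} hx => by
          show x⁻¹ ^ p = 1
          rw [inv_pow, hx, inv_one] }
    have hle : zc S ⊔ Subgroup.zpowers a ⊔ Subgroup.zpowers b ≤ E.map S.subtype := by
      refine sup_le (sup_le (fun z hz => ⟨⟨z, hz.1⟩, hzp _ hz, rfl⟩)
        (Subgroup.zpowers_le.2 ⟨⟨a, haS⟩, Subtype.ext (by simpa using hap), rfl⟩))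
        (Subgroup.zpowers_le.2 ⟨⟨b, hbS⟩, Subtype.ext (by simpa using hbp), rfl⟩)
    have hall : ∀ x : S, x ^ p = 1 := fun x => by
      obtain ⟨y, hy, hyx⟩ := hle (hgen x)
      rw [show x = y from Subtype.ext hyx.symm]
      exact hy
    rcases (Nat.dvd_prime hp.out).1 (Monoid.exponent_dvd_of_forall_pow_eq_one hall) with h | h
    · have : Subsingleton S := Monoid.exp_eq_one_iff.1 h
      exact absurd (Subgroup.eq_bot_of_subsingleton S) hS1
    · exact h
  · rw [h2] at hap hbp hcard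
    let a' : S := ⟨a, haS⟩
    let b' : S := ⟨b, hbS⟩
    have hne : ∀ {x : Ω}, x ∉ zc S → x ≠ 1 := fun hx h => hx (h ▸ one_mem _)
    have ha2 : orderOf a' = 2 := orderOf_eq_prime (Subtype.ext (by simpa using hap))
      fun h => hne ha (congrArg Subtype.val h)
    have hb2 : orderOf b' = 2 := orderOf_eq_prime (Subtype.ext (by simpa using hbp))
      fun h => hne hb (congrArg Subtype.val h)
    have hab' : a' ≠ b' := fun h => hbA (by have h' : a = b := congrArg Subtype.val h; exact h' ▸ haA)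
    obtain ⟨e⟩ := CfsgLib.Invol.nonempty_dihedral_equiv ha2 hb2 hab'
    have htop : Subgroup.closure ({a', b'} : Set S) = ⊤ := by
      refine frattini_nongenerating (eq_top_iff.2 fun x _ => ?_)
      have hle : zc S ⊔ Subgroup.zpowers a ⊔ Subgroup.zpowers b ≤
          (Subgroup.closure ({a', b'} : Set S) ⊔ frattini S).map S.subtype := by
        refine sup_le (sup_le (fun z hz => ⟨⟨z, hz.1⟩, Subgroup.mem_sup_right ?_, rfl⟩)
          (Subgroup.zpowers_le.2 ⟨a', Subgroup.mem_sup_left (Subgroup.subset_closure (Or.inl rfl)),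
            rfl⟩))
          (Subgroup.zpowers_le.2 ⟨b', Subgroup.mem_sup_left (Subgroup.subset_closure (Or.inr rfl)),
            rfl⟩)
        rw [hfr, ← zc_subgroupOf]
        exact hz
      obtain ⟨y, hy, hyx⟩ := hle (show (x : Ω) ∈ zc S ⊔ Subgroup.zpowers a ⊔ Subgroup.zpowers b by
        rw [← hA.eq_sup hidx haA ha, hA.sup_eq_S hidx hbS hbA]; exact x.2)
      rwa [show x = y from Subtype.ext hyx.symm]
    have hcard2 := Nat.card_congr e.toEquiv
    rw [htop, Subgroup.card_top, hcard, DihedralGroup.nat_card] at hcard2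
    have h4 : orderOf (a' * b') = 4 := by omega
    rw [h4] at e
    exact ⟨(Subgroup.topEquiv.symm.trans (MulEquiv.subgroupCongr htop.symm)).trans e⟩

end CfsgLib.Fusion.SmallCentre
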