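import Cfsg.Agent.Fusion.StableBiset
import Cfsg.Agent.Fusion.Local
import Mathlib.GroupTheory.Transfer
import Mathlib.GroupTheory.Abelianization.Defs

/-!
Transfer for saturated fusion systems, from a stable virtual biset.
-/

set_option autoImplicit false
set_option linter.style.haveILetI false

open Cfsg Cfsg.FusionSystem

namespace CfsgLib.Fusion

universe u v

/-! ### The transfer is determined by counting fixed points -/

section Counting

open MulAction Function

variable {G : Type u} [Group G] [Finite G] {A : Type v} [CommGroup A] {P : Subgroup G} (f : P →* A)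

/-- The number of cosets fixed by `x ^ n` with value `a`. -/
noncomputable def valCount (x : G) (n : ℕ) (a : A) : ℕ :=
  Nat.card {r : G ⧸ P // ∃ h : r.out⁻¹ * x ^ n * r.out ∈ P, f ⟨_, h⟩ = a}

/-- The length of an orbit. -/
noncomputable def orbLen (x : G) (q : Quotient (orbitRel (Subgroup.zpowers x) (G ⧸ P))) : ℕ :=
  minimalPeriod (x • ·) q.out

/-- The value of an orbit. -/
noncomputable def orbVal (x : G) (q : Quotient (orbitRel (Subgroup.zpowers x) (G ⧸ P))) : A :=
  f ⟨q.out.out⁻¹ * x ^ minimalPeriod (x • ·) q.out * q.out.out,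
    QuotientGroup.out_conj_pow_minimalPeriod_mem P x q.out⟩

theorem orbLen_eq_card (x : G) (q : Quotient (orbitRel (Subgroup.zpowers x) (G ⧸ P))) :
    orbLen (P := P) x q = Nat.card (orbit (Subgroup.zpowers x) q.out) := by
  exact ((Nat.card_congr (orbitZPowersEquiv x q.out)).trans (Nat.card_zmod _)).symm

theorem orbLen_pos (x : G) (q : Quotient (orbitRel (Subgroup.zpowers x) (G ⧸ P))) :
    0 < orbLen (P := P) x q := by
  rw [orbLen_eq_card]
  exact Nat.card_pos_iff.2 ⟨⟨⟨q.out, mem_orbit_self q.out⟩⟩, inferInstance⟩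

theorem inv_conj_pow {M : Type*} [Group M] (a b : M) (m : ℕ) :
    (a⁻¹ * b * a) ^ m = a⁻¹ * b ^ m * a := by
  simpa using (conj_pow (a := a⁻¹) (b := b) (i := m))

/-- Conjugating by an element of `P` does not change the value. -/
theorem apply_conj_eq {u π : P} : f (π⁻¹ * u * π) = f u := by
  rw [map_mul, map_mul, map_inv, mul_comm (f π)⁻¹, inv_mul_cancel_right]

/-- The points of an orbit fixed by `x ^ n` with value `a`. -/
theorem fixed_iff (x : G) (n : ℕ) (a : A) (q : Quotient (orbitRel (Subgroup.zpowers x) (G ⧸ P)))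
    (r : G ⧸ P) (hr : r ∈ orbit (Subgroup.zpowers x) q.out) :
    (∃ h : r.out⁻¹ * x ^ n * r.out ∈ P, f ⟨_, h⟩ = a) ↔
      orbLen x q ∣ n ∧ orbVal f x q ^ (n / orbLen x q) = a := by
  obtain ⟨⟨g, hg⟩, rfl⟩ := hr
  obtain ⟨i, rfl⟩ := Subgroup.mem_zpowers_iff.1 hg
  set r := (⟨x ^ i, hg⟩ : Subgroup.zpowers x) • q.out
  have hrq : r = ((x ^ i * q.out.out : G) : G ⧸ P) := by
    show x ^ i • q.out = _
    conv_lhs => rw [← QuotientGroup.out_eq' q.out]
    rfl
  obtain ⟨π, hπ⟩ := QuotientGroup.mk_out_eq_mul P (x ^ i * q.out.out)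
  rw [← hrq] at hπ
  have hu : r.out⁻¹ * x ^ n * r.out =
      (π : G)⁻¹ * (q.out.out⁻¹ * x ^ n * q.out.out) * (π : G) := by
    rw [hπ]
    have : (x ^ i)⁻¹ * x ^ n * x ^ i = x ^ n := by
      rw [mul_assoc, ((Commute.refl x).pow_left n).zpow_right i |>.eq, inv_mul_cancel_left]
    calc (x ^ i * q.out.out * (π : G))⁻¹ * x ^ n * (x ^ i * q.out.out * π)
        = (π : G)⁻¹ * q.out.out⁻¹ * ((x ^ i)⁻¹ * x ^ n * x ^ i) * q.out.out * π := by group
      _ = _ := by rw [this]; group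
  have hmem : q.out.out⁻¹ * x ^ n * q.out.out ∈ P ↔ orbLen x q ∣ n := by
    rw [orbLen, ← pow_smul_eq_iff_minimalPeriod_dvd]
    conv_rhs => rw [← QuotientGroup.out_eq' q.out]
    show _ ↔ ((x ^ n * q.out.out : G) : G ⧸ P) = (q.out.out : G ⧸ P)
    rw [eq_comm, QuotientGroup.eq, mul_assoc]
  constructor
  · rintro ⟨h, rfl⟩
    have h1 : q.out.out⁻¹ * x ^ n * q.out.out ∈ P := by
      have := mul_mem (mul_mem π.2 h) (inv_mem π.2)
      rw [hu] at this
      simpa [mul_assoc] using this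
    obtain ⟨m, rfl⟩ := hmem.1 h1
    refine ⟨dvd_mul_right _ m, ?_⟩
    rw [Nat.mul_div_cancel_left _ (orbLen_pos x q), orbVal, ← map_pow, ← apply_conj_eq f (π := π)]
    refine congrArg f (Subtype.ext ?_)
    simp only [Subgroup.coe_mul, Subgroup.coe_inv, SubmonoidClass.coe_pow]
    rw [hu, orbLen, pow_mul, inv_conj_pow]
  · rintro ⟨hd, rfl⟩
    have h1 := hmem.2 hd
    have h2 : r.out⁻¹ * x ^ n * r.out ∈ P := by
      rw [hu]; exact mul_mem (mul_mem (inv_mem π.2) h1) π.2
    refine ⟨h2, ?_⟩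
    obtain ⟨m, rfl⟩ := hd
    rw [Nat.mul_div_cancel_left _ (orbLen_pos x q), orbVal, ← map_pow]
    conv_rhs => rw [← apply_conj_eq f (π := π)]
    refine congrArg f (Subtype.ext ?_)
    simp only [Subgroup.coe_mul, Subgroup.coe_inv, SubmonoidClass.coe_pow]
    rw [hu, orbLen, pow_mul, inv_conj_pow]

open Classical in
theorem valCount_eq (x : G) [Fintype (Quotient (orbitRel (Subgroup.zpowers x) (G ⧸ P)))] (n : ℕ)
    (a : A) : valCount f x n a = ∑ q : Quotient (orbitRel (Subgroup.zpowers x) (G ⧸ P)),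
      if orbLen x q ∣ n ∧ orbVal f x q ^ (n / orbLen x q) = a then orbLen x q else 0 := by
  let p : G ⧸ P → Prop := fun r => ∃ h : r.out⁻¹ * x ^ n * r.out ∈ P, f ⟨_, h⟩ = a
  let g : {r : G ⧸ P // p r} → Quotient (orbitRel (Subgroup.zpowers x) (G ⧸ P)) := fun r =>
    Quotient.mk'' r.1
  show Nat.card {r : G ⧸ P // p r} = _
  rw [← Nat.card_congr (Equiv.sigmaFiberEquiv g), Nat.card_sigma]
  refine Finset.sum_congr rfl fun q _ => ?_
  have horb : ∀ r : G ⧸ P, Quotient.mk'' r = q ↔ r ∈ orbit (Subgroup.zpowers x) q.out := fun r => by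
    constructor
    · intro h
      exact orbitRel_apply.1 (Quotient.exact' (h.trans (Quotient.out_eq' q).symm))
    · intro h
      exact (Quotient.eq''.2 (orbitRel_apply.2 h)).trans (Quotient.out_eq' q)
  by_cases h : orbLen x q ∣ n ∧ orbVal f x q ^ (n / orbLen x q) = a
  · rw [if_pos h]
    rw [orbLen_eq_card]
    exact Nat.card_congr ⟨fun r => ⟨r.1.1, (horb _).1 r.2⟩,
      fun r => ⟨⟨r.1, (fixed_iff f x n a q r.1 r.2).2 h⟩, (horb _).2 r.2⟩,
      fun _ => rfl, fun _ => rfl⟩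
  · rw [if_neg h]
    exact Nat.card_eq_zero.2
      (Or.inl ⟨fun r => h ((fixed_iff f x n a q r.1.1 ((horb _).1 r.2)).1 r.1.2)⟩)

/-- The number of orbits of length `n` and value `a`. -/
noncomputable def orbCount (x : G) (n : ℕ) (a : A) : ℕ :=
  Nat.card {q : Quotient (orbitRel (Subgroup.zpowers x) (G ⧸ P)) //
    orbLen x q = n ∧ orbVal f x q = a}

theorem orbLen_le (x : G) (q : Quotient (orbitRel (Subgroup.zpowers x) (G ⧸ P))) :
    orbLen (P := P) x q ≤ Nat.card G := by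
  rw [orbLen_eq_card]
  exact (Nat.card_le_card_of_injective _ Subtype.val_injective).trans
    (Nat.card_le_card_of_surjective _ QuotientGroup.mk_surjective)

variable [Fintype A]

open Classical in
theorem transfer_eq_prod (x : G) :
    MonoidHom.transfer f x =
      ∏ n ∈ Finset.range (Nat.card G + 1), ∏ a : A, a ^ orbCount f x n a := by
  have : Fintype (Quotient (orbitRel (Subgroup.zpowers x) (G ⧸ P))) := Fintype.ofFinite _
  rw [MonoidHom.transfer_eq_prod_quotient_orbitRel_zpowers_quot, ← Finset.prod_product']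
  rw [← Finset.prod_fiberwise_of_maps_to (s := (Finset.univ : Finset (Quotient (orbitRel (Subgroup.zpowers x) (G ⧸ P)))))
    (g := fun q => (orbLen x q, orbVal f x q))
    (t := Finset.range (Nat.card G + 1) ×ˢ (Finset.univ : Finset A))
    (fun q _ => Finset.mem_product.2
      ⟨Finset.mem_range.2 (Nat.lt_succ_of_le (orbLen_le x q)), Finset.mem_univ _⟩)]
  refine Finset.prod_congr rfl fun na _ => ?_
  refine (Finset.prod_congr rfl (g := fun _ => na.2) ?_).trans ?_
  · intro q hq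
    exact congrArg Prod.snd (Finset.mem_filter.1 hq).2
  rw [Finset.prod_const]
  congr 1
  rw [orbCount, Nat.card_eq_fintype_card, Fintype.card_subtype]
  congr 1
  ext q
  simp [Prod.ext_iff]

open Classical in
theorem valCount_orbCount (x : G) (n : ℕ) (a : A) (hn : 0 < n) :
    valCount f x n a = ∑ d ∈ n.divisors, ∑ b : A, if b ^ (n / d) = a then d * orbCount f x d b
      else 0 := by
  have : Fintype (Quotient (orbitRel (Subgroup.zpowers x) (G ⧸ P))) := Fintype.ofFinite _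
  rw [valCount_eq, ← Finset.sum_product']
  rw [← Finset.sum_filter, ← Finset.sum_filter]
  rw [← Finset.sum_fiberwise_of_maps_to
    (g := fun q : Quotient (orbitRel (Subgroup.zpowers x) (G ⧸ P)) => (orbLen x q, orbVal f x q))
    (t := (n.divisors ×ˢ (Finset.univ : Finset A)).filter fun db => db.2 ^ (n / db.1) = a)
    (fun q hq => by
      obtain ⟨h1, h2⟩ := (Finset.mem_filter.1 hq).2
      exact Finset.mem_filter.2 ⟨Finset.mem_product.2
        ⟨Nat.mem_divisors.2 ⟨h1, hn.ne'⟩, Finset.mem_univ _⟩, h2⟩)]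
  refine Finset.sum_congr rfl fun db hdb => ?_
  obtain ⟨hd, hb⟩ := Finset.mem_filter.1 hdb
  refine (Finset.sum_congr rfl (g := fun _ => db.1) ?_).trans ?_
  · intro q hq
    exact congrArg Prod.fst (Finset.mem_filter.1 hq).2
  rw [Finset.sum_const, smul_eq_mul, mul_comm]
  congr 1
  rw [orbCount, Nat.card_eq_fintype_card, Fintype.card_subtype, Finset.filter_filter]
  congr 1
  ext q
  simp only [Finset.mem_filter, Finset.mem_univ, true_and, Prod.ext_iff]
  refine ⟨fun h => h.2, fun h => ⟨⟨?_, ?_⟩, h⟩⟩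
  · rw [h.1]; exact (Nat.mem_divisors.1 (Finset.mem_product.1 hd).1).1
  · rw [h.1, h.2]; exact hb

end Counting

section Combination

variable {G : Type u} [Group G] [Finite G] {A : Type v} [CommGroup A] [Fintype A] {ι : Type*}

open Classical in
/-- Combinations of transfers agree at elements with the same counts. -/
theorem transfer_combination_eq (s : Finset ι) (c : ι → ℤ) (P : ι → Subgroup G)
    (f : ∀ i, P i →* A) (x x' : G)
    (h : ∀ n, 0 < n → ∀ a, ∑ i ∈ s, c i * valCount (f i) x n a =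
      ∑ i ∈ s, c i * valCount (f i) x' n a) :
    ∏ i ∈ s, MonoidHom.transfer (f i) x ^ c i = ∏ i ∈ s, MonoidHom.transfer (f i) x' ^ c i := by
  have key : ∀ n a, ∑ i ∈ s, c i * orbCount (f i) x n a = ∑ i ∈ s, c i * orbCount (f i) x' n a := by
    intro n
    induction n using Nat.strong_induction_on with
    | _ n ih =>
    intro a
    rcases Nat.eq_zero_or_pos n with rfl | hn
    · have h0 : ∀ (i : ι) (y : G), orbCount (f i) y 0 a = 0 := fun i y =>
        Nat.card_eq_zero.2 (Or.inl ⟨fun q => (orbLen_pos y q.1).ne' q.2.1⟩)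
      simp [h0]
    have e : ∀ y : G, (∑ i ∈ s, c i * valCount (f i) y n a) = (n : ℤ) * (∑ i ∈ s, c i * orbCount (f i) y n a) +
        ∑ d ∈ n.properDivisors, ∑ b : A, if b ^ (n / d) = a then
          (d : ℤ) * ∑ i ∈ s, c i * orbCount (f i) y d b else 0 := by
      intro y
      simp only [valCount_orbCount _ y n a hn, ← Nat.cons_self_properDivisors hn.ne',
        Finset.sum_cons, Nat.div_self hn, pow_one, Finset.sum_ite_eq', Finset.mem_univ, if_true,
        Nat.cast_add, Nat.cast_mul, Nat.cast_sum, Nat.cast_ite, Nat.cast_zero, mul_add,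
        Finset.sum_add_distrib, Finset.mul_sum, mul_ite, mul_zero]
      congr 1
      · exact Finset.sum_congr rfl fun i _ => by ring
      · rw [Finset.sum_comm]
        refine Finset.sum_congr rfl fun d _ => ?_
        rw [Finset.sum_comm]
        refine Finset.sum_congr rfl fun b _ => ?_
        split_ifs
        · exact Finset.sum_congr rfl fun i _ => by ring
        · simp
    have h1 := h n hn a
    rw [e x, e x', Finset.sum_congr rfl fun d hd => Finset.sum_congr rfl fun b _ => by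
      rw [ih d (Nat.mem_properDivisors.1 hd).2 b]] at h1
    exact mul_left_cancel₀ (Int.natCast_ne_zero.2 hn.ne') (add_right_cancel h1)
  have e : ∀ y : G, ∏ i ∈ s, MonoidHom.transfer (f i) y ^ c i =
      ∏ n ∈ Finset.range (Nat.card G + 1), ∏ a : A, a ^ (∑ i ∈ s, c i * orbCount (f i) y n a) := by
    intro y
    have hz : ∀ (a : A) (g : ι → ℤ), a ^ (∑ i ∈ s, g i) = ∏ i ∈ s, a ^ g i := fun a g =>
      map_prod (zpowersHom A a) (fun i => Multiplicative.ofAdd (g i)) s
    simp only [transfer_eq_prod, hz, ← Finset.prod_zpow]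
    rw [Finset.prod_comm]
    refine Finset.prod_congr rfl fun n _ => ?_
    rw [Finset.prod_comm]
    refine Finset.prod_congr rfl fun a _ => Finset.prod_congr rfl fun i _ => ?_
    rw [← zpow_natCast, ← zpow_mul, mul_comm]
  rw [e x, e x']
  exact Finset.prod_congr rfl fun n _ => Finset.prod_congr rfl fun a _ => by rw [key n a]

end Combination

/-! ### Graphs as monomial actions -/

section Graphs

variable {Ω : Type u} [Group Ω] {S : Subgroup Ω} [Finite S] {F : FusionSystem S}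

theorem IsGraph.fst_inj {H : Subgroup (S × S)} (h : IsGraph F H) {w w' : S × S} (hw : w ∈ H)
    (hw' : w' ∈ H) (he : w.1 = w'.1) : w = w' := by
  obtain ⟨R, η, hη, hg⟩ := h
  obtain ⟨h1, e1⟩ := (hg w).1 hw
  obtain ⟨h2, e2⟩ := (hg w').1 hw'
  refine Prod.ext he (Subtype.ext (congrArg (fun t : R => (t : Ω))
    (F.injective_of_mem hη (a₁ := ⟨w.2, h1⟩) (a₂ := ⟨w'.2, h2⟩) ?_)))
  exact e1.trans ((congrArg Subtype.val he).trans e2.symm)

variable {A : Type v} [CommGroup A]

open Classical in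
/-- The hom on the first projection of a graph that a hom on `S` gives through the second. -/
noncomputable def graphHom (F : FusionSystem S) (θ : S →* A) (H : Subgroup (S × S)) :
    H.map (MonoidHom.fst S S) →* A :=
  if h : IsGraph F H then
    (θ.comp ((MonoidHom.snd S S).comp H.subtype)).comp
      (MulEquiv.ofBijective ((MonoidHom.fst S S).subgroupMap H)
        ⟨fun w w' he => Subtype.ext (h.fst_inj w.2 w'.2 (congrArg Subtype.val he)),
          (MonoidHom.fst S S).subgroupMap_surjective H⟩).symm.toMonoidHom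
  else 1

theorem graphHom_apply {θ : S →* A} {H : Subgroup (S × S)} (h : IsGraph F H) {w : S × S}
    (hw : w ∈ H) (hw1 : w.1 ∈ H.map (MonoidHom.fst S S)) :
    graphHom F θ H ⟨w.1, hw1⟩ = θ w.2 := by
  unfold graphHom
  rw [dif_pos h]
  show θ (MonoidHom.snd S S (H.subtype _)) = θ w.2
  congr 1
  have : (MulEquiv.ofBijective ((MonoidHom.fst S S).subgroupMap H)
        ⟨fun a b he => Subtype.ext (h.fst_inj a.2 b.2 (congrArg Subtype.val he)),
          (MonoidHom.fst S S).subgroupMap_surjective H⟩).symm ⟨w.1, hw1⟩ = ⟨w, hw⟩ := by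
    rw [MulEquiv.symm_apply_eq]
    rfl
  exact congrArg (fun z : H => (z : S × S).2) this

open Classical in
/-- Fixed points of `(x ^ n, y)` counted through the monomial action. -/
theorem sum_fixCount (θ : S →* A) {H : Subgroup (S × S)} (h : IsGraph F H) [Fintype S] (x : S)
    (n : ℕ) (a : A) :
    (∑ y : S, if θ y = a then fixCount H (Subgroup.zpowers ((x ^ n, y) : S × S)) else 0) =
      valCount (graphHom F θ H) x n a * Nat.card S := by
  set P := H.map (MonoidHom.fst S S)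
  have hfix : ∀ (y : S), fixCount H (Subgroup.zpowers ((x ^ n, y) : S × S)) =
      Nat.card {q : (S × S) ⧸ H // ((x ^ n, y) : S × S) • q = q} := fun y =>
    Nat.card_congr (Equiv.subtypeEquivRight fun q => ⟨fun hq => hq _ (Subgroup.mem_zpowers _),
      fun hq k hk => (Subgroup.zpowers_le (H := MulAction.stabilizer (S × S) q)).2 hq hk⟩)
  simp only [hfix]
  rw [← Finset.sum_filter]
  let T := {z : ((S × S) ⧸ H) × S // θ z.2 = a ∧ ((x ^ n, z.2) : S × S) • z.1 = z.1}
  have hT : Nat.card T = ∑ y ∈ Finset.univ.filter (fun y : S => θ y = a),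
      Nat.card {q : (S × S) ⧸ H // ((x ^ n, y) : S × S) • q = q} := by
    let e : T ≃ Σ y : {y : S // θ y = a}, {q : (S × S) ⧸ H // ((x ^ n, y.1) : S × S) • q = q} :=
      { toFun := fun z => ⟨⟨z.1.2, z.2.1⟩, ⟨z.1.1, z.2.2⟩⟩
        invFun := fun z => ⟨(z.2.1, z.1.1), z.1.2, z.2.2⟩
        left_inv := fun _ => rfl
        right_inv := fun _ => rfl }
    rw [Nat.card_congr e, Nat.card_sigma]
    exact (Finset.sum_subtype _ (fun y => by simp) fun y =>
      Nat.card {q : (S × S) ⧸ H // ((x ^ n, y) : S × S) • q = q}).symm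
  rw [← hT, valCount, ← Nat.card_prod]
  symm
  have hw : ∀ r : {r : S ⧸ P // ∃ h : r.out⁻¹ * x ^ n * r.out ∈ P,
      graphHom F θ H ⟨_, h⟩ = a}, ∃ w ∈ H, w.1 = r.1.out⁻¹ * x ^ n * r.1.out ∧ θ w.2 = a := by
    rintro ⟨r, hr, hra⟩
    obtain ⟨w, hw, hwe⟩ := hr
    change w.1 = _ at hwe
    refine ⟨w, hw, hwe, ?_⟩
    rw [← graphHom_apply (θ := θ) h hw ⟨w, hw, rfl⟩, ← hra]
    exact congrArg _ (Subtype.ext hwe)
  choose w hwH hw1 hwa using hw
  refine Nat.card_eq_of_bijective (fun z : _ × S => (⟨(((z.1.1.out, z.2) : S × S),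
    z.2 * (w z.1).2 * z.2⁻¹), ?_, ?_⟩ : T)) ⟨?_, ?_⟩
  · rw [map_mul, map_mul, map_inv, hwa, mul_comm (θ z.2) a, mul_inv_cancel_right]
  · rw [smul_mk_eq_iff]
    refine Set.mem_of_eq_of_mem (Prod.ext ?_ ?_) (hwH z.1)
    · exact (hw1 z.1).symm
    · show z.2⁻¹ * (z.2 * (w z.1).2 * z.2⁻¹) * z.2 = (w z.1).2
      group
  · rintro ⟨r, s⟩ ⟨r', s'⟩ he
    have h1 := congrArg (fun t : T => t.1.1) he
    change ((((r.1.out, s) : S × S)) : (S × S) ⧸ H) = (((r'.1.out, s') : S × S) : (S × S) ⧸ H) at h1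
    rw [QuotientGroup.eq] at h1
    have hr : r = r' := Subtype.ext (by
      rw [← QuotientGroup.out_eq' r.1, ← QuotientGroup.out_eq' r'.1, QuotientGroup.eq]
      exact ⟨_, h1, rfl⟩)
    subst hr
    have := h.fst_inj h1 (one_mem H) (inv_mul_cancel r.1.out)
    exact Prod.ext rfl (inv_mul_eq_one.1 (congrArg Prod.snd this))
  · rintro ⟨⟨q, y⟩, hya, hq⟩
    obtain ⟨⟨g, k⟩, rfl⟩ := QuotientGroup.mk_surjective q
    obtain ⟨π, hπ⟩ := QuotientGroup.mk_out_eq_mul P g
    obtain ⟨v, hv, hv1⟩ := π.2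
    change v.1 = _ at hv1
    rw [smul_mk_eq_iff] at hq
    set u : S × S := v⁻¹ * ((g, k)⁻¹ * (x ^ n, y) * (g, k)) * v
    have hu : u ∈ H := mul_mem (mul_mem (inv_mem hv) hq) hv
    have hu1 : u.1 = (g : S ⧸ P).out⁻¹ * x ^ n * (g : S ⧸ P).out := by
      show v.1⁻¹ * (g⁻¹ * x ^ n * g) * v.1 = _
      rw [hπ, hv1]; group
    have hu2 : u.2 = v.2⁻¹ * (k⁻¹ * y * k) * v.2 := rfl
    have hmem : (g : S ⧸ P).out⁻¹ * x ^ n * (g : S ⧸ P).out ∈ P := ⟨u, hu, hu1⟩
    have hval : graphHom F θ H ⟨_, hmem⟩ = a := by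
      rw [← hya]
      refine ((congrArg _ (Subtype.ext hu1.symm)).trans (graphHom_apply h hu ⟨u, hu, rfl⟩)).trans ?_
      rw [hu2, map_mul, map_mul, map_mul, map_mul, map_inv, map_inv, mul_comm (θ v.2)⁻¹,
        inv_mul_cancel_right, mul_comm (θ k)⁻¹, inv_mul_cancel_right]
    refine ⟨(⟨(g : S ⧸ P), hmem, hval⟩, k * v.2), Subtype.ext (Prod.ext ?_ ?_)⟩
    · show ((((g : S ⧸ P).out, k * v.2) : S × S) : (S × S) ⧸ H) = (((g, k) : S × S) : (S × S) ⧸ H)
      rw [show (((g : S ⧸ P).out, k * v.2) : S × S) = (g, k) * v from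
        Prod.ext (by rw [hπ, ← hv1]; rfl) rfl, QuotientGroup.mk_mul_of_mem _ hv]
    · have := h.fst_inj (hwH ⟨(g : S ⧸ P), hmem, hval⟩) hu ((hw1 _).trans hu1.symm)
      show k * v.2 * (w ⟨(g : S ⧸ P), hmem, hval⟩).2 * (k * v.2)⁻¹ = y
      rw [this, hu2]
      group

theorem isGraph_zpowers_map {x x' y : S} {P : Subgroup Ω} {φ : P →* Ω} (hφ : φ ∈ F.Hom P)
    (hx : (x : Ω) ∈ P) (hφx : φ ⟨x, hx⟩ = (x' : Ω))
    (h : IsGraph F (Subgroup.zpowers ((x, y) : S × S))) :
    IsGraph F (Subgroup.zpowers ((x', y) : S × S)) ∧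
      graphDom (Subgroup.zpowers ((x', y) : S × S)) = graphDom (Subgroup.zpowers ((x, y) : S × S)) := by
  have hdom : ∀ x₁ : S, graphDom (Subgroup.zpowers ((x₁, y) : S × S)) = Subgroup.zpowers (y : Ω) := by
    intro x₁
    simp [graphDom, MonoidHom.map_zpowers]
  refine ⟨?_, (hdom _).trans (hdom _).symm⟩
  obtain ⟨R, η, hη, hg⟩ := h
  have hval : ∀ r : R, ∃ i : ℤ, (y : Ω) ^ i = r ∧ η r = (x : Ω) ^ i := by
    intro r
    have hr : (r : Ω) ∈ graphDom (Subgroup.zpowers ((x, y) : S × S)) := (hg.dom hη).ge r.2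
    rw [hdom, Subgroup.mem_zpowers_iff] at hr
    obtain ⟨i, hi⟩ := hr
    obtain ⟨h1, h2⟩ := (hg (((x, y) : S × S) ^ i)).1 (zpow_mem (Subgroup.mem_zpowers _) i)
    refine ⟨i, hi, (apply_congr η ?_).trans (h2.trans ?_)⟩
    · simp [hi]
    · simp
  have hin : ∀ r, η r ∈ P := fun r => by
    obtain ⟨i, -, he⟩ := hval r
    exact he ▸ zpow_mem hx i
  refine ⟨R, φ.comp (η.codRestrict P hin), F.comp_mem hη hφ hin, fun w => ⟨?_, ?_⟩⟩
  · rintro ⟨i, rfl⟩
    obtain ⟨h1, h2⟩ := (hg (((x, y) : S × S) ^ i)).1 (zpow_mem (Subgroup.mem_zpowers _) i)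
    have hR : ((((x', y) : S × S) ^ i).2 : Ω) ∈ R := by simpa using h1
    refine ⟨hR, ?_⟩
    refine (apply_congr φ (y := ⟨(x : Ω), hx⟩ ^ i) ?_).trans ?_
    · show η ⟨_, hR⟩ = _
      refine (apply_congr η ?_).trans (h2.trans ?_)
      · simp
      · simp
    · rw [map_zpow, hφx]
      simp
  · rintro ⟨hw, he⟩
    obtain ⟨i, hi, hie⟩ := hval ⟨_, hw⟩
    refine ⟨i, Prod.ext (Subtype.ext ?_) (Subtype.ext (by simpa using hi))⟩
    rw [← he]
    symm
    refine (apply_congr φ (y := ⟨(x : Ω), hx⟩ ^ i) ?_).trans ?_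
    · show η ⟨_, hw⟩ = _
      rw [hie]; simp
    · rw [map_zpow, hφx]
      simp

/-- Marks of cyclic subgroups are unchanged by fusion in the first coordinate. -/
theorem mark_zpowers_eq {c : Subgroup (S × S) → ℤ} (hsupp : ∀ H, c H ≠ 0 → IsGraph F H)
    (hst : StableFrom F c 0) {x x' y : S} {P : Subgroup Ω} {φ : P →* Ω} (hφ : φ ∈ F.Hom P)
    (hx : (x : Ω) ∈ P) (hφx : φ ⟨x, hx⟩ = (x' : Ω)) :
    mark c (Subgroup.zpowers ((x, y) : S × S)) = mark c (Subgroup.zpowers ((x', y) : S × S)) := by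
  obtain ⟨φi, hφi, -, hφi1, -⟩ := exists_inv hφ (rfl : φ.range = φ.range)
  have hx' : (x' : Ω) ∈ φ.range := ⟨_, hφx⟩
  have hback : φi ⟨x', hx'⟩ = (x : Ω) :=
    (apply_congr φi hφx.symm).trans (hφi1 ⟨x, hx⟩ ⟨_, rfl⟩)
  by_cases h : IsGraph F (Subgroup.zpowers ((x, y) : S × S))
  · obtain ⟨h', hd⟩ := isGraph_zpowers_map hφ hx hφx h
    exact hst _ _ h h' hd.symm (Nat.zero_le _)
  · rw [mark_eq_zero_of_not_graph hsupp h, mark_eq_zero_of_not_graph hsupp fun h' =>
      h (isGraph_zpowers_map hφi hx' hback h').1]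

end Graphs

/-! ### The transfer -/

section Main

variable {Ω : Type u} [Group Ω] {S : Subgroup Ω} [Finite S] {F : FusionSystem S}

open Classical in
/-- The combination of transfers along a stable biset is invariant under the system. -/
theorem prod_transfer_invariant [Fintype (Subgroup (S × S))] {c : Subgroup (S × S) → ℤ}
    (hsupp : ∀ H, c H ≠ 0 → IsGraph F H) (hst : StableFrom F c 0) {A : Type v} [CommGroup A]
    [Finite A] (θ : S →* A) {P : Subgroup Ω} {φ : P →* Ω} (hφ : φ ∈ F.Hom P) (x : P) :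
    ∏ H ∈ (Finset.univ.filter (IsGraph F) : Finset (Subgroup (S × S))),
        MonoidHom.transfer (graphHom F θ H) (⟨φ x, apply_mem_S hφ x⟩ : S) ^ c H =
      ∏ H ∈ (Finset.univ.filter (IsGraph F) : Finset (Subgroup (S × S))),
        MonoidHom.transfer (graphHom F θ H) (⟨x, le_of_mem_hom hφ x.2⟩ : S) ^ c H := by
  have : Fintype A := Fintype.ofFinite A
  have : Fintype S := Fintype.ofFinite S
  let s : Finset (Subgroup (S × S)) := Finset.univ.filter (IsGraph F)
  set x₀ : S := ⟨x, le_of_mem_hom hφ x.2⟩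
  set x₁ : S := ⟨φ x, apply_mem_S hφ x⟩
  refine (transfer_combination_eq s c _ (graphHom F θ) x₀ x₁ fun n _ a => ?_).symm
  have hmark : ∀ (y : S) (w : S), mark c (Subgroup.zpowers ((w, y) : S × S)) =
      ∑ H ∈ s, c H * fixCount H (Subgroup.zpowers ((w, y) : S × S)) := by
    intro y w
    rw [mark, finsum_eq_sum_of_fintype]
    refine (Finset.sum_subset (Finset.subset_univ s) fun H _ hH => ?_).symm
    rw [show c H = 0 by
      by_contra hc
      exact hH (Finset.mem_filter.2 ⟨Finset.mem_univ _, hsupp H hc⟩), zero_mul]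
  have e : ∀ w : S, (∑ H ∈ s, c H * valCount (graphHom F θ H) w n a) * (Nat.card S : ℤ) =
      ∑ y : S, if θ y = a then mark c (Subgroup.zpowers ((w ^ n, y) : S × S)) else 0 := by
    intro w
    rw [Finset.sum_mul]
    simp only [hmark]
    rw [Finset.sum_congr rfl fun H hH => show
      c H * (valCount (graphHom F θ H) w n a : ℤ) * (Nat.card S : ℤ) =
        c H * ((∑ y : S, if θ y = a then fixCount H (Subgroup.zpowers ((w ^ n, y) : S × S))
          else 0 : ℕ) : ℤ) by
      rw [sum_fixCount θ (Finset.mem_filter.1 hH).2, Nat.cast_mul, mul_assoc]]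
    simp only [Nat.cast_sum, Finset.mul_sum]
    rw [Finset.sum_comm]
    refine Finset.sum_congr rfl fun y _ => ?_
    split_ifs <;> simp
  refine mul_right_cancel₀ (Int.natCast_ne_zero.2 (Nat.card_pos (α := S)).ne') ?_
  rw [e, e]
  refine Finset.sum_congr rfl fun y _ => ?_
  congr 1
  refine mark_zpowers_eq hsupp hst hφ (x := x₀ ^ n) (x' := x₁ ^ n) (by
    simpa [x₀] using pow_mem x.2 n) ?_
  refine (apply_congr φ (y := x ^ n) ?_).trans ?_
  · simp [x₀]
  · rw [map_pow]; simp [x₁]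

open Classical in
/-- **Transfer**: a hom on `S` gives one invariant under the system, equal to a power prime to `p`
of it on the elements whose powers it does not separate from their images. -/
theorem exists_transfer (p : ℕ) [Fact p.Prime] (hS : IsPGroup p S) (hF : F.IsSaturated p)
    {A : Type v} [CommGroup A] [Finite A] (θ : S →* A) :
    ∃ (μ : S →* A) (d : ℤ), ¬ (p : ℤ) ∣ d ∧
      (∀ (P : Subgroup Ω) (φ : P →* Ω) (hφ : φ ∈ F.Hom P) (x : P),
        μ ⟨φ x, apply_mem_S hφ x⟩ = μ ⟨x, le_of_mem_hom hφ x.2⟩) ∧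
      ∀ z : S, (∀ (k : ℕ) (g : S) (P : Subgroup Ω) (φ : P →* Ω) (hφ : φ ∈ F.Hom P) (x : P),
        (x : Ω) = ((g⁻¹ * z ^ k * g : S) : Ω) → θ ⟨φ x, apply_mem_S hφ x⟩ = θ z ^ k) →
        μ z = θ z ^ d := by
  obtain ⟨c, hsupp, hdeg, hst⟩ := exists_stable_biset hS hF
  have : Fintype A := Fintype.ofFinite A
  have : Fintype S := Fintype.ofFinite S
  have : Fintype (Subgroup (S × S)) := Fintype.ofFinite _
  let s : Finset (Subgroup (S × S)) := Finset.univ.filter (IsGraph F)
  let μ : S →* A := MonoidHom.mk'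
    (fun x => ∏ H ∈ s, MonoidHom.transfer (graphHom F θ H) x ^ c H) fun x y => by
      simp only [map_mul, mul_zpow, Finset.prod_mul_distrib]
  refine ⟨μ, degree c, hdeg, fun P φ hφ x => ?_, fun z hz => ?_⟩
  · exact prod_transfer_invariant hsupp hst θ hφ x
  · have hone : ∀ H ∈ s, MonoidHom.transfer (graphHom F θ H) z ^ c H =
        θ z ^ (c H * (Nat.card S / Nat.card H : ℕ)) := by
      intro H hH
      have hg := (Finset.mem_filter.1 hH).2
      have hcard : Nat.card (H.map (MonoidHom.fst S S)) = Nat.card H :=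
        (Nat.card_congr (Equiv.ofBijective ((MonoidHom.fst S S).subgroupMap H)
          ⟨fun a b he => Subtype.ext (hg.fst_inj a.2 b.2 (congrArg Subtype.val he)),
            (MonoidHom.fst S S).subgroupMap_surjective H⟩)).symm
      have hidx : (H.map (MonoidHom.fst S S)).index = Nat.card S / Nat.card H := by
        rw [← hcard, ← Subgroup.card_mul_index (H.map (MonoidHom.fst S S)),
          Nat.mul_div_cancel_left _ Nat.card_pos]
      have key : ∀ (k : ℕ) (g₀ : S) (h : g₀⁻¹ * z ^ k * g₀ ∈ H.map (MonoidHom.fst S S)),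
          graphHom F θ H ⟨_, h⟩ = θ z ^ k := by
        intro k g₀ h
        obtain ⟨w, hw, hw1⟩ := h
        change w.1 = _ at hw1
        refine ((congrArg (graphHom F θ H) (Subtype.ext hw1.symm :
          _ = (⟨w.1, ⟨w, hw, rfl⟩⟩ : H.map (MonoidHom.fst S S)))).trans
          (graphHom_apply hg hw _)).trans ?_
        obtain ⟨R, η, hη, hgo⟩ := hg
        obtain ⟨hwR, he⟩ := (hgo w).1 hw
        obtain ⟨ηi, hηi, -, hηi1, -⟩ := exists_inv hη (rfl : η.range = η.range)
        rw [← hz k g₀ _ ηi hηi ⟨η ⟨_, hwR⟩, ⟨_, rfl⟩⟩ (he.trans (congrArg Subtype.val hw1))]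
        exact congrArg θ (Subtype.ext (hηi1 ⟨_, hwR⟩ _).symm)
      rw [mul_comm (c H), zpow_mul, zpow_natCast, ← hidx]
      congr 1
      have : Fintype (Quotient (MulAction.orbitRel (Subgroup.zpowers z)
        (S ⧸ H.map (MonoidHom.fst S S)))) := Fintype.ofFinite _
      rw [MonoidHom.transfer_eq_prod_quotient_orbitRel_zpowers_quot,
        Subgroup.index_eq_sum_minimalPeriod (H.map (MonoidHom.fst S S)) z,
        ← Finset.prod_pow_eq_pow_sum]
      exact Finset.prod_congr rfl fun q _ => key _ _ _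
    show ∏ H ∈ s, _ = _
    rw [Finset.prod_congr rfl hone, degree, finsum_eq_sum_of_fintype]
    have hz' : ∀ (g : Subgroup (S × S) → ℤ), θ z ^ (∑ H ∈ s, g H) = ∏ H ∈ s, θ z ^ g H := fun g =>
      map_prod (zpowersHom A (θ z)) (fun H => Multiplicative.ofAdd (g H)) s
    rw [← hz']
    congr 1
    refine Finset.sum_subset (Finset.subset_univ s) fun H _ hH => ?_
    rw [show c H = 0 by
      by_contra hc
      exact hH (Finset.mem_filter.2 ⟨Finset.mem_univ _, hsupp H hc⟩), zero_mul]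

/-- If every map moves the elements of `Q ⊴ S` within their cosets of `T ≥ [S, S]`, then
`foc(F) ∩ Q ≤ T`. -/
theorem focal_inf_le_of_fixed (p : ℕ) [Fact p.Prime] (hS : IsPGroup p S) (hF : F.IsSaturated p)
    {T Q : Subgroup Ω} (hT : ⁅S, S⁆ ≤ T) (hQS : Q ≤ S)
    (hQn : S ≤ Subgroup.normalizer (Q : Set Ω))
    (hfix : ∀ (P : Subgroup Ω) (φ : P →* Ω), φ ∈ F.Hom P → ∀ x : P, (x : Ω) ∈ Q →
      (x : Ω)⁻¹ * φ x ∈ T) :
    F.focalSubgroup ⊓ Q ≤ T := by
  have hKc : commutator S ≤ T.subgroupOf S := fun x hx => Subgroup.mem_subgroupOf.2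
    (hT (S.map_subtype_commutator ▸ (Subgroup.mem_map_of_mem S.subtype hx)))
  have : (T.subgroupOf S).Normal := ⟨fun x hx g => by
    have h1 := mul_mem (hKc (Subgroup.commutator_mem_commutator
      (Subgroup.mem_top g) (Subgroup.mem_top x))) hx
    rw [commutatorElement_def] at h1
    simpa using h1⟩
  letI : CommGroup (S ⧸ T.subgroupOf S) :=
    { (inferInstance : Group (S ⧸ T.subgroupOf S)) with
      mul_comm := fun a b => by
        obtain ⟨x, rfl⟩ := QuotientGroup.mk'_surjective _ a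
        obtain ⟨y, rfl⟩ := QuotientGroup.mk'_surjective _ b
        rw [← map_mul, ← map_mul]
        refine QuotientGroup.eq.2 (hKc ?_)
        have h1 := Subgroup.commutator_mem_commutator (Subgroup.mem_top y⁻¹) (Subgroup.mem_top x⁻¹)
        rw [commutatorElement_def] at h1
        rw [commutator_def]
        simpa [mul_assoc] using h1 }
  set θ : S →* S ⧸ T.subgroupOf S := QuotientGroup.mk' _
  have hmem : ∀ x : S, θ x = 1 ↔ (x : Ω) ∈ T := fun x => QuotientGroup.eq_one_iff x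
  rintro z ⟨hzf, hzQ⟩
  have hzS : z ∈ S := hQS hzQ
  obtain ⟨μ, d, hd, hst, hval⟩ := exists_transfer p hS hF θ
  have hker : F.focalSubgroup ≤ μ.ker.map S.subtype := by
    refine (Subgroup.closure_le _).2 ?_
    rintro _ ⟨P, φ, x, hφ, rfl⟩
    refine ⟨⟨x, le_of_mem_hom hφ x.2⟩⁻¹ * ⟨φ x, apply_mem_S hφ x⟩, ?_, rfl⟩
    rw [SetLike.mem_coe, MonoidHom.mem_ker, map_mul, map_inv, hst P φ hφ x, inv_mul_cancel]
  obtain ⟨w, hw, hwe⟩ := hker hzf
  obtain rfl : w = ⟨z, hzS⟩ := Subtype.ext hwe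
  rw [SetLike.mem_coe, MonoidHom.mem_ker, hval _ fun k g P φ hφ x hx => by
    have hxQ : (x : Ω) ∈ Q := by
      rw [hx]
      simpa using (Subgroup.mem_normalizer_iff''.1 (hQn g.2) (z ^ k)).1 (pow_mem hzQ k)
    have h1 : θ (⟨x, le_of_mem_hom hφ x.2⟩⁻¹ * ⟨φ x, apply_mem_S hφ x⟩) = 1 :=
      (hmem _).2 (hfix P φ hφ x hxQ)
    rw [map_mul, map_inv, inv_mul_eq_one] at h1
    rw [← h1, show (⟨x, le_of_mem_hom hφ x.2⟩ : S) = g⁻¹ * ⟨z, hzS⟩ ^ k * g from Subtype.ext hx,
      map_mul, map_mul, map_inv, mul_comm (θ g)⁻¹, inv_mul_cancel_right, map_pow]] at hw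
  obtain ⟨k, hk⟩ := hS ⟨z, hzS⟩
  have h1 : θ ⟨z, hzS⟩ ^ ((p : ℤ) ^ k) = 1 := by
    rw [show ((p : ℤ) ^ k) = ((p ^ k : ℕ) : ℤ) by push_cast; rfl, zpow_natCast, ← map_pow, hk, map_one]
  have hcop : IsCoprime d ((p : ℤ) ^ k) := (IsCoprime.pow_right
    (((Nat.prime_iff_prime_int.1 (Fact.out : p.Prime)).coprime_iff_not_dvd.2 hd).symm))
  obtain ⟨a, b, hab⟩ := hcop
  refine (hmem ⟨z, hzS⟩).1 ?_
  rw [← zpow_one (θ ⟨z, hzS⟩), ← hab, zpow_add, mul_comm a, mul_comm b,
    zpow_mul, zpow_mul, hw, h1, one_zpow, one_zpow, one_mul]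

/-- `foc(F) ∩ Z(F) ≤ [S, S]`. -/
theorem focal_inf_center_le (p : ℕ) [Fact p.Prime] (hS : IsPGroup p S) (hF : F.IsSaturated p) :
    F.focalSubgroup ⊓ F.center ≤ ⁅S, S⁆ := by
  refine focal_inf_le_of_fixed p hS hF le_rfl center_le_S (fun g hg => ?_) fun P φ hφ x hx => by
    rw [isCentral_fix isCentral_center hφ x hx, inv_mul_cancel]
    exact one_mem _
  exact normal_S_le_normalizer (isNormal_of_isCentral isCentral_center) hg

end Main

end CfsgLib.Fusion

namespace CfsgLib.Fusion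

open scoped commutatorElement

variable {Ω : Type*} [Group Ω] {S : Subgroup Ω} {F : Cfsg.FusionSystem S}

/-- `[S, S] ≤ foc(F)`. -/
theorem commutator_le_focal : ⁅S, S⁆ ≤ F.focalSubgroup := by
  rw [Subgroup.commutator_le]
  intro a ha b hb
  refine Subgroup.subset_closure ⟨S, conjHom S b, ⟨a, ha⟩⁻¹, F.conj_mem le_rfl hb, ?_⟩
  show a * b * a⁻¹ * b⁻¹ = (a⁻¹)⁻¹ * (b * a⁻¹ * b⁻¹)
  group

end CfsgLib.Fusion
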