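import Cfsg.Agent.Fusion.Alperin
import Cfsg.Agent.Fusion.Transfer
import Cfsg.Agent.Transfer.PResidual

/-!
The maps moving every element within its coset of a subgroup containing `[S, S]`; the focal subgroup
lies in such a subgroup once the automorphism groups of `S` and of the essential subgroups have this
property.
-/

set_option autoImplicit false
set_option linter.style.haveILetI false

open Cfsg Cfsg.FusionSystem

namespace CfsgLib.Fusion

variable {Ω : Type*} [Group Ω] {S : Subgroup Ω}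

/-- The maps `φ` of `F` with `x⁻¹ φ(x) ∈ T` for all `x`. -/
def focalSystem (F : FusionSystem S) (T : Subgroup Ω) (hT : ⁅S, S⁆ ≤ T) : FusionSystem S where
  Hom P := {φ | φ ∈ F.Hom P ∧ ∀ x : P, (x : Ω)⁻¹ * φ x ∈ T}
  le_of_mem h := F.le_of_mem h.1
  injective_of_mem h := F.injective_of_mem h.1
  conj_mem {P g} hP hg := ⟨F.conj_mem hP hg, fun x => hT (by
    have h := Subgroup.commutator_mem_commutator (inv_mem (hP x.2)) hg
    rw [commutatorElement_def] at h
    simpa [conjHom, mul_assoc] using h)⟩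
  comp_mem {P Q φ ψ} hφ hψ h := ⟨F.comp_mem hφ.1 hψ.1 h, fun x => by
    have h2 := mul_mem (hφ.2 x) (hψ.2 ⟨φ x, h x⟩)
    simpa [mul_assoc] using h2⟩
  inv_mem {P φ} hφ := by
    obtain ⟨ψ, hψ, h⟩ := F.inv_mem hφ.1
    refine ⟨ψ, ⟨hψ, ?_⟩, h⟩
    rintro ⟨_, x, rfl⟩
    rw [h x]
    simpa using inv_mem (hφ.2 x)

variable {F : FusionSystem S}

/-- `foc(F) ≤ T` is decided on the automorphism groups of `S` and of the essential subgroups. -/
theorem focalSubgroup_le_of_aut [Finite S] (p : ℕ) [Fact p.Prime] (hS : IsPGroup p S)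
    (hF : F.IsSaturated p) {T : Subgroup Ω} (hT : ⁅S, S⁆ ≤ T)
    (h : ∀ P : Subgroup Ω, (P = S ∨ F.IsEssential p P) → ∀ α ∈ F.autGroup P, ∀ x : P,
      (x : Ω)⁻¹ * (α x : P) ∈ T) :
    F.focalSubgroup ≤ T := by
  have hle : F ≤ focalSystem F T hT := alperin_saturated p hS hF _ fun P hP α hα =>
    Subgroup.subset_closure ⟨(autGroup_carrier (by
      rcases hP with rfl | hP
      · exact le_rfl
      · exact hP.1.1)).1 hα, fun x => h P hP α hα x⟩
  refine (Subgroup.closure_le _).2 ?_
  rintro _ ⟨P, φ, x, hφ, rfl⟩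
  exact (hle P hφ).2 x

/-- `foc(F) ≤ T` as soon as `T` contains `[S, S]` and the commutators of the automorphisms of order
prime to `p`. -/
theorem focalSubgroup_le_of_pResidual [Finite S] (p : ℕ) [Fact p.Prime] (hS : IsPGroup p S)
    (hF : F.IsSaturated p) {T : Subgroup Ω} (hT : ⁅S, S⁆ ≤ T)
    (h : ∀ P : Subgroup Ω, (P = S ∨ F.IsEssential p P) → ∀ α : F.autGroup P,
      α ∈ pResidual p (F.autGroup P) → ∀ x : P, (x : Ω)⁻¹ * ((α : MulAut P) x : P) ∈ T) :
    F.focalSubgroup ≤ T := by
  refine focalSubgroup_le_of_aut p hS hF hT fun P hP α hα => ?_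
  have hPn : F.IsFullyNormalized P := by
    rcases hP with rfl | hP
    · exact ⟨le_rfl, fun Q hQ => by
        rw [show Q = P from eq_of_le_of_card_le le_rfl (IsConj.le_right hQ) (IsConj.card_eq hQ).ge]⟩
    · exact hP.2.1
  have : Finite P := finite_of_le hPn.1
  have : Finite (MulAut P) := finite_mulAut
  obtain ⟨⟨-, R, hR⟩, -⟩ := good_of_fullyNormalized p hS hF hPn
  let K : Subgroup (F.autGroup P) := {
    carrier := {β | ∀ x : P, (x : Ω)⁻¹ * ((β : MulAut P) x : P) ∈ T}
    one_mem' := fun x => by simp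
    mul_mem' := fun {a b} ha hb x => by
      have := mul_mem (hb x) (ha ((b : MulAut P) x))
      simpa [mul_assoc] using this
    inv_mem' := fun {a} ha x => by
      simpa using inv_mem (ha ((a : MulAut P)⁻¹ x)) }
  have hRK : (R : Subgroup (F.autGroup P)) ≤ K := by
    rw [hR]
    rintro β hβ x
    obtain ⟨g, hg, hga⟩ := mem_autInducedBy.1 (Subgroup.mem_subgroupOf.1 hβ)
    rw [hga x]
    refine hT ?_
    have h := Subgroup.commutator_mem_commutator (inv_mem (hPn.1 x.2)) hg
    rw [commutatorElement_def] at h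
    simpa [mul_assoc] using h
  have hK : K = ⊤ := by
    obtain ⟨k, hk⟩ := CfsgLib.PResidual.exists_index_pResidual (G := F.autGroup P) (p := p)
    refine Subgroup.index_eq_one.1 (Nat.eq_one_of_dvd_coprimes (Nat.Coprime.pow_left k
      ((Nat.Prime.coprime_iff_not_dvd Fact.out).2 R.not_dvd_index))
      (hk ▸ Subgroup.index_dvd_of_le (fun β hβ => h P hP β hβ))
      (Subgroup.index_dvd_of_le hRK))
  exact fun x => (hK.ge (Subgroup.mem_top (⟨α, hα⟩ : F.autGroup P))) x

end CfsgLib.Fusion
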