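import Cfsg.Agent.Fusion.TransferShift
import Cfsg.Agent.Fusion.FocalClosure
import Cfsg.Agent.Fusion.Factor
import Mathlib.GroupTheory.Frattini

/-!
Tate's theorem for saturated fusion systems: a hyperfocal subgroup inside the Frattini subgroup is
trivial.
-/

set_option autoImplicit false
set_option linter.style.haveILetI false

open Cfsg Cfsg.FusionSystem
open scoped commutatorElement

namespace CfsgLib.Fusion

universe u

/-! ### Groups -/

/-- Below a nontrivial normal subgroup of a `p`-group there is a normal subgroup of index `p` with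
central quotient. -/
theorem exists_central_index {G : Type*} [Group G] [Finite G] {p : ℕ} [Fact p.Prime]
    (hG : IsPGroup p G) {N : Subgroup G} [N.Normal] (hN : N ≠ ⊥) :
    ∃ M : Subgroup G, M ≤ N ∧ ⁅N, ⊤⁆ ≤ M ∧ p * Nat.card M = Nat.card N := by
  have hnil := hG.isNilpotent
  set K := ⁅N, (⊤ : Subgroup G)⁆
  have hKN : K ≤ N := Subgroup.commutator_le_left N ⊤
  have hlt : K < N := by
    refine lt_of_le_of_ne hKN fun he => hN ?_
    obtain ⟨c, hc⟩ := (⊤ : Subgroup G).isNilpotent_iff_lowerCentralSeries.1 inferInstance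
    have hi : ∀ i, N ≤ (⊤ : Subgroup G).lowerCentralSeries i := by
      intro i
      induction i with
      | zero => simp
      | succ i ih =>
        rw [Subgroup.lowerCentralSeries_succ, ← he]
        exact Subgroup.commutator_mono ih le_rfl
    exact le_bot_iff.1 ((hi c).trans hc.le)
  obtain ⟨b, hb⟩ := IsPGroup.iff_card.1 (hG.to_subgroup N)
  obtain ⟨a, ha⟩ := IsPGroup.iff_card.1 (hG.to_subgroup K)
  have hab : a < b := by
    refine lt_of_not_ge fun h => hlt.ne (Subgroup.eq_of_le_of_card_ge hKN ?_)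
    rw [ha, hb]
    exact Nat.pow_le_pow_right (Fact.out : p.Prime).pos h
  obtain ⟨M, hM, hKM⟩ := Sylow.exists_subgroup_card_pow_prime_le p (G := N) (n := a) (m := b - 1)
    (by rw [hb]; exact pow_dvd_pow p (Nat.sub_le b 1)) (K.subgroupOf N)
    (by rw [Nat.card_congr (Subgroup.subgroupOfEquivOfLe hKN).toEquiv, ha]) (by omega)
  refine ⟨M.map N.subtype, Subgroup.map_subtype_le M, ?_, ?_⟩
  · intro x hx
    exact ⟨⟨x, hKN hx⟩, hKM hx, rfl⟩
  · rw [← Nat.card_congr (M.equivMapOfInjective _ N.subtype_injective).toEquiv, hM, hb, ← pow_succ']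
    congr 1
    omega

/-- A hom to a group of order `p` kills the Frattini subgroup. -/
theorem frattini_le_ker {G A : Type*} [Group G] [Finite G] [Group A] {p : ℕ} [Fact p.Prime]
    (hA : Nat.card A = p) (μ : G →* A) : frattini G ≤ μ.ker := by
  have : Finite A := Nat.finite_of_card_ne_zero (hA ▸ (Fact.out : p.Prime).ne_zero)
  have hd : μ.ker.index ∣ p := by
    rw [Subgroup.index_ker, ← hA]
    exact Subgroup.card_subgroup_dvd_card _
  rcases (Nat.dvd_prime Fact.out).1 hd with h | h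
  · rw [Subgroup.index_eq_one.1 h]; exact le_top
  · refine frattini_le_coatom ⟨fun ht => ?_, fun K hK => ?_⟩
    · rw [ht, Subgroup.index_top] at h
      exact (Fact.out : p.Prime).one_lt.ne h
    · rcases (Nat.dvd_prime Fact.out).1 (h ▸ Subgroup.index_dvd_of_le hK.le) with h1 | h1
      · exact Subgroup.index_eq_one.1 h1
      · refine absurd (Subgroup.eq_of_le_of_card_ge hK.le ?_) hK.ne
        have h2 := μ.ker.card_mul_index
        have h3 := K.card_mul_index
        rw [h] at h2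
        rw [h1] at h3
        exact le_of_eq (Nat.eq_of_mul_eq_mul_right (Fact.out : p.Prime).pos (h3.trans h2.symm))

/-! ### Automorphism groups -/

variable {Ω : Type u} [Group Ω] {S : Subgroup Ω} [Finite S] {F : FusionSystem S}

/-- `Aut_F(P)` is generated by `Aut_S(P)` and `O^p(Aut_F(P))` for fully normalized `P`. -/
theorem autGroup_le_of_pResidual (p : ℕ) [Fact p.Prime] (hS : IsPGroup p S) (hF : F.IsSaturated p)
    {P : Subgroup Ω} (hP : P = S ∨ F.IsEssential p P) {K : Subgroup (MulAut P)}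
    (hi : autInducedBy S P ≤ K)
    (hr : ∀ α : F.autGroup P, α ∈ pResidual p (F.autGroup P) → (α : MulAut P) ∈ K) :
    F.autGroup P ≤ K := by
  have hPn : F.IsFullyNormalized P := by
    rcases hP with rfl | hP
    · exact ⟨le_rfl, fun Q hQ => by
        rw [show Q = P from eq_of_le_of_card_le le_rfl (IsConj.le_right hQ) (IsConj.card_eq hQ).ge]⟩
    · exact hP.2.1
  have : Finite P := finite_of_le hPn.1
  have : Finite (MulAut P) := finite_mulAut
  obtain ⟨⟨-, R, hR⟩, -⟩ := good_of_fullyNormalized p hS hF hPn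
  obtain ⟨k, hk⟩ := CfsgLib.PResidual.exists_index_pResidual (G := F.autGroup P) (p := p)
  have hK : K.subgroupOf (F.autGroup P) = ⊤ :=
    Subgroup.index_eq_one.1 (Nat.eq_one_of_dvd_coprimes (Nat.Coprime.pow_left k
      ((Nat.Prime.coprime_iff_not_dvd Fact.out).2 R.not_dvd_index))
      (hk ▸ Subgroup.index_dvd_of_le fun β hβ => hr β hβ)
      (Subgroup.index_dvd_of_le fun β hβ => hi (Subgroup.mem_subgroupOf.1 (hR.le hβ))))
  exact Subgroup.subgroupOf_eq_top.1 hK

/-- The maps acting like an element of `S` modulo `T`. -/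
def innerModSystem (F : FusionSystem S) (T : Subgroup Ω)
    (hTn : S ≤ Subgroup.normalizer (T : Set Ω)) : FusionSystem S where
  Hom P := {φ | φ ∈ F.Hom P ∧ ∃ s ∈ S, ∀ x : P, (s * (x : Ω) * s⁻¹)⁻¹ * φ x ∈ T}
  le_of_mem h := F.le_of_mem h.1
  injective_of_mem h := F.injective_of_mem h.1
  conj_mem {P g} hP hg := ⟨F.conj_mem hP hg, g, hg, fun x => by simp [conjHom, mul_assoc]⟩
  comp_mem {P Q φ ψ} hφ hψ h := by
    obtain ⟨hφ, s, hs, hsx⟩ := hφ
    obtain ⟨hψ, t, ht, htx⟩ := hψ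
    refine ⟨F.comp_mem hφ hψ h, t * s, mul_mem ht hs, fun x => ?_⟩
    have h1 := (Subgroup.mem_normalizer_iff.1 (hTn ht) _).1 (hsx x)
    have h2 := mul_mem h1 (htx ⟨φ x, h x⟩)
    simpa [mul_assoc] using h2
  inv_mem {P φ} hφ := by
    obtain ⟨hφ, s, hs, hsx⟩ := hφ
    obtain ⟨ψ, hψ, h⟩ := F.inv_mem hφ
    refine ⟨ψ, ⟨hψ, s⁻¹, Subgroup.inv_mem _ hs, ?_⟩, h⟩
    rintro ⟨_, x, rfl⟩
    rw [h x]
    have h1 := (Subgroup.mem_normalizer_iff.1 (hTn (Subgroup.inv_mem _ hs)) _).1
      (Subgroup.inv_mem _ (hsx x))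
    simpa [mul_assoc] using h1

/-- If `T ⊴ S` contains the hyperfocal subgroup, every map acts like an element of `S` modulo `T`. -/
theorem exists_inner_mod (p : ℕ) [Fact p.Prime] (hS : IsPGroup p S) (hF : F.IsSaturated p)
    {T : Subgroup Ω} (hTn : S ≤ Subgroup.normalizer (T : Set Ω))
    (hT : F.hyperfocalSubgroup p ≤ T) {P : Subgroup Ω} {φ : P →* Ω} (hφ : φ ∈ F.Hom P) :
    ∃ s ∈ S, ∀ x : P, (s * (x : Ω) * s⁻¹)⁻¹ * φ x ∈ T := by
  refine (alperin_saturated p hS hF (innerModSystem F T hTn) (fun Y hY => ?_) P hφ).2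
  have hYS : Y ≤ S := by
    rcases hY with rfl | h
    exacts [le_rfl, h.1.1]
  refine autGroup_le_of_pResidual p hS hF hY (fun α hα => ?_) fun α hα => ?_
  · obtain ⟨g, hg, hga⟩ := mem_autInducedBy.1 hα
    exact Subgroup.subset_closure ⟨(autGroup_carrier hYS).1 (autInducedBy_le_autGroup hYS hα),
      g, hg, fun x => by
        show (g * (x : Ω) * g⁻¹)⁻¹ * ((α x : Y) : Ω) ∈ T
        rw [hga x]; simp [mul_assoc]⟩
  · exact Subgroup.subset_closure ⟨(autGroup_carrier hYS).1 α.2, 1, one_mem _, fun x => hT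
      (Subgroup.subset_closure ⟨Y, α, x, hYS, hα, by simp⟩)⟩

section Step

variable (p : ℕ) [Fact p.Prime] (hS : IsPGroup p S) (hF : F.IsSaturated p) {T T' : Subgroup Ω}
  (hTn : S ≤ Subgroup.normalizer (T : Set Ω)) (hT : F.hyperfocalSubgroup p ≤ T)
  (hTS : T ≤ S) (hT'T : T' ≤ T) (hc : ⁅T, S⁆ ≤ T')
  (hidx : p * Nat.card T' = Nat.card T)

include hS hF hTn hT hTS hT'T hc hidx in
/-- The step: a central maximal subgroup of `T` cuts the hyperfocal subgroup like a subgroup of `S`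
containing the Frattini subgroup. -/
theorem exists_frattini_le_inf_eq : ∃ K : Subgroup S, frattini S ≤ K ∧
    F.hyperfocalSubgroup p ⊓ K.map S.subtype = F.hyperfocalSubgroup p ⊓ T' := by
  classical
  have := finite_of_le hTS
  have hconj : ∀ s ∈ S, ∀ y ∈ T, y⁻¹ * (s * y * s⁻¹) ∈ T' := fun s hs y hy => hc (by
    have h1 := Subgroup.commutator_mem_commutator (Subgroup.inv_mem _ hy) hs
    rw [commutatorElement_def] at h1
    simpa [mul_assoc] using h1)
  have hcomm : commutator T ≤ T'.subgroupOf T := fun x hx => Subgroup.mem_subgroupOf.2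
    (hc (Subgroup.commutator_mono le_rfl hTS (T.map_subtype_commutator ▸
      Subgroup.mem_map_of_mem T.subtype hx)))
  have : (T'.subgroupOf T).Normal := ⟨fun x hx g => Subgroup.mem_subgroupOf.2 (by
    have h1 := mul_mem (Subgroup.mem_subgroupOf.1 hx) (hconj g (hTS g.2) x x.2)
    simpa using h1)⟩
  letI : CommGroup (T ⧸ T'.subgroupOf T) :=
    { (inferInstance : Group (T ⧸ T'.subgroupOf T)) with
      mul_comm := fun a b => by
        obtain ⟨x, rfl⟩ := QuotientGroup.mk'_surjective _ a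
        obtain ⟨y, rfl⟩ := QuotientGroup.mk'_surjective _ b
        rw [← map_mul, ← map_mul]
        refine QuotientGroup.eq.2 (hcomm ?_)
        have h1 := Subgroup.commutator_mem_commutator (Subgroup.mem_top y⁻¹) (Subgroup.mem_top x⁻¹)
        rw [commutatorElement_def] at h1
        rw [commutator_def]
        simpa [mul_assoc] using h1 }
  let lam : T →* (T ⧸ T'.subgroupOf T) := QuotientGroup.mk' _
  have hlam : ∀ y : T, lam y = 1 ↔ (y : Ω) ∈ T' := fun y => QuotientGroup.eq_one_iff y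
  have hcardA : Nat.card (T ⧸ T'.subgroupOf T) = p := by
    have h1 := Subgroup.card_eq_card_quotient_mul_card_subgroup (T'.subgroupOf T)
    rw [Nat.card_congr (Subgroup.subgroupOfEquivOfLe hT'T).toEquiv, ← hidx] at h1
    exact (Nat.eq_of_mul_eq_mul_right (@Nat.card_pos T' _ (finite_of_le (hT'T.trans hTS))) h1).symm
  have : Fintype (T ⧸ T'.subgroupOf T) := Fintype.ofFinite (T ⧸ T'.subgroupOf T)
  have hlamc : ∀ (s : Ω), s ∈ S → ∀ (y : T) (h : s * y * s⁻¹ ∈ T),
      lam ⟨s * y * s⁻¹, h⟩ = lam y := by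
    intro s hs y h
    have h1 : lam (y⁻¹ * ⟨s * y * s⁻¹, h⟩) = 1 := (hlam _).2 (hconj s hs y y.2)
    rw [map_mul, map_inv, inv_mul_eq_one] at h1
    exact h1.symm
  -- a hom on `S` correcting `lam` to an invariant one
  obtain ⟨c, hsupp, hdeg, hst⟩ := exists_stable_biset hS hF
  obtain ⟨μ, hinv'⟩ : ∃ μ : S →* (T ⧸ T'.subgroupOf T), ∀ (P : Subgroup Ω) (φ : P →* Ω),
      φ ∈ F.Hom P → ∀ (x : P) (hx : (x : Ω) ∈ T) (hφx : φ x ∈ T),
      μ ⟨φ x, hTS hφx⟩ * lam ⟨φ x, hφx⟩ ^ degree c =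
        μ ⟨x, hTS hx⟩ * lam ⟨x, hx⟩ ^ degree c := by
    have : Fintype S := Fintype.ofFinite S
    have : Fintype (Subgroup (S × S)) := Fintype.ofFinite _
    let s₀ : Finset (Subgroup (S × S)) := Finset.univ.filter (IsGraph F)
    have hlift : ∀ H : Subgroup (S × S), IsGraph F H → ∃ t ∈ S, ∀ w ∈ H,
        (t * (w.1 : Ω) * t⁻¹)⁻¹ * (w.2 : Ω) ∈ T := by
      rintro H ⟨R, η, hη, hgo⟩
      obtain ⟨ηi, hηi, -, hηi1, -⟩ := exists_inv hη (rfl : η.range = η.range)
      obtain ⟨t, ht, htx⟩ := exists_inner_mod p hS hF hTn hT hηi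
      refine ⟨t, ht, fun w hw => ?_⟩
      obtain ⟨hwR, he⟩ := (hgo w).1 hw
      have h1 := htx ⟨η ⟨_, hwR⟩, ⟨_, rfl⟩⟩
      have h2 : ηi ⟨η ⟨_, hwR⟩, ⟨_, rfl⟩⟩ = (w.2 : Ω) := hηi1 ⟨_, hwR⟩ _
      rw [h2] at h1
      change (t * η ⟨_, hwR⟩ * t⁻¹)⁻¹ * _ ∈ T at h1
      rwa [he] at h1
    choose t htS htw using hlift
    let e : ∀ H : Subgroup (S × S), IsGraph F H → H ≃* H.map (MonoidHom.fst S S) := fun H h =>
      MulEquiv.ofBijective ((MonoidHom.fst S S).subgroupMap H)
        ⟨fun a b he => Subtype.ext (h.fst_inj a.2 b.2 (congrArg Subtype.val he)),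
          (MonoidHom.fst S S).subgroupMap_surjective H⟩
    let χ : ∀ (H : Subgroup (S × S)) (h : IsGraph F H), H →* (T ⧸ T'.subgroupOf T) := fun H h =>
      MonoidHom.mk' (fun w => lam ⟨_, htw H h w w.2⟩) fun v w => by
        have hv := htw H h v v.2
        have hw := htw H h w w.2
        have hm : (t H h * ((w : S × S).1 : Ω) * (t H h)⁻¹)⁻¹ *
            ((t H h * ((v : S × S).1 : Ω) * (t H h)⁻¹)⁻¹ * ((v : S × S).2 : Ω)) *
            (t H h * ((w : S × S).1 : Ω) * (t H h)⁻¹) ∈ T := by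
          have h1 := (Subgroup.mem_normalizer_iff''.1 (hTn (mul_mem (mul_mem (htS H h)
            (w : S × S).1.2) (Subgroup.inv_mem _ (htS H h)))) _).1 hv
          exact h1
        rw [show (⟨_, htw H h (v * w : H) (v * w).2⟩ : T) = ⟨_, hm⟩ * ⟨_, hw⟩ from
          Subtype.ext (by simp [mul_assoc]), map_mul]
        congr 1
        have h2 := hlamc _ (Subgroup.inv_mem _ (mul_mem (mul_mem (htS H h) (w : S × S).1.2)
          (Subgroup.inv_mem _ (htS H h)))) ⟨_, hv⟩ (by simpa [mul_assoc] using hm)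
        refine Eq.trans ?_ h2
        exact congrArg lam (Subtype.ext (by simp [mul_assoc]))
    let f : ∀ H : Subgroup (S × S), H.map (MonoidHom.fst S S) →* (T ⧸ T'.subgroupOf T) := fun H =>
      if h : IsGraph F H then (χ H h).comp (e H h).symm.toMonoidHom else 1
    have hf : ∀ (H : Subgroup (S × S)) (h : IsGraph F H) (w : S × S) (hw : w ∈ H),
        f H ⟨w.1, ⟨w, hw, rfl⟩⟩ = lam ⟨_, htw H h w hw⟩ := by
      intro H h w hw
      simp only [f, dif_pos h]
      show χ H h ((e H h).symm ⟨w.1, _⟩) = _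
      rw [show (e H h).symm ⟨w.1, ⟨w, hw, rfl⟩⟩ = ⟨w, hw⟩ from
        (MulEquiv.symm_apply_eq _).2 rfl]
      rfl
    -- counts through the marks
    have key : ∀ (z : S) (hz : (z : Ω) ∈ T) (n : ℕ) (a : (T ⧸ T'.subgroupOf T)),
        (∑ H ∈ s₀, c H * valCount (P := H.map (MonoidHom.fst S S)) (f H) z n a) * (Nat.card S : ℤ) =
        ∑ y : S, if ∃ h : (y : Ω) ∈ T, lam ⟨y, h⟩ = a * lam ⟨z, hz⟩ ^ n then
          mark c (Subgroup.zpowers ((z ^ n, y) : S × S)) else 0 := by
      intro z hz n a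
      have hmark : ∀ y : S, mark c (Subgroup.zpowers ((z ^ n, y) : S × S)) =
          ∑ H ∈ s₀, c H * fixCount H (Subgroup.zpowers ((z ^ n, y) : S × S)) := by
        intro y
        rw [mark, finsum_eq_sum_of_fintype]
        refine (Finset.sum_subset (Finset.subset_univ s₀) fun H _ hH => ?_).symm
        rw [show c H = 0 by
          by_contra hc0
          exact hH (Finset.mem_filter.2 ⟨Finset.mem_univ _, hsupp H hc0⟩), zero_mul]
      let Pr : S → Prop := fun y => ∃ h : (y : Ω) ∈ T, lam ⟨y, h⟩ = a * lam ⟨z, hz⟩ ^ n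
      have hPr : ∀ s y : S, Pr y → Pr (s * y * s⁻¹) := by
        rintro s y ⟨hy, hya⟩
        exact ⟨(Subgroup.mem_normalizer_iff.1 (hTn s.2) _).1 hy, (hlamc s s.2 ⟨y, hy⟩ _).trans hya⟩
      have hdet : ∀ H (h : IsGraph F H), ∀ w (hw : w ∈ H) (g : S), w.1 = g⁻¹ * z ^ n * g →
          (f H ⟨w.1, ⟨w, hw, rfl⟩⟩ = a ↔ Pr w.2) := by
        intro H h w hw g hwg
        have hw1 : (w.1 : Ω) ∈ T := by
          rw [hwg]
          simpa using (Subgroup.mem_normalizer_iff''.1 (hTn g.2) _).1 (pow_mem hz n)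
        have hlw1 : lam ⟨w.1, hw1⟩ = lam ⟨z, hz⟩ ^ n := by
          rw [← map_pow]
          refine Eq.trans ?_ (hlamc _ (Subgroup.inv_mem _ g.2) (⟨z, hz⟩ ^ n) (by
            simpa [hwg] using hw1))
          exact congrArg lam (Subtype.ext (by simp [hwg]))
        have htw1 : t H h * (w.1 : Ω) * (t H h)⁻¹ ∈ T :=
          (Subgroup.mem_normalizer_iff.1 (hTn (htS H h)) _).1 hw1
        have hw2 : (w.2 : Ω) ∈ T := by
          simpa only [mul_inv_cancel_left] using mul_mem htw1 (htw H h w hw)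
        rw [hf H h w hw, show (⟨_, htw H h w hw⟩ : T) = ⟨_, htw1⟩⁻¹ * ⟨_, hw2⟩ from rfl, map_mul,
          map_inv, hlamc _ (htS H h) ⟨w.1, hw1⟩, hlw1, inv_mul_eq_iff_eq_mul, mul_comm _ a]
        exact ⟨fun he => ⟨hw2, he⟩, fun ⟨_, he⟩ => he⟩
      simp only [hmark]
      rw [Finset.sum_mul]
      rw [Finset.sum_congr rfl fun H hH => show
        c H * (valCount (P := H.map (MonoidHom.fst S S)) (f H) z n a : ℤ) * (Nat.card S : ℤ) =
          c H * ((∑ y : S, if Pr y then fixCount H (Subgroup.zpowers ((z ^ n, y) : S × S))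
            else 0 : ℕ) : ℤ) by
        rw [mul_assoc, ← Nat.cast_mul]
        congr 2
        convert (sum_fixCount_detect Pr hPr (Finset.mem_filter.1 hH).2 (f H) z n a
          (hdet H (Finset.mem_filter.1 hH).2)).symm]
      simp only [Nat.cast_sum, Finset.mul_sum]
      rw [Finset.sum_comm]
      refine Finset.sum_congr rfl fun y _ => ?_
      show _ = if Pr y then _ else _
      split_ifs <;> simp
    refine ⟨MonoidHom.mk' (fun z => ∏ H ∈ s₀, MonoidHom.transfer (f H) z ^ c H) fun z w => by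
      simp only [map_mul, mul_zpow, Finset.prod_mul_distrib], fun P φ hφ x hx hφx => ?_⟩
    have hd : (∑ H ∈ s₀, c H * ((H.map (MonoidHom.fst S S)).index : ℤ)) = degree c := by
      rw [degree, finsum_eq_sum_of_fintype]
      refine (Finset.sum_congr rfl fun H hH => ?_).trans (Finset.sum_subset (Finset.subset_univ s₀)
        fun H _ hH => ?_)
      · congr 2
        rw [← Subgroup.card_mul_index (H.map (MonoidHom.fst S S)),
          ← Nat.card_congr (e H (Finset.mem_filter.1 hH).2).toEquiv,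
          Nat.mul_div_cancel_left _ Nat.card_pos]
      · rw [show c H = 0 by
          by_contra hc0
          exact hH (Finset.mem_filter.2 ⟨Finset.mem_univ _, hsupp H hc0⟩), zero_mul]
    set x₀ : S := ⟨x, hTS hx⟩
    set x₁ : S := ⟨φ x, hTS hφx⟩
    set b₀ := lam ⟨x, hx⟩
    set b₁ := lam ⟨φ x, hφx⟩
    have hshift := transfer_combination_shift s₀ c (fun H => H.map (MonoidHom.fst S S)) f x₀ x₁ (b₀ * b₁⁻¹) fun n _ a => by
      refine mul_right_cancel₀ (Int.natCast_ne_zero.2 (Nat.card_pos (α := S)).ne') ?_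
      rw [key x₀ hx, key x₁ hφx]
      refine Finset.sum_congr rfl fun y _ => ?_
      rw [show a * (b₀ * b₁⁻¹) ^ n * b₁ ^ n = a * b₀ ^ n by
        rw [mul_pow, inv_pow, mul_assoc, inv_mul_cancel_right]]
      congr 1
      refine mark_zpowers_eq hsupp hst hφ (x := x₀ ^ n) (x' := x₁ ^ n) (by
        simpa [x₀] using pow_mem x.2 n) ?_
      refine (apply_congr φ (y := x ^ n) ?_).trans ?_
      · simp [x₀]
      · rw [map_pow]; simp [x₁]
    rw [hd] at hshift
    show (∏ H ∈ s₀, MonoidHom.transfer (f H) x₁ ^ c H) * b₁ ^ degree c =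
      (∏ H ∈ s₀, MonoidHom.transfer (f H) x₀ ^ c H) * b₀ ^ degree c
    rw [← hshift, mul_zpow, inv_zpow, mul_assoc, inv_mul_cancel_right]
  have := finite_of_le (P := T) hTS
  let nu : T →* (T ⧸ T'.subgroupOf T) := MonoidHom.mk'
    (fun y => μ ⟨y, hTS y.2⟩ * lam y ^ degree c) fun y z => by
      rw [map_mul, mul_zpow, show (⟨((y * z : T) : Ω), hTS (y * z).2⟩ : S) =
        ⟨y, hTS y.2⟩ * ⟨z, hTS z.2⟩ from rfl, map_mul, mul_mul_mul_comm]
  have hinv : ∀ (P : Subgroup Ω) (φ : P →* Ω) (_ : φ ∈ F.Hom P) (x : P) (hx : (x : Ω) ∈ T)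
      (hφx : φ x ∈ T), nu ⟨φ x, hφx⟩ = nu ⟨x, hx⟩ := hinv'
  set T'' : Subgroup Ω := nu.ker.map T.subtype
  have hnu : ∀ y : T, nu y = 1 ↔ (y : Ω) ∈ T'' := fun y =>
    ⟨fun h => ⟨y, h, rfl⟩, fun ⟨z, hz, hze⟩ => Subtype.ext hze ▸ hz⟩
  have hhyp : F.hyperfocalSubgroup p ≤ T'' := by
    -- the generators
    refine (Subgroup.closure_le _).2 ?_
    rintro _ ⟨P, α, x, hP, hα, rfl⟩
    let K : Subgroup (F.autGroup P) :=
      { carrier := {β | ∀ x : P, (x : Ω)⁻¹ * ((β : MulAut P) x : P) ∈ T''}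
        one_mem' := fun x => by simp
        mul_mem' := fun {a b} ha hb x => by
          have := mul_mem (hb x) (ha ((b : MulAut P) x))
          simpa [mul_assoc] using this
        inv_mem' := fun {a} ha x => by
          simpa using inv_mem (ha ((a : MulAut P)⁻¹ x)) }
    refine (show pResidual p (F.autGroup P) ≤ K from ?_) hα x
    rw [pResidual, Subgroup.closure_le]
    intro β hβ y
    have hu : ∀ (k : ℕ) (z : P), (z : Ω)⁻¹ * (((β : MulAut P) ^ k) z : P) ∈ T := by
      intro k z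
      refine hT (Subgroup.subset_closure ⟨P, β ^ k, z, hP, pow_mem (Subgroup.subset_closure hβ) k, ?_⟩)
      simp
    have hmul : ∀ k : ℕ, nu ⟨_, hu k y⟩ = nu ⟨_, hu 1 y⟩ ^ k := by
      intro k
      induction k with
      | zero => exact ((hnu _).2 (by simp)).trans (pow_zero _).symm
      | succ k ih =>
        set z : P := y⁻¹ * ((β : MulAut P) ^ k) y
        have hz : (z : Ω) ∈ T := by simpa [z] using hu k y
        have hβz : (((β : MulAut P) z : P) : Ω) ∈ T := by
          have h1 := mul_mem hz (hu 1 z)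
          simpa using h1
        have h3 := hinv P _ ((autGroup_carrier hP).1 β.2) z hz hβz
        rw [show (⟨_, hu (k + 1) y⟩ : T) = ⟨_, hu 1 y⟩ * ⟨_, hβz⟩ from Subtype.ext (by
          simp [z, pow_succ', mul_assoc]), map_mul]
        refine Eq.trans ?_ (pow_succ' _ k).symm
        rw [← ih]
        exact congrArg _ (h3.trans (congrArg nu (Subtype.ext (by simp [z]))))
    have h1 := hmul (orderOf β)
    rw [show nu ⟨_, hu (orderOf β) y⟩ = 1 from (hnu _).2 (by
      have e : (β : MulAut P) ^ orderOf β = 1 := by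
        rw [← SubmonoidClass.coe_pow, pow_orderOf_eq_one]; rfl
      show (y : Ω)⁻¹ * (((β : MulAut P) ^ orderOf β) y : P) ∈ T''
      rw [e]; simp)] at h1
    have h2 : nu ⟨_, hu 1 y⟩ = 1 := orderOf_eq_one_iff.1 (Nat.eq_one_of_dvd_coprimes
      (hβ : (orderOf β).Coprime p) (orderOf_dvd_of_pow_eq_one h1.symm) (hcardA ▸ orderOf_dvd_natCard _))
    simpa using (hnu _).1 h2
  refine ⟨μ.ker, frattini_le_ker hcardA μ, ?_⟩
  have hiff : ∀ y (hy : y ∈ F.hyperfocalSubgroup p), μ ⟨y, hTS (hT hy)⟩ = 1 ↔ y ∈ T' := by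
    intro y hy
    have h1 : μ ⟨y, hTS (hT hy)⟩ * lam ⟨y, hT hy⟩ ^ degree c = 1 := (hnu ⟨y, hT hy⟩).2 (hhyp hy)
    rw [← hlam ⟨y, hT hy⟩]
    constructor
    · intro h
      rw [h, one_mul] at h1
      have h2 : lam ⟨y, hT hy⟩ ^ (p : ℤ) = 1 := by
        rw [zpow_natCast, ← hcardA]; exact pow_card_eq_one'
      obtain ⟨i, j, hij⟩ : IsCoprime (degree c) (p : ℤ) :=
        (((Nat.prime_iff_prime_int.1 (Fact.out : p.Prime)).coprime_iff_not_dvd.2 hdeg)).symm
      rw [← zpow_one (lam ⟨y, hT hy⟩), ← hij, zpow_add, mul_comm i, mul_comm j, zpow_mul, zpow_mul,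
        h1, h2, one_zpow, one_zpow, one_mul]
    · intro h
      rwa [h, one_zpow, mul_one] at h1
  ext y
  constructor
  · rintro ⟨hy, z, hz, hze⟩
    obtain rfl : z = ⟨y, hTS (hT hy)⟩ := Subtype.ext hze
    exact ⟨hy, (hiff y hy).1 hz⟩
  · rintro ⟨hy, hyT⟩
    exact ⟨hy, ⟨y, hTS (hT hy)⟩, (hiff y hy).2 hyT, rfl⟩

end Step

/-- **Tate's theorem**: a hyperfocal subgroup inside the Frattini subgroup is trivial. -/
theorem hyperfocal_eq_bot_of_le_frattini (p : ℕ) [Fact p.Prime] (hS : IsPGroup p S)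
    (hF : F.IsSaturated p) (h : F.hyperfocalSubgroup p ≤ (frattini S).map S.subtype) :
    F.hyperfocalSubgroup p = ⊥ := by
  suffices H : ∀ (n : ℕ) (T : Subgroup S), Nat.card T = n → T.Normal → T ≤ frattini S →
      F.hyperfocalSubgroup p ≤ T.map S.subtype → F.hyperfocalSubgroup p = ⊥ from
    H _ (frattini S) rfl inferInstance le_rfl h
  intro n
  induction n using Nat.strong_induction_on with
  | _ n ih =>
  intro T hn hTn hTΦ hhT
  by_cases hT : T = ⊥
  · exact eq_bot_iff.2 (hhT.trans (by rw [hT, Subgroup.map_bot]))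
  obtain ⟨M, hMT, hcM, hcard⟩ := exists_central_index hS hT
  have hMn : M.Normal := ⟨fun m hm g => by
    have h1 := mul_mem (hcM (Subgroup.commutator_mem_commutator (hMT hm) (Subgroup.mem_top g)))
      (one_mem M)
    rw [commutatorElement_def] at h1
    have h2 := mul_mem (Subgroup.inv_mem _ h1) hm
    simpa [mul_assoc] using h2⟩
  obtain ⟨K, hΦK, hK⟩ := exists_frattini_le_inf_eq p hS hF (T := T.map S.subtype)
    (T' := M.map S.subtype) (fun g hg => by
      refine mem_normalizer_of_conj_mem (Subgroup.map_subtype_le T) ?_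
      rintro _ ⟨t, ht, rfl⟩
      exact ⟨_, hTn.conj_mem t ht ⟨g, hg⟩, rfl⟩) hhT (Subgroup.map_subtype_le T)
    (Subgroup.map_mono hMT) (le_trans (le_of_eq (by
      rw [Subgroup.map_commutator, ← MonoidHom.range_eq_map, S.range_subtype]))
      (Subgroup.map_mono hcM)) (by
      rw [← Nat.card_congr (M.equivMapOfInjective _ S.subtype_injective).toEquiv,
        ← Nat.card_congr (T.equivMapOfInjective _ S.subtype_injective).toEquiv, hcard])
  refine ih (Nat.card M) ?_ M rfl hMn (hMT.trans hTΦ)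
    ((le_inf le_rfl ((hhT.trans (Subgroup.map_mono (hTΦ.trans hΦK))))).trans
      (hK.le.trans inf_le_right))
  rw [← hn, ← hcard]
  exact lt_mul_of_one_lt_left Nat.card_pos (Fact.out : p.Prime).one_lt

/-- `hyp(F)` lies in `S`. -/
theorem hyperfocalSubgroup_le_S (p : ℕ) : F.hyperfocalSubgroup p ≤ S := by
  refine (Subgroup.closure_le _).2 ?_
  rintro _ ⟨P, α, x, hP, -, rfl⟩
  exact mul_mem (Subgroup.inv_mem _ (hP x.2)) (hP ((α : MulAut P) x).2)

/-- `S` normalizes `hyp(F)`. -/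
theorem le_normalizer_hyperfocal (p : ℕ) :
    S ≤ Subgroup.normalizer (F.hyperfocalSubgroup p : Set Ω) := by
  intro g hg
  refine mem_normalizer_of_conj_mem (hyperfocalSubgroup_le_S (F := F) p) fun y hy => ?_
  induction hy using Subgroup.closure_induction with
  | mem y hy =>
    obtain ⟨P, α, x, hP, hα, rfl⟩ := hy
    have hφ : conjHom P g ∈ F.Hom P := F.conj_mem hP hg
    set e := isoRange (conjHom P g) (F.injective_of_mem hφ) (rfl : (conjHom P g).range = _)
    have : Finite P := finite_of_le hP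
    have : Finite (MulAut P) := finite_mulAut
    let f : F.autGroup P →* F.autGroup (conjHom P g).range :=
      ((MulAut.congr e).toMonoidHom.comp (F.autGroup P).subtype).codRestrict _ fun β =>
        pow_mem_autGroup_iso hP hφ e (fun _ => rfl) β.2
    have hfe : ∀ z : P, (f α : MulAut (conjHom P g).range) (e z) = e ((α : MulAut P) z) := fun z => by
      simp [f, MulAut.congr]
    refine Subgroup.subset_closure ⟨_, f α, e x, range_le_S hφ,
      CfsgLib.PResidual.map_pResidual_le f ⟨α, hα, rfl⟩, ?_⟩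
    rw [hfe]
    show g * ((x : Ω)⁻¹ * ((α : MulAut P) x : P)) * g⁻¹ =
      (g * (x : Ω) * g⁻¹)⁻¹ * (g * (((α : MulAut P) x : P) : Ω) * g⁻¹)
    group
  | one => simp
  | mul y z _ _ hy hz =>
    have := mul_mem hy hz
    simpa [mul_assoc] using this
  | inv y _ hy => simpa [mul_assoc] using Subgroup.inv_mem _ hy

/-- The hyperfocal subgroup is strongly closed. -/
theorem stronglyClosed_hyperfocal (p : ℕ) [Fact p.Prime] (hS : IsPGroup p S)
    (hF : F.IsSaturated p) : F.StronglyClosed (F.hyperfocalSubgroup p) := by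
  refine ⟨hyperfocalSubgroup_le_S p, fun R hR φ hφ x => ?_⟩
  obtain ⟨s, hs, hsx⟩ := exists_inner_mod p hS hF (le_normalizer_hyperfocal p) le_rfl hφ
  have h1 := mul_mem ((Subgroup.mem_normalizer_iff.1 (le_normalizer_hyperfocal (F := F) p hs) _).1
    (hR x.2)) (hsx x)
  simpa only [mul_inv_cancel_left] using h1

end CfsgLib.Fusion
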