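import Cfsg.Agent.Fusion.FocalControl
import Cfsg.Agent.Kinf.Consequences
import Cfsg.Agent.Fusion.Factor

/-
For p at least 5, a saturated fusion system over a nontrivial p-group S whose automizer of S is a
p-group has focal subgroup properly inside S: the lower K-infinity subgroup controls the focal
subgroup, and one recurses in the factor system of its normalizer system.
-/

set_option autoImplicit false

namespace CfsgLib.Fusion

open Cfsg Cfsg.FusionSystem

universe u

variable {p : ℕ} [Fact p.Prime]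

open CfsgLib.Kinf in
/-- The transfer functor given by the lower K-infinity subgroup. -/
noncomputable def kInfTransfer (hp : 5 ≤ p) : TransferFunctor.{u} p where
  W := fun Q _ => Cfsg.kInfLower Q
  ne_bot := (isCharPFunctor_kInf.{u} p).1.1
  map := (isCharPFunctor_kInf.{u} p).1.2
  grp G _ _ P _ := by
    have hW := (isCharPFunctor_kInf.{u} p).1
    have h := transfer_eq hW (transfer_kInf_group hp _ hW fun Γ _ _ S h => Or.inl h) P
    have hle : Cfsg.pCore p G ≤ (P : Subgroup G) := CfsgLib.Fitting.pCore_le_sylow P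
    rw [Subgroup.map_subtype_commutator]
    calc Cfsg.pCore p G ⊓ commutator G
        = Cfsg.pCore p G ⊓ ((P : Subgroup G) ⊓ commutator G) := by
          rw [← inf_assoc, inf_eq_left.2 hle]
      _ = _ := by
          rw [h, ← inf_assoc, inf_eq_left.2 hle]
          rfl

section

variable {Ω : Type u} [Group Ω] {S : Subgroup Ω} {F : FusionSystem S} [Finite S]

/-- If the automizer of `S` is a p-group it consists of conjugations by elements of `S`. -/
theorem autGroup_S_eq_of_isPGroup (hS : IsPGroup p S) (hF : F.IsSaturated p)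
    (haut : IsPGroup p (F.autGroup S)) : F.autGroup S = autInducedBy S S := by
  have hfn : F.IsFullyNormalized S := ⟨le_rfl, fun R _ => card_le_of_le
    (normalizerIn_le_S S) ((normalizerIn_le_S R).trans (le_normalizerIn le_rfl))⟩
  obtain ⟨⟨-, R, hR⟩, -⟩ := good_of_fullyNormalized p hS hF hfn
  refine le_antisymm (fun α hα => ?_) (autInducedBy_le_autGroup le_rfl)
  have htop : (R : Subgroup (F.autGroup S)) = ⊤ :=
    (R.3 (haut.to_subgroup ⊤) le_top).symm
  exact Subgroup.mem_subgroupOf.1 (hR ▸ htop.ge (Subgroup.mem_top (⟨α, hα⟩ : F.autGroup S)))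

end

/-- **The focal subgroup is proper** for `p ≥ 5` when `Aut_F(S)` is a p-group. -/
theorem focalSubgroup_lt_of_aut (hp : 5 ≤ p) :
    ∀ (n : ℕ) {Ω : Type u} [Group Ω] (S : Subgroup Ω) (F : FusionSystem S), Finite S →
      IsPGroup p S → Nat.card S = n → S ≠ ⊥ → F.IsSaturated p → IsPGroup p (F.autGroup S) →
      F.focalSubgroup < S := by
  intro n
  induction n using Nat.strong_induction_on with
  | _ n ih =>
  intro Ω _ S F hfin hS hn hS1 hF haut
  let C := kInfTransfer.{u} hp
  set W := wOf C.W S with hW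
  have hWle : W ≤ S := Subgroup.map_subtype_le _
  have hWc : IsCharIn S W := isCharIn_map fun a => C.map _ _ hS a
  have hW1 : W ≠ ⊥ := by
    haveI := (Subgroup.nontrivial_iff_ne_bot S).2 hS1
    intro hb
    exact C.ne_bot S hS inferInstance
      ((Subgroup.map_eq_bot_iff_of_injective _ S.subtype_injective).1 hb)
  obtain ⟨N, hN, hNs, -, hNn, hNF, -⟩ :=
    exists_normSystem_eq p hS hF (fun {_} _ => True) hWle hWc.le_normalizer fun _ _ => trivial
  have hcomm : ⁅S, S⁆ ≤ N.focalSubgroup := commutator_le_focal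
  have hle : F.focalSubgroup ≤ N.focalSubgroup :=
    C.focal_le _ S F N.focalSubgroup hfin hS rfl hF hcomm fun P φ hφ x =>
      Subgroup.subset_closure ⟨P, φ, x, (hN P).ge hφ, rfl⟩
  refine hle.trans_lt ?_
  have hautN : IsPGroup p (N.autGroup S) := haut.to_le (autGroup_mono hNF S)
  rcases eq_or_ne W S with hWS | hWS
  · -- `S` is normal and every map is a conjugation
    have hnil : (⁅S, S⁆ : Subgroup Ω) < S := by
      have hns := hS.isNilpotent
      haveI := (Subgroup.nontrivial_iff_ne_bot S).2 hS1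
      have h1 : commutator S < ⊤ := IsSolvable.commutator_lt_top_of_nontrivial S
      refine lt_of_le_of_ne (Subgroup.commutator_le_self S) fun he => h1.ne ?_
      apply Subgroup.map_injective S.subtype_injective
      rw [Subgroup.map_subtype_commutator, he, ← MonoidHom.range_eq_map, S.range_subtype]
    refine lt_of_le_of_lt ((Subgroup.closure_le _).2 ?_) hnil
    rintro _ ⟨P, φ, x, hφ, rfl⟩
    obtain ⟨ψ, hψ, he, hm⟩ := hNn.2 P φ hφ
    have hPS := le_of_mem_hom hφ
    have hsub : S ≤ P ⊔ W := hWS ▸ le_sup_right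
    have hψ' := restrict_mem hψ hsub
    have hr : (ψ.comp (Subgroup.inclusion hsub)).range = S :=
      eq_of_le_of_card_le le_rfl (range_le_S hψ') (card_range hψ').ge
    have hmem := autOfRange_mem hψ' hr
    rw [autGroup_S_eq_of_isPGroup hS hNs hautN, mem_autInducedBy] at hmem
    obtain ⟨g, hg, hge⟩ := hmem
    have hval : φ x = g * x * g⁻¹ := by
      rw [← he x, ← hge ⟨x, hPS x.2⟩]
      exact apply_congr ψ rfl
    rw [hval]
    have h1 := Subgroup.commutator_mem_commutator (S.inv_mem (hPS x.2)) hg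
    rw [commutatorElement_def, inv_inv] at h1
    show (x : Ω)⁻¹ * (g * x * g⁻¹) ∈ ⁅S, S⁆
    simpa [mul_assoc] using h1
  · -- the factor system modulo `W`
    have hsc : N.StronglyClosed W := stronglyClosed_of_isNormal hNn
    haveI : (W.subgroupOf S).Normal := (Subgroup.normal_subgroupOf_iff_le_normalizer hWle).2 hWc.le_normalizer
    set θ := QuotientGroup.mk' (W.subgroupOf S) with hθ
    have hk : ∀ s : S, θ s = 1 ↔ (s : Ω) ∈ W := fun s =>
      (QuotientGroup.eq_one_iff s).trans Subgroup.mem_subgroupOf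
    have hr : θ.range = ⊤ := MonoidHom.range_eq_top.2 (QuotientGroup.mk'_surjective _)
    set E := factorSystem hsc hk hr with hE
    have hspec := factorSystem_spec hsc hk hr
    have hEs := factor_saturated hsc hspec p hS hNs
    have hpT : IsPGroup p (⊤ : Subgroup (S ⧸ W.subgroupOf S)) :=
      (hS.of_surjective _ (QuotientGroup.mk'_surjective _)).to_subgroup ⊤
    have hne : (⊤ : Subgroup (S ⧸ W.subgroupOf S)) ≠ ⊥ := by
      intro h
      refine hWS (le_antisymm hWle fun x hx => ?_)
      exact (hk ⟨x, hx⟩).1 (Subgroup.mem_bot.1 (h ▸ Subgroup.mem_top _))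
    have hlt : Nat.card (⊤ : Subgroup (S ⧸ W.subgroupOf S)) < n := by
      rw [Subgroup.card_top, ← hn, Subgroup.card_eq_card_quotient_mul_card_subgroup (W.subgroupOf S)]
      refine lt_mul_right Nat.card_pos ((Subgroup.one_lt_card_iff_ne_bot _).2 fun h => hW1 ?_) |>.trans_le
        le_rfl
      rw [← Subgroup.map_subgroupOf_eq_of_le hWle, h, Subgroup.map_bot]
    have hpre : preimg θ (⊤ : Subgroup (S ⧸ W.subgroupOf S)) = S :=
      le_antisymm (preimg_le _) fun x hx => mem_preimg.2 ⟨hx, Subgroup.mem_top _⟩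
    have hautE : IsPGroup p (E.autGroup ⊤) := by
      rintro ⟨α, hα⟩
      obtain ⟨φ, hφ, hind⟩ := exists_lift_hom hspec ((autGroup_carrier le_rfl).1 hα)
      have hφ' := restrict_mem hφ hpre.ge
      have hr' : (φ.comp (Subgroup.inclusion hpre.ge)).range = S :=
        eq_of_le_of_card_le le_rfl (range_le_S hφ') (card_range hφ').ge
      set β := autOfRange (φ.comp (Subgroup.inclusion hpre.ge)) (N.injective_of_mem hφ') hr'
        with hβ
      obtain ⟨k, hk'⟩ := hautN ⟨β, autOfRange_mem hφ' hr'⟩
      have hβk : β ^ p ^ k = 1 := congrArg Subtype.val hk'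
      have hiter : ∀ (m : ℕ) (s : S), (α ^ m) ⟨θ s, Subgroup.mem_top _⟩ =
          ⟨θ ((β ^ m) s), Subgroup.mem_top _⟩ := by
        intro m
        induction m with
        | zero => simp
        | succ m ihm =>
          intro s
          rw [pow_succ', MulAut.mul_apply, ihm, pow_succ', MulAut.mul_apply]
          exact Subtype.ext (induced_apply hind ⟨((β ^ m) s : S), hpre.ge ((β ^ m) s).2⟩)
      refine ⟨k, Subtype.ext (MulEquiv.ext fun y => ?_)⟩
      obtain ⟨y, -⟩ := y
      obtain ⟨s, rfl⟩ := QuotientGroup.mk'_surjective (W.subgroupOf S) y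
      show (α ^ p ^ k) _ = _
      rw [hiter, hβk]
      rfl
    have hrec := ih _ hlt (⊤ : Subgroup (S ⧸ W.subgroupOf S)) E inferInstance hpT rfl hne hEs hautE
    have hmap : N.focalSubgroup ≤ preimg θ E.focalSubgroup := by
      refine (Subgroup.closure_le _).2 ?_
      rintro _ ⟨P, φ, x, hφ, rfl⟩
      obtain ⟨ψ, hψ, he, -⟩ := hNn.2 P φ hφ
      obtain ⟨ψ', hψ', hind⟩ := exists_factor_hom hsc hspec hψ le_sup_right rfl
      refine mem_preimg.2 ⟨mul_mem (Subgroup.inv_mem _ (le_of_mem_hom hφ x.2)) (apply_mem_S hφ x),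
        ?_⟩
      show θ ((⟨x, le_of_mem_hom hφ x.2⟩ : S)⁻¹ * ⟨φ x, apply_mem_S hφ x⟩) ∈ _
      rw [map_mul, map_inv]
      refine Subgroup.subset_closure ⟨_, ψ',
        ⟨θ ⟨x, le_of_mem_hom hφ x.2⟩, apply_mem_img (ι := θ)
          (x := ⟨x, le_of_mem_hom hφ x.2⟩) (Subgroup.mem_sup_left x.2)⟩, hψ', ?_⟩
      refine congrArg _ (((induced_apply hind (Subgroup.inclusion le_sup_left x)
        (hφ := apply_mem_S hψ _)).trans ?_).symm)
      exact congrArg θ (Subtype.ext (he x))
    refine lt_of_le_of_lt hmap (lt_of_le_of_ne (preimg_le _) fun he => hrec.not_ge fun y _ => ?_)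
    obtain ⟨s, hs⟩ := QuotientGroup.mk'_surjective (W.subgroupOf S) y
    obtain ⟨hs', hmem⟩ := mem_preimg.1 (he.ge s.2)
    exact hs ▸ hmem

end CfsgLib.Fusion
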