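import Cfsg.Agent.Fusion.RankTwoEssential
import Cfsg.Agent.LocalB.QdSylow
import Cfsg.Agent.AutPOm.Extensions
import Cfsg.Agent.Unitary.ThreeTwo
import Cfsg.Agent.ZJ.Replacement

/-!
Essential subgroups of order `p³`.
-/

set_option autoImplicit false
set_option linter.unusedSectionVars false
set_option linter.style.haveILetI false

open Cfsg Cfsg.FusionSystem
open scoped commutatorElement

namespace CfsgLib.Fusion

universe u

/-- A nonabelian group of order `p³` has centre, Frattini subgroup of order `p` and `x ^ p` central. -/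
theorem cube_frattini {Q : Type u} [Group Q] [Finite Q] {p : ℕ} [hp : Fact p.Prime]
    (hcard : Nat.card Q = p ^ 3) (hne : ¬ ∀ a b : Q, a * b = b * a) :
    frattini Q = Subgroup.center Q ∧ Nat.card (Subgroup.center Q) = p ∧
      (∀ a b : Q, ⁅a, b⁆ ∈ Subgroup.center Q) ∧ ∀ a : Q, a ^ p ∈ Subgroup.center Q := by
  have hP : IsPGroup p Q := IsPGroup.of_card hcard
  haveI : Nontrivial Q := by
    rcases subsingleton_or_nontrivial Q with h | h
    · exact absurd (fun a b => Subsingleton.elim _ _) hne
    · exact h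
  have hncyc : ¬ IsCyclic (Q ⧸ Subgroup.center Q) := fun h =>
    hne (commutative_of_cyclic_center_quotient (QuotientGroup.mk' (Subgroup.center Q)) (by simp))
  obtain ⟨k, hk⟩ := (hP.to_subgroup (Subgroup.center Q)).exists_card_eq
  have hZnt : Nontrivial (Subgroup.center Q) := hP.center_nontrivial
  have h1 : 1 < Nat.card (Subgroup.center Q) := Finite.one_lt_card
  have hk0 : k ≠ 0 := fun h => by rw [hk, h, pow_zero] at h1; omega
  have hmul := (Subgroup.center Q).index_mul_card
  rw [hcard, hk, Subgroup.index_eq_card] at hmul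
  have hk3 : k ≤ 3 := (Nat.pow_dvd_pow_iff_le_right hp.out.one_lt).1 (Dvd.intro_left _ hmul)
  have hidx : Nat.card (Q ⧸ Subgroup.center Q) = p ^ (3 - k) := by
    apply Nat.eq_of_mul_eq_mul_right (pow_pos hp.out.pos k)
    rw [hmul, ← pow_add]; congr 1; omega
  have hk1 : k = 1 := by
    by_contra h
    apply hncyc
    rcases (show 3 - k = 0 ∨ 3 - k = 1 by omega) with e | e
    · rw [e, pow_zero] at hidx
      haveI := (Nat.card_eq_one_iff_unique.1 hidx).1
      infer_instance
    · rw [e, pow_one] at hidx
      exact isCyclic_of_prime_card hidx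
  rw [hk1] at hk hidx
  rw [pow_one] at hk
  have hc : ∀ a b : Q, ⁅a, b⁆ ∈ Subgroup.center Q := fun a b => by
    rw [← QuotientGroup.eq_one_iff, ← QuotientGroup.mk'_apply, map_commutatorElement,
      commutatorElement_eq_one_iff_mul_comm]
    exact IsPGroup.commutative_of_card_eq_prime_sq hidx _ _
  have hpow : ∀ a : Q, a ^ p ∈ Subgroup.center Q := fun a => by
    rw [← QuotientGroup.eq_one_iff, QuotientGroup.mk_pow]
    by_contra hne'
    have hd := orderOf_dvd_natCard (a : Q ⧸ Subgroup.center Q)
    rw [hidx] at hd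
    obtain ⟨j, hj, hjo⟩ := (Nat.dvd_prime_pow hp.out).1 hd
    have : j = 2 := by
      by_contra hj2
      exact hne' (orderOf_dvd_iff_pow_eq_one.1 (hjo ▸ (by
        rcases (show j = 0 ∨ j = 1 by omega) with rfl | rfl <;> simp)))
    exact hncyc (isCyclic_of_orderOf_eq_card _ (by rw [hjo, this, hidx]))
  refine ⟨le_antisymm (CfsgLib.PGroupBasic.frattini_le_of_elementary (p := p) _ (by
    rw [_root_.commutator_def, Subgroup.commutator_le]
    exact fun a _ b _ => hc a b) hpow) ?_, hk, hc, hpow⟩
  have hle := (CfsgLib.PGroupBasic.commutator_pow_le_frattini hP).1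
  have hne' : commutator Q ≠ ⊥ := fun h => hne fun a b =>
    commutatorElement_eq_one_iff_mul_comm.1 (Subgroup.mem_bot.1 (h ▸
      Subgroup.commutator_mem_commutator (Subgroup.mem_top a) (Subgroup.mem_top b)))
  have hcle : commutator Q ≤ Subgroup.center Q := by
    rw [_root_.commutator_def, Subgroup.commutator_le]
    exact fun a _ b _ => hc a b
  have : commutator Q = Subgroup.center Q := by
    refine Subgroup.eq_of_le_of_card_ge hcle ?_
    rcases (Nat.dvd_prime hp.out).1 (hk ▸ Subgroup.card_dvd_of_le hcle) with h | h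
    · exact absurd (Subgroup.card_eq_one.1 h) hne'
    · rw [hk]; exact h.ge
  exact this ▸ hle

variable {Ω : Type u} [Group Ω] {S : Subgroup Ω} {F : FusionSystem S}

/-- An essential subgroup has no invariant subgroup strictly between a Frattini subgroup of index
`p²` and itself. -/
theorem essential_no_char [Finite S] (p : ℕ) [Fact p.Prime] (hS : IsPGroup p S)
    (hF : F.IsSaturated p) {H : Subgroup Ω} (hH : F.IsEssential p H)
    (hidx : (frattini H).index = p ^ 2) (M : Subgroup H) (hle : frattini H ≤ M)
    (hinv : ∀ g ∈ F.autGroup H, ∀ x ∈ M, g x ∈ M) : M = frattini H ∨ M = ⊤ := by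
  classical
  have hp := (Fact.out : p.Prime)
  have := finite_of_le hH.1.1
  have : Finite (MulAut H) := finite_mulAut
  have hHp := isPGroup_of_le hS hH.1.1
  let V := H ⧸ frattini H
  have hcomm : ∀ a b : V, a * b = b * a := fun a b => by
    induction a using QuotientGroup.induction_on with
    | H a =>
      induction b using QuotientGroup.induction_on with
      | H b =>
        rw [← commutatorElement_eq_one_iff_mul_comm, ← QuotientGroup.mk'_apply, ← QuotientGroup.mk'_apply,
          ← map_commutatorElement, QuotientGroup.mk'_apply, QuotientGroup.eq_one_iff]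
        exact (CfsgLib.PGroupBasic.commutator_pow_le_frattini hHp).1
          (Subgroup.commutator_mem_commutator (Subgroup.mem_top a) (Subgroup.mem_top b))
  letI : CommGroup V := { (inferInstance : Group V) with mul_comm := hcomm }
  let act : MulAut H →* MulAut V := MonoidHom.mk'
    (fun α => QuotientGroup.congr (frattini H) (frattini H) α
      (Subgroup.characteristic_iff_map_eq.1 frattini_characteristic α))
    fun α β => MulEquiv.ext fun x => by
      induction x using QuotientGroup.induction_on with
      | H x => rfl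
  let ρ : F.autGroup H →* MulAut V := act.comp (F.autGroup H).subtype
  have hrad := (isRadical_of_essential p hS hH).2
  have hInn : ∀ a : F.autGroup H, (a : MulAut H) ∈ Inn H → ρ a = 1 := by
    rintro a ⟨q, hq⟩
    refine MulEquiv.ext fun v => ?_
    induction v using QuotientGroup.induction_on with
    | H x =>
      show (((a : MulAut H) x : H) : V) = (x : V)
      rw [← hq]
      show ((q * x * q⁻¹ : H) : V) = (x : V)
      rw [QuotientGroup.mk_mul, QuotientGroup.mk_mul, QuotientGroup.mk_inv, hcomm (q : V) (x : V),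
        mul_inv_cancel_right]
  have hker : ρ.ker = pCore p (F.autGroup H) := by
    refine le_antisymm (CfsgLib.Solvable.le_pCore p inferInstance ?_) fun a ha => hInn a ?_
    · refine (CfsgLib.MetacyclicAut.isPGroup_frattiniKernel hHp).of_injective
        (((F.autGroup H).subtype.comp ρ.ker.subtype).codRestrict _ fun a x => ?_)
        fun a b hab => Subtype.ext (Subtype.ext (congrArg
          (fun z : CfsgLib.MetacyclicAut.frattiniKernel H => (z : MulAut H)) hab :))
      have h1 : ((((a : F.autGroup H) : MulAut H) x : H) : V) = (x : V) := by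
        have h2 := DFunLike.congr_fun (MonoidHom.mem_ker.1 a.2) (x : V)
        exact h2
      rw [← QuotientGroup.eq_one_iff, QuotientGroup.mk_mul, QuotientGroup.mk_inv]
      show ((((a : F.autGroup H) : MulAut H) x : H) : V) * (x : V)⁻¹ = 1
      rw [h1, mul_inv_cancel]
    · exact hrad.le ⟨a, ha, rfl⟩
  have hcore : pCore p ρ.range = ⊥ := by
    obtain ⟨hn, hpc⟩ := CfsgLib.Solvable.pCore_spec (G := ρ.range) p
    rw [eq_bot_iff]
    intro x hx
    obtain ⟨a, rfl⟩ := ρ.rangeRestrict_surjective x
    have hmem : a ∈ pCore p (F.autGroup H) := by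
      refine CfsgLib.Solvable.le_pCore p (hn.comap ρ.rangeRestrict) ?_ hx
      refine hpc.comap_of_ker_isPGroup _ ?_
      rw [MonoidHom.ker_rangeRestrict, hker]
      exact (CfsgLib.Solvable.pCore_spec (G := F.autGroup H) p).2
    rw [← hker, MonoidHom.mem_ker] at hmem
    exact Subgroup.mem_bot.2 (Subtype.ext hmem)
  obtain ⟨g, hg, hgH⟩ := SetLike.exists_of_lt (lt_normalizerIn p hS le_rfl (essential_lt p hS hF hH))
  have htA : conjAut S H ⟨g, hg⟩ ∈ autInducedBy S H := mem_autInducedBy.2 ⟨g, hg.1, fun _ => rfl⟩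
  let t : F.autGroup H := ⟨_, autInducedBy_le_autGroup hH.1.1 htA⟩
  have hT1 : ρ t ≠ 1 := fun h => by
    have h1 : t ∈ pCore p (F.autGroup H) := hker ▸ MonoidHom.mem_ker.2 h
    exact hgH ((inn_mem_iff hH.1 hg.1 (α := (t : MulAut H)) fun _ => rfl).1 (hrad.le ⟨t, h1, rfl⟩))
  obtain ⟨l, hl⟩ := (isPGroup_autInducedBy hS H) ⟨_, htA⟩
  have htl : (ρ t) ^ p ^ l = 1 := by
    rw [← map_pow, show t ^ p ^ l = 1 from Subtype.ext (congrArg Subtype.val hl :), map_one]
  have hV : Nat.card V = p ^ 2 := by rw [← Subgroup.index_eq_card, hidx]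
  have hVexp : ∀ x : V, x ^ p = 1 := fun x => by
    induction x using QuotientGroup.induction_on with
    | H x =>
      rw [← QuotientGroup.mk_pow, QuotientGroup.eq_one_iff]
      exact (CfsgLib.PGroupBasic.commutator_pow_le_frattini hHp).2 x
  rcases no_invariant_line ρ.range hV hVexp (t := ρ t) ⟨t, rfl⟩ htl hT1 hcore
    (M.map (QuotientGroup.mk' (frattini H))) (by
      rintro _ ⟨a, rfl⟩ _ ⟨x, hx, rfl⟩
      exact ⟨(a : MulAut H) x, hinv a a.2 x hx, rfl⟩) with h | h
  · left
    exact le_antisymm (fun x hx =>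
      (QuotientGroup.eq_one_iff x).1 (Subgroup.mem_bot.1 (h.le ⟨x, hx, rfl⟩))) hle
  · right
    rw [← Subgroup.comap_map_eq_self (f := QuotientGroup.mk' (frattini H)) (H := M)
      (by rw [QuotientGroup.ker_mk']; exact hle), h, Subgroup.comap_top]

/-- Essential subgroups of order `p³`. -/
theorem essential_of_card_cube [Finite S] (p : ℕ) [Fact p.Prime] (hS : IsPGroup p S)
    (hF : F.IsSaturated p) {H : Subgroup Ω} (hH : F.IsEssential p H) (hcard : Nat.card H = p ^ 3) :
    Cfsg.IsElementaryAbelian p H ∨ (Odd p ∧ Cfsg.IsExtraspecial p H ∧ ∀ x ∈ H, x ^ p = 1) ∨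
      (p = 2 ∧ Nonempty (H ≃* QuaternionGroup 2)) := by
  classical
  have hp := (Fact.out : p.Prime)
  have := finite_of_le hH.1.1
  have hHp := isPGroup_of_le hS hH.1.1
  by_cases hab : ∀ a b : H, a * b = b * a
  · left
    have hab' : IsMulCommutative H := ⟨⟨hab⟩⟩
    obtain ⟨r, hr⟩ := hHp.index (frattini H)
    rcases Nat.lt_or_ge r 3 with hr3 | hr3
    · exfalso
      rcases essential_rank_two p hS hF hH hab'
        (hr ▸ Nat.pow_le_pow_right hp.pos (by omega)) with ⟨-, h⟩ | ⟨-, k, ⟨e⟩⟩
      · rw [hcard] at h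
        have := Nat.pow_right_injective hp.two_le h
        omega
      · rw [Nat.card_congr e.toEquiv, Nat.card_congr Multiplicative.toAdd, Nat.card_prod,
          Nat.card_zmod, ← pow_add] at hcard
        have := Nat.pow_right_injective hp.two_le hcard
        omega
    have hbot : frattini H = ⊥ := by
      rw [← Subgroup.card_eq_one]
      have h := (frattini H).index_mul_card
      rw [hcard, hr] at h
      have h1 : p ^ 3 ≤ p ^ r := Nat.pow_le_pow_right hp.pos hr3
      have h2 : 0 < Nat.card (frattini H) := Nat.card_pos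
      have h3 : 0 < p ^ r := pow_pos hp.pos r
      nlinarith
    refine ⟨hab', fun x hx => ?_⟩
    have h := (CfsgLib.PGroupBasic.commutator_pow_le_frattini hHp).2 (⟨x, hx⟩ : H)
    rw [hbot, Subgroup.mem_bot] at h
    exact congrArg Subtype.val h
  obtain ⟨hΦ, hZ, hc, hpow⟩ := cube_frattini hcard hab
  have hidx : (frattini H).index = p ^ 2 := by
    have h := (frattini H).index_mul_card
    rw [hΦ, hZ, hcard, pow_succ] at h
    rw [hΦ]
    exact Nat.eq_of_mul_eq_mul_right hp.pos h
  have hzp : ∀ z ∈ Subgroup.center H, z ^ p = 1 := fun z hz => by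
    have h := pow_card_eq_one' (x := (⟨z, hz⟩ : Subgroup.center H))
    rw [hZ] at h
    exact congrArg Subtype.val h
  by_cases hp2 : p = 2
  · right; right
    subst hp2
    refine ⟨rfl, CfsgLib.Unitary.nonempty_mulEquiv_quaternion (by rw [hcard]; norm_num) (fun x => ?_) ?_⟩
    · rw [show 4 = 2 * 2 by norm_num, pow_mul]; exact hzp _ (hpow x)
    by_cases hinv : ∃ a : H, a ^ 2 = 1 ∧ a ∉ Subgroup.center H
    · exfalso
      obtain ⟨a, ha, haZ⟩ := hinv
      obtain ⟨b, hb⟩ : ∃ b : H, a * b ≠ b * a := by
        by_contra hcon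
        push Not at hcon
        exact haZ (Subgroup.mem_center_iff.2 fun b => (hcon b).symm)
      obtain ⟨e⟩ := CfsgLib.AutPOm.nonempty_equiv_dihedral (G := H) (by rw [hcard]; norm_num)
        (by rw [← pow_two, ha]) hb
      have hr : ∀ v : DihedralGroup 4, v ^ 2 ≠ 1 → ∃ i : ZMod 4, v = DihedralGroup.r i := by decide
      have hr1 : orderOf (DihedralGroup.r (1 : ZMod 4)) = 4 := DihedralGroup.orderOf_r_one
      let M : Subgroup H := frattini H ⊔ Subgroup.closure {x : H | x ^ 2 ≠ 1}
      have hMi : ∀ g ∈ F.autGroup H, ∀ x ∈ M, g x ∈ M := by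
        intro g _
        suffices M ≤ M.comap g.toMonoidHom from fun x hx => this hx
        refine sup_le (fun x hx => Subgroup.mem_sup_left
          (Subgroup.characteristic_iff_le_comap.1 frattini_characteristic g hx))
          ((Subgroup.closure_le _).2 fun x hx => ?_)
        refine Subgroup.mem_sup_right (Subgroup.subset_closure ?_)
        show (g x) ^ 2 ≠ 1
        rw [← map_pow]
        exact fun h => hx ((map_eq_one_iff _ g.injective).1 h)
      have hMR : M ≤ Subgroup.zpowers (e.symm (DihedralGroup.r 1)) := by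
        refine sup_le (fun x hx => ?_) ((Subgroup.closure_le _).2 fun x hx => ?_)
        · have h1 : e.symm (DihedralGroup.r 1) ^ 2 ∈ Subgroup.center H := hpow _
          have h2 : e.symm (DihedralGroup.r 1) ^ 2 ≠ 1 := by
            rw [← map_pow, Ne, map_eq_one_iff _ e.symm.injective]
            decide
          rw [hΦ] at hx
          obtain ⟨i, hi⟩ := Subgroup.mem_zpowers_iff.1 (mem_zpowers_of_prime_card hZ
            (g := (⟨_, h1⟩ : Subgroup.center H)) (g' := ⟨x, hx⟩) fun h => h2 (congrArg Subtype.val h))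
          have hi' : (e.symm (DihedralGroup.r 1) ^ 2) ^ i = x := congrArg Subtype.val hi
          rw [← hi']
          exact zpow_mem (pow_mem (Subgroup.mem_zpowers _) 2) i
        · obtain ⟨i, hi⟩ := hr (e x) (fun h => hx (e.injective (by rw [map_pow, h, map_one])))
          refine ⟨(i.val : ℤ), ?_⟩
          show e.symm (DihedralGroup.r 1) ^ (i.val : ℤ) = x
          rw [zpow_natCast, ← map_pow, MulEquiv.symm_apply_eq, hi, DihedralGroup.r_one_pow,
            ZMod.natCast_zmod_val]
      rcases essential_no_char 2 hS hF hH hidx M le_sup_left hMi with h | h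
      · have hmem : e.symm (DihedralGroup.r 1) ∈ M := Subgroup.mem_sup_right (Subgroup.subset_closure
          (show e.symm (DihedralGroup.r 1) ^ 2 ≠ 1 by
            rw [← map_pow, Ne, map_eq_one_iff _ e.symm.injective]; decide))
        rw [h, hΦ] at hmem
        have h4 : e.symm (DihedralGroup.r 1) ^ 2 = 1 := hzp _ hmem
        rw [← map_pow, map_eq_one_iff _ e.symm.injective] at h4
        revert h4
        decide
      · have h8 := Subgroup.card_le_of_le (h ▸ hMR)
        rw [Subgroup.card_top, hcard, Nat.card_zpowers, MulEquiv.orderOf_eq, hr1] at h8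
        omega
    intro x y hx hy hx1 hy1
    push Not at hinv
    have := hinv x hx
    obtain ⟨i, hi⟩ := Subgroup.mem_zpowers_iff.1 (mem_zpowers_of_prime_card hZ
      (g := (⟨x, hinv x hx⟩ : Subgroup.center H)) (g' := ⟨y, hinv y hy⟩) fun h => hx1 (congrArg Subtype.val h))
    have hi' : x ^ i = y := congrArg Subtype.val hi
    rcases Int.even_or_odd i with ⟨m, rfl⟩ | ⟨m, rfl⟩
    · refine absurd ?_ hy1
      rw [← hi', ← two_mul, zpow_mul, show x ^ (2 : ℤ) = 1 by rw [zpow_two, ← pow_two, hx], one_zpow]
    · rw [← hi', zpow_add, zpow_mul, show x ^ (2 : ℤ) = 1 by rw [zpow_two, ← pow_two, hx], one_zpow,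
        one_mul, zpow_one]
  -- odd primes
  right; left
  have hmulpow : ∀ a b : H, (a * b) ^ p = a ^ p * b ^ p := by
    intro a b
    have hz := fun g => (Subgroup.mem_center_iff.1 (hc b a) g).symm
    obtain ⟨m, hm⟩ := hp.dvd_choose_self two_ne_zero (lt_of_le_of_ne hp.two_le (Ne.symm hp2))
    rw [CfsgLib.ZJ.mul_pow_of_central (z := ⁅b, a⁆) (by rw [commutatorElement_def]; group) (hz a) (hz b),
      hm, pow_mul, hzp _ (hc b a), one_pow, one_mul]
  have hexp : ∀ a : H, a ^ p = 1 := by
    by_contra hne
    push Not at hne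
    obtain ⟨a, ha⟩ := hne
    let f : H →* H := MonoidHom.mk' (fun x => x ^ p) hmulpow
    have hinv : ∀ g ∈ F.autGroup H, ∀ x ∈ f.ker, g x ∈ f.ker := fun g _ x hx => by
      show (g x) ^ p = 1
      rw [← map_pow, show x ^ p = 1 from hx, map_one]
    have hle : frattini H ≤ f.ker := fun x hx => hzp x (hΦ ▸ hx)
    rcases essential_no_char p hS hF hH hidx f.ker hle hinv with h | h
    · have h1 : f.ker.index = Nat.card f.range := Subgroup.index_ker f
      have h2 : f.range ≤ Subgroup.center H := by rintro _ ⟨x, rfl⟩; exact hpow x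
      have h3 := Subgroup.card_le_of_le h2
      rw [← h1, h, hidx, hZ] at h3
      nlinarith [hp.two_le]
    · exact ha (h.ge (Subgroup.mem_top a) : a ∈ f.ker)
  exact ⟨hp.odd_of_ne_two hp2, CfsgLib.LocalB.isExtraspecial_of_cube hexp hcard hab,
    fun x hx => congrArg Subtype.val (hexp ⟨x, hx⟩)⟩

end CfsgLib.Fusion
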