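import Mathlib
import Cfsg.Agent.Fusion.Alperin

/-!
In a `p`-group of maximal class, an automiser of the second centre moving the centre makes the
centraliser of the second centre essential.
-/

set_option autoImplicit false
set_option linter.unusedSectionVars false
set_option linter.style.haveILetI false
set_option maxHeartbeats 1000000

open Cfsg Cfsg.FusionSystem
open scoped commutatorElement

namespace CfsgLib.Fusion.MaximalClass

/-- The first two terms of the upper central series in maximal class. -/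
theorem card_upper {G : Type*} [Group G] [Finite G] {p : ℕ} [hp : Fact p.Prime] (hG : IsPGroup p G)
    {n : ℕ} (hn : Nat.card G = p ^ n) (h4 : 4 ≤ n)
    (hmax : (⊤ : Subgroup G).lowerCentralSeries (n - 2) ≠ ⊥) :
    Nat.card (Subgroup.center G) = p ∧ Nat.card (Subgroup.upperCentralSeries G 2) = p ^ 2 := by
  haveI := hG.isNilpotent
  set U := Subgroup.upperCentralSeries G with hU
  have hstep : ∀ j, U j ≤ U (j + 1) := fun j x hx =>
    Subgroup.mem_upperCentralSeries_succ_iff.2 fun y => by
      rw [commutatorElement_def, mul_assoc, mul_assoc, ← mul_assoc y]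
      exact mul_mem hx ((inferInstance : (U j).Normal).conj_mem _ (inv_mem hx) y)
  have hstab : ∀ j, U (j + 1) = U j → ∀ k, U (j + k) = U j := by
    intro j hj k
    induction k with
    | zero => rfl
    | succ k ih =>
      ext x
      rw [← hj, ← add_assoc]
      simp only [hU, Subgroup.mem_upperCentralSeries_succ_iff]
      rw [show Subgroup.upperCentralSeries G (j + k) = Subgroup.upperCentralSeries G j from ih]
  obtain ⟨c, hc⟩ : ∃ c, U c = ⊤ := Group.IsNilpotent.nilpotent' (G := G)
  have hne : U (n - 2) ≠ ⊤ := by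
    intro h
    apply hmax
    have := (Subgroup.upperCentralSeries_eq_top_iff_nilpotencyClass_le (G := G) (n := n - 2)).1 h
    exact Subgroup.lowerCentralSeries_eq_bot_iff_nilpotencyClass_le.2 this
  have hlt : ∀ j ≤ n - 2, U j < U (j + 1) := by
    intro j hj
    refine lt_of_le_of_ne (hstep j) fun he => hne ?_
    have hmono : Monotone U := monotone_nat_of_le_succ hstep
    have h1 : U (j + c) = U j := hstab j he.symm c
    refine top_le_iff.1 ?_
    rw [← hc]
    exact (hmono (Nat.le_add_left c j)).trans (h1 ▸ hmono hj)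
  have hcard : ∀ j k, j + k ≤ n - 1 → Nat.card (U j) * p ^ k ≤ Nat.card (U (j + k)) := by
    intro j k
    induction k with
    | zero => simp
    | succ k ih =>
      intro h
      have h1 := ih (by omega)
      obtain ⟨a, ha⟩ := (hG.to_subgroup (U (j + k))).exists_card_eq
      obtain ⟨b, hb⟩ := (hG.to_subgroup (U (j + k + 1))).exists_card_eq
      have hl : Nat.card (U (j + k)) < Nat.card (U (j + k + 1)) :=
        Set.Finite.card_lt_card (Set.toFinite _) (SetLike.coe_ssubset_coe.2 (hlt (j + k) (by omega)))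
      rw [ha] at h1 hl
      rw [hb] at hl
      have hab : a < b := (Nat.pow_lt_pow_iff_right hp.out.one_lt).1 hl
      rw [← add_assoc, hb, pow_succ, ← mul_assoc]
      calc Nat.card (U j) * p ^ k * p ≤ p ^ a * p := Nat.mul_le_mul_right p h1
        _ = p ^ (a + 1) := (pow_succ p a).symm
        _ ≤ p ^ b := Nat.pow_le_pow_right hp.out.pos hab
  -- the last proper term has index at least `p ^ 2`
  have htop : Nat.card (U (n - 2)) * p ^ 2 ≤ p ^ n := by
    obtain ⟨a, ha⟩ := (hG.to_subgroup (U (n - 2))).exists_card_eq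
    rw [ha, ← pow_add]
    refine Nat.pow_le_pow_right hp.out.pos ?_
    by_contra hlt'
    have hle : a ≤ n := (Nat.pow_le_pow_iff_right hp.out.one_lt).1
      (hn ▸ ha ▸ Subgroup.card_le_card_group (U (n - 2)))
    obtain ⟨m, hm⟩ : ∃ m, n - 2 = m + 1 := ⟨n - 3, by omega⟩
    haveI : IsCyclic (G ⧸ U (n - 2)) := by
      by_cases hcase : a = n
      · exfalso
        exact hne (Subgroup.eq_top_of_card_eq _ (by rw [ha, hn, hcase]))
      refine isCyclic_of_prime_card (p := p) ?_
      have h := Subgroup.card_eq_card_quotient_mul_card_subgroup (U (n - 2))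
      rw [hn, ha] at h
      have e : p ^ n = p * p ^ a := by rw [← pow_succ', show a + 1 = n by omega]
      rw [e] at h
      exact (Nat.eq_of_mul_eq_mul_right (pow_pos hp.out.pos a) h).symm
    have hker : ((QuotientGroup.map (U m) (U (n - 2)) (MonoidHom.id G) (by
        rw [hm]; exact hstep m))).ker ≤ Subgroup.center (G ⧸ U m) := by
      intro x hx
      obtain ⟨x, rfl⟩ := QuotientGroup.mk_surjective x
      have hx' : x ∈ U (n - 2) := (QuotientGroup.eq_one_iff x).1 hx
      rw [hm] at hx'
      refine Subgroup.mem_center_iff.2 fun y => ?_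
      obtain ⟨y, rfl⟩ := QuotientGroup.mk_surjective y
      refine (commutatorElement_eq_one_iff_mul_comm.1 ?_).symm
      exact (QuotientGroup.eq_one_iff _).2 (Subgroup.mem_upperCentralSeries_succ_iff.1 hx' y)
    have hab := commutative_of_cyclic_center_quotient _ hker
    refine hne ?_
    rw [hm]
    refine top_le_iff.1 fun x _ => Subgroup.mem_upperCentralSeries_succ_iff.2 fun y => ?_
    refine (QuotientGroup.eq_one_iff _).1 ?_
    exact commutatorElement_eq_one_iff_mul_comm.2 (hab (x : G ⧸ U m) y)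
  have h1 := hcard 1 (n - 3) (by omega)
  have h2 := hcard 2 (n - 4) (by omega)
  have h0 := hcard 0 1 (by omega)
  have h0' := hcard 1 1 (by omega)
  rw [show 1 + (n - 3) = n - 2 by omega] at h1
  rw [show 2 + (n - 4) = n - 2 by omega] at h2
  have hb0 : Nat.card (U 0) = 1 := by rw [hU, Subgroup.upperCentralSeries_zero, Subgroup.card_bot]
  rw [hb0, one_mul, zero_add, pow_one] at h0
  rw [pow_one] at h0'
  have hp0 := hp.out.pos
  have e1 : Nat.card (U 1) = p := by
    refine le_antisymm ?_ h0
    have h := le_trans (Nat.mul_le_mul_right (p ^ 2) h1) htop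
    rw [mul_assoc, ← pow_add, show n - 3 + 2 = n - 1 by omega] at h
    have e : p ^ n = p * p ^ (n - 1) := by rw [← pow_succ', show n - 1 + 1 = n by omega]
    rw [e] at h
    exact Nat.le_of_mul_le_mul_right h (pow_pos hp0 _)
  refine ⟨by rw [← Subgroup.upperCentralSeries_one]; exact e1, le_antisymm ?_ ?_⟩
  · have h := le_trans (Nat.mul_le_mul_right (p ^ 2) h2) htop
    rw [mul_assoc, ← pow_add, show n - 4 + 2 = n - 2 by omega] at h
    have e : p ^ n = p ^ 2 * p ^ (n - 2) := by rw [← pow_add, show 2 + (n - 2) = n by omega]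
    rw [e] at h
    exact Nat.le_of_mul_le_mul_right h (pow_pos hp0 _)
  · rw [e1] at h0'
    rw [sq]
    exact h0'

variable {Ω : Type*} [Group Ω] {S : Subgroup Ω} [Finite S] {F : FusionSystem S} {p : ℕ}
  [hp : Fact p.Prime]

/-- A group with a Sylow subgroup of prime order that is not normal has a strongly embedded
subgroup. -/
theorem exists_strongly {X : Type*} [Group X] [Finite X] (P : Sylow p X)
    (hcard : Nat.card (P : Subgroup X) = p) (hn : ¬ (P : Subgroup X).Normal) :
    ∃ E : Subgroup X, IsStronglyPEmbedded p E := by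
  refine ⟨Subgroup.normalizer ((P : Subgroup X) : Set X), ?_, ?_, P, ?_⟩
  · exact hcard ▸ Subgroup.card_subgroup_dvd_card (P : Subgroup X)
  · exact fun h => hn (Subgroup.normalizer_eq_top_iff.1 h)
  · refine iSup_le fun Q => ?_
    obtain ⟨Q, hQ, hr⟩ := Q
    rcases (Nat.dvd_prime hp.out).1 (hcard ▸ Subgroup.card_dvd_of_le hQ) with h | h
    · refine absurd ?_ hr
      intro A _ _
      rw [Nat.sub_self, pow_zero, ← h]
      exact Nat.le_of_dvd Nat.card_pos (Subgroup.card_subgroup_dvd_card A)
    · have e := Subgroup.eq_of_le_of_card_ge hQ (by rw [h, hcard])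
      subst e
      exact le_rfl

theorem centralizer_essential (hS : IsPGroup p S) (hF : F.IsSaturated p) {n : ℕ}
    (hn : Nat.card S = p ^ n) (h4 : 4 ≤ n)
    (hmax : (⊤ : Subgroup ↥S).lowerCentralSeries (n - 2) ≠ ⊥)
    (φ : ↥((Subgroup.upperCentralSeries ↥S 2).map S.subtype) →* Ω)
    (hφ : φ ∈ F.Hom ((Subgroup.upperCentralSeries ↥S 2).map S.subtype))
    (hφZ : φ.range = (Subgroup.upperCentralSeries ↥S 2).map S.subtype)
    (hmove : ∃ (z : Ω) (hz : z ∈ (Subgroup.upperCentralSeries ↥S 2).map S.subtype),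
      z ∈ (Subgroup.center ↥S).map S.subtype ∧ φ ⟨z, hz⟩ ∉ (Subgroup.center ↥S).map S.subtype) :
    F.IsEssential p (S ⊓ Subgroup.centralizer
      (((Subgroup.upperCentralSeries ↥S 2).map S.subtype : Subgroup Ω) : Set Ω)) := by
  obtain ⟨hZcard, hZ2card⟩ := card_upper hS hn h4 hmax
  set C := S ⊓ Subgroup.centralizer (((Subgroup.upperCentralSeries ↥S 2).map S.subtype) : Set Ω) with hC
  obtain ⟨z, hz, hzZ, hzm⟩ := hmove
  set w := φ ⟨z, hz⟩ with hw
  have hwZ2 : w ∈ ((Subgroup.upperCentralSeries ↥S 2).map S.subtype) := by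
    have h : φ ⟨z, hz⟩ ∈ φ.range := ⟨⟨z, hz⟩, rfl⟩
    rw [hφZ] at h
    exact h
  have hwS : w ∈ S := Subgroup.map_subtype_le _ hwZ2
  have hz_c : ∀ g ∈ S, g * z * g⁻¹ = z := by
    obtain ⟨z', hz', rfl⟩ := hzZ
    intro g hg
    have h := congrArg Subtype.val (Subgroup.mem_center_iff.1 hz' ⟨g, hg⟩)
    change g * (z' : Ω) * g⁻¹ = z'
    change g * (z' : Ω) = (z' : Ω) * g at h
    rw [h, mul_inv_cancel_right]
  have hCS : C ≤ S := inf_le_left
  haveI : Finite C := finite_of_le hCS
  haveI : Finite (MulAut C) := finite_mulAut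
  haveI hCn : (C.subgroupOf S).Normal := by
    constructor
    intro x hx g
    refine ⟨mul_mem (mul_mem g.2 x.2) (Subgroup.inv_mem _ g.2), Subgroup.mem_centralizer_iff.2 fun y hy => ?_⟩
    obtain ⟨u, hu, rfl⟩ := hy
    have hu' : g⁻¹ * u * g ∈ Subgroup.upperCentralSeries ↥S 2 := by
      have := (inferInstance : (Subgroup.upperCentralSeries ↥S 2).Normal).conj_mem u hu g⁻¹
      rwa [inv_inv] at this
    have hc : ((g⁻¹ * u * g : S) : Ω) * x = x * ((g⁻¹ * u * g : S) : Ω) :=
      Subgroup.mem_centralizer_iff.1 hx.2 _ ⟨_, hu', rfl⟩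
    have hc' : g⁻¹ * u * g * x = x * (g⁻¹ * u * g) := Subtype.ext hc
    have : u * (g * x * g⁻¹) = g * x * g⁻¹ * u := by
      calc u * (g * x * g⁻¹) = g * (g⁻¹ * u * g * x) * g⁻¹ := by group
        _ = g * (x * (g⁻¹ * u * g)) * g⁻¹ := by rw [hc']
        _ = _ := by group
    exact congrArg Subtype.val this
  -- the moved element has a small class
  set v : ↥S := ⟨w, hwS⟩ with hv
  have hv2 : v ∈ Subgroup.upperCentralSeries ↥S 2 := by
    obtain ⟨u, hu, hue⟩ := hwZ2
    have : u = v := Subtype.ext hue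
    rwa [← this]
  have hv1 : v ∉ Subgroup.center ↥S := fun h => hzm ⟨v, h, rfl⟩
  have hgen : ∀ g : ↥S, (g : Ω) ∈ C ↔ g * v = v * g := by
    intro g
    constructor
    · exact fun h => Subtype.ext (Subgroup.mem_centralizer_iff.1 h.2 w hwZ2).symm
    · intro h
      let K : Subgroup ↥S := Subgroup.centralizer ({g} : Set ↥S) ⊓ Subgroup.upperCentralSeries ↥S 2
      have hZ : Subgroup.center ↥S ≤ K := fun x hx =>
        ⟨Subgroup.mem_centralizer_iff.2 fun y hy => Subgroup.mem_center_iff.1 hx y,
          Subgroup.mem_upperCentralSeries_succ_iff.2 fun y => by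
            rw [Subgroup.upperCentralSeries_one,
              commutatorElement_eq_one_iff_mul_comm.2 (Subgroup.mem_center_iff.1 hx y).symm]
            exact one_mem _⟩
      have hlt : Subgroup.center ↥S < K := lt_of_le_of_ne hZ fun he => hv1
        (he ▸ ⟨Subgroup.mem_centralizer_iff.2 fun y hy => by
          rw [Set.mem_singleton_iff.1 hy]; exact h, hv2⟩)
      have hK : K = Subgroup.upperCentralSeries ↥S 2 := by
        refine Subgroup.eq_of_le_of_card_ge inf_le_right ?_
        have hl : Nat.card (Subgroup.center ↥S) < Nat.card K :=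
          Set.Finite.card_lt_card (Set.toFinite _) (SetLike.coe_ssubset_coe.2 hlt)
        obtain ⟨b, hb⟩ := (hS.to_subgroup K).exists_card_eq
        rw [hb, hZcard] at hl
        rw [hZ2card, hb]
        have hb1 : 1 < b := (Nat.pow_lt_pow_iff_right hp.out.one_lt).1 (by simpa using hl)
        exact Nat.pow_le_pow_right hp.out.pos hb1
      refine ⟨g.2, Subgroup.mem_centralizer_iff.2 ?_⟩
      rintro _ ⟨u, hu, rfl⟩
      rw [← hK] at hu
      exact (congrArg Subtype.val (Subgroup.mem_centralizer_iff.1 hu.1 g rfl)).symm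
  obtain ⟨s, hs⟩ : ∃ s : ↥S, s * v ≠ v * s := by
    by_contra h
    push Not at h
    exact hv1 (Subgroup.mem_center_iff.2 h)
  have hindex : (C.subgroupOf S).index = p := by
    have hle : (C.subgroupOf S).index ≤ p := by
      rw [Subgroup.index, ← hZcard]
      let f : ↥S → ↥(Subgroup.center ↥S) := fun g => ⟨⁅v, g⁆, by
        rw [← Subgroup.upperCentralSeries_one]
        exact Subgroup.mem_upperCentralSeries_succ_iff.1 hv2 g⟩
      refine Nat.card_le_card_of_injective (fun q : ↥S ⧸ C.subgroupOf S => f q.out) fun a b hab => ?_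
      have hab' : ⁅v, a.out⁆ = ⁅v, b.out⁆ := congrArg Subtype.val hab
      rw [← QuotientGroup.out_eq' a, ← QuotientGroup.out_eq' b, QuotientGroup.eq]
      refine Subgroup.mem_subgroupOf.2 ((hgen _).2 ?_)
      have e : a.out * v⁻¹ * a.out⁻¹ = b.out * v⁻¹ * b.out⁻¹ := by
        apply mul_left_cancel (a := v)
        simpa [commutatorElement_def, mul_assoc] using hab'
      have e' : a.out * v * a.out⁻¹ = b.out * v * b.out⁻¹ := by
        have := congrArg (·⁻¹) e
        simpa [mul_assoc] using this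
      calc a.out⁻¹ * b.out * v = a.out⁻¹ * (b.out * v * b.out⁻¹) * b.out := by group
        _ = a.out⁻¹ * (a.out * v * a.out⁻¹) * b.out := by rw [e']
        _ = _ := by group
    obtain ⟨k, hk⟩ := (Nat.dvd_prime_pow hp.out).1 (hn ▸ (C.subgroupOf S).index_dvd_card)
    rcases k with _ | k
    · have h1 := Subgroup.index_eq_one.1 (hk.2.trans (pow_zero p))
      exact absurd ((hgen s).1 (Subgroup.mem_subgroupOf.1 (h1 ▸ Subgroup.mem_top s))) hs
    · refine le_antisymm hle ?_
      rw [hk.2]
      exact Nat.le_self_pow (Nat.succ_ne_zero k) p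
  have hNC : normalizerIn S C = S := by
    refine le_antisymm (normalizerIn_le_S C) fun g hg => ⟨hg, mem_normalizer_of_conj_mem hCS ?_⟩
    intro x hx
    exact hCn.conj_mem ⟨x, hCS hx⟩ hx ⟨g, hg⟩
  have hcardC : Nat.card C * p = Nat.card S := by
    rw [← hindex, ← Nat.card_congr (Subgroup.subgroupOfEquivOfLe hCS).toEquiv]
    exact Subgroup.card_mul_index _
  -- `C` is centric
  have hcentric : F.IsCentric C := by
    refine ⟨hCS, fun Q hQ => ?_⟩
    obtain ⟨θ, hθ, rfl⟩ := hQ
    by_contra hnot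
    obtain ⟨g, hg, hgQ⟩ := SetLike.not_le_iff_exists.1 hnot
    have hQS := range_le_S hθ
    let K : Subgroup ↥S := θ.range.subgroupOf S ⊔ (centralizerIn S θ.range).subgroupOf S
    have hK : K = ⊤ := by
      apply Subgroup.eq_top_of_card_eq
      have hl : θ.range.subgroupOf S < K := lt_of_le_of_ne le_sup_left fun he => hgQ
        ((he ▸ le_sup_right : (centralizerIn S θ.range).subgroupOf S ≤ θ.range.subgroupOf S)
          (show (⟨g, hg.1⟩ : ↥S) ∈ _ from hg))
      have hl' : Nat.card (θ.range.subgroupOf S) < Nat.card K :=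
        Set.Finite.card_lt_card (Set.toFinite _) (SetLike.coe_ssubset_coe.2 hl)
      have hQc : Nat.card (θ.range.subgroupOf S) * p = Nat.card S := by
        rw [← hcardC, Nat.card_congr (Subgroup.subgroupOfEquivOfLe hQS).toEquiv,
          ← Nat.card_congr (MonoidHom.ofInjective (F.injective_of_mem hθ)).toEquiv]
      obtain ⟨a, ha⟩ := (hS.to_subgroup (θ.range.subgroupOf S)).exists_card_eq
      obtain ⟨b, hb⟩ := (hS.to_subgroup K).exists_card_eq
      refine le_antisymm (Subgroup.card_le_card_group K) ?_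
      rw [← hQc, ha, hb, ← pow_succ]
      rw [ha, hb] at hl'
      exact Nat.pow_le_pow_right hp.out.pos ((Nat.pow_lt_pow_iff_right hp.out.one_lt).1 hl')
    let j : Subgroup.upperCentralSeries ↥S 2 → ↥(Subgroup.center ↥S) := fun u =>
      ⟨⟨θ ⟨(u : ↥S), ⟨u.1.2, Subgroup.mem_centralizer_iff.2 fun y hy => by
          obtain ⟨u', hu', rfl⟩ := hy
          have hcz : (u : ↥S) ∈ Subgroup.centralizer
              ((Subgroup.upperCentralSeries ↥S 2 : Subgroup ↥S) : Set ↥S) := by
            haveI : IsMulCommutative (Subgroup.upperCentralSeries ↥S 2) :=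
              IsPGroup.isMulCommutative_of_card_eq_prime_sq hZ2card
            exact Subgroup.mem_centralizer_iff.2 fun y hy =>
              congrArg Subtype.val (mul_comm' (⟨y, hy⟩ : Subgroup.upperCentralSeries ↥S 2) u)
          exact congrArg Subtype.val (Subgroup.mem_centralizer_iff.1 hcz u' hu')⟩⟩,
          apply_mem_S hθ _⟩, by
        refine Subgroup.mem_center_iff.2 fun y => ?_
        have hy : y ∈ K := hK ▸ Subgroup.mem_top y
        suffices K ≤ Subgroup.centralizer _ from (Subgroup.mem_centralizer_iff.1 (this hy) _ rfl).symm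
        refine sup_le ?_ ?_
        · rintro y ⟨c, hc⟩
          refine Subgroup.mem_centralizer_iff.2 fun t ht => ?_
          obtain rfl := Set.mem_singleton_iff.1 ht
          apply Subtype.ext
          change θ _ * (y : Ω) = (y : Ω) * θ _
          rw [show (y : Ω) = θ c from hc.symm, ← map_mul, ← map_mul]
          exact congrArg θ (Subtype.ext (Subgroup.mem_centralizer_iff.1 c.2.2 _ ⟨_, u.2, rfl⟩))
        · intro y hy'
          refine Subgroup.mem_centralizer_iff.2 fun t ht => ?_
          obtain rfl := Set.mem_singleton_iff.1 ht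
          exact Subtype.ext (Subgroup.mem_centralizer_iff.1 hy'.2 _ ⟨_, rfl⟩)⟩
    have hj : Function.Injective j := fun a b hab => by
      have h : θ _ = θ _ := congrArg (fun t : ↥(Subgroup.center ↥S) => ((t : ↥S) : Ω)) hab
      have h' := congrArg Subtype.val (F.injective_of_mem hθ h)
      exact Subtype.ext (Subtype.ext h')
    have h := Nat.card_le_card_of_injective j hj
    rw [hZ2card, hZcard, sq] at h
    exact absurd h (Nat.not_le.2 (lt_mul_of_one_lt_left hp.out.pos hp.out.one_lt))
  have hfull : F.IsFullyNormalized C := ⟨hCS, fun Q _ => by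
    rw [hNC]
    exact Subgroup.card_le_of_le (normalizerIn_le_S Q)⟩
  -- extension
  have hZ2S : ((Subgroup.upperCentralSeries ↥S 2).map S.subtype) ≤ S := Subgroup.map_subtype_le _
  have hNZ : normalizerIn S ((Subgroup.upperCentralSeries ↥S 2).map S.subtype) = S := by
    refine le_antisymm (normalizerIn_le_S ((Subgroup.upperCentralSeries ↥S 2).map S.subtype)) fun g hg => ⟨hg, mem_normalizer_of_conj_mem hZ2S ?_⟩
    rintro _ ⟨u, hu, rfl⟩
    have hUn : (Subgroup.upperCentralSeries ↥S 2).Normal := inferInstance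
    refine Subgroup.mem_map.2 ⟨_, hUn.conj_mem u hu (⟨g, hg⟩ : ↥S), ?_⟩
    simp
  have hfc : F.IsFullyCentralized φ.range := by
    rw [hφZ]
    refine fullyCentralized_of_fullyNormalized p hS hF ⟨hZ2S, fun Q _ => ?_⟩
    rw [hNZ]
    exact Subgroup.card_le_of_le (normalizerIn_le_S Q)
  have hext : C ≤ extender S ((Subgroup.upperCentralSeries ↥S 2).map S.subtype) φ := by
    intro g hg
    have hgn : g ∈ Subgroup.normalizer (((Subgroup.upperCentralSeries ↥S 2).map S.subtype) : Set Ω) := (hNZ.ge hg.1).2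
    refine mem_extender.2 ⟨hg.1, hgn, 1, one_mem _, fun x _ => ?_⟩
    rw [one_mul, inv_one, mul_one]
    refine apply_congr φ ?_
    change g * (x : Ω) * g⁻¹ = x
    rw [← Subgroup.mem_centralizer_iff.1 hg.2 (x : Ω) x.2, mul_inv_cancel_right]
  obtain ⟨ψ, hψ, hψe⟩ := saturated_extend p hS hF hφ hfc hext
  have hZ2C : ∀ u ∈ ((Subgroup.upperCentralSeries ↥S 2).map S.subtype), u ∈ C := by
    intro u hu
    refine ⟨hZ2S hu, Subgroup.mem_centralizer_iff.2 ?_⟩
    rintro _ ⟨b, hb, rfl⟩
    obtain ⟨c, hc, rfl⟩ := hu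
    haveI : IsMulCommutative (Subgroup.upperCentralSeries ↥S 2) :=
      IsPGroup.isMulCommutative_of_card_eq_prime_sq hZ2card
    exact congrArg (fun t : Subgroup.upperCentralSeries ↥S 2 => ((t : ↥S) : Ω))
      (mul_comm' (⟨b, hb⟩ : Subgroup.upperCentralSeries ↥S 2) ⟨c, hc⟩)
  have hψC : ∀ x, ψ x ∈ C := by
    intro x
    refine ⟨apply_mem_S hψ x, Subgroup.mem_centralizer_iff.2 fun u hu => ?_⟩
    have hu' : u ∈ φ.range := by rw [hφZ]; exact hu
    obtain ⟨y, rfl⟩ := hu'
    rw [← hψe y y.2 (hZ2C y y.2), ← map_mul, ← map_mul]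
    exact congrArg ψ (Subtype.ext (Subgroup.mem_centralizer_iff.1 x.2.2 _ y.2))
  let ψ' : C →* C := ψ.codRestrict C hψC
  have hψ'b : Function.Bijective ψ' :=
    have hi : Function.Injective ψ' := fun a b h => F.injective_of_mem hψ (congrArg Subtype.val h)
    ⟨hi, Finite.surjective_of_injective hi⟩
  let β : MulAut C := MulEquiv.ofBijective ψ' hψ'b
  have hβ : β ∈ F.autGroup C := (autGroup_carrier hCS).2 (by
    have : C.subtype.comp β.toMonoidHom = ψ := MonoidHom.ext fun x => rfl
    rwa [this])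
  have hβz : ((β ⟨z, hZ2C z hz⟩ : C) : Ω) = w := hψe z hz (hZ2C z hz)
  -- the outer automiser
  refine ⟨hcentric, hfull, inn_subgroupOf_normal C, ?_⟩
  haveI := inn_subgroupOf_normal (F := F) C
  set I := (Inn C).subgroupOf (F.autGroup C) with hI
  obtain ⟨-, R, hR⟩ := (good_of_fullyNormalized p hS hF hfull).1
  let R' : Sylow p (F.autGroup C ⧸ I) := R.mapSurjective (QuotientGroup.mk'_surjective I)
  have hsN : (s : Ω) ∈ normalizerIn S C := hNC.ge s.2
  have hsA : conjAut S C ⟨s, hsN⟩ ∈ F.autGroup C :=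
    autInducedBy_le_autGroup hCS (mem_autInducedBy.2 ⟨s, s.2, fun _ => rfl⟩)
  have hInnfix : ∀ α ∈ Inn C, ((α ⟨w, hZ2C w hwZ2⟩ : C) : Ω) = w := by
    intro α hα
    rw [inn_eq_autInducedBy, mem_autInducedBy] at hα
    obtain ⟨g, hg, hgα⟩ := hα
    rw [hgα]
    show g * w * g⁻¹ = w
    rw [← Subgroup.mem_centralizer_iff.1 hg.2 w hwZ2, mul_inv_cancel_right]
  have hR'card : Nat.card (R' : Subgroup (F.autGroup C ⧸ I)) = p := by
    obtain ⟨k, hk⟩ := R'.2.exists_card_eq
    have hle : Nat.card (R' : Subgroup (F.autGroup C ⧸ I)) ≤ p := by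
      let f : ↥S →* MulAut C :=
        { toFun := fun g => conjAut S C ⟨g, hNC.ge g.2⟩
          map_one' := by apply MulEquiv.ext; intro x; apply Subtype.ext; simp
          map_mul' := fun a b => by apply MulEquiv.ext; intro x; apply Subtype.ext; simp [mul_assoc] }
      let f' : ↥S →* F.autGroup C ⧸ I := (QuotientGroup.mk' I).comp (f.codRestrict (F.autGroup C)
        fun g => autInducedBy_le_autGroup hCS (mem_autInducedBy.2 ⟨g, g.2, fun _ => rfl⟩))
      have hker : C.subgroupOf S ≤ f'.ker := by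
        intro g hg
        refine (QuotientGroup.eq_one_iff _).2 ?_
        show f g ∈ Inn C
        rw [inn_eq_autInducedBy]
        exact mem_autInducedBy.2 ⟨g, hg, fun _ => rfl⟩
      have hsub : (R' : Subgroup (F.autGroup C ⧸ I)) ≤ f'.range := by
        rintro _ ⟨a, ha, rfl⟩
        rw [SetLike.mem_coe, hR, Subgroup.mem_subgroupOf, mem_autInducedBy] at ha
        obtain ⟨g, hg, hga⟩ := ha
        refine ⟨⟨g, hg⟩, congrArg (QuotientGroup.mk' I) (Subtype.ext ?_)⟩
        apply MulEquiv.ext
        intro x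
        exact Subtype.ext (hga x).symm
      refine le_trans (Subgroup.card_le_of_le hsub) ?_
      rw [← Subgroup.index_ker]
      exact le_trans (Nat.le_of_dvd (by rw [hindex]; exact hp.out.pos) (Subgroup.index_dvd_of_le hker))
        hindex.le
    rcases k with _ | k
    · exfalso
      rw [pow_zero] at hk
      have hmem : QuotientGroup.mk' I ⟨_, hsA⟩ ∈ (R' : Subgroup (F.autGroup C ⧸ I)) :=
        ⟨⟨_, hsA⟩, by
          rw [SetLike.mem_coe, hR, Subgroup.mem_subgroupOf, mem_autInducedBy]
          exact ⟨s, s.2, fun _ => rfl⟩, rfl⟩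
      rw [Subgroup.eq_bot_of_card_eq _ hk, Subgroup.mem_bot] at hmem
      rw [QuotientGroup.mk'_apply, QuotientGroup.eq_one_iff] at hmem
      have := hInnfix _ hmem
      change (s : Ω) * w * (s : Ω)⁻¹ = w at this
      refine hs (Subtype.ext ?_)
      show (s : Ω) * w = w * s
      exact mul_inv_eq_iff_eq_mul.1 this
    · refine le_antisymm hle ?_
      rw [hk]
      exact Nat.le_self_pow (Nat.succ_ne_zero k) p
  refine exists_strongly R' hR'card fun hnorm => ?_
  have hconj : (⟨β, hβ⟩ : F.autGroup C)⁻¹ * ⟨_, hsA⟩ * ⟨β, hβ⟩ ∈ (R : Subgroup (F.autGroup C)) := by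
    have hmem : QuotientGroup.mk' I ⟨_, hsA⟩ ∈ (R' : Subgroup (F.autGroup C ⧸ I)) :=
      ⟨⟨_, hsA⟩, by
        rw [SetLike.mem_coe, hR, Subgroup.mem_subgroupOf, mem_autInducedBy]
        exact ⟨s, s.2, fun _ => rfl⟩, rfl⟩
    have h := hnorm.conj_mem _ hmem (QuotientGroup.mk' I (⟨β, hβ⟩⁻¹))
    rw [← map_inv, inv_inv, ← map_mul, ← map_mul] at h
    obtain ⟨r, hr, hre⟩ := h
    have hir := QuotientGroup.eq.1 hre
    have hIR : I ≤ (R : Subgroup (F.autGroup C)) := by
      intro a ha
      rw [hR, Subgroup.mem_subgroupOf]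
      exact inn_le_autInducedBy hCS ha
    have := mul_mem hr (hIR hir)
    rwa [mul_inv_cancel_left] at this
  rw [hR, Subgroup.mem_subgroupOf, mem_autInducedBy] at hconj
  obtain ⟨t, ht, hte⟩ := hconj
  have h := hte ⟨z, hZ2C z hz⟩
  rw [hz_c t ht] at h
  change ((β.symm (conjAut S C ⟨s, hsN⟩ (β ⟨z, hZ2C z hz⟩)) : C) : Ω) = z at h
  have h' : conjAut S C ⟨s, hsN⟩ (β ⟨z, hZ2C z hz⟩) = β ⟨z, hZ2C z hz⟩ := by
    apply β.symm.injective
    rw [β.symm_apply_apply]
    exact Subtype.ext h
  have h'' := congrArg Subtype.val h'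
  rw [coe_conjAut, hβz] at h''
  refine hs (Subtype.ext ?_)
  show (s : Ω) * w = w * s
  exact mul_inv_eq_iff_eq_mul.1 h''

end CfsgLib.Fusion.MaximalClass
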