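import Cfsg.Agent.Fusion.ShearPair
import Cfsg.Agent.Fusion.SmallEssential

/-!
Saturated fusion systems with an abelian subgroup of index `p` that is not essential and with no
nontrivial normal subgroup.
-/

set_option autoImplicit false

open Cfsg Cfsg.FusionSystem
open scoped commutatorElement

namespace CfsgLib.Fusion.AbelianIndex

variable {Ω : Type*} [Group Ω]

/-- The centre of `S` inside the ambient group. -/
abbrev zen (S : Subgroup Ω) : Subgroup Ω := S ⊓ Subgroup.centralizer (S : Set Ω)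

theorem mem_zen {S : Subgroup Ω} {z : Ω} : z ∈ zen S ↔ z ∈ S ∧ ∀ s ∈ S, s * z = z * s :=
  ⟨fun h => ⟨h.1, Subgroup.mem_centralizer_iff.1 h.2⟩,
    fun h => ⟨h.1, Subgroup.mem_centralizer_iff.2 h.2⟩⟩

/-- A nonabelian `p`-group with an abelian subgroup of index `p`. -/
structure Setup (p : ℕ) (S A : Subgroup Ω) : Prop where
  hS : IsPGroup p S
  le : A ≤ S
  comm : ∀ a ∈ A, ∀ b ∈ A, a * b = b * a
  idx : (A.subgroupOf S).index = p
  na : ¬ ∀ a ∈ S, ∀ b ∈ S, a * b = b * a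

variable {p : ℕ} [Fact p.Prime] {S A : Subgroup Ω} [Finite S] (hs : Setup p S A)

include hs

theorem normal : (A.subgroupOf S).Normal := by
  refine Subgroup.normal_of_index_eq_minFac_card ?_
  obtain ⟨n, hn⟩ := IsPGroup.iff_card.1 hs.hS
  have hd : p ∣ Nat.card S := by
    conv_lhs => rw [← hs.idx]
    exact Subgroup.index_dvd_card _
  rw [hn] at hd ⊢
  have hn0 : n ≠ 0 := by
    rintro rfl
    simp [(Fact.out : p.Prime).ne_one] at hd
  rw [Nat.pow_minFac hn0, (Fact.out : p.Prime).minFac_eq, hs.idx]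

theorem conj_mem {s a : Ω} (h : s ∈ S) (ha : a ∈ A) : s * a * s⁻¹ ∈ A :=
  (normal hs).conj_mem ⟨a, hs.le ha⟩ ha ⟨s, h⟩

theorem decomp {x : Ω} (hx : x ∈ S) (hxA : x ∉ A) {s : Ω} (h : s ∈ S) :
    ∃ a ∈ A, ∃ i : ℤ, s = a * x ^ i := by
  have := normal hs
  let q := QuotientGroup.mk' (A.subgroupOf S)
  have hx1 : q ⟨x, hx⟩ ≠ 1 := fun e =>
    hxA (Subgroup.mem_subgroupOf.1 ((QuotientGroup.eq_one_iff _).1 e))
  obtain ⟨i, hi⟩ := Subgroup.mem_zpowers_iff.1
    (mem_zpowers_of_prime_card (show Nat.card (S ⧸ A.subgroupOf S) = p from hs.idx) hx1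
      (g' := q ⟨s, h⟩))
  rw [← map_zpow] at hi
  have h0 : (⟨x, hx⟩ ^ i : S)⁻¹ * ⟨s, h⟩ ∈ A.subgroupOf S := QuotientGroup.eq.1 hi
  have h1 : (x ^ i)⁻¹ * s ∈ A := by simpa [Subgroup.mem_subgroupOf] using h0
  refine ⟨x ^ i * ((x ^ i)⁻¹ * s) * (x ^ i)⁻¹, conj_mem hs (zpow_mem hx i) h1, i, ?_⟩
  group

theorem mem_zen_of_comm {x : Ω} (hx : x ∈ S) (hxA : x ∉ A) {z : Ω} (hz : z ∈ A)
    (hc : x * z = z * x) : z ∈ zen S := by
  refine mem_zen.2 ⟨hs.le hz, fun s h => ?_⟩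
  obtain ⟨a, ha, i, rfl⟩ := decomp hs hx hxA h
  exact (Commute.mul_left (hs.comm a ha z hz) ((show Commute x z from hc).zpow_left i)).eq

theorem zen_le : zen S ≤ A := by
  intro z hz
  by_contra hzA
  refine hs.na fun a ha b hb => ?_
  obtain ⟨hzS, hzc⟩ := mem_zen.1 hz
  obtain ⟨a', ha', i, rfl⟩ := decomp hs hzS hzA ha
  obtain ⟨b', hb', j, rfl⟩ := decomp hs hzS hzA hb
  have h1 : ∀ c ∈ A, ∀ k : ℤ, Commute (z ^ k) c := fun c hc k =>
    ((show Commute z c from (hzc c (hs.le hc)).symm)).zpow_left k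
  exact ((show Commute a' b' from hs.comm a' ha' b' hb').mul_right (h1 a' ha' j).symm).mul_left
    ((h1 b' hb' i).mul_right (Commute.refl z |>.zpow_zpow i j)) |>.eq

theorem inter_le_zen {P : Subgroup Ω} (hPS : P ≤ S) (hP : ∀ a ∈ P, ∀ b ∈ P, a * b = b * a) {x : Ω}
    (hxP : x ∈ P) (hxA : x ∉ A) {z : Ω} (hz : z ∈ P) (hzA : z ∈ A) : z ∈ zen S :=
  mem_zen_of_comm hs (hPS hxP) hxA hzA (hP x hxP z hz)

theorem commutator_mem {b x : Ω} (hb : b ∈ A) (hx : x ∈ S) : ⁅b, x⁆ ∈ A := by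
  rw [commutatorElement_def, mul_assoc b x, mul_assoc b]
  exact mul_mem hb (conj_mem hs hx (inv_mem hb))

theorem exists_hom {x : Ω} (hx : x ∈ S) : ∃ f : A →* Ω, ∀ a : A, f a = ⁅(a : Ω), x⁆ :=
  ⟨MonoidHom.mk' (fun a => ⁅(a : Ω), x⁆) fun a b => by
    have h : ⁅((a * b : A) : Ω), x⁆ = (a : Ω) * ⁅(b : Ω), x⁆ * (a : Ω)⁻¹ * ⁅(a : Ω), x⁆ := by
      simp only [Subgroup.coe_mul, commutatorElement_def]; group
    have hb := commutator_mem hs b.2 hx
    rw [h, hs.comm _ a.2 _ hb, mul_inv_cancel_right]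
    exact hs.comm _ hb _ (commutator_mem hs a.2 hx), fun _ => rfl⟩

theorem commutator_eq {x : Ω} (hx : x ∈ S) (hxA : x ∉ A) {d : Ω} (hd : d ∈ ⁅S, S⁆) :
    ∃ a ∈ A, ⁅a, x⁆ = d := by
  obtain ⟨f, hf⟩ := exists_hom hs hx
  have hRA : f.range ≤ A := by
    rintro _ ⟨a, rfl⟩
    rw [hf]; exact commutator_mem hs a.2 hx
  have hn : (f.range.subgroupOf S).Normal := by
    refine ⟨fun r hr g => ?_⟩
    obtain ⟨b, hb, i, hg⟩ := decomp hs hx hxA g.2
    obtain ⟨a, ha⟩ := hr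
    rw [hf] at ha
    change ⁅(a : Ω), x⁆ = (r : Ω) at ha
    rw [Subgroup.mem_subgroupOf]
    refine ⟨⟨x ^ i * a * (x ^ i)⁻¹, conj_mem hs (zpow_mem hx i) a.2⟩, ?_⟩
    have hra : (r : Ω) ∈ A := ha ▸ commutator_mem hs a.2 hx
    have hcm : x * (x ^ i)⁻¹ = (x ^ i)⁻¹ * x := ((Commute.refl x).zpow_right i).inv_right.eq
    have e1 : ⁅x ^ i * (a : Ω) * (x ^ i)⁻¹, x⁆ = x ^ i * (r : Ω) * (x ^ i)⁻¹ := by
      rw [← ha]; simp only [commutatorElement_def]; group
    rw [hf, e1]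
    simp only [Subgroup.coe_mul, InvMemClass.coe_inv, hg, mul_inv_rev]
    have hm := conj_mem hs (zpow_mem hx i) hra
    calc x ^ i * (r : Ω) * (x ^ i)⁻¹ = b * (x ^ i * (r : Ω) * (x ^ i)⁻¹) * b⁻¹ := by
          rw [hs.comm b hb _ hm, mul_inv_cancel_right]
      _ = _ := by group
  let q := QuotientGroup.mk' (f.range.subgroupOf S)
  have hker : ∀ {g : S}, (g : Ω) ∈ f.range → q g = 1 := fun {g} hg =>
    (QuotientGroup.eq_one_iff g).2 hg
  have hax : ∀ {a : Ω} (ha : a ∈ A) (i : ℤ), Commute (q ⟨a, hs.le ha⟩) (q ⟨x, hx⟩ ^ i) := by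
    intro a ha i
    refine Commute.zpow_right (commutatorElement_eq_one_iff_commute.1 ?_) i
    rw [← map_commutatorElement]
    exact hker ⟨⟨a, ha⟩, hf _⟩
  have hle : ⁅S, S⁆ ≤ f.range := by
    rw [Subgroup.commutator_le]
    intro g hg g' hg'
    obtain ⟨a, ha, i, rfl⟩ := decomp hs hx hxA hg
    obtain ⟨b, hb, j, rfl⟩ := decomp hs hx hxA hg'
    have hab : Commute (q ⟨a, hs.le ha⟩) (q ⟨b, hs.le hb⟩) := by
      refine Commute.map (?_ : Commute (⟨a, hs.le ha⟩ : S) ⟨b, hs.le hb⟩) q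
      exact Subtype.ext (hs.comm a ha b hb)
    have h1 : Commute (q ⟨a, hs.le ha⟩ * q ⟨x, hx⟩ ^ i) (q ⟨b, hs.le hb⟩ * q ⟨x, hx⟩ ^ j) :=
      (hab.mul_right (hax ha j)).mul_left
        ((hax hb i).symm.mul_right ((Commute.refl _).zpow_zpow i j))
    rw [← map_zpow, ← map_zpow, ← map_mul, ← map_mul] at h1
    have h2 := commutatorElement_eq_one_iff_commute.2 h1
    rw [← map_commutatorElement] at h2
    have h3 := (QuotientGroup.eq_one_iff (N := f.range.subgroupOf S) _).1 h2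
    simpa [Subgroup.mem_subgroupOf, commutatorElement_def] using h3
  obtain ⟨a, ha⟩ := hle hd
  exact ⟨a, a.2, (hf a).symm.trans ha⟩

theorem derived_le {x : Ω} (hx : x ∈ S) (hxA : x ∉ A) : ⁅S, S⁆ ≤ A := fun d hd => by
  obtain ⟨a, ha, rfl⟩ := commutator_eq hs hx hxA hd
  exact commutator_mem hs ha hx

theorem card_step {x : Ω} (hx : x ∈ S) (hxA : x ∉ A) {L : Subgroup Ω} (hL : L ≤ A) :
    Nat.card L ≤ Nat.card (zen S) * Nat.card (⁅L, S⁆ : Subgroup Ω) := by
  obtain ⟨f, hf⟩ := exists_hom hs hx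
  set g := f.comp (Subgroup.inclusion hL) with hg
  have hga : ∀ a : L, g a = ⁅(a : Ω), x⁆ := fun a => hf _
  have : Finite L := finite_of_le (hL.trans hs.le)
  rw [← Subgroup.card_mul_index g.ker, Subgroup.index_ker]
  refine Nat.mul_le_mul ?_ ?_
  · have : Finite (zen S) := finite_of_le inf_le_left
    refine Nat.card_le_card_of_injective (fun a => ⟨((a : L) : Ω), mem_zen_of_comm hs hx hxA
      (hL a.1.2) ?_⟩) fun a b h => Subtype.ext (Subtype.ext ((Subtype.ext_iff.1 h :)))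
    have h1 : ⁅((a : L) : Ω), x⁆ = 1 := (hga a).symm.trans a.2
    exact (commutatorElement_eq_one_iff_commute.1 h1).eq.symm
  · refine card_le_of_le (S := S) ((Subgroup.commutator_le).2 fun a ha b hb => ?_) ?_
    · rw [commutatorElement_def]
      exact mul_mem (mul_mem (mul_mem (hs.le (hL ha)) hb) (inv_mem (hs.le (hL ha)))) (inv_mem hb)
    · rintro _ ⟨a, rfl⟩
      rw [hga]
      exact Subgroup.commutator_mem_commutator a.2 hx

omit [Fact p.Prime] [Finite S] in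
theorem card_subgroup : Nat.card A * p = Nat.card S := by
  rw [← Subgroup.card_mul_index (A.subgroupOf S), hs.idx,
    Nat.card_congr (Subgroup.subgroupOfEquivOfLe hs.le).toEquiv]

theorem lcs_ne_bot {x : Ω} (hx : x ∈ S) (hxA : x ∉ A) (hZ : Nat.card (zen S) = p) {n : ℕ}
    (hn : Nat.card S = p ^ n) (h3 : 3 ≤ n) : S.lowerCentralSeries (n - 2) ≠ ⊥ := by
  have hp := (Fact.out : p.Prime)
  obtain ⟨m, rfl⟩ : ∃ m, n = m + 3 := ⟨n - 3, by omega⟩
  have hL1 : ∀ j, S.lowerCentralSeries (j + 1) ≤ A := fun j => by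
    refine (S.lowerCentralSeries_antitone (by omega : 1 ≤ j + 1)).trans ?_
    rw [Subgroup.lowerCentralSeries_succ, Subgroup.lowerCentralSeries_zero]
    exact derived_le hs hx hxA
  have key : ∀ j, p ^ (m + 1) ≤ p ^ j * Nat.card (S.lowerCentralSeries (j + 1)) := by
    intro j
    induction j with
    | zero =>
      have h1 := card_step hs hx hxA (le_refl A)
      have hA : Nat.card A = p ^ (m + 2) := by
        have h2 := card_subgroup hs
        rw [hn, pow_succ p (m + 2)] at h2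
        exact Nat.eq_of_mul_eq_mul_right hp.pos h2
      rw [hA, hZ, pow_succ'] at h1
      have h2 := Nat.le_of_mul_le_mul_left h1 hp.pos
      refine h2.trans ?_
      rw [pow_zero, one_mul, Subgroup.lowerCentralSeries_succ, Subgroup.lowerCentralSeries_zero]
      exact card_le_of_le (S := S) ((derived_le hs hx hxA).trans hs.le)
        (Subgroup.commutator_mono hs.le le_rfl)
    | succ j ih =>
      have h1 := card_step hs hx hxA (hL1 j)
      rw [hZ, ← Subgroup.lowerCentralSeries_succ] at h1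
      refine ih.trans ?_
      rw [pow_succ, mul_assoc]
      exact Nat.mul_le_mul_left _ h1
  intro h
  have h1 := key m
  rw [show m + 3 - 2 = m + 1 by omega] at h
  rw [h, Subgroup.card_bot, mul_one] at h1
  exact absurd h1 (not_le.2 (Nat.pow_lt_pow_right hp.one_lt (Nat.lt_succ_self m)))

variable {F : FusionSystem S} (hF : F.IsSaturated p) (hAe : ¬ F.IsEssential p A)

omit [Fact p.Prime] [Finite S] in
/-- Essential subgroups other than `A` contain the centre and an element outside `A`. -/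
theorem essential_facts' {P : Subgroup Ω} (hP : F.IsEssential p P) (hne : P ≠ A) :
    zen S ≤ P ∧ ∃ x ∈ P, x ∉ A := by
  refine ⟨fun z hz => centralizer_mem_of_centric hP.1 hz.1 fun y hy =>
    (mem_zen.1 hz).2 y (hP.1.1 hy), ?_⟩
  by_contra! h
  have hAP : A ≤ P := fun a ha => centralizer_mem_of_centric hP.1 (hs.le ha) fun y hy =>
    hs.comm y (h y hy) a ha
  exact hne (le_antisymm (fun y hy => h y hy) hAP)

omit [Fact p.Prime] [Finite S] in
include hAe in
/-- Essential subgroups contain the centre and an element outside `A`. -/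
theorem essential_facts {P : Subgroup Ω} (hP : F.IsEssential p P) :
    zen S ≤ P ∧ ∃ x ∈ P, x ∉ A :=
  essential_facts' hs hP fun e => hAe (e ▸ hP)

/-- The centre of a nonabelian subgroup outside `A` is the centre of `S`. -/
theorem centre_eq {P : Subgroup Ω} (hPS : P ≤ S) {x : Ω} (hxP : x ∈ P) (hxA : x ∉ A)
    (hna : ¬ ∀ a ∈ P, ∀ b ∈ P, a * b = b * a) {z : Ω} (hz : z ∈ P)
    (hc : ∀ y ∈ P, y * z = z * y) : z ∈ zen S := by
  refine mem_zen_of_comm hs (hPS hxP) hxA ?_ (hc x hxP)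
  by_contra hzA
  refine hna fun a ha b hb => ?_
  have hzx : ∀ {w : Ω}, w ∈ P → ∃ c ∈ zen S, ∃ i : ℤ, w = c * z ^ i := by
    intro w hw
    obtain ⟨c, hcA, i, rfl⟩ := decomp hs (hPS hz) hzA (hPS hw)
    have hcP : c ∈ P := by simpa using P.mul_mem hw (inv_mem (zpow_mem hz i))
    exact ⟨c, mem_zen_of_comm hs (hPS hz) hzA hcA (hc c hcP).symm, i, rfl⟩
  obtain ⟨c, hc', i, rfl⟩ := hzx ha
  obtain ⟨d, hd', j, rfl⟩ := hzx hb
  have h1 : ∀ {e : Ω}, e ∈ zen S → ∀ {w : Ω}, w ∈ S → Commute e w := by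
    intro e he w hw
    exact ((mem_zen.1 he).2 w hw).symm
  have hzS : ∀ k : ℤ, z ^ k ∈ S := fun k => zpow_mem (hPS hz) k
  exact ((h1 hc' (mul_mem hd'.1 (hzS j))).mul_left
    ((h1 hd' (hzS i)).symm.mul_right ((Commute.refl z).zpow_zpow i j))).eq

omit [Fact p.Prime] [Finite S] hs in
/-- Invariance of the centre under the automorphisms of a subgroup with this centre. -/
theorem zen_invariant {P : Subgroup Ω} (hPS : P ≤ S)
    (h : ∀ z ∈ P, (∀ y ∈ P, y * z = z * y) → z ∈ zen S) (α : MulAut P) (z : P)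
    (hz : (z : Ω) ∈ zen S) : ((α z : P) : Ω) ∈ zen S := by
  refine h _ (α z).2 fun y hy => ?_
  have h1 : (α.symm ⟨y, hy⟩ : P) * z = z * α.symm ⟨y, hy⟩ :=
    Subtype.ext ((mem_zen.1 hz).2 _ (hPS (α.symm ⟨y, hy⟩).2))
  have h2 := congrArg α h1
  rw [map_mul, map_mul, MulEquiv.apply_symm_apply] at h2
  exact congrArg Subtype.val h2

omit hs in
include hF in
/-- What the maps on large subgroups do to a central subgroup. -/
theorem preserve_above (hS : IsPGroup p S) {M : Subgroup Ω} (hM : M ≤ zen S) (m : ℕ)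
    (hinv : ∀ P : Subgroup Ω, (P = S ∨ F.IsEssential p P) → m ≤ Nat.card P →
      M ≤ P ∧ ∀ α ∈ F.autGroup P, ∀ y : P, (y : Ω) ∈ M → ((α y : P) : Ω) ∈ M)
    {R : Subgroup Ω} (hR : m ≤ Nat.card R) {φ : R →* Ω} (hφ : φ ∈ F.Hom R) (y : R)
    (hy : (y : Ω) ∈ M) : φ y ∈ M := by
  have hMS : M ≤ S := hM.trans inf_le_left
  have hN : normalizerIn S M = S := by
    refine le_antisymm (normalizerIn_le_S M) fun s h => ⟨h, mem_normalizer_of_conj_mem hMS ?_⟩
    intro z hz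
    rw [(mem_zen.1 (hM hz)).2 s h, mul_inv_cancel_right]; exact hz
  obtain ⟨E, hE⟩ := exists_congr_system (normSystem F M hMS) hN
  have hle := alperin_above p hS hF E m fun P hP hm α hα => by
    have hPS : P ≤ S := by
      rcases hP with rfl | hP
      exacts [le_rfl, hP.1.1]
    obtain ⟨hMP, hmap⟩ := hinv P hP hm
    refine (autGroup_carrier hPS).2 ?_
    rw [hE]
    refine ⟨(autGroup_carrier hPS).1 hα, hPS.trans hN.ge, fun x => hN.ge (hPS (α x).2),
      (P.subtype.comp α.toMonoidHom).comp (Subgroup.inclusion (sup_le le_rfl hMP)),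
      restrict_mem ((autGroup_carrier hPS).1 hα) _, fun x => rfl, ?_⟩
    ext z
    rw [mem_map_subgroupOf]
    constructor
    · rintro ⟨x, hx, hxQ, rfl⟩
      exact hmap α hα ⟨x, hMP hxQ⟩ hxQ
    · intro hz
      have hz' := hmap α⁻¹ (inv_mem hα) ⟨z, hMP hz⟩ hz
      refine ⟨_, le_sup_right (a := P) hz', hz', ?_⟩
      exact congrArg Subtype.val (MulAut.apply_inv_self P α ⟨z, hMP hz⟩)
  have h1 := hle R hR hφ
  rw [hE] at h1
  obtain ⟨-, -, -, ψ, -, hψ1, hψ2⟩ := h1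
  rw [← hψ1 y]
  exact hψ2.le (apply_mem_map_subgroupOf ψ (x := Subgroup.inclusion le_sup_left y) hy)

include hF in
/-- An automorphism normalizing `Aut_S(P)` extends. -/
theorem exists_extension {P : Subgroup Ω} (hP : F.IsEssential p P) {α : MulAut P}
    (hα : α ∈ F.autGroup P) (h : ∀ t ∈ autInducedBy S P, α * t * α⁻¹ ∈ autInducedBy S P) :
    ∃ (Q : Subgroup Ω) (_ : P ≤ Q) (φ : Q →* Ω), φ ∈ F.Hom Q ∧ Nat.card P < Nat.card Q ∧
      ∀ (x : P) (hx : (x : Ω) ∈ Q), φ ⟨x, hx⟩ = α x := by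
  obtain ⟨g, hg, hgP⟩ := SetLike.exists_of_lt
    (lt_normalizerIn p hs.hS le_rfl (essential_lt p hs.hS hF hP))
  have hgA : conjAut S P ⟨g, hg⟩ ∈ autInducedBy S P :=
    mem_autInducedBy.2 ⟨g, hg.1, fun _ => rfl⟩
  obtain ⟨Q, hPQ, φ, hφ, he⟩ := extends_of_conj_mem p hs.hS hF hP.2.1 hα hgA
    (fun hI => hgP ((inn_mem_iff hP.1 hg.1 fun _ => rfl).1 hI)) (h _ hgA)
  exact ⟨Q, hPQ.le, φ, hφ, lt_of_not_ge fun hge =>
    hPQ.ne (eq_of_le_of_card_le (le_of_mem_hom hφ) hPQ.le hge), fun x hx => he x⟩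

include hF in
/-- An abelian essential subgroup: the derived group meets the centre in order `p`, and gives the
behaviour of the complements. -/
theorem abelian_essential {P : Subgroup Ω} (hP : F.IsEssential p P) (hne : P ≠ A)
    (hPc : ∀ a ∈ P, ∀ b ∈ P, a * b = b * a) :
    Nat.card (⁅S, S⁆ ⊓ zen S : Subgroup Ω) = p ∧
      (∃ W : Subgroup Ω, W ≤ zen S ∧ W ⊓ ⁅S, S⁆ = ⊥ ∧ Nat.card W * p = Nat.card (zen S)) ∧
      (p ≠ 2 → ∀ M : Subgroup Ω, M ≤ zen S → M ⊓ ⁅S, S⁆ = ⊥ →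
        Nat.card M * p = Nat.card (zen S) →
        (∀ (R : Subgroup Ω) (φ : R →* Ω), φ ∈ F.Hom R → Nat.card P < Nat.card R →
          ∀ y : R, (y : Ω) ∈ M → φ y ∈ M) →
        ∀ α ∈ F.autGroup P, ∀ y : P, (y : Ω) ∈ M → ((α y : P) : Ω) ∈ M) := by
  classical
  have hp := (Fact.out : p.Prime)
  have hPS := hP.1.1
  have := finite_of_le hPS
  have : Finite (MulAut P) := finite_mulAut
  obtain ⟨hzP, x, hxP, hxA⟩ := essential_facts' hs hP hne
  have hc : ∀ a b : P, a * b = b * a := fun a b => Subtype.ext (hPc a a.2 b b.2)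
  have hcap : ∀ z : P, (z : Ω) ∈ A ↔ (z : Ω) ∈ zen S := fun z =>
    ⟨inter_le_zen hs hPS hPc hxP hxA z.2, fun h => zen_le hs h⟩
  have hpP := isPGroup_of_le hs.hS hPS
  have hcardsub : ∀ {K : Subgroup Ω}, K ≤ P → Nat.card (K.subgroupOf P) = Nat.card K := fun h =>
    Nat.card_congr (Subgroup.subgroupOfEquivOfLe h).toEquiv
  obtain ⟨Z₀, hZ₀, hidx⟩ : ∃ Z₀ : Subgroup P, Z₀ = (zen S).subgroupOf P ∧ Z₀.index = p := by
    refine ⟨_, rfl, ?_⟩
    have := normal hs
    let f : P →* S ⧸ A.subgroupOf S :=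
      (QuotientGroup.mk' (A.subgroupOf S)).comp (Subgroup.inclusion hPS)
    have hk : f.ker = (zen S).subgroupOf P := by
      ext z
      rw [MonoidHom.mem_ker, Subgroup.mem_subgroupOf, ← hcap z]
      exact (QuotientGroup.eq_one_iff _).trans Subgroup.mem_subgroupOf
    have hsurj : f.range = ⊤ := by
      refine (Subgroup.eq_top_iff' _).2 fun w => ?_
      obtain ⟨⟨s, h⟩, rfl⟩ := QuotientGroup.mk'_surjective _ w
      obtain ⟨a, ha, i, rfl⟩ := decomp hs (hPS hxP) hxA h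
      refine ⟨⟨x, hxP⟩ ^ i, ?_⟩
      rw [map_zpow]
      refine (QuotientGroup.eq).2 ?_
      simp only [Subgroup.mem_subgroupOf, Subgroup.coe_mul, InvMemClass.coe_inv,
        Subgroup.coe_zpow, Subgroup.coe_inclusion]
      rw [← mul_assoc]
      simpa using conj_mem hs (zpow_mem (inv_mem (hPS hxP)) i) ha
    rw [← hk, Subgroup.index_ker, hsurj, Subgroup.card_top]
    exact hs.idx
  have hxZ : (⟨x, hxP⟩ : P) ∉ Z₀ := by
    rw [hZ₀, Subgroup.mem_subgroupOf]; exact fun h => hxA (zen_le hs h)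
  set T := autInducedBy S P with hT
  have hTH : T ≤ F.autGroup P := autInducedBy_le_autGroup hPS
  have hTp : IsPGroup p T := isPGroup_autInducedBy hs.hS P
  obtain ⟨R, hR⟩ := (good_of_fullyNormalized p hs.hS hF hP.2.1).1.2
  have hTmax : ∀ U : Subgroup (MulAut P), U ≤ F.autGroup P → IsPGroup p U → T ≤ U → U = T := by
    intro U hU hUp hTU
    have h1 := R.is_maximal' (Q := U.subgroupOf (F.autGroup P))
      (hUp.comap_of_injective _ (F.autGroup P).subtype_injective)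
      (hR.le.trans fun a ha => hTU ha)
    rw [hR] at h1
    have h2 := congrArg (Subgroup.map (F.autGroup P).subtype) h1
    rwa [Subgroup.map_subgroupOf_eq_of_le hU, Subgroup.map_subgroupOf_eq_of_le hTH] at h2
  have hT1 : T ≠ ⊥ := by
    intro h
    obtain ⟨g, hg, hgP⟩ := SetLike.exists_of_lt
      (lt_normalizerIn p hs.hS le_rfl (essential_lt p hs.hS hF hP))
    have h1 : conjAut S P ⟨g, hg⟩ ∈ T := mem_autInducedBy.2 ⟨g, hg.1, fun _ => rfl⟩
    rw [h, Subgroup.mem_bot] at h1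
    exact hgP ((inn_mem_iff hP.1 hg.1 (α := conjAut S P ⟨g, hg⟩) fun _ => rfl).1
      (h1 ▸ one_mem _))
  obtain ⟨Z₁, hZ₁⟩ : ∃ Z₁ : Subgroup P, Z₁ = (⁅S, S⁆ ⊓ zen S).subgroupOf P := ⟨_, rfl⟩
  have hfix : ∀ t ∈ T, ∀ z ∈ Z₀, t z = z := by
    intro t ht z hz
    obtain ⟨g, hg, hgt⟩ := mem_autInducedBy.1 ht
    rw [hZ₀, Subgroup.mem_subgroupOf] at hz
    exact Subtype.ext ((hgt z).trans (by rw [(mem_zen.1 hz).2 g hg, mul_inv_cancel_right]))
  have hdisp₁ : ∀ t ∈ T, ∀ y : P, y⁻¹ * t y ∈ Z₁ := by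
    intro t ht y
    obtain ⟨g, hg, hgt⟩ := mem_autInducedBy.1 ht
    rw [hZ₁, Subgroup.mem_subgroupOf]
    have h1 : ((y⁻¹ * t y : P) : Ω) ∈ ⁅S, S⁆ := by
      have h2 := Subgroup.commutator_mem_commutator (inv_mem (hPS y.2)) hg
      rw [commutatorElement_def, inv_inv, mul_assoc, mul_assoc] at h2
      rw [Subgroup.coe_mul, InvMemClass.coe_inv, hgt y]
      simpa [mul_assoc] using h2
    exact ⟨h1, (hcap _).1 (derived_le hs (hPS hxP) hxA h1)⟩
  have hZ₁₀ : Z₁ ≤ Z₀ := by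
    rw [hZ₁, hZ₀]; exact Subgroup.comap_mono inf_le_right
  have hsurj : ∀ z ∈ Z₁, ∃ t ∈ T, (⟨x, hxP⟩ : P)⁻¹ * t ⟨x, hxP⟩ = z := by
    intro z hz
    rw [hZ₁, Subgroup.mem_subgroupOf] at hz
    obtain ⟨hzD, hzZ⟩ := hz
    obtain ⟨a, ha, hax⟩ := commutator_eq hs (hPS hxP) hxA hzD
    have hcz : a * x * a⁻¹ = x * (z : Ω) := by
      rw [(mem_zen.1 hzZ).2 x (hPS hxP), ← hax, commutatorElement_def]; group
    have hnP : ∀ y ∈ P, a * y * a⁻¹ ∈ P := by
      intro y hy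
      obtain ⟨c, hcA, i, rfl⟩ := decomp hs (hPS hxP) hxA (hPS hy)
      have hcP : c ∈ P := by simpa using P.mul_mem hy (inv_mem (zpow_mem hxP i))
      have e : a * (c * x ^ i) * a⁻¹ = a * c * a⁻¹ * (a * x * a⁻¹) ^ i := by
        rw [conj_zpow]; group
      rw [e, hcz, hs.comm a ha c hcA, mul_inv_cancel_right]
      exact mul_mem hcP (zpow_mem (mul_mem hxP z.2) i)
    have hN : a ∈ normalizerIn S P := ⟨hs.le ha, mem_normalizer_of_conj_mem hPS hnP⟩
    refine ⟨conjAut S P ⟨a, hN⟩, mem_autInducedBy.2 ⟨a, hs.le ha, fun _ => rfl⟩, Subtype.ext ?_⟩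
    show x⁻¹ * (a * x * a⁻¹) = (z : Ω)
    rw [hcz, inv_mul_cancel_left]
  -- some automorphism moves the centre
  obtain ⟨g₀, hg₀, hg₀Z⟩ : ∃ g ∈ F.autGroup P, Z₀.map g.toMonoidHom ≠ Z₀ := by
    by_contra hno
    push Not at hno
    refine not_essential_of_normal_sylow p hP R ?_
    have hTeq : T = ShearPair.stab hc (F.autGroup P) Z₀ :=
      (hTmax _ (fun α h => ((ShearPair.mem_stab hc).1 h).1) (ShearPair.stab_isPGroup hc p hpP Z₀)
        fun t ht => ⟨hTH ht, hfix t ht, fun y => hZ₁₀ (hdisp₁ t ht y)⟩).symm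
    rw [hR]
    refine ⟨fun t ht g => ?_⟩
    rw [Subgroup.mem_subgroupOf] at ht ⊢
    change (t : MulAut P) ∈ T at ht
    show _ ∈ T
    rw [hTeq] at ht ⊢
    have h1 := ShearPair.stab_conj hc g.2 ht
    rwa [hno _ g.2] at h1
  have core : ∀ g ∈ F.autGroup P, Z₀.map g.toMonoidHom ≠ Z₀ →
      Nat.card Z₁ = p ∧ ∃ W : Subgroup P, W = Z₀ ⊓ Z₀.map g.toMonoidHom ∧
        Nat.card W * p = Nat.card Z₀ ∧ (∀ z ∈ Z₁, z ∈ W → z = 1) ∧
        (∀ v ∈ Z₀, ∃ z ∈ Z₁, ∃ w ∈ W, v = z * w) ∧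
        ∃ h ∈ F.autGroup P, (∀ t ∈ T, h * t = t * h) ∧ (∀ w ∈ W, h w = w) ∧
          ∀ z ∈ Z₁, h z = z⁻¹ := by
    intro g hg hgZ
    obtain ⟨hcW, hTc, hnW, h, hh, hcomm, hhW, hneg⟩ := ShearPair.shear_pair hc p hpP T hTH hTp
      hTmax hT1 Z₀ hidx hfix (fun t ht y => hZ₁₀ (hdisp₁ t ht y)) hg hgZ
    generalize hW : Z₀ ⊓ Z₀.map g.toMonoidHom = W at hcW hnW hhW hneg
    have hZW : ∀ z ∈ Z₁, z ∈ W → z = 1 := by
      intro z hz hzW
      obtain ⟨t, ht, rfl⟩ := hsurj z hz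
      by_cases ht1 : t = 1
      · rw [ht1]; simp
      · exact absurd hzW (hnW t ht ht1 _ hxZ)
    obtain ⟨t₁, ht₁, ht₁1⟩ := (Subgroup.bot_or_exists_ne_one T).resolve_left hT1
    obtain ⟨d, hd, hdW⟩ : ∃ d ∈ Z₁, d ∉ W := ⟨_, hdisp₁ t₁ ht₁ _, hnW t₁ ht₁ ht₁1 _ hxZ⟩
    have hcard : Nat.card Z₁ = p := by
      have h1 : Nat.card Z₁ ≤ p := by
        rw [← hTc]
        refine Nat.card_le_card_of_surjective
          (fun t : T => (⟨_, hdisp₁ t t.2 ⟨x, hxP⟩⟩ : Z₁)) fun z => ?_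
        obtain ⟨t, ht, htz⟩ := hsurj z z.2
        exact ⟨⟨t, ht⟩, Subtype.ext htz⟩
      obtain ⟨k, hk⟩ := IsPGroup.iff_card.1 (hpP.to_subgroup Z₁)
      rw [hk] at h1 ⊢
      match k, hk, h1 with
      | 0, hk, _ =>
        refine absurd ?_ hdW
        rw [pow_zero, Subgroup.card_eq_one] at hk
        rw [hk, Subgroup.mem_bot] at hd
        rw [hd]; exact one_mem _
      | 1, _, _ => exact pow_one p
      | k + 2, _, h1 =>
        exact absurd h1 (not_le.2 (lt_self_pow₀ hp.one_lt (by omega)))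
    refine ⟨hcard, W, rfl, hcW, hZW, fun v hv => ?_, h, hh, hcomm, hhW, fun z hz => ?_⟩
    · have hWZ : W ≤ Z₀ := hW ▸ inf_le_left
      have hrel : W.relIndex Z₀ = p := by
        have h1 := Subgroup.relIndex_mul_relIndex ⊥ W Z₀ bot_le hWZ
        rw [Subgroup.relIndex_bot_left, Subgroup.relIndex_bot_left, ← hcW] at h1
        exact Nat.eq_of_mul_eq_mul_left Nat.card_pos h1
      rw [← ShearPair.sup_zpowers_eq_of_prime hp hWZ hrel (hZ₁₀ hd) hdW] at hv
      have : W.Normal := ⟨fun n hn y => by rwa [hc y n, mul_inv_cancel_right]⟩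
      rw [← SetLike.mem_coe, Subgroup.normal_mul] at hv
      obtain ⟨w, hw, _, ⟨l, rfl⟩, rfl⟩ := hv
      exact ⟨d ^ l, zpow_mem hd l, w, hw, hc _ _⟩
    · have hhz : h z ∈ Z₁ := by
        obtain ⟨t, ht, rfl⟩ := hsurj z hz
        have e : h (t ⟨x, hxP⟩) = t (h ⟨x, hxP⟩) := by
          have := congrArg (fun f : MulAut P => f ⟨x, hxP⟩) (hcomm t ht)
          simpa [MulAut.mul_apply] using this
        rw [map_mul, map_inv, e]
        exact hdisp₁ t ht _
      exact eq_inv_of_mul_eq_one_right (hZW _ (mul_mem hz hhz) (hneg z))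
  have hDZP : ⁅S, S⁆ ⊓ zen S ≤ P := inf_le_right.trans hzP
  have hcZ₀ : Nat.card Z₀ = Nat.card (zen S) := hZ₀ ▸ hcardsub hzP
  obtain ⟨hcard, W₀, hW₀', hcW₀, hZW₀, -, -⟩ := core g₀ hg₀ hg₀Z
  have hW₀ : W₀ ≤ Z₀ := hW₀' ▸ inf_le_left
  refine ⟨?_, ?_, fun hp2 M hMZ hMD hMcard hpres => ?_⟩
  · rw [← hcardsub hDZP, ← hZ₁, hcard]
  · refine ⟨W₀.map P.subtype, ?_, ?_, ?_⟩
    · rintro _ ⟨w, hw, rfl⟩
      have hw := hW₀ hw
      rw [hZ₀, Subgroup.mem_subgroupOf] at hw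
      exact hw
    · refine eq_bot_iff.2 ?_
      rintro _ ⟨⟨w, hw, rfl⟩, hwD⟩
      have hw' := hW₀ hw
      rw [hZ₀, Subgroup.mem_subgroupOf] at hw'
      rw [hZW₀ w (by rw [hZ₁, Subgroup.mem_subgroupOf]; exact ⟨hwD, hw'⟩) hw]
      exact Subgroup.mem_bot.2 rfl
    · rw [Subgroup.card_map_of_injective P.subtype_injective, ← hcZ₀]
      exact hcW₀
  -- invariance
  have hMP : M ≤ P := hMZ.trans hzP
  have key : ∀ g ∈ F.autGroup P, Z₀.map g.toMonoidHom ≠ Z₀ →
      M.subgroupOf P = Z₀ ⊓ Z₀.map g.toMonoidHom := by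
    intro g hg hgZ
    obtain ⟨-, W, hW, hcW, hZW, hdec, h, hh, hcomm, hhW, hhinv⟩ := core g hg hgZ
    rw [← hW]
    refine Subgroup.eq_of_le_of_card_ge (fun m hm => ?_) ?_
    swap
    · rw [hcardsub hMP]
      refine le_of_eq (Nat.eq_of_mul_eq_mul_right hp.pos ?_)
      rw [hcW, hMcard, hcZ₀]
    have hm0 : m ∈ Z₀ := by
      rw [hZ₀, Subgroup.mem_subgroupOf]; exact hMZ hm
    obtain ⟨z, hz, w, hw, rfl⟩ := hdec m hm0
    have hhm : h (z * w) ∈ M.subgroupOf P := by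
      obtain ⟨Q, hPQ, φ, hφ, hlt, he⟩ := exists_extension hs hF hP hh fun t ht => by
        rw [hcomm t ht, mul_inv_cancel_right]; exact ht
      rw [Subgroup.mem_subgroupOf]
      have h1 := hpres Q φ hφ hlt ⟨_, hPQ (z * w).2⟩ hm
      rwa [he (z * w) (hPQ (z * w).2)] at h1
    rw [map_mul, hhW w hw, hhinv z hz] at hhm
    have hw2 : w ^ 2 ∈ M.subgroupOf P := by
      have h1 := mul_mem hm hhm
      rwa [hc z⁻¹ w, mul_assoc, ← mul_assoc w w, ← sq, hc (w ^ 2) z⁻¹, mul_inv_cancel_left] at h1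
    have hwM : w ∈ M.subgroupOf P := by
      obtain ⟨k, hk⟩ := IsPGroup.iff_orderOf.1 hpP w
      have hodd : Odd (orderOf w) := hk ▸ (hp.odd_of_ne_two hp2).pow
      obtain ⟨l, hl⟩ := hodd
      have e : w = (w ^ 2) ^ (l + 1) := by
        rw [← pow_mul, show 2 * (l + 1) = orderOf w + 1 by omega, pow_succ, pow_orderOf_eq_one,
          one_mul]
      rw [e]; exact pow_mem hw2 _
    have hzM : z ∈ M.subgroupOf P := by simpa using mul_mem hm (inv_mem hwM)
    have hz1 : z = 1 := by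
      have h1 : (z : Ω) ∈ M ⊓ ⁅S, S⁆ := by
        rw [hZ₁, Subgroup.mem_subgroupOf] at hz
        exact ⟨hzM, hz.1⟩
      rw [hMD, Subgroup.mem_bot] at h1
      exact Subtype.ext h1
    rw [hz1, one_mul]; exact hw
  have hall : ∀ g ∈ F.autGroup P, M.subgroupOf P ≤ Z₀.map g.toMonoidHom := by
    intro g hg
    by_cases hgZ : Z₀.map g.toMonoidHom = Z₀
    · rw [hgZ, key g₀ hg₀ hg₀Z]; exact inf_le_left
    · rw [key g hg hgZ]; exact inf_le_right
  intro α hα y hy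
  have hmem : ∀ g ∈ F.autGroup P, α y ∈ Z₀.map g.toMonoidHom := by
    intro g hg
    obtain ⟨z, hz, hzy⟩ := hall _ (mul_mem (inv_mem hα) hg) (show y ∈ M.subgroupOf P from hy)
    refine ⟨z, hz, ?_⟩
    rw [← hzy]
    simp [MulAut.mul_apply]
  show α y ∈ M.subgroupOf P
  rw [key g₀ hg₀ hg₀Z]
  refine ⟨?_, hmem g₀ hg₀⟩
  obtain ⟨z, hz, hzy⟩ := hmem 1 (one_mem _)
  rw [← hzy]; exact hz

include hF in
/-- A nonabelian essential subgroup preserves what the larger maps preserve. -/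
theorem nonabelian_essential {P : Subgroup Ω} (hP : F.IsEssential p P) {x : Ω} (hxP : x ∈ P)
    (hxA : x ∉ A) (hna : ¬ ∀ a ∈ P, ∀ b ∈ P, a * b = b * a) {M : Subgroup Ω} (hMZ : M ≤ zen S)
    (hpres : ∀ (R : Subgroup Ω) (φ : R →* Ω), φ ∈ F.Hom R → Nat.card P < Nat.card R →
      ∀ y : R, (y : Ω) ∈ M → φ y ∈ M) :
    ∀ α ∈ F.autGroup P, ∀ y : P, (y : Ω) ∈ M → ((α y : P) : Ω) ∈ M := by
  classical
  have hPS := hP.1.1
  have := finite_of_le hPS
  have : Finite (MulAut P) := finite_mulAut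
  have hzinv := zen_invariant hPS fun z hz hc => centre_eq hs hPS hxP hxA hna hz hc
  let K : Subgroup (F.autGroup P) :=
    { carrier := {k | ∀ z : P, (z : Ω) ∈ zen S → (k : MulAut P) z = z}
      one_mem' := fun z _ => rfl
      mul_mem' := by
        intro a b ha hb z hz
        rw [Subgroup.coe_mul, MulAut.mul_apply, hb z hz, ha z hz]
      inv_mem' := by
        intro a ha z hz
        conv_lhs => rw [← ha z hz]
        rw [InvMemClass.coe_inv, MulAut.inv_apply_self] }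
  have : K.Normal := ⟨fun k hk g z hz => by
    simp only [Subgroup.coe_mul, InvMemClass.coe_inv, MulAut.mul_apply]
    rw [hk _ (hzinv _ z hz), MulAut.apply_inv_self]⟩
  obtain ⟨R, hR⟩ := (good_of_fullyNormalized p hs.hS hF hP.2.1).1.2
  have hRK : (R : Subgroup (F.autGroup P)) ≤ K := by
    intro k hk z hz
    rw [hR] at hk
    obtain ⟨g, hg, hgt⟩ := mem_autInducedBy.1 (Subgroup.mem_subgroupOf.1 hk)
    exact Subtype.ext ((hgt z).trans (by rw [(mem_zen.1 hz).2 g hg, mul_inv_cancel_right]))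
  let B : Subgroup (F.autGroup P) :=
    { carrier := {γ | ∀ y : P, (y : Ω) ∈ M ↔ (((γ : MulAut P) y : P) : Ω) ∈ M}
      one_mem' := fun y => Iff.rfl
      mul_mem' := by
        intro a b ha hb y
        rw [Subgroup.coe_mul, MulAut.mul_apply]
        exact (hb y).trans (ha _)
      inv_mem' := by
        intro a ha y
        rw [InvMemClass.coe_inv, ha ((a : MulAut P)⁻¹ y), MulAut.apply_inv_self] }
  have hKB : K ≤ B := by
    intro k hk y
    constructor
    · intro hy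
      rw [hk y (hMZ hy)]; exact hy
    · intro hy
      have h1 := K.inv_mem hk _ (hMZ hy)
      rw [InvMemClass.coe_inv, MulAut.inv_apply_self] at h1
      rw [h1]; exact hy
  have hfwd : ∀ γ ∈ Subgroup.normalizer ((R : Subgroup (F.autGroup P)) : Set (F.autGroup P)),
      ∀ y : P, (y : Ω) ∈ M → (((γ : MulAut P) y : P) : Ω) ∈ M := by
    intro γ hγ y hy
    obtain ⟨Q, hPQ, φ, hφ, hlt, he⟩ := exists_extension hs hF hP γ.2 fun t ht => by
      have h1 : (⟨t, autInducedBy_le_autGroup hPS ht⟩ : F.autGroup P) ∈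
          (R : Subgroup (F.autGroup P)) := by
        rw [hR]; exact Subgroup.mem_subgroupOf.2 ht
      have h2 := (Subgroup.mem_normalizer_iff.1 hγ _).1 h1
      rw [hR] at h2
      exact Subgroup.mem_subgroupOf.1 h2
    have h1 := hpres Q φ hφ hlt ⟨_, hPQ y.2⟩ hy
    rwa [he y (hPQ y.2)] at h1
  have hNB : Subgroup.normalizer ((R : Subgroup (F.autGroup P)) : Set (F.autGroup P)) ≤ B := by
    intro γ hγ y
    refine ⟨hfwd γ hγ y, fun hy => ?_⟩
    have h1 := hfwd _ (inv_mem hγ) _ hy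
    rwa [InvMemClass.coe_inv, MulAut.inv_apply_self] at h1
  intro α hα y hy
  have h := (Sylow.normalizer_sup_eq_top' R hRK).ge (Subgroup.mem_top ⟨α, hα⟩)
  exact (sup_le hNB hKB h y).1 hy

include hF in
/-- A complement in the centre invariant under the automorphisms of `S`. -/
theorem exists_complement {W : Subgroup Ω} (hWZ : W ≤ zen S) (hWD : W ⊓ ⁅S, S⁆ = ⊥)
    (hWc : Nat.card W * p = Nat.card (zen S))
    (hDc : Nat.card (⁅S, S⁆ ⊓ zen S : Subgroup Ω) = p) :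
    ∃ M : Subgroup Ω, M ≤ zen S ∧ M ⊓ ⁅S, S⁆ = ⊥ ∧ Nat.card M * p = Nat.card (zen S) ∧
      ∀ α ∈ F.autGroup S, ∀ y : S, (y : Ω) ∈ M → ((α y : S) : Ω) ∈ M := by
  classical
  have hp := (Fact.out : p.Prime)
  have : Finite (MulAut S) := finite_mulAut
  let ι : Subgroup.center S →* Ω := S.subtype.comp (Subgroup.center S).subtype
  have hι : Function.Injective ι := fun a b h => Subtype.ext (Subtype.ext h)
  have hrange : ι.range = zen S := by
    ext z
    constructor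
    · rintro ⟨w, rfl⟩
      exact mem_zen.2 ⟨(w : S).2, fun s h =>
        congrArg Subtype.val (Subgroup.mem_center_iff.1 w.2 ⟨s, h⟩)⟩
    · intro hz
      refine ⟨⟨⟨z, hz.1⟩, Subgroup.mem_center_iff.2 fun g => Subtype.ext ?_⟩, rfl⟩
      exact (mem_zen.1 hz).2 g g.2
  have hcard : ∀ {K : Subgroup Ω}, K ≤ zen S → Nat.card (K.comap ι) = Nat.card K := fun {K} hK => by
    rw [← Subgroup.card_map_of_injective hι, Subgroup.map_comap_eq_self (hK.trans hrange.ge)]
  let r : MulAut S →* MulAut (Subgroup.center S) :=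
    MonoidHom.mk' Subgroup.centerCongr fun a b => MulEquiv.ext fun z => Subtype.ext rfl
  let Δ := (F.autGroup S).map r
  have hco : (Nat.card (Subgroup.center S)).Coprime (Nat.card Δ) := by
    obtain ⟨R, hR⟩ := (good_of_fullyNormalized p hs.hS hF isFullyNormalized_S).1.2
    rw [← inn_eq_autInducedBy] at hR
    let f : F.autGroup S →* MulAut (Subgroup.center S) := r.comp (F.autGroup S).subtype
    have hd : Nat.card Δ = f.ker.index := by
      rw [Subgroup.index_ker, MonoidHom.range_comp, Subgroup.range_subtype]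
    have hle : (Inn S).subgroupOf (F.autGroup S) ≤ f.ker := by
      intro k hk
      obtain ⟨q, hq⟩ := Subgroup.mem_subgroupOf.1 hk
      refine MonoidHom.mem_ker.2 (MulEquiv.ext fun z => Subtype.ext ?_)
      show (k : MulAut S) (z : S) = z
      rw [← hq]
      show q * (z : S) * q⁻¹ = z
      rw [Subgroup.mem_center_iff.1 z.2 q, mul_inv_cancel_right]
    obtain ⟨k, hk⟩ := IsPGroup.iff_card.1 (hs.hS.to_subgroup (Subgroup.center S))
    rw [hk, hd]
    refine Nat.Coprime.pow_left k ((hp.coprime_iff_not_dvd).2 fun h => ?_)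
    have h1 := R.not_dvd_index
    rw [hR] at h1
    exact h1 (h.trans (Subgroup.index_dvd_of_le hle))
  obtain ⟨M', hinv, hd, hc⟩ := ShearPair.exists_invariant_compl'
    (fun a b : Subgroup.center S => Subtype.ext (Subgroup.mem_center_iff.1 b.2 (a : S))) Δ hco
    ((⁅S, S⁆ ⊓ zen S).comap ι) (W.comap ι) (fun δ hδ z hz => by
      obtain ⟨α, -, rfl⟩ := hδ
      rw [Subgroup.mem_comap] at hz ⊢
      obtain ⟨hzD, -⟩ := hz
      refine ⟨?_, hrange.le ⟨_, rfl⟩⟩
      have h1 : (z : S) ∈ commutator S := by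
        rw [← Subgroup.map_subtype_commutator] at hzD
        obtain ⟨w, hw, hwz⟩ := hzD
        rwa [show (z : S) = w from Subtype.ext hwz.symm]
      have h2 : α (z : S) ∈ commutator S := by
        have h3 := Subgroup.characteristic_iff_comap_eq.1
          (inferInstance : (commutator S).Characteristic) α
        rw [← h3] at h1
        exact h1
      rw [← Subgroup.map_subtype_commutator]
      exact ⟨_, h2, rfl⟩)
    (eq_bot_iff.2 fun z hz => by
      have h1 : ι z ∈ W ⊓ ⁅S, S⁆ := ⟨hz.2, hz.1.1⟩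
      rw [hWD, Subgroup.mem_bot] at h1
      exact Subgroup.mem_bot.2 (hι (h1.trans ι.map_one.symm)))
    (by rw [hcard inf_le_right, hcard hWZ, hDc, mul_comm, hWc, ← hcard le_rfl,
      show (zen S).comap ι = ⊤ from top_le_iff.1 fun z _ => hrange.le ⟨z, rfl⟩, Subgroup.card_top])
  refine ⟨M'.map ι, ?_, ?_, ?_, ?_⟩
  · rintro _ ⟨z, -, rfl⟩
    exact hrange.le ⟨z, rfl⟩
  · refine eq_bot_iff.2 ?_
    rintro _ ⟨⟨z, hz, rfl⟩, hzD⟩
    have h1 : z = 1 := Subgroup.mem_bot.1 (hd.le ⟨⟨hzD, hrange.le ⟨z, rfl⟩⟩, hz⟩)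
    rw [h1, map_one]
    exact one_mem _
  · rw [Subgroup.card_map_of_injective hι]
    rw [hcard inf_le_right, hDc] at hc
    rw [hc, ← hcard le_rfl,
      show (zen S).comap ι = ⊤ from top_le_iff.1 fun z _ => hrange.le ⟨z, rfl⟩, Subgroup.card_top]
  · rintro α hα ⟨_, hy⟩ ⟨z, hz, rfl⟩
    exact ⟨_, hinv (r α) ⟨α, hα, rfl⟩ z hz, rfl⟩

include hF hAe in
/-- The structure theorem. -/
theorem structure_of_core_eq_bot (hp2 : p ≠ 2) (hcore : F.core = ⊥) :
    (∃ x ∈ S, x ∉ A ∧ F.IsEssential p (zen S ⊔ Subgroup.zpowers x)) ∧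
      zen S ≤ ⁅S, S⁆ ∧ ∀ n : ℕ, Nat.card S = p ^ n → 3 ≤ n →
        S.lowerCentralSeries (n - 2) ≠ ⊥ := by
  classical
  have hp := (Fact.out : p.Prime)
  have hS := hs.hS
  have hcentre : ∀ P : Subgroup Ω, F.IsEssential p P → (¬ ∀ a ∈ P, ∀ b ∈ P, a * b = b * a) →
      ∀ α : MulAut P, ∀ z : P, (z : Ω) ∈ zen S → ((α z : P) : Ω) ∈ zen S := fun P hP hna => by
    obtain ⟨-, x, hxP, hxA⟩ := essential_facts hs hAe hP
    exact zen_invariant hP.1.1 fun z hz hc => centre_eq hs hP.1.1 hxP hxA hna hz hc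
  have : Nontrivial S := by
    by_contra h
    rw [not_nontrivial_iff_subsingleton] at h
    exact hs.na fun a ha b hb => by
      rw [show a = 1 from congrArg Subtype.val (Subsingleton.elim (⟨a, ha⟩ : S) 1)]; simp
  obtain ⟨P, hP, hPc⟩ : ∃ P, F.IsEssential p P ∧ ∀ a ∈ P, ∀ b ∈ P, a * b = b * a := by
    by_contra hno
    push Not at hno
    have hnorm : F.IsNormal (zen S) := by
      refine isNormal_of_essential p hS hF (fun P hP => ?_) fun P hP α _ z hz => ?_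
      · rcases hP with rfl | hP
        exacts [inf_le_left, (essential_facts hs hAe hP).1]
      · rcases hP with rfl | hP
        · exact zen_invariant le_rfl (fun z hz hc => mem_zen.2 ⟨hz, hc⟩) α z hz
        · obtain ⟨a, ha, b, hb, hab⟩ := hno P hP
          exact hcentre P hP (fun h => hab (h a ha b hb)) α z hz
    have hbot : zen S = ⊥ := le_bot_iff.1 ((le_core hnorm).trans hcore.le)
    have := hS.center_nontrivial
    obtain ⟨⟨z, hz⟩, hz1⟩ := exists_ne (1 : Subgroup.center S)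
    have h1 : (z : Ω) ∈ zen S := mem_zen.2 ⟨z.2, fun s h =>
      congrArg Subtype.val (Subgroup.mem_center_iff.1 hz ⟨s, h⟩)⟩
    rw [hbot, Subgroup.mem_bot] at h1
    exact hz1 (Subtype.ext (Subtype.ext h1))
  obtain ⟨hzP, x, hxP, hxA⟩ := essential_facts hs hAe hP
  have hxS := hP.1.1 hxP
  obtain ⟨hDc, ⟨W, hWZ, hWD, hWc⟩, -⟩ := abelian_essential hs hF hP (fun e => hAe (e ▸ hP)) hPc
  obtain ⟨M, hMZ, hMD, hMc, hMS⟩ := exists_complement hs hF hWZ hWD hWc hDc
  have hMess : ∀ d : ℕ, ∀ P : Subgroup Ω, F.IsEssential p P → Nat.card S - Nat.card P = d →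
      ∀ α ∈ F.autGroup P, ∀ y : P, (y : Ω) ∈ M → ((α y : P) : Ω) ∈ M := by
    intro d
    induction d using Nat.strong_induction_on with
    | _ d IH =>
    intro P hP hd
    have hpres : ∀ (R : Subgroup Ω) (φ : R →* Ω), φ ∈ F.Hom R → Nat.card P < Nat.card R →
        ∀ y : R, (y : Ω) ∈ M → φ y ∈ M := by
      intro R φ hφ hlt y hy
      refine preserve_above hF hS hMZ (Nat.card P + 1) (fun P' hP' hm => ?_) hlt hφ y hy
      rcases hP' with rfl | hP'
      · exact ⟨hMZ.trans inf_le_left, hMS⟩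
      · refine ⟨hMZ.trans (essential_facts hs hAe hP').1, IH _ ?_ P' hP' rfl⟩
        have := card_le_of_le (S := S) le_rfl hP'.1.1
        omega
    obtain ⟨-, x', hx'P, hx'A⟩ := essential_facts hs hAe hP
    by_cases hab : ∀ a ∈ P, ∀ b ∈ P, a * b = b * a
    · exact (abelian_essential hs hF hP (fun e => hAe (e ▸ hP)) hab).2.2 hp2 M hMZ hMD hMc hpres
    · exact nonabelian_essential hs hF hP hx'P hx'A hab hMZ hpres
  have hMn : F.IsNormal M := by
    refine isNormal_of_essential p hS hF (fun Q hQ => ?_) fun Q hQ α hα z hz => ?_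
    · rcases hQ with rfl | hQ
      exacts [hMZ.trans inf_le_left, hMZ.trans (essential_facts hs hAe hQ).1]
    · rcases hQ with rfl | hQ
      exacts [hMS α hα z hz, hMess _ Q hQ rfl α hα z hz]
  have hMbot : M = ⊥ := le_bot_iff.1 ((le_core hMn).trans hcore.le)
  have hZp : Nat.card (zen S) = p := by rw [← hMc, hMbot, Subgroup.card_bot, one_mul]
  refine ⟨⟨x, hxS, hxA, ?_⟩, ?_, fun n hn h3 => lcs_ne_bot hs hxS hxA hZp hn h3⟩
  · convert hP
    refine le_antisymm (sup_le hzP (Subgroup.zpowers_le.2 hxP)) fun y hy => ?_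
    obtain ⟨a, ha, i, rfl⟩ := decomp hs hxS hxA (hP.1.1 hy)
    have haP : a ∈ P := by simpa using P.mul_mem hy (inv_mem (zpow_mem hxP i))
    exact mul_mem (Subgroup.mem_sup_left (inter_le_zen hs hP.1.1 hPc hxP hxA haP ha))
      (zpow_mem (Subgroup.mem_sup_right (Subgroup.mem_zpowers x)) i)
  · intro z hz
    have := finite_of_le (show zen S ≤ S from inf_le_left)
    exact ((Subgroup.eq_of_le_of_card_ge (inf_le_right : ⁅S, S⁆ ⊓ zen S ≤ zen S)
      (by rw [hDc, hZp])).ge hz).1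

end CfsgLib.Fusion.AbelianIndex
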