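import Cfsg.Agent.Fusion.AbelianIndex
import Cfsg.Agent.Solvable.PGroupBasic

/-!
Essential subgroups other than a unique abelian subgroup of index `p`.
-/

set_option autoImplicit false

open Cfsg Cfsg.FusionSystem
open scoped commutatorElement

namespace CfsgLib.Fusion.AbelianIndex

variable {Ω : Type*} [Group Ω] {p : ℕ} [Fact p.Prime] {S A : Subgroup Ω} [Finite S]
  (hs : Setup p S A)

include hs

/-- A subgroup not inside `A` meets it in index `p`. -/
theorem card_inter {K : Subgroup Ω} (hK : K ≤ S) {x : Ω} (hxK : x ∈ K) (hxA : x ∉ A) :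
    Nat.card (K ⊓ A : Subgroup Ω) * p = Nat.card K := by
  have := normal hs
  let f : K →* S ⧸ A.subgroupOf S :=
    (QuotientGroup.mk' (A.subgroupOf S)).comp (Subgroup.inclusion hK)
  have hk : f.ker = (K ⊓ A).subgroupOf K := by
    ext z
    rw [MonoidHom.mem_ker, Subgroup.mem_subgroupOf]
    refine ((QuotientGroup.eq_one_iff _).trans Subgroup.mem_subgroupOf).trans ?_
    exact ⟨fun h => ⟨z.2, h⟩, fun h => h.2⟩
  have hsurj : f.range = ⊤ := by
    refine (Subgroup.eq_top_iff' _).2 fun w => ?_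
    obtain ⟨⟨s, h⟩, rfl⟩ := QuotientGroup.mk'_surjective _ w
    obtain ⟨a, ha, i, rfl⟩ := decomp hs (hK hxK) hxA h
    refine ⟨⟨x, hxK⟩ ^ i, ?_⟩
    rw [map_zpow]
    refine (QuotientGroup.eq).2 ?_
    simp only [Subgroup.mem_subgroupOf, Subgroup.coe_mul, InvMemClass.coe_inv,
      Subgroup.coe_zpow, Subgroup.coe_inclusion]
    rw [← mul_assoc]
    simpa using conj_mem hs (zpow_mem (inv_mem (hK hxK)) i) ha
  rw [← Subgroup.card_mul_index f.ker, Subgroup.index_ker, hsurj, Subgroup.card_top, hk,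
    Nat.card_congr (Subgroup.subgroupOfEquivOfLe (inf_le_left : K ⊓ A ≤ K)).toEquiv,
    show Nat.card (S ⧸ A.subgroupOf S) = p from hs.idx]

/-- The order of a subgroup of `A` against its commutators with `x`. -/
theorem card_le_of_comm {x : Ω} (hx : x ∈ S) (hxA : x ∉ A) {L : Subgroup Ω} (hL : L ≤ A)
    {R : Subgroup Ω} (hR : R ≤ S) (h : ∀ a ∈ L, ⁅a, x⁆ ∈ R) :
    Nat.card L ≤ Nat.card (zen S ⊓ L : Subgroup Ω) * Nat.card R := by
  obtain ⟨f, hf⟩ := exists_hom hs hx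
  set g := f.comp (Subgroup.inclusion hL) with hg
  have hga : ∀ a : L, g a = ⁅(a : Ω), x⁆ := fun a => hf _
  have : Finite L := finite_of_le (hL.trans hs.le)
  rw [← Subgroup.card_mul_index g.ker, Subgroup.index_ker]
  refine Nat.mul_le_mul ?_ ?_
  · have : Finite (zen S ⊓ L : Subgroup Ω) := finite_of_le (inf_le_left.trans inf_le_left)
    refine Nat.card_le_card_of_injective (fun a : g.ker => (⟨((a : L) : Ω),
      mem_zen_of_comm hs hx hxA (hL a.1.2) ?_, a.1.2⟩ : (zen S ⊓ L : Subgroup Ω)))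
      fun a b e => Subtype.ext (Subtype.ext ((Subtype.ext_iff.1 e :)))
    have h1 : ⁅((a : L) : Ω), x⁆ = 1 := (hga a).symm.trans a.2
    exact (commutatorElement_eq_one_iff_commute.1 h1).eq.symm
  · refine card_le_of_le (S := S) hR ?_
    rintro _ ⟨a, rfl⟩
    rw [hga]
    exact h a a.2

/-- The elements of `A` whose commutator with `x` lies in a given subgroup. -/
theorem exists_preimage {x : Ω} (hx : x ∈ S) (hxA : x ∉ A) {R : Subgroup Ω} (hR : R ≤ ⁅S, S⁆) :
    ∃ L : Subgroup Ω, L ≤ A ∧ (∀ a, a ∈ L ↔ a ∈ A ∧ ⁅a, x⁆ ∈ R) ∧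
      Nat.card L = Nat.card (zen S) * Nat.card R := by
  obtain ⟨f, hf⟩ := exists_hom hs hx
  have hmem : ∀ a, a ∈ (R.comap f).map A.subtype ↔ a ∈ A ∧ ⁅a, x⁆ ∈ R := by
    intro a
    constructor
    · rintro ⟨⟨b, hb⟩, hbR, rfl⟩
      exact ⟨hb, hf ⟨b, hb⟩ ▸ hbR⟩
    · rintro ⟨ha, haR⟩
      exact ⟨⟨a, ha⟩, by rw [SetLike.mem_coe, Subgroup.mem_comap, hf]; exact haR, rfl⟩
  refine ⟨_, Subgroup.map_subtype_le _, hmem, ?_⟩
  have : Finite A := finite_of_le hs.le
  rw [Subgroup.card_map_of_injective A.subtype_injective]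
  let g : R.comap f →* R := (f.comp (R.comap f).subtype).codRestrict R fun a => a.2
  have hsurj : g.range = ⊤ := by
    refine (Subgroup.eq_top_iff' _).2 fun r => ?_
    obtain ⟨a, ha, har⟩ := commutator_eq hs hx hxA (hR r.2)
    exact ⟨⟨⟨a, ha⟩, by rw [Subgroup.mem_comap, hf, har]; exact r.2⟩,
      Subtype.ext ((hf ⟨a, ha⟩).trans har)⟩
  rw [← Subgroup.card_mul_index g.ker, Subgroup.index_ker, hsurj, Subgroup.card_top]
  congr 1
  refine Nat.card_congr
    { toFun := fun a => ⟨(((a : R.comap f) : A) : Ω), mem_zen_of_comm hs hx hxA a.1.1.2 ?_⟩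
      invFun := fun z => ⟨⟨⟨z, zen_le hs z.2⟩, ?_⟩, ?_⟩
      left_inv := fun a => rfl
      right_inv := fun z => rfl }
  · have h1 : ⁅(((a : R.comap f) : A) : Ω), x⁆ = 1 := (hf _).symm.trans (congrArg Subtype.val a.2)
    exact (commutatorElement_eq_one_iff_commute.1 h1).eq.symm
  · rw [Subgroup.mem_comap, hf, commutatorElement_eq_one_iff_commute.2 ((mem_zen.1 z.2).2 x hx).symm]
    exact one_mem _
  · refine MonoidHom.mem_ker.2 (Subtype.ext ?_)
    show f ⟨z, _⟩ = 1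
    rw [hf, commutatorElement_eq_one_iff_commute.2 ((mem_zen.1 z.2).2 x hx).symm]

omit hs in
/-- A chain `P > C ≥ 1` with the bottom fixed pointwise. -/
theorem mem_of_fix (hS : IsPGroup p S) {F : FusionSystem S} {P : Subgroup Ω}
    (hc : F.IsCentric P) (hr : F.IsRadical p P) (C : Subgroup P)
    (hinv : ∀ α ∈ F.autGroup P, ∀ z ∈ C, α z ∈ C) {g : Ω} (hg : g ∈ normalizerIn S P)
    (hfix : ∀ z : P, z ∈ C → g * z * g⁻¹ = z)
    (htriv : ∀ y : P, y⁻¹ * conjAut S P ⟨g, hg⟩ y ∈ C) : g ∈ P := by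
  let M : Subgroup (MulAut P) :=
    { carrier := {γ | ∀ z ∈ C, γ z = z}
      one_mem' := fun _ _ => rfl
      mul_mem' := fun {a b} ha hb z hz => by rw [MulAut.mul_apply, hb z hz, ha z hz]
      inv_mem' := fun {a} ha z hz => by
        conv_lhs => rw [← ha z hz]
        exact MulAut.inv_apply_self P a z }
  refine mem_of_chain p hS hc hr (m := 1) ![C, ⊤] rfl ?_ M (fun α hα γ _ hγ z hz => ?_)
    (fun γ _ hγ => ⟨0, fun z hz => by rw [pow_zero, pow_one]; exact hγ z hz⟩) hg ?_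
    fun z hz => Subtype.ext (hfix z hz)
  · intro α hα i z hz
    fin_cases i
    · exact hinv α hα z hz
    · trivial
  · rw [MulAut.mul_apply, MulAut.mul_apply, hγ _ (hinv _ (inv_mem hα) z hz), MulAut.apply_inv_self]
  · intro i y _
    fin_cases i
    exact htriv y

variable {F : FusionSystem S} (hF : F.IsSaturated p)
  (huniq : ∀ B : Subgroup Ω, B ≤ S → IsMulCommutative B → (B.subgroupOf S).index = p → B = A)

include hF in
/-- A nonabelian essential subgroup other than `A`. -/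
theorem nonabelian_facts {P : Subgroup Ω} (hP : F.IsEssential p P) (hne : P ≠ A)
    (hna : ¬ ∀ a ∈ P, ∀ b ∈ P, a * b = b * a) :
    Nat.card (zen S ⊓ ⁅S, S⁆ : Subgroup Ω) = p ∧ ∃ x ∈ P, x ∉ A ∧ zen S ≤ P ∧
      Nat.card (P ⊓ A : Subgroup Ω) = Nat.card (zen S) * p ∧
      ∀ a : Ω, a ∈ P ⊓ A ↔ a ∈ A ∧ ⁅a, x⁆ ∈ zen S ⊓ ⁅S, S⁆ := by
  classical
  have hp := (Fact.out : p.Prime)
  have hPS := hP.1.1
  have := finite_of_le hPS
  obtain ⟨hzP, x, hxP, hxA⟩ := essential_facts' hs hP hne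
  have hxS := hPS hxP
  have hrad := isRadical_of_essential p hs.hS hP
  obtain ⟨L, hLA, hLmem, hLcard⟩ := exists_preimage hs hxS hxA (R := zen S ⊓ ⁅S, S⁆) inf_le_right
  obtain ⟨Q, hQ⟩ : ∃ Q, Q = P ⊓ A := ⟨_, rfl⟩
  -- the elements of `A` acting trivially on `P` modulo the centre lie in `P`
  have hzinv := zen_invariant (S := S) hPS fun z hz hc => centre_eq hs hPS hxP hxA hna hz hc
  have hLP : L ≤ P := by
    intro a ha
    obtain ⟨haA, hax⟩ := (hLmem a).1 ha
    have hconj : ∀ y ∈ P, ∃ z ∈ zen S, a * y * a⁻¹ = y * z := by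
      intro y hy
      obtain ⟨c, hc, i, rfl⟩ := decomp hs hxS hxA (hPS hy)
      obtain ⟨d, hd⟩ : ∃ d, d = ⁅a, x⁆ := ⟨_, rfl⟩
      have hdz : d ∈ zen S := hd ▸ hax.1
      have hxc : Commute x d := ((mem_zen.1 hdz).2 x hxS)
      refine ⟨d ^ i, zpow_mem hdz i, ?_⟩
      have e : a * (c * x ^ i) * a⁻¹ = a * c * a⁻¹ * (a * x * a⁻¹) ^ i := by
        rw [conj_zpow]; group
      rw [e, hs.comm a haA c hc, mul_inv_cancel_right,
        show a * x * a⁻¹ = x * d by rw [hxc.eq, hd, commutatorElement_def]; group,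
        hxc.mul_zpow, mul_assoc]
    have hN : a ∈ normalizerIn S P := ⟨hs.le haA, mem_normalizer_of_conj_mem hPS fun y hy => by
      obtain ⟨z, hz, e⟩ := hconj y hy
      rw [e]; exact mul_mem hy (hzP hz)⟩
    refine mem_of_fix hs.hS hP.1 hrad ((zen S).subgroupOf P) (fun α _ z hz => hzinv α z hz) hN
      (fun z hz => ?_) fun y => ?_
    · change (z : Ω) ∈ zen S at hz
      rw [hs.comm a haA _ (zen_le hs hz), mul_inv_cancel_right]
    · obtain ⟨z, hz, e⟩ := hconj y y.2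
      rw [Subgroup.mem_subgroupOf]
      show (y : Ω)⁻¹ * (a * (y : Ω) * a⁻¹) ∈ zen S
      rw [e, inv_mul_cancel_left]
      exact hz
  have hQab : ∀ a ∈ Q, ∀ b ∈ Q, a * b = b * a := fun a ha b hb => by
    rw [hQ] at ha hb; exact hs.comm a ha.2 b hb.2
  have hQmem : ∀ {a}, a ∈ Q ↔ a ∈ P ∧ a ∈ A := fun {a} => by rw [hQ]; exact Subgroup.mem_inf
  -- some automorphism moves `P ⊓ A`
  obtain ⟨α, hα, hαQ⟩ : ∃ α ∈ F.autGroup P, ¬ ∀ z : P, (z : Ω) ∈ Q → ((α z : P) : Ω) ∈ Q := by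
    by_contra! hinv
    obtain ⟨g, hg, hgP⟩ := SetLike.exists_of_lt
      (lt_normalizerIn p hs.hS le_rfl (essential_lt p hs.hS hF hP))
    obtain ⟨a, haA, i, hga⟩ := decomp hs hxS hxA hg.1
    have hxN : x ^ i ∈ Subgroup.normalizer (P : Set Ω) :=
      Subgroup.le_normalizer (zpow_mem hxP i)
    have haN : a ∈ normalizerIn S P := by
      refine ⟨hs.le haA, ?_⟩
      rw [show a = g * (x ^ i)⁻¹ by rw [hga, mul_inv_cancel_right]]
      exact mul_mem hg.2 (Subgroup.inv_mem _ hxN)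
    refine hgP (hga ▸ mul_mem ?_ (zpow_mem hxP i))
    refine mem_of_fix hs.hS hP.1 hrad (Q.subgroupOf P) (fun α hα z hz => hinv α hα z hz) haN
      (fun z hz => ?_) fun y => ?_
    · change (z : Ω) ∈ Q at hz
      rw [hs.comm a haA _ (hQmem.1 hz).2, mul_inv_cancel_right]
    · rw [Subgroup.mem_subgroupOf]
      refine hQmem.2 ⟨SetLike.coe_mem _, ?_⟩
      show (y : Ω)⁻¹ * (a * (y : Ω) * a⁻¹) ∈ A
      rw [← mul_assoc, ← mul_assoc]
      exact mul_mem (by simpa [mul_assoc] using conj_mem hs (inv_mem (hPS y.2)) haA) (inv_mem haA)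
  push Not at hαQ
  obtain ⟨z₀, hz₀, hz₀'⟩ := hαQ
  have hy₀ : ((α z₀ : P) : Ω) ∉ A := fun h => hz₀' (hQmem.2 ⟨(α z₀).2, h⟩)
  -- two abelian subgroups of index `p`
  have hQL : Nat.card Q ≤ Nat.card (zen S) * p := by
    obtain ⟨Q', hQ'⟩ : ∃ Q', Q' = (Q.subgroupOf P).map (P.subtype.comp α.toMonoidHom) := ⟨_, rfl⟩
    have hQ'P : Q' ≤ P := by rw [hQ']; rintro _ ⟨z, -, rfl⟩; exact (α z).2
    have hy₀Q : ((α z₀ : P) : Ω) ∈ Q' := hQ' ▸ ⟨z₀, hz₀, rfl⟩
    have h1 : Nat.card Q' = Nat.card Q := by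
      rw [hQ', Subgroup.card_map_of_injective (f := P.subtype.comp α.toMonoidHom)
        (P.subtype_injective.comp α.injective),
        Nat.card_congr (Subgroup.subgroupOfEquivOfLe (hQ ▸ inf_le_left : Q ≤ P)).toEquiv]
    have hQ'ab : ∀ a ∈ Q', ∀ b ∈ Q', a * b = b * a := by
      rw [hQ']
      rintro _ ⟨a, ha, rfl⟩ _ ⟨b, hb, rfl⟩
      show ((α a : P) : Ω) * (α b : P) = (α b : P) * (α a : P)
      have : a * b = b * a := Subtype.ext (hQab _ ha _ hb)
      exact congrArg Subtype.val (by rw [← map_mul, this, map_mul] : α a * α b = α b * α a)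
    have h2 := card_inter hs (hQ'P.trans hPS) hy₀Q hy₀
    have h3 : Q' ⊓ A ≤ zen S := fun z hz =>
      inter_le_zen hs (hQ'P.trans hPS) hQ'ab hy₀Q hy₀ hz.1 hz.2
    rw [← h1, ← h2]
    exact Nat.mul_le_mul_right p (card_le_of_le inf_le_left h3)
  have hLQ : L ≤ Q := fun a ha => hQmem.2 ⟨hLP ha, hLA ha⟩
  have hfinR : Finite (zen S ⊓ ⁅S, S⁆ : Subgroup Ω) := finite_of_le (inf_le_left.trans inf_le_left)
  have hRne : zen S ⊓ ⁅S, S⁆ ≠ ⊥ := by
    intro hbot
    have : Group.IsNilpotent S := hs.hS.isNilpotent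
    have hne' : commutator S ≠ ⊥ := fun h => hs.na fun a ha b hb => by
      have h1 := (Subgroup.commutator_eq_bot_iff_le_centralizer.1 (show ⁅(⊤ : Subgroup S), ⊤⁆ = ⊥ from h))
        (Subgroup.mem_top ⟨a, ha⟩)
      exact (congrArg Subtype.val (Subgroup.mem_centralizer_iff.1 h1 ⟨b, hb⟩ trivial)).symm
    obtain ⟨z, hz, hz1⟩ := (Subgroup.bot_or_exists_ne_one _).resolve_left
      (CfsgLib.PGroupBasic.inf_center_ne_bot (commutator S) hne')
    have hmem : (z : Ω) ∈ zen S ⊓ ⁅S, S⁆ := by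
      refine ⟨mem_zen.2 ⟨z.2, fun s h => congrArg Subtype.val (Subgroup.mem_center_iff.1 hz.2 ⟨s, h⟩)⟩, ?_⟩
      rw [← Subgroup.map_subtype_commutator]
      exact ⟨z, hz.1, rfl⟩
    rw [hbot, Subgroup.mem_bot] at hmem
    exact hz1 (Subtype.ext hmem)
  have hRp : p ≤ Nat.card (zen S ⊓ ⁅S, S⁆ : Subgroup Ω) := by
    obtain ⟨k, hk⟩ := IsPGroup.iff_card.1
      (hs.hS.to_le (inf_le_left.trans inf_le_left : zen S ⊓ ⁅S, S⁆ ≤ S))
    rw [hk]
    refine Nat.le_self_pow (fun hk0 => hRne ?_) p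
    rw [hk0, pow_zero] at hk
    exact Subgroup.card_eq_one.1 hk
  have hfinQ : Finite Q := finite_of_le (hQ ▸ inf_le_left.trans hPS)
  have hLeq : L = Q := by
    refine Subgroup.eq_of_le_of_card_ge hLQ (hQL.trans ?_)
    rw [hLcard]
    exact Nat.mul_le_mul_left _ hRp
  have hcard : Nat.card (zen S ⊓ ⁅S, S⁆ : Subgroup Ω) = p := by
    refine le_antisymm ?_ hRp
    have h1 : Nat.card L ≤ Nat.card (zen S) * p := hLeq ▸ hQL
    rw [hLcard] at h1
    have : Finite (zen S) := finite_of_le inf_le_left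
    exact Nat.le_of_mul_le_mul_left h1 Nat.card_pos
  refine ⟨hcard, x, hxP, hxA, hzP, ?_, fun a => ?_⟩
  · rw [← hQ, ← hLeq, hLcard, hcard]
  · rw [← hQ, ← hLeq, hLmem]

omit [Fact p.Prime] [Finite S] hs in
/-- The second centre inside the ambient group. -/
theorem mem_secondCentre {a : Ω} :
    a ∈ (Subgroup.upperCentralSeries S 2).map S.subtype ↔ a ∈ S ∧ ∀ s ∈ S, ⁅a, s⁆ ∈ zen S := by
  have hz : ∀ w : S, w ∈ Subgroup.center S ↔ (w : Ω) ∈ zen S := fun w =>
    ⟨fun h => mem_zen.2 ⟨w.2, fun s hs => congrArg Subtype.val (Subgroup.mem_center_iff.1 h ⟨s, hs⟩)⟩,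
      fun h => Subgroup.mem_center_iff.2 fun g => Subtype.ext ((mem_zen.1 h).2 g g.2)⟩
  constructor
  · rintro ⟨⟨w, hw⟩, h, rfl⟩
    refine ⟨hw, fun s hs => ?_⟩
    have h1 := Subgroup.mem_upperCentralSeries_succ_iff.1 h ⟨s, hs⟩
    rw [Subgroup.upperCentralSeries_one, hz] at h1
    exact h1
  · rintro ⟨ha, h⟩
    refine ⟨⟨a, ha⟩, Subgroup.mem_upperCentralSeries_succ_iff.2 fun y => ?_, rfl⟩
    rw [Subgroup.upperCentralSeries_one, hz]
    exact h y y.2

include hF in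
/-- What every essential subgroup other than `A` gives. -/
theorem other_essential {P : Subgroup Ω} (hP : F.IsEssential p P) (hne : P ≠ A) :
    Nat.card (zen S ⊓ ⁅S, S⁆ : Subgroup Ω) = p ∧ ∃ x ∈ P, x ∉ A ∧ zen S ≤ P ∧
      ((∀ a ∈ P, ∀ b ∈ P, a * b = b * a) ∧ P ⊓ A = zen S ∨
        ¬ (∀ a ∈ P, ∀ b ∈ P, a * b = b * a) ∧
          Nat.card (P ⊓ A : Subgroup Ω) = Nat.card (zen S) * p ∧
          ∀ a : Ω, a ∈ P ⊓ A ↔ a ∈ A ∧ ⁅a, x⁆ ∈ zen S ⊓ ⁅S, S⁆) := by
  by_cases hab : ∀ a ∈ P, ∀ b ∈ P, a * b = b * a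
  · obtain ⟨hzP, x, hxP, hxA⟩ := essential_facts' hs hP hne
    refine ⟨inf_comm (zen S) ⁅S, S⁆ ▸ (abelian_essential hs hF hP hne hab).1, x, hxP, hxA, hzP,
      Or.inl ⟨hab, ?_⟩⟩
    exact le_antisymm (fun a ha => inter_le_zen hs hP.1.1 hab hxP hxA ha.1 ha.2)
      (le_inf hzP (zen_le hs))
  · obtain ⟨hc, x, hxP, hxA, hzP, h1, h2⟩ := nonabelian_facts hs hF hP hne hab
    exact ⟨hc, x, hxP, hxA, hzP, Or.inr ⟨hab, h1, h2⟩⟩

include huniq in
/-- The second centre lies in `A` and is cut out there by one element outside. -/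
theorem secondCentre_eq (hR : Nat.card (zen S ⊓ ⁅S, S⁆ : Subgroup Ω) = p) :
    (Subgroup.upperCentralSeries S 2).map S.subtype ≤ A ∧ ∀ {x : Ω}, x ∈ S → x ∉ A → ∀ a,
      a ∈ (Subgroup.upperCentralSeries S 2).map S.subtype ↔
        a ∈ A ∧ ⁅a, x⁆ ∈ zen S ⊓ ⁅S, S⁆ := by
  classical
  have hp := (Fact.out : p.Prime)
  have hle : (Subgroup.upperCentralSeries S 2).map S.subtype ≤ A := by
    intro z hz
    by_contra hzA
    obtain ⟨hzS, hzc⟩ := mem_secondCentre.1 hz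
    have hD : ⁅S, S⁆ ≤ zen S := fun d hd => by
      obtain ⟨a, ha, rfl⟩ := commutator_eq hs hzS hzA hd
      rw [← commutatorElement_inv]
      exact Subgroup.inv_mem _ (hzc a (hs.le ha))
    obtain ⟨L, -, hLmem, hL⟩ := exists_preimage hs hzS hzA (R := ⁅S, S⁆) le_rfl
    have hLA : L = A := le_antisymm (fun a ha => ((hLmem a).1 ha).1) fun a ha =>
      (hLmem a).2 ⟨ha, Subgroup.commutator_mem_commutator (hs.le ha) hzS⟩
    rw [hLA, show Nat.card (⁅S, S⁆ : Subgroup Ω) = p by rw [← hR, inf_eq_right.2 hD]] at hL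
    obtain ⟨B, hB⟩ : ∃ B, B = zen S ⊔ Subgroup.zpowers z := ⟨_, rfl⟩
    have hBS : B ≤ S := hB ▸ sup_le inf_le_left (Subgroup.zpowers_le.2 hzS)
    have hzB : z ∈ B := hB ▸ Subgroup.mem_sup_right (Subgroup.mem_zpowers z)
    have hBab : IsMulCommutative B := by
      refine hB ▸ ?_
      rw [show zen S ⊔ Subgroup.zpowers z = Subgroup.closure ((zen S : Set Ω) ∪ {z}) by
        rw [Subgroup.closure_union, Subgroup.closure_eq, Subgroup.zpowers_eq_closure]]
      refine Subgroup.isMulCommutative_closure ?_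
      rintro a (ha | rfl) b (hb | rfl)
      exacts [(mem_zen.1 hb).2 a ha.1, ((mem_zen.1 ha).2 b hzS).symm, (mem_zen.1 hb).2 a hzS, rfl]
    have hcB := card_inter hs hBS hzB hzA
    have hfinB : Finite B := finite_of_le hBS
    have hge : Nat.card A ≤ Nat.card B := by
      rw [hL, ← hcB]
      exact Nat.mul_le_mul_right p (card_le_of_le (inf_le_left.trans hBS)
        (le_inf (hB ▸ le_sup_left) (zen_le hs)))
    obtain ⟨k, hk⟩ := IsPGroup.iff_card.1 (hs.hS.to_le hBS)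
    obtain ⟨n, hn⟩ := IsPGroup.iff_card.1 hs.hS
    have : Finite A := finite_of_le hs.le
    have hBne : B ≠ S := fun h => hs.na fun a ha b hb => by
      rw [← h] at ha hb
      exact congrArg Subtype.val (hBab.is_comm.comm ⟨a, ha⟩ ⟨b, hb⟩)
    have hidx : (B.subgroupOf S).index = p := by
      have h1 := Subgroup.card_mul_index (B.subgroupOf S)
      rw [Nat.card_congr (Subgroup.subgroupOfEquivOfLe hBS).toEquiv, ← card_subgroup hs] at h1
      have h2 : (B.subgroupOf S).index ≤ p := by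
        refine Nat.le_of_mul_le_mul_left (h1.le.trans (Nat.mul_le_mul_right p hge)) ?_
        exact Nat.card_pos
      have h3 : (B.subgroupOf S).index ≠ 1 := fun e => hBne
        (le_antisymm hBS (Subgroup.subgroupOf_eq_top.1 (Subgroup.index_eq_one.1 e)))
      obtain ⟨j, -, hj⟩ := (Nat.dvd_prime_pow hp).1 (hn ▸ Subgroup.index_dvd_card (B.subgroupOf S))
      rw [hj] at h2 h3 ⊢
      match j, h2, h3 with
      | 0, _, h3 => exact absurd (pow_zero p) h3
      | 1, _, _ => exact pow_one p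
      | j + 2, h2, _ => exact absurd h2 (not_le.2 (lt_self_pow₀ hp.one_lt (by omega)))
    exact hzA (huniq B hBS hBab hidx ▸ hzB)
  refine ⟨hle, fun {x} hx hxA a => ⟨fun ha => ⟨hle ha, (mem_secondCentre.1 ha).2 x hx,
    Subgroup.commutator_mem_commutator (hs.le (hle ha)) hx⟩, fun ⟨ha, hax⟩ => ?_⟩⟩
  refine mem_secondCentre.2 ⟨hs.le ha, fun s hsS => ?_⟩
  obtain ⟨c, hc, i, rfl⟩ := decomp hs hx hxA hsS
  obtain ⟨d, hd⟩ : ∃ d, d = ⁅a, x⁆ := ⟨_, rfl⟩
  have hdz : d ∈ zen S := hd ▸ hax.1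
  have hxd : Commute x d := (mem_zen.1 hdz).2 x hx
  have e1 : (a * x * a⁻¹) ^ i = x ^ i * d ^ i := by
    rw [show a * x * a⁻¹ = x * d by rw [hxd.eq, hd, commutatorElement_def]; group, hxd.mul_zpow]
  have e : ⁅a, c * x ^ i⁆ = d ^ i := by
    rw [commutatorElement_def, show a * (c * x ^ i) * a⁻¹ * (c * x ^ i)⁻¹ =
      a * c * a⁻¹ * (a * x * a⁻¹) ^ i * (x ^ i)⁻¹ * c⁻¹ by rw [conj_zpow]; group,
      hs.comm a ha c hc, mul_inv_cancel_right, e1, (hxd.zpow_zpow i i).eq, ← mul_assoc,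
      mul_inv_cancel_right, ((mem_zen.1 (zpow_mem hdz i)).2 c (hs.le hc)), mul_inv_cancel_right]
  rw [e]
  exact zpow_mem hdz i

include hF huniq in
/-- The list of essential subgroups. -/
theorem essential_list {P : Subgroup Ω} (hP : F.IsEssential p P) (hne : P ≠ A) :
    ((∃ x ∈ S, x ∉ A ∧ P = zen S ⊔ Subgroup.zpowers x) ∨
      ((Subgroup.upperCentralSeries S 2).map S.subtype ≤ A ∧ ∃ x ∈ S, x ∉ A ∧
        P = (Subgroup.upperCentralSeries S 2).map S.subtype ⊔ Subgroup.zpowers x)) ∧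
      (P.subgroupOf (S ⊓ Subgroup.normalizer (P : Set Ω))).index = p := by
  classical
  have hp := (Fact.out : p.Prime)
  have hPS := hP.1.1
  obtain ⟨hR, x, hxP, hxA, hzP, hcase⟩ := other_essential hs hF hP hne
  have hxS := hPS hxP
  have hsup : ∀ {K : Subgroup Ω}, P ⊓ A = K → P = K ⊔ Subgroup.zpowers x := by
    intro K hK
    refine le_antisymm (fun y hy => ?_) (sup_le (hK ▸ inf_le_left) (Subgroup.zpowers_le.2 hxP))
    obtain ⟨a, ha, i, rfl⟩ := decomp hs hxS hxA (hPS hy)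
    have haP : a ∈ P := by simpa using P.mul_mem hy (Subgroup.inv_mem _ (zpow_mem hxP i))
    exact mul_mem (Subgroup.mem_sup_left (hK ▸ ⟨haP, ha⟩))
      (zpow_mem (Subgroup.mem_sup_right (Subgroup.mem_zpowers x)) i)
  refine ⟨?_, ?_⟩
  · rcases hcase with ⟨-, hQ⟩ | ⟨-, -, hQ⟩
    · exact Or.inl ⟨x, hxS, hxA, hsup hQ⟩
    · obtain ⟨h1, h2⟩ := secondCentre_eq hs huniq hR
      exact Or.inr ⟨h1, x, hxS, hxA, hsup (Subgroup.ext fun a => (hQ a).trans (h2 hxS hxA a).symm)⟩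
  obtain ⟨N, hN⟩ : ∃ N, N = S ⊓ Subgroup.normalizer (P : Set Ω) := ⟨_, rfl⟩
  rw [← hN]
  have hNS : N ≤ S := hN ▸ inf_le_left
  have hPN : P ≤ N := hN ▸ le_normalizerIn hPS
  have hcP := card_inter hs hPS hxP hxA
  have hcN := card_inter hs hNS (hPN hxP) hxA
  have hfinP : Finite P := finite_of_le hPS
  have hfinN : Finite N := finite_of_le hNS
  have hcomm : ∀ a ∈ N ⊓ A, ⁅a, x⁆ ∈ ⁅S, S⁆ ⊓ (P ⊓ A) := fun a ha =>
    ⟨Subgroup.commutator_mem_commutator (hNS ha.1) hxS,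
      mul_mem ((Subgroup.mem_normalizer_iff.1 (hN.le ha.1).2 x).1 hxP) (Subgroup.inv_mem _ hxP),
      commutator_mem hs ha.2 hxS⟩
  have hub := card_le_of_comm hs hxS hxA (inf_le_right : N ⊓ A ≤ A)
    (inf_le_right.trans (inf_le_left.trans hPS)) hcomm
  have hzN : Nat.card (zen S ⊓ (N ⊓ A) : Subgroup Ω) ≤ Nat.card (zen S) :=
    card_le_of_le (S := S) (inf_le_left : zen S ≤ S) inf_le_left
  have hkey : Nat.card (N ⊓ A : Subgroup Ω) ≤ p * Nat.card (P ⊓ A : Subgroup Ω) := by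
    refine hub.trans ((Nat.mul_le_mul_right _ hzN).trans ?_)
    rcases hcase with ⟨-, hQ⟩ | ⟨-, hQc, hQ⟩
    · rw [hQ, inf_comm ⁅S, S⁆, hR, mul_comm]
    · rw [hQc, mul_comm p, mul_assoc]
      refine Nat.mul_le_mul_left _ ?_
      have h1 := card_le_of_comm hs hxS hxA (inf_le_right.trans inf_le_right :
        ⁅S, S⁆ ⊓ (P ⊓ A) ≤ A) (inf_le_left.trans inf_le_left : zen S ⊓ ⁅S, S⁆ ≤ S)
        fun a ha => ((hQ a).1 ha.2).2
      refine h1.trans (Nat.mul_le_mul_right _ ?_ |>.trans_eq (by rw [hR]))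
      exact (card_le_of_le (S := S) (inf_le_left.trans inf_le_left)
        (le_inf inf_le_left (inf_le_right.trans inf_le_left))).trans hR.le
  have hle : (P.subgroupOf N).index ≤ p := by
    have h1 := Subgroup.card_mul_index (P.subgroupOf N)
    rw [Nat.card_congr (Subgroup.subgroupOfEquivOfLe hPN).toEquiv] at h1
    refine Nat.le_of_mul_le_mul_left ?_ (Nat.card_pos (α := P))
    rw [h1, ← hcN, ← hcP]
    exact (Nat.mul_le_mul_right p hkey).trans_eq (by ring)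
  have hne1 : (P.subgroupOf N).index ≠ 1 := fun e => by
    obtain ⟨g, hg, hgP⟩ := SetLike.exists_of_lt
      (lt_normalizerIn p hs.hS le_rfl (essential_lt p hs.hS hF hP))
    exact hgP (Subgroup.subgroupOf_eq_top.1 (Subgroup.index_eq_one.1 e) (hN.ge hg))
  obtain ⟨n, hn⟩ := IsPGroup.iff_card.1 (hs.hS.to_le hNS)
  obtain ⟨j, -, hj⟩ := (Nat.dvd_prime_pow hp).1 (hn ▸ Subgroup.index_dvd_card (P.subgroupOf N))
  rw [hj] at hle hne1 ⊢
  match j, hle, hne1 with
  | 0, _, h3 => exact absurd (pow_zero p) h3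
  | 1, _, _ => exact pow_one p
  | j + 2, h2, _ => exact absurd h2 (not_le.2 (lt_self_pow₀ hp.one_lt (by omega)))

include hF huniq in
/-- The shape of `S`. -/
theorem essential_structure {P : Subgroup Ω} (hP : F.IsEssential p P) (hne : P ≠ A) :
    (Subgroup.upperCentralSeries S 2).map S.subtype ≤ A ∧
      Nat.card (zen S ⊓ ⁅S, S⁆ : Subgroup Ω) = p ∧
      ((zen S ⊔ ⁅S, S⁆).subgroupOf A).index = p ∧
      ((zen S).subgroupOf ((Subgroup.upperCentralSeries S 2).map S.subtype)).index = p ∧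
      ∀ m : ℕ, ((zen S).subgroupOf S).index = p ^ m → 3 ≤ m →
        ¬ S.lowerCentralSeries (m - 2) ≤ zen S := by
  classical
  have hp := (Fact.out : p.Prime)
  obtain ⟨hR, x, hxP, hxA, -, -⟩ := other_essential hs hF hP hne
  have hxS := hP.1.1 hxP
  obtain ⟨hZ₂, hmem⟩ := secondCentre_eq hs huniq hR
  have hfinA : Finite A := finite_of_le hs.le
  have hfinz : Finite (zen S) := finite_of_le inf_le_left
  obtain ⟨L, hLA, hLmem, hL⟩ := exists_preimage hs hxS hxA (R := ⁅S, S⁆) le_rfl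
  have hLA' : L = A := le_antisymm hLA fun a ha =>
    (hLmem a).2 ⟨ha, Subgroup.commutator_mem_commutator (hs.le ha) hxS⟩
  rw [hLA'] at hL
  obtain ⟨L₂, -, hL₂mem, hL₂⟩ := exists_preimage hs hxS hxA (R := zen S ⊓ ⁅S, S⁆) inf_le_right
  have hL₂' : L₂ = (Subgroup.upperCentralSeries S 2).map S.subtype :=
    Subgroup.ext fun a => (hL₂mem a).trans (hmem hxS hxA a).symm
  refine ⟨hZ₂, hR, ?_, ?_, fun m hm h3 h => ?_⟩
  · have hle : zen S ⊔ ⁅S, S⁆ ≤ A := sup_le (zen_le hs) (derived_le hs hxS hxA)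
    have hcard : Nat.card (zen S ⊔ ⁅S, S⁆ : Subgroup Ω) * p = Nat.card A := by
      rw [hL, ← hR]
      have hK : ((⁅S, S⁆).subgroupOf A).Normal := ⟨fun n hn g => by
        rwa [show g * n * g⁻¹ = n by
          rw [show g * n = n * g from Subtype.ext (hs.comm g g.2 n n.2), mul_inv_cancel_right]]⟩
      have r := Subgroup.relIndex_sup_right ((zen S).subgroupOf A) ((⁅S, S⁆).subgroupOf A)
      rw [← Subgroup.subgroupOf_sup (zen_le hs) (derived_le hs hxS hxA),
        Subgroup.relIndex_subgroupOf hle, Subgroup.relIndex_subgroupOf (zen_le hs),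
        ← Subgroup.inf_relIndex_right ⁅S, S⁆ (zen S), inf_comm ⁅S, S⁆ (zen S)] at r
      have e1 := Subgroup.relIndex_mul_relIndex ⊥ ⁅S, S⁆ (zen S ⊔ ⁅S, S⁆) bot_le le_sup_right
      have e2 := Subgroup.relIndex_mul_relIndex ⊥ (zen S ⊓ ⁅S, S⁆) (zen S) bot_le inf_le_left
      rw [Subgroup.relIndex_bot_left, Subgroup.relIndex_bot_left, r] at e1
      rw [Subgroup.relIndex_bot_left, Subgroup.relIndex_bot_left] at e2
      rw [← e1, ← e2]
      ring
    have h1 := Subgroup.card_mul_index ((zen S ⊔ ⁅S, S⁆).subgroupOf A)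
    rw [Nat.card_congr (Subgroup.subgroupOfEquivOfLe hle).toEquiv, ← hcard] at h1
    have : Finite (zen S ⊔ ⁅S, S⁆ : Subgroup Ω) := finite_of_le (hle.trans hs.le)
    exact Nat.eq_of_mul_eq_mul_left Nat.card_pos h1
  · have hle : zen S ≤ L₂ := fun z hz => (hL₂mem z).2 ⟨zen_le hs hz, by
      rw [commutatorElement_eq_one_iff_commute.2 ((mem_zen.1 hz).2 x hxS).symm]; exact one_mem _⟩
    rw [← hL₂']
    have h1 := Subgroup.card_mul_index ((zen S).subgroupOf L₂)
    rw [Nat.card_congr (Subgroup.subgroupOfEquivOfLe hle).toEquiv, hL₂, hR] at h1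
    exact Nat.eq_of_mul_eq_mul_left Nat.card_pos h1
  · obtain ⟨k, rfl⟩ : ∃ k, m = k + 3 := ⟨m - 3, by omega⟩
    have h1 := Subgroup.card_mul_index ((zen S).subgroupOf S)
    rw [Nat.card_congr (Subgroup.subgroupOfEquivOfLe (inf_le_left : zen S ≤ S)).toEquiv, hm,
      ← card_subgroup hs, hL, mul_assoc] at h1
    have hD : Nat.card (⁅S, S⁆ : Subgroup Ω) = p ^ (k + 2) := by
      have h2 := Nat.eq_of_mul_eq_mul_left Nat.card_pos h1
      rw [pow_succ] at h2
      exact (Nat.eq_of_mul_eq_mul_right hp.pos h2).symm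
    have hL1 : ∀ j, S.lowerCentralSeries (j + 1) ≤ ⁅S, S⁆ := fun j => by
      refine (S.lowerCentralSeries_antitone (by omega : 1 ≤ j + 1)).trans ?_
      rw [Subgroup.lowerCentralSeries_succ, Subgroup.lowerCentralSeries_zero]
    have key : ∀ j, p ^ (k + 2) ≤ p ^ j * Nat.card (S.lowerCentralSeries (j + 1)) := by
      intro j
      induction j with
      | zero =>
        rw [pow_zero, one_mul, Subgroup.lowerCentralSeries_succ, Subgroup.lowerCentralSeries_zero, hD]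
      | succ j ih =>
        refine ih.trans ?_
        rw [pow_succ, mul_assoc]
        refine Nat.mul_le_mul_left _ ?_
        refine (card_le_of_comm hs hxS hxA ((hL1 j).trans (derived_le hs hxS hxA))
          (S.lowerCentralSeries_le_self (j + 2)) fun a ha => ?_).trans (Nat.mul_le_mul_right _ ?_)
        · rw [Subgroup.lowerCentralSeries_succ S (j + 1)]
          exact Subgroup.commutator_mem_commutator ha hxS
        · exact (card_le_of_le (S := S) (inf_le_left.trans inf_le_left)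
            (inf_le_inf_left _ (hL1 j))).trans hR.le
    rw [show k + 3 - 2 = k + 1 by omega] at h
    have h2 : Nat.card (S.lowerCentralSeries (k + 1)) ≤ p :=
      (card_le_of_le (S := S) (inf_le_left.trans inf_le_left) (le_inf h (hL1 k))).trans hR.le
    have h3' := (key k).trans (Nat.mul_le_mul_left _ h2)
    rw [← pow_succ] at h3'
    exact absurd h3' (not_le.2 (Nat.pow_lt_pow_right hp.one_lt (Nat.lt_succ_self _)))

end CfsgLib.Fusion.AbelianIndex
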