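import Cfsg.Agent.Fusion.Saturation

/-!
Saturated systems over abelian groups: every map extends to an automorphism of `S`.
-/

set_option autoImplicit false

open Cfsg Cfsg.FusionSystem

namespace CfsgLib.Fusion

variable {Ω : Type*} [Group Ω] {S : Subgroup Ω} [Finite S] {F : FusionSystem S}

theorem centralizerIn_eq_of_abelian (hab : ∀ x ∈ S, ∀ y ∈ S, x * y = y * x) {P : Subgroup Ω}
    (hP : P ≤ S) : centralizerIn S P = S :=
  le_antisymm (centralizerIn_le_S P) fun s hs =>
    mem_centralizerIn.2 ⟨hs, fun y hy => hab y (hP hy) s hs⟩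

/-- Over an abelian `S` every map is the restriction of an automorphism of the system. -/
theorem exists_aut_extend_of_abelian (p : ℕ) [Fact p.Prime] (hS : IsPGroup p S)
    (hF : F.IsSaturated p) (hab : ∀ x ∈ S, ∀ y ∈ S, x * y = y * x) {P : Subgroup Ω} {φ : P →* Ω}
    (hφ : φ ∈ F.Hom P) : ∃ α ∈ F.autGroup S, ∀ y : P,
      ((α ⟨y, le_of_mem_hom hφ y.2⟩ : S) : Ω) = φ y := by
  have hc : F.IsFullyCentralized φ.range := ⟨range_le_S hφ, fun Q hQ => by
    rw [centralizerIn_eq_of_abelian hab (IsConj.le_right hQ),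
      centralizerIn_eq_of_abelian hab (range_le_S hφ)]⟩
  obtain ⟨ψ, hψ, he⟩ := saturated_extend p hS hF hφ hc (N := S)
    ((centralizerIn_eq_of_abelian hab (le_of_mem_hom hφ)).ge.trans
      (centralizerIn_le_extender P φ))
  have hr : ψ.range = S := eq_of_le_of_card_le le_rfl (range_le_S hψ) (card_range hψ).ge
  exact ⟨autOfRange ψ (F.injective_of_mem hψ) hr, autOfRange_mem hψ hr, fun y => he y y.2 _⟩

end CfsgLib.Fusion
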