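import Cfsg.Agent.Fusion.Factor
import Cfsg.Agent.Fusion.Local
import Cfsg.Agent.Fusion.AbelianSystem

/-!
Inner systems are saturated; quasisimple systems live over nonabelian groups.
-/

set_option autoImplicit false

open Cfsg Cfsg.FusionSystem

namespace CfsgLib.Fusion

variable {Ω : Type*} [Group Ω] {S : Subgroup Ω}

/-- The inner system of a finite `p`-group is saturated. -/
theorem innerSystem_saturated [Finite S] (p : ℕ) [Fact p.Prime] (hS : IsPGroup p S) :
    (innerFusionSystem S).IsSaturated p := by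
  have hT : IsPGroup p (⊤ : Subgroup S) := hS.to_subgroup ⊤
  refine saturated_of_realized (G := S) (ι := MonoidHom.id S) p hS ?_
    ((hT.exists_le_sylow).choose) ?_
  · refine ⟨fun _ _ h => h, fun P hP φ hφ => ⟨?_, ?_⟩⟩
    · rintro ⟨-, g, hg, h⟩
      exact ⟨⟨g, hg⟩, fun x => Subtype.ext (h x)⟩
    · rintro ⟨g, h⟩
      exact ⟨hP, g, g.2, fun x => congrArg Subtype.val (h x)⟩
  · rw [MonoidHom.range_eq_top.2 (fun x => ⟨x, rfl⟩)]
    exact top_le_iff.1 hT.exists_le_sylow.choose_spec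

/-- A quasisimple system lives over a nonabelian group. -/
theorem not_abelian_of_quasisimple {F : FusionSystem S} [Finite S] (p : ℕ) [Fact p.Prime]
    (hS : IsPGroup p S) (hq : F.Quasisimple p) : ¬ IsMulCommutative S := by
  intro hab
  obtain ⟨hF, hyp, hsimp⟩ := hq
  let θ := QuotientGroup.mk' ((F.center).subgroupOf S)
  have hk : ∀ s : S, θ s = 1 ↔ (s : Ω) ∈ F.center := fun s => by
    rw [QuotientGroup.mk'_apply, QuotientGroup.eq_one_iff, Subgroup.mem_subgroupOf]
  have hr : θ.range = ⊤ := MonoidHom.range_eq_top.2 (QuotientGroup.mk'_surjective _)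
  have hZ : F.StronglyClosed F.center :=
    stronglyClosed_of_isNormal (isNormal_of_isCentral isCentral_center)
  let E := factorSystem hZ hk hr
  have hE : F.IsFactorSystem F.center θ E := factorSystem_spec hZ hk hr
  obtain ⟨hEsat, hne, hnorm⟩ := hsimp E hE
  have habQ : ∀ a b : S ⧸ (F.center).subgroupOf S, a * b = b * a := by
    intro a b
    obtain ⟨x, rfl⟩ := QuotientGroup.mk'_surjective _ a
    obtain ⟨y, rfl⟩ := QuotientGroup.mk'_surjective _ b
    rw [← map_mul, ← map_mul, hab.is_comm.comm x y]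
  let I := innerFusionSystem (⊤ : Subgroup (S ⧸ (F.center).subgroupOf S))
  have hS' : IsPGroup p (⊤ : Subgroup (S ⧸ (F.center).subgroupOf S)) :=
    ((hS.to_quotient _).to_subgroup ⊤)
  have hI : ∀ {P : Subgroup (S ⧸ (F.center).subgroupOf S)} {φ : P →* _}, φ ∈ I.Hom P →
      ∀ x : P, φ x = x := by
    rintro P φ ⟨-, g, -, h⟩ x
    rw [h x, habQ g, mul_assoc, mul_inv_cancel, mul_one]
  have hIaut : ∀ α ∈ I.autGroup ⊤, ∀ x, α x = x := fun α hα x =>
    Subtype.ext (hI ((autGroup_carrier le_rfl).1 hα) x)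
  have hN : I.IsNormalIn E p := by
    refine ⟨⟨innerSystem_saturated p hS', hEsat, inner_le E, ⟨le_rfl, fun R _ φ _ x => trivial⟩,
      ?_, ?_⟩, ?_⟩
    · intro P hP φ hφ α _
      refine ⟨_, subtype_mem le_top, fun x hφx hαx => ?_⟩
      refine congrArg (fun z : (⊤ : Subgroup (S ⧸ (F.center).subgroupOf S)) =>
        ((α z : (⊤ : Subgroup (S ⧸ (F.center).subgroupOf S))) : S ⧸ (F.center).subgroupOf S))
        (Subtype.ext ?_)
      exact (hI hφ x).symm
    · intro P hP φ hφ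
      obtain ⟨α, hα, he⟩ := exists_aut_extend_of_abelian p hS' hEsat
        (fun x _ y _ => habQ x y) hφ
      exact ⟨α, hα, P.subtype, subtype_mem le_top, fun x hx => (he x).symm⟩
    · intro α hα
      refine ⟨1, one_mem _, fun x => ?_, fun c _ => ?_⟩
      · rw [hIaut α hα x]; rfl
      · simp
  rcases hnorm ⊤ I hN with h | ⟨-, h⟩
  · exact hne h
  refine hne (eq_bot_iff.2 fun y _ => ?_)
  obtain ⟨s, rfl⟩ := QuotientGroup.mk'_surjective _ y
  refine Subgroup.mem_bot.2 ((hk s).2 ?_)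
  suffices hle : F.hyperfocalSubgroup p ≤ F.center by exact hle (hyp.symm ▸ s.2)
  rw [FusionSystem.hyperfocalSubgroup, Subgroup.closure_le]
  rintro _ ⟨P, ⟨α, hα⟩, x, hP, -, rfl⟩
  have hφ := (autGroup_carrier hP).1 hα
  obtain ⟨φ', hφ', hPS, hφS, hP', he⟩ := induces_of_mem hZ hE p hS hF hφ
  have h1 : φ' ⟨θ ⟨x, hPS x.2⟩, hP' x⟩ = θ ⟨x, hPS x.2⟩ := hI ((h _).symm ▸ hφ' : φ' ∈ I.Hom _) _
  have h2 := (h1.symm.trans (he x))
  have h3 : θ ((⟨x, hPS x.2⟩ : S)⁻¹ * ⟨_, hφS x⟩) = 1 := by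
    rw [map_mul, map_inv, ← h2, inv_mul_cancel]
  exact (hk _).1 h3

end CfsgLib.Fusion
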