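import Cfsg.Agent.Fusion.NormalCriteria
import Cfsg.Agent.Fusion.InnerCriterion
import Cfsg.Agent.Fusion.Tate
import Cfsg.Agent.FGSB.OrderPFix

/-!
Detection of automorphisms on small-exponent subgroups of the hyperfocal subgroup.
-/

set_option autoImplicit false
set_option linter.unusedSectionVars false

namespace CfsgLib.Fusion

open Cfsg Cfsg.FusionSystem
open scoped commutatorElement

universe u

/-! ### The group statement -/

/-- An automorphism of order prime to `p` is trivial when it moves everything into what it fixes. -/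
theorem aut_eq_one_of_displacement {P : Type u} [Group P] [Finite P] {p : ℕ} [Fact p.Prime]
    (hP : IsPGroup p P) {φ : MulAut P} (hφ : (orderOf φ).Coprime p) {x : P}
    (h : φ (x⁻¹ * φ x) = x⁻¹ * φ x) : φ x = x := by
  obtain ⟨z, hz⟩ : ∃ z, z = x⁻¹ * φ x := ⟨_, rfl⟩
  rw [← hz] at h
  have hit : ∀ n : ℕ, (φ ^ n) x = x * z ^ n := by
    intro n
    induction n with
    | zero => simp
    | succ n ih =>
      rw [pow_succ', MulAut.mul_apply, ih, map_mul, map_pow, h,
        show φ x = x * z by rw [hz, mul_inv_cancel_left], mul_assoc, ← pow_succ']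
  have h1 : z ^ orderOf φ = 1 := by
    have := hit (orderOf φ)
    rw [pow_orderOf_eq_one, MulAut.one_apply] at this
    exact mul_eq_left.1 this.symm
  obtain ⟨k, hk⟩ := IsPGroup.iff_orderOf.1 hP z
  have h2 : orderOf z = 1 := ((hφ.symm).pow_left k).eq_one_of_dvd (hk ▸ orderOf_dvd_of_pow_eq_one h1)
    |> fun e => hk.trans e
  rw [orderOf_eq_one_iff, hz, inv_mul_eq_one] at h2
  exact h2.symm

/-- A characteristic subgroup of small exponent detecting automorphisms of order prime to `p`. -/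
theorem exists_small_char {P : Type u} [Group P] [Finite P] {p : ℕ} [Fact p.Prime] (hP : IsPGroup p P) :
    ∃ D : Subgroup P, (∀ x ∈ D, x ^ CfsgLib.OrderPFix.small p = 1) ∧
      (∀ φ : MulAut P, ∀ x ∈ D, φ x ∈ D) ∧
      ∀ φ : MulAut P, (orderOf φ).Coprime p → (∀ x ∈ D, φ x = x) → φ = 1 := by
  obtain ⟨C, hCc, hCp, hC3, hC4⟩ := CfsgLib.Kinf.exists_critical hP
  have hCinv : ∀ (φ : MulAut P), ∀ x ∈ C, φ x ∈ C := fun φ x hx =>
    Subgroup.characteristic_iff_le_comap.1 hCc φ hx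
  have hcenter : ∀ x : C, (x : P) ∈ Subgroup.centralizer (C : Set P) → x ∈ Subgroup.center C :=
    fun x hx => Subgroup.mem_center_iff.2 fun g =>
      Subtype.ext (Subgroup.mem_centralizer_iff.1 hx g g.2)
  have hclass : commutator C ≤ Subgroup.center C := by
    rw [_root_.commutator_def, Subgroup.commutator_le]
    intro a _ b _
    exact hcenter _ (hC3 (Subgroup.commutator_mem_commutator a.2 (Subgroup.mem_top _))).2
  have hpow : ∀ a : C, a ^ p ∈ Subgroup.center C := fun a => hcenter _ (hCp a a.2)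
  let D : Subgroup P :=
    { carrier := {x | x ∈ C ∧ x ^ CfsgLib.OrderPFix.small p = 1}
      one_mem' := ⟨one_mem _, one_pow _⟩
      mul_mem' := fun {a b} ha hb => ⟨mul_mem ha.1 hb.1, by
        have h := congrArg Subtype.val (CfsgLib.OrderPFix.small_pow_mul hclass hpow ⟨a, ha.1⟩ ⟨b, hb.1⟩)
        simp only [Subgroup.coe_pow, Subgroup.coe_mul] at h
        rw [h, ha.2, hb.2, one_mul]⟩
      inv_mem' := fun {a} ha => ⟨inv_mem ha.1, by rw [inv_pow, ha.2, inv_one]⟩ }
  refine ⟨D, fun x hx => hx.2, fun φ x hx => ⟨hCinv φ x hx.1, by rw [← map_pow, hx.2, map_one]⟩,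
    fun φ hφ hfix => ?_⟩
  let ψ : C →* C := (φ.toMonoidHom.comp C.subtype).codRestrict C fun c => hCinv φ c c.2
  have hψ : ∀ (j : ℕ) (c : C), ((ψ^[j] c : C) : P) = (φ ^ j) (c : P) := by
    intro j c
    induction j with
    | zero => simp
    | succ j ih =>
      rw [Function.iterate_succ_apply', pow_succ', MulAut.mul_apply, ← ih]
      rfl
  have hC : ∀ c : C, ψ c = c := CfsgLib.OrderPFix.fix_of_class_two (hP.to_subgroup C) hclass hpow ψ hφ
    (fun c => Subtype.ext (by rw [hψ, pow_orderOf_eq_one, MulAut.one_apply]))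
    (fun t ht => Subtype.ext (hfix t ⟨t.2, by
      have h1 : orderOf (t : P) ∣ CfsgLib.OrderPFix.small p := by
        rw [Subgroup.orderOf_coe]
        rcases ht with h | ⟨h2, h4⟩
        · rw [h]; exact CfsgLib.OrderPFix.dvd_small
        · rw [h4, h2, CfsgLib.OrderPFix.small, if_pos rfl]
      exact orderOf_dvd_iff_pow_eq_one.1 h1⟩))
  have hfixC : ∀ x ∈ C, φ x = x := fun x hx => congrArg Subtype.val (hC ⟨x, hx⟩)
  refine MulEquiv.ext fun u => aut_eq_one_of_displacement hP hφ (hfixC _ (hC4 ?_))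
  refine Subgroup.mem_centralizer_iff.2 fun a ha => ?_
  have hua : u * a * u⁻¹ ∈ C := by
    have h : ⁅a, u⁆ ∈ C := (hC3 (Subgroup.commutator_mem_commutator ha (Subgroup.mem_top u))).1
    rw [commutatorElement_def] at h
    have h2 := mul_mem (inv_mem h) ha
    simpa [mul_assoc] using h2
  have h1 := hfixC _ hua
  rw [map_mul, map_mul, map_inv, hfixC a ha] at h1
  have h2 : φ u * a = u * a * u⁻¹ * φ u := by rw [← h1]; group
  rw [mul_assoc u⁻¹, h2]; group

/-! ### Detection inside the hyperfocal subgroup -/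

variable {Ω : Type*} [Group Ω] {S : Subgroup Ω} {F : Cfsg.FusionSystem S}

/-- `D` is a small-exponent `Aut_F(P)`-invariant subgroup of `P ∩ hyp(F)` detecting `p'`-automorphisms. -/
structure IsDetecting (F : Cfsg.FusionSystem S) (p : ℕ) (P D : Subgroup Ω) : Prop where
  le : D ≤ P
  le_hyp : D ≤ F.hyperfocalSubgroup p
  small : ∀ x ∈ D, x ^ CfsgLib.OrderPFix.small p = 1
  inv : ∀ α ∈ F.autGroup P, ∀ x : P, (x : Ω) ∈ D → ((α x : P) : Ω) ∈ D
  detect : ∀ α ∈ F.autGroup P, (orderOf α).Coprime p → (∀ x : P, (x : Ω) ∈ D → α x = x) → α = 1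

theorem mem_hyperfocal_of_coprime {p : ℕ} {P : Subgroup Ω} (hP : P ≤ S) {α : MulAut P}
    (hα : α ∈ F.autGroup P) (hp : (orderOf α).Coprime p) (x : P) :
    (x : Ω)⁻¹ * ((α x : P) : Ω) ∈ F.hyperfocalSubgroup p :=
  Subgroup.subset_closure ⟨P, ⟨α, hα⟩, x, hP, CfsgLib.PResidual.mem_pResidual p (by
    rwa [← Subgroup.orderOf_mk α hα] at hp), rfl⟩

theorem exists_detecting [Finite S] (p : ℕ) [Fact p.Prime] (hS : IsPGroup p S) (hF : F.IsSaturated p)
    {P : Subgroup Ω} (hP : P ≤ S) : ∃ D, IsDetecting F p P D := by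
  classical
  have : Finite P := finite_of_le hP
  have hPp := isPGroup_of_le hS hP
  set H : Subgroup P := (F.hyperfocalSubgroup p).subgroupOf P with hH
  have hHinv : ∀ α ∈ F.autGroup P, ∀ x ∈ H, α x ∈ H := fun α hα x hx =>
    le_of_stronglyClosed_aut (stronglyClosed_hyperfocal p hS hF) hP hα x hx
  obtain ⟨D₀, hs, hinv, hdet⟩ := exists_small_char (hPp.to_subgroup H)
  have hres : ∀ α ∈ F.autGroup P, ∃ γ : MulAut H, ∀ x : H, ((γ x : H) : P) = α x := fun α hα =>
    ⟨{ toFun := fun x => ⟨α x, hHinv α hα x x.2⟩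
       invFun := fun x => ⟨α⁻¹ x, hHinv _ (inv_mem hα) x x.2⟩
       left_inv := fun x => Subtype.ext (MulAut.inv_apply_self P α x)
       right_inv := fun x => Subtype.ext (MulAut.apply_inv_self P α x)
       map_mul' := fun x y => Subtype.ext (map_mul α (x : P) y) }, fun x => rfl⟩
  refine ⟨(D₀.map H.subtype).map P.subtype, ⟨Subgroup.map_subtype_le _, ?_, ?_, ?_, ?_⟩⟩
  · rintro _ ⟨_, ⟨y, -, rfl⟩, rfl⟩
    exact y.2
  · rintro _ ⟨_, ⟨y, hy, rfl⟩, rfl⟩
    exact congrArg (fun t : H => ((t : P) : Ω)) (hs y hy)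
  · rintro α hα x ⟨_, ⟨y, hy, rfl⟩, hx⟩
    obtain ⟨γ, hγ⟩ := hres α hα
    have : x = (y : P) := (Subtype.ext hx).symm
    subst this
    exact ⟨_, ⟨γ y, hinv γ y hy, rfl⟩, congrArg Subtype.val (hγ y)⟩
  · intro α hα hcop hfix
    obtain ⟨γ, hγ⟩ := hres α hα
    have hpow : ∀ (n : ℕ) (x : H), (((γ ^ n) x : H) : P) = (α ^ n) x := by
      intro n
      induction n with
      | zero => intro x; rfl
      | succ n ih => intro x; rw [pow_succ', pow_succ', MulAut.mul_apply, MulAut.mul_apply, hγ, ih]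
    have hγo : (orderOf γ).Coprime p := hcop.coprime_dvd_left (orderOf_dvd_of_pow_eq_one
      (MulEquiv.ext fun x => Subtype.ext (by rw [hpow, pow_orderOf_eq_one]; rfl)))
    have hγ1 : γ = 1 := hdet γ hγo fun x hx => Subtype.ext (by
      rw [hγ]; exact hfix x ⟨_, ⟨x, hx, rfl⟩, rfl⟩)
    refine MulEquiv.ext fun x => aut_eq_one_of_displacement hPp hcop ?_
    have h := hγ ⟨x⁻¹ * α x, Subgroup.mem_subgroupOf.2 (mem_hyperfocal_of_coprime hP hα hcop x)⟩
    rw [hγ1] at h
    exact h.symm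

/-- A `p'`-automorphism stabilizing a chain on a detecting subgroup is trivial. -/
theorem IsDetecting.eq_one_of_chain {p : ℕ} [Fact p.Prime] {P D : Subgroup Ω} [Finite P]
    (hPp : IsPGroup p P) (hD : IsDetecting F p P D) {α : MulAut P} (hα : α ∈ F.autGroup P)
    (hcop : (orderOf α).Coprime p) (Z : ℕ → Subgroup Ω) (hZ0 : Z 0 = ⊥) {m : ℕ} (hDZ : D ≤ Z m)
    (h : ∀ i, ∀ x : P, (x : Ω) ∈ D → (x : Ω) ∈ Z (i + 1) → (x : Ω)⁻¹ * ((α x : P) : Ω) ∈ Z i) :
    α = 1 := by
  refine hD.detect α hα hcop ?_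
  suffices ∀ i, ∀ x : P, (x : Ω) ∈ D → (x : Ω) ∈ Z i → α x = x from fun x hx => this m x hx (hDZ hx)
  intro i
  induction i with
  | zero =>
    intro x _ hx
    rw [hZ0, Subgroup.mem_bot] at hx
    rw [show x = 1 from Subtype.ext hx, map_one]
  | succ i ih =>
    intro x hxD hx
    exact aut_eq_one_of_displacement hPp hcop
      (ih _ (mul_mem (inv_mem hxD) (hD.inv α hα x hxD)) (h i x hxD hx))

theorem IsDetecting.isPElement {p : ℕ} [Fact p.Prime] {P D : Subgroup Ω} [Finite P]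
    (hD : IsDetecting F p P D) {γ : MulAut P} (hγ : γ ∈ F.autGroup P) {k : ℕ}
    (hfix : ∀ x : P, (x : Ω) ∈ D → (γ ^ p ^ k) x = x) : ∃ j, γ ^ p ^ j = 1 := by
  have : Finite (MulAut P) := finite_mulAut
  obtain ⟨j, m, hm, ho⟩ := Nat.exists_eq_pow_mul_and_not_dvd (orderOf_pos γ).ne' p (Fact.out : p.Prime).ne_one
  refine ⟨k + j, ?_⟩
  have hδ : (γ ^ p ^ (k + j)) ^ m = 1 := by
    rw [← pow_mul, pow_add, mul_assoc, ← ho, mul_comm, pow_mul, pow_orderOf_eq_one, one_pow]
  refine hD.detect _ (pow_mem hγ _) (Nat.Coprime.coprime_dvd_left (orderOf_dvd_of_pow_eq_one hδ)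
    ((Nat.Prime.coprime_iff_not_dvd Fact.out).2 hm).symm) fun x hx => ?_
  rw [pow_add, pow_mul]
  have : ∀ n : ℕ, ((γ ^ p ^ k) ^ n) x = x := by
    intro n
    induction n with
    | zero => rfl
    | succ n ih => rw [pow_succ, MulAut.mul_apply, hfix x hx, ih]
  exact this _

/-- If `N_S(P)` stabilizes an invariant chain on a detecting subgroup of a radical centric `P`, then
`N_S(P) ≤ P`. -/
theorem IsDetecting.le_of_chain [Finite S] {p : ℕ} [Fact p.Prime] (hS : IsPGroup p S) {P D : Subgroup Ω}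
    (hD : IsDetecting F p P D) (hc : F.IsCentric P) (hr : F.IsRadical p P) (Z : ℕ → Subgroup Ω)
    (hZ0 : Z 0 = ⊥) {m : ℕ} (hDZ : D ≤ Z m)
    (hinv : ∀ α ∈ F.autGroup P, ∀ i, ∀ x : P, (x : Ω) ∈ D → (x : Ω) ∈ Z i → ((α x : P) : Ω) ∈ Z i)
    (hg : ∀ g ∈ normalizerIn S P, ∀ i, ∀ x ∈ D, x ∈ Z (i + 1) → x⁻¹ * (g * x * g⁻¹) ∈ Z i) :
    normalizerIn S P ≤ P := by
  have := finite_of_le hc.1
  have : Finite (MulAut P) := finite_mulAut
  have hPp := isPGroup_of_le hS hc.1
  let L : Submonoid (MulAut P) :=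
    { carrier := {γ | γ ∈ F.autGroup P ∧
        ∀ i, ∀ x : P, (x : Ω) ∈ D → (x : Ω) ∈ Z (i + 1) → (x : Ω)⁻¹ * ((γ x : P) : Ω) ∈ Z i}
      one_mem' := ⟨one_mem _, fun i x _ _ => by simp⟩
      mul_mem' := by
        rintro γ δ ⟨hγA, hγ⟩ ⟨hδA, hδ⟩
        refine ⟨mul_mem hγA hδA, fun i x hxD hx => ?_⟩
        have h1 := mul_mem (hδ i x hxD hx)
          (hγ i (δ x) (hD.inv δ hδA x hxD) (hinv δ hδA _ x hxD hx))
        simpa [mul_assoc] using h1 }
  let L' : Subgroup (MulAut P) :=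
    { L with
      inv_mem' := fun {γ} hγ => by
        have e : γ⁻¹ = γ ^ (orderOf γ - 1) := by
          refine inv_eq_of_mul_eq_one_left ?_
          rw [← pow_succ, Nat.sub_add_cancel (orderOf_pos γ), pow_orderOf_eq_one]
        show γ⁻¹ ∈ L
        rw [e]
        exact L.pow_mem hγ _ }
  have hle : L' ≤ Inn P := by
    refine le_inn_of_radical p hr (fun γ hγ => hγ.1) (fun α hα γ hγ => ?_) fun γ hγ => ?_
    · refine ⟨mul_mem (mul_mem hα hγ.1) (inv_mem hα), fun i x hxD hx => ?_⟩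
      have hα' := inv_mem hα
      have h1 := hγ.2 i (α⁻¹ x) (hD.inv _ hα' x hxD) (hinv _ hα' _ x hxD hx)
      have h2 : (((α⁻¹ x)⁻¹ * γ (α⁻¹ x) : P) : Ω) ∈ D :=
        mul_mem (inv_mem (hD.inv _ hα' x hxD)) (hD.inv γ hγ.1 _ (hD.inv _ hα' x hxD))
      have h3 := hinv α hα i _ h2 h1
      simpa [MulAut.mul_apply] using h3
    · let Df : Fin (m + 1) → Subgroup P := fun i => D.subgroupOf P ⊓ (Z i).subgroupOf P
      obtain ⟨k, hk⟩ := exists_pow_fix hPp γ Df
        (fun i x hx => ⟨hD.inv γ hγ.1 x hx.1, hinv γ hγ.1 _ x hx.1 hx.2⟩)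
        (fun i x hx => ⟨(D.subgroupOf P).mul_mem ((D.subgroupOf P).inv_mem hx.1) (hD.inv γ hγ.1 x hx.1), hγ.2 _ x hx.1 hx.2⟩)
        ⟨0, fun x hx => by
          have hx' : (x : Ω) ∈ Z ((0 : Fin (m + 1)) : ℕ) := hx.2
          rw [Fin.val_zero, hZ0, Subgroup.mem_bot] at hx'
          rw [show x = 1 from Subtype.ext hx', map_one]⟩
        (Fin.last m)
      exact hD.isPElement hγ.1 fun x hx => hk x ⟨hx, show (x : Ω) ∈ Z m from hDZ hx⟩
  intro g hgN
  refine (inn_mem_iff hc hgN.1 (α := conjAut S P ⟨g, hgN⟩) fun x => rfl).1 (hle ⟨?_, ?_⟩)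
  · exact autInducedBy_le_autGroup hc.1 (mem_autInducedBy.2 ⟨g, hgN.1, fun _ => rfl⟩)
  · intro i x hxD hx
    exact hg g hgN i x hxD hx

/-! ### Consequences for the system -/

theorem isNormal_self_of_normalizer [Finite S] (p : ℕ) [Fact p.Prime] (hS : IsPGroup p S)
    (hF : F.IsSaturated p) (h : ∀ P : Subgroup Ω, F.IsEssential p P → normalizerIn S P ≤ P) :
    F.IsNormal S :=
  isNormal_of_stronglyClosed p hS hF ⟨le_rfl, fun _ _ _ hφ x => apply_mem_S hφ x⟩ fun P hP =>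
    le_of_normalizer_le p hS hP.1.1 le_rfl (hP.1.1.trans Subgroup.le_normalizer)
      fun g hg hgN => h P hP ⟨hg, hgN⟩

/-- `F` is inner when no automorphism of order prime to `p` is nontrivial. -/
theorem isInner_of_no_coprime [Finite S] (p : ℕ) [Fact p.Prime] (hS : IsPGroup p S)
    (hF : F.IsSaturated p)
    (h : ∀ P : Subgroup Ω, P ≤ S → ∀ α ∈ F.autGroup P, (orderOf α).Coprime p → α = 1) :
    ∀ P : Subgroup Ω, F.Hom P = (innerFusionSystem S).Hom P := by
  have hpg : ∀ P : Subgroup Ω, P ≤ S → IsPGroup p (F.autGroup P) := fun P hP => by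
    have := finite_of_le hP
    have : Finite (MulAut P) := finite_mulAut
    refine IsPGroup.of_card (n := (Nat.card (F.autGroup P)).primeFactorsList.length) ?_
    refine Nat.eq_prime_pow_of_unique_prime_dvd Nat.card_pos.ne' fun {q} hq hqd => ?_
    by_contra hne
    have : Fact q.Prime := ⟨hq⟩
    obtain ⟨a, ha⟩ := exists_prime_orderOf_dvd_card' q hqd
    have hao : orderOf (a : MulAut P) = q := by rw [Subgroup.orderOf_coe, ha]
    have h1 := h P hP a a.2 (by rw [hao]; exact (Nat.coprime_primes hq Fact.out).2 hne)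
    rw [h1, orderOf_one] at hao
    exact hq.ne_one hao.symm
  have hle : F ≤ innerFusionSystem S := by
    refine alperin_saturated p hS hF _ fun P hP => ?_
    rcases hP with rfl | hP
    · intro a ha
      obtain ⟨g, hg, hgx⟩ := aut_S_inner p hS hF (hpg _ le_rfl) ha
      exact Subgroup.subset_closure ⟨le_rfl, g, hg, hgx⟩
    · have := finite_of_le hP.1.1
      have : Finite (MulAut P) := finite_mulAut
      obtain ⟨R⟩ : Nonempty (Sylow p (F.autGroup P)) := inferInstance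
      have htop : (R : Subgroup (F.autGroup P)) = ⊤ :=
        (R.3 ((hpg P hP.1.1).to_subgroup ⊤) le_top).symm
      exact (not_essential_of_normal_sylow p hP R (by
        rw [htop]; infer_instance)).elim
  exact fun P => Set.Subset.antisymm (hle P) (inner_le F P)

/-- The upper central series of `S`, in the ambient group. -/
def upperIn (S : Subgroup Ω) (i : ℕ) : Subgroup Ω := (Subgroup.upperCentralSeries S i).map S.subtype

theorem upperIn_zero : upperIn S 0 = ⊥ := by rw [upperIn, Subgroup.upperCentralSeries_zero, Subgroup.map_bot]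

theorem exists_upperIn_eq [Finite S] (p : ℕ) [Fact p.Prime] (hS : IsPGroup p S) :
    ∃ m, upperIn S m = S := by
  have := hS.isNilpotent
  obtain ⟨m, hm⟩ := Group.IsNilpotent.nilpotent (G := S)
  exact ⟨m, by rw [upperIn, hm, ← MonoidHom.range_eq_map, Subgroup.range_subtype]⟩

theorem conj_mem_upperIn {i : ℕ} {x g : Ω} (hx : x ∈ upperIn S i) (hg : g ∈ S) :
    g * x * g⁻¹ ∈ upperIn S i := by
  obtain ⟨y, hy, rfl⟩ := hx
  exact ⟨⟨g, hg⟩ * y * ⟨g, hg⟩⁻¹, (inferInstance : (Subgroup.upperCentralSeries S i).Normal).conj_mem y hy _, rfl⟩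

theorem inv_mul_conj_mem_upperIn {i : ℕ} {x g : Ω} (hx : x ∈ upperIn S (i + 1)) (hg : g ∈ S) :
    x⁻¹ * (g * x * g⁻¹) ∈ upperIn S i := by
  obtain ⟨y, hy, rfl⟩ := hx
  have h : ⁅y⁻¹, (⟨g, hg⟩ : S)⁆ ∈ Subgroup.upperCentralSeries S i := inv_mem hy ⟨g, hg⟩
  refine ⟨_, h, ?_⟩
  simp [commutatorElement_def, mul_assoc]

end CfsgLib.Fusion
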