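import Cfsg.Agent.Fusion.AbelianSystem
import Cfsg.Agent.Fusion.Quasisimple
import Cfsg.Agent.Fusion.Invariant
import Cfsg.Agent.Fusion.InnerCriterion
import Cfsg.Agent.Fusion.SmallControl

/-!
Simple and inner systems over abelian groups.
-/

set_option autoImplicit false
set_option linter.style.haveILetI false

open Cfsg Cfsg.FusionSystem

namespace CfsgLib.Fusion

universe u

variable {Ω : Type u} [Group Ω] {S : Subgroup Ω} [Finite S] {F : FusionSystem S}

/-- Over an abelian group the inner system of a strongly closed subgroup is normal. -/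
theorem inner_isNormalIn_of_abelian (p : ℕ) [Fact p.Prime] (hS : IsPGroup p S)
    (hF : F.IsSaturated p) (hab : ∀ x ∈ S, ∀ y ∈ S, x * y = y * x) {T : Subgroup Ω}
    (hT : F.StronglyClosed T) : (innerFusionSystem T).IsNormalIn F p := by
  haveI : Finite T := finite_of_le hT.1
  have hI : ∀ {P : Subgroup Ω} {φ : P →* Ω}, φ ∈ (innerFusionSystem T).Hom P → ∀ x : P, φ x = x := by
    rintro P φ ⟨hP, g, hg, h⟩ x
    rw [h x, hab g (hT.1 hg) x (hT.1 (hP x.2)), mul_inv_cancel_right]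
  refine ⟨⟨innerSystem_saturated p (isPGroup_of_le hS hT.1), hF, ?_, hT, ?_, ?_⟩, ?_⟩
  · intro P φ hφ
    exact restrict_mem_of_eq (subtype_mem (F := F) (hφ.1.trans hT.1)) le_rfl fun x => hI hφ x
  · intro P hP φ hφ α _
    have hPS : (P.subgroupOf T).map (T.subtype.comp α.toMonoidHom) ≤ T := by
      rintro _ ⟨x, -, rfl⟩
      exact (α x).2
    refine ⟨_, subtype_mem hPS, fun x hφx hαx => ?_⟩
    exact congrArg (fun z : T => ((α z : T) : Ω)) (Subtype.ext (hI hφ x).symm)
  · intro P hP φ hφ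
    obtain ⟨α, hα, he⟩ := exists_aut_extend_of_abelian p hS hF hab hφ
    have hm := restrict_mem ((autGroup_carrier le_rfl).1 hα) hT.1
    have hr : ((S.subtype.comp α.toMonoidHom).comp (Subgroup.inclusion hT.1)).range = T :=
      eq_of_le_of_card_le hT.1 (by rintro _ ⟨a, rfl⟩; exact hT.2 T le_rfl _ hm a) (card_range hm).ge
    exact ⟨_, autOfRange_mem hm hr, P.subtype, subtype_mem hP, fun x hx => (he x).symm⟩
  · intro α hα
    refine ⟨1, one_mem _, fun x => ?_, fun c _ => ?_⟩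
    · exact (hI ((autGroup_carrier le_rfl).1 hα) x).symm
    · simp

/-- A saturated system on an abelian group is simple exactly for order `p` and trivial fusion. -/
theorem isSimple_abelian_iff (p : ℕ) [Fact p.Prime] (hS : IsPGroup p S) (hF : F.IsSaturated p)
    (hab : ∀ x ∈ S, ∀ y ∈ S, x * y = y * x) :
    F.IsSimple p ↔ (Nat.card S = p ∧ ∀ P : Subgroup Ω, F.Hom P = (innerFusionSystem S).Hom P) := by
  constructor
  · rintro ⟨-, hne, hn⟩
    have hsc : F.StronglyClosed S :=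
      ⟨le_rfl, fun P hP φ hφ x => apply_mem_S hφ x⟩
    have hin : ∀ P : Subgroup Ω, F.Hom P = (innerFusionSystem S).Hom P := fun P => by
      rcases hn S _ (inner_isNormalIn_of_abelian p hS hF hab hsc) with h | ⟨-, h⟩
      · exact absurd h hne
      · exact (h P).symm
    refine ⟨?_, hin⟩
    haveI : Nontrivial S := (Subgroup.nontrivial_iff_ne_bot S).2 hne
    obtain ⟨k, hk⟩ := IsPGroup.iff_card.1 hS
    have hpd : p ∣ Nat.card S := by
      rw [hk]
      refine dvd_pow_self p fun h0 => ?_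
      rw [h0, pow_zero] at hk
      exact (Finite.one_lt_card (α := S)).ne' hk
    obtain ⟨x, hx⟩ := exists_prime_orderOf_dvd_card' p hpd
    have hT : F.StronglyClosed (Subgroup.zpowers (x : Ω)) := by
      refine ⟨Subgroup.zpowers_le.2 x.2, fun P hP φ hφ y => ?_⟩
      rw [hin] at hφ
      obtain ⟨hPS, g, hg, h⟩ := hφ
      rw [h y, hab g hg y (hPS y.2), mul_inv_cancel_right]
      exact hP y.2
    rcases hn _ _ (inner_isNormalIn_of_abelian p hS hF hab hT) with h | ⟨h, -⟩
    · rw [Subgroup.zpowers_eq_bot, OneMemClass.coe_eq_one] at h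
      rw [h, orderOf_one] at hx
      exact absurd hx.symm (Fact.out : p.Prime).ne_one
    · rw [← h, Nat.card_zpowers, Subgroup.orderOf_coe, hx]
  · rintro ⟨hc, hin⟩
    haveI : Nontrivial S := Finite.one_lt_card_iff_nontrivial.1 (hc ▸ (Fact.out : p.Prime).one_lt)
    refine isSimple_of_inn p hF ((Subgroup.nontrivial_iff_ne_bot S).1 inferInstance) (fun T hT => ?_) ?_
    · rcases (Nat.dvd_prime Fact.out).1 (hc ▸ Subgroup.card_dvd_of_le hT.1) with h | h
      · exact Or.inl (Subgroup.card_eq_one.1 h)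
      · exact Or.inr (eq_of_le_of_card_le le_rfl hT.1 (by rw [h, hc]))
    · refine le_antisymm (fun α hα => ?_) (inn_le_autGroup le_rfl)
      have h := (autGroup_carrier le_rfl).1 hα
      rw [hin] at h
      obtain ⟨-, g, hg, he⟩ := h
      rw [inn_eq_autInducedBy]
      exact mem_autInducedBy.2 ⟨g, hg, fun x => he x⟩

/-- An automorphism of odd order of a two-group with a one-dimensional filtration of its involutions. -/
theorem aut_pow_two_of_distinct {X : Type u} [Group X] [Finite X] (hX : IsPGroup 2 X)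
    (hab : ∀ x y : X, x * y = y * x)
    (hV : ∀ (k : ℕ) (x y : X), (x * x = 1 ∧ ∃ z, z ^ 2 ^ k = x) → (y * y = 1 ∧ ∃ z, z ^ 2 ^ k = y) →
      (¬ ∃ z, z ^ 2 ^ (k + 1) = x) → (¬ ∃ z, z ^ 2 ^ (k + 1) = y) → ∃ z, z ^ 2 ^ (k + 1) = x⁻¹ * y) :
    IsPGroup 2 (MulAut X) := by
  haveI : Fact (Nat.Prime 2) := ⟨Nat.prime_two⟩
  haveI : Finite (MulAut X) := Finite.of_injective _ DFunLike.coe_injective
  obtain ⟨N, hN⟩ := IsPGroup.iff_card.1 hX
  have hN1 : ∀ z : X, z ^ 2 ^ N = 1 := fun z => hN ▸ pow_card_eq_one'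
  intro φ
  obtain ⟨m, hm⟩ : ∃ m, m = (orderOf φ).factorization 2 := ⟨_, rfl⟩
  refine ⟨m, ?_⟩
  obtain ⟨θ, hθd⟩ : ∃ θ, θ = φ ^ 2 ^ m := ⟨_, rfl⟩
  rw [← hθd]
  have hco : (orderOf θ).Coprime 2 := by
    rw [hθd, orderOf_pow, hm, Nat.gcd_eq_right (Nat.ordProj_dvd _ 2)]
    exact (Nat.coprime_ordCompl Nat.prime_two (orderOf_pos φ).ne').symm
  have inv : ∀ (k : ℕ) (x : X), (∃ z, z ^ 2 ^ k = x) ↔ ∃ z, z ^ 2 ^ k = θ x := fun k x =>
    ⟨fun ⟨z, hz⟩ => ⟨θ z, by rw [← map_pow, hz]⟩,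
      fun ⟨z, hz⟩ => ⟨θ⁻¹ z, by rw [← map_pow, hz, MulAut.inv_apply_self]⟩⟩
  have h2 : ∀ (d k : ℕ) (x : X), k + d = N → (x * x = 1 ∧ ∃ z, z ^ 2 ^ k = x) → θ x = x := by
    intro d
    induction d with
    | zero =>
      rintro k x hk ⟨-, z, rfl⟩
      rw [add_zero] at hk
      rw [hk, hN1, map_one]
    | succ d ih =>
      rintro k x hk ⟨hx, hxk⟩
      by_cases hx1 : ∃ z, z ^ 2 ^ (k + 1) = x
      · exact ih (k + 1) x (by omega) ⟨hx, hx1⟩
      · refine aut_eq_one_of_displacement hX hco (ih (k + 1) _ (by omega) ⟨?_, hV k x (θ x) ⟨hx, hxk⟩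
          ⟨by rw [← map_mul, hx, map_one], (inv k x).1 hxk⟩ hx1 fun h => hx1 ((inv _ x).2 h)⟩)
        rw [mul_assoc, ← mul_assoc (θ x), hab (θ x) x⁻¹, mul_assoc, ← map_mul, hx, map_one,
          mul_one, ← mul_inv_rev, hx, inv_one]
  have hall : ∀ (d : ℕ) (x : X), x ^ 2 ^ d = 1 → θ x = x := by
    intro d
    induction d with
    | zero => intro x hx; rw [pow_zero, pow_one] at hx; rw [hx, map_one]
    | succ d ih =>
      intro x hx
      rw [pow_succ', pow_mul] at hx
      have h1 := ih (x ^ 2) hx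
      refine aut_eq_one_of_displacement hX hco (h2 N 0 _ (by omega) ⟨?_, _, pow_one _⟩)
      rw [← sq, (show Commute x⁻¹ (θ x) from hab _ _).mul_pow, ← map_pow, h1, inv_pow, inv_mul_cancel]
  exact MulEquiv.ext fun x => hall N x (hN1 x)

/-- A two-torsion element of `ZMod (2 ^ a)` is zero or the middle element. -/
theorem zmod_two_torsion {a : ℕ} (ha : 1 ≤ a) (x : ZMod (2 ^ a)) (h : x + x = 0) :
    x = 0 ∨ x = ((2 ^ (a - 1) : ℕ) : ZMod (2 ^ a)) := by
  haveI : NeZero (2 ^ a) := ⟨by positivity⟩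
  have hx : ((x.val + x.val : ℕ) : ZMod (2 ^ a)) = 0 := by
    rw [Nat.cast_add, ZMod.natCast_zmod_val, h]
  rw [ZMod.natCast_eq_zero_iff] at hx
  have hlt := ZMod.val_lt x
  have h2 : 2 ^ a = 2 * 2 ^ (a - 1) := by rw [← pow_succ', Nat.sub_add_cancel ha]
  obtain ⟨c, hc⟩ := hx
  rcases Nat.lt_or_ge c 1 with hc1 | hc1
  · left
    obtain rfl : c = 0 := by omega
    rw [← ZMod.natCast_zmod_val x, show x.val = 0 by omega, Nat.cast_zero]
  · right
    have hc2 : c < 2 := by
      by_contra hge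
      have := Nat.mul_le_mul_left (2 ^ a) (not_lt.1 hge)
      omega
    obtain rfl : c = 1 := by omega
    rw [show 2 ^ (a - 1) = x.val by omega, ZMod.natCast_zmod_val]

theorem isPGroup_mulAut_distinct {n : ℕ} (a : Fin n → ℕ) (ha : StrictMono a) (ha1 : ∀ i, 1 ≤ a i)
    {X : Type u} [Group X] [Finite X] (hX : IsPGroup 2 X)
    (e : X ≃* Multiplicative ((i : Fin n) → ZMod (2 ^ a i))) : IsPGroup 2 (MulAut X) := by
  have hab : ∀ x y : X, x * y = y * x := fun x y => e.injective (by rw [map_mul, map_mul, mul_comm])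
  have div : ∀ (k : ℕ) (x : X), x * x = 1 →
      ((∃ z, z ^ 2 ^ k = x) ↔ ∀ i, a i ≤ k → Multiplicative.toAdd (e x) i = 0) := by
    intro k x hx
    constructor
    · rintro ⟨z, rfl⟩ i hi
      rw [map_pow, toAdd_pow, Pi.smul_apply, nsmul_eq_mul]
      rw [(ZMod.natCast_eq_zero_iff _ _).2 (pow_dvd_pow 2 hi), zero_mul]
    · intro h
      refine ⟨e.symm (Multiplicative.ofAdd fun i =>
        if Multiplicative.toAdd (e x) i = 0 then 0 else ((2 ^ (a i - 1 - k) : ℕ) : ZMod (2 ^ a i))), ?_⟩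
      apply e.injective
      apply Multiplicative.toAdd.injective
      rw [map_pow, MulEquiv.apply_symm_apply, toAdd_pow]
      funext i
      rw [Pi.smul_apply, toAdd_ofAdd]
      by_cases h0 : Multiplicative.toAdd (e x) i = 0
      · rw [if_pos h0, smul_zero, h0]
      · rw [if_neg h0, nsmul_eq_mul, ← Nat.cast_mul, ← pow_add]
        have hai : k < a i := not_le.1 fun hle => h0 (h i hle)
        rw [show k + (a i - 1 - k) = a i - 1 by omega]
        refine ((zmod_two_torsion (ha1 i) _ ?_).resolve_left h0).symm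
        have := congrArg (fun w => Multiplicative.toAdd (e w) i) hx
        simpa using this
  refine aut_pow_two_of_distinct hX hab fun k x y hx hy hx1 hy1 => ?_
  have hxy : x⁻¹ * y * (x⁻¹ * y) = 1 := by
    rw [mul_assoc, ← mul_assoc y, hab y x⁻¹, mul_assoc, hy.1, mul_one, ← mul_inv_rev, hx.1, inv_one]
  rw [div _ x hx.1] at hx1
  rw [div _ y hy.1] at hy1
  rw [div _ _ hxy]
  push Not at hx1 hy1
  obtain ⟨i, hi, hxi⟩ := hx1
  obtain ⟨j, hj, hyj⟩ := hy1
  have hik : a i = k + 1 := by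
    by_contra hne
    exact hxi ((div k x hx.1).1 hx.2 i (by omega))
  have hjk : a j = k + 1 := by
    by_contra hne
    exact hyj ((div k y hy.1).1 hy.2 j (by omega))
  obtain rfl : i = j := ha.injective (hik.trans hjk.symm)
  intro l hl
  rw [map_mul, map_inv, toAdd_mul, toAdd_inv, Pi.add_apply, Pi.neg_apply]
  rcases lt_or_eq_of_le hl with hlt | heq
  · rw [(div k x hx.1).1 hx.2 l (by omega), (div k y hy.1).1 hy.2 l (by omega), neg_zero, add_zero]
  · obtain rfl : l = i := ha.injective (heq.trans hik.symm)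
    have t : ∀ w : X, w * w = 1 → Multiplicative.toAdd (e w) l ≠ 0 →
        Multiplicative.toAdd (e w) l = ((2 ^ (a l - 1) : ℕ) : ZMod (2 ^ a l)) := fun w hw hne =>
      (zmod_two_torsion (ha1 l) _ (by
        have := congrArg (fun u => Multiplicative.toAdd (e u) l) hw
        simpa using this)).resolve_left hne
    rw [t x hx.1 hxi, t y hy.1 hyj, neg_add_cancel]

/-- With a `p`-group of automorphisms an abelian group carries only the inner system. -/
theorem hom_eq_inner_of_abelian (p : ℕ) [Fact p.Prime] (hS : IsPGroup p S) (hF : F.IsSaturated p)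
    (hab : ∀ x ∈ S, ∀ y ∈ S, x * y = y * x) (hA : IsPGroup p (MulAut S)) (P : Subgroup Ω) :
    F.Hom P = (innerFusionSystem S).Hom P := by
  refine isInner_iff.1 (fun P φ hφ => ?_) P
  obtain ⟨α, hα, he⟩ := exists_aut_extend_of_abelian p hS hF hab hφ
  obtain ⟨⟨-, R, hR⟩, -⟩ := good_of_fullyNormalized p hS hF isFullyNormalized_S
  have hR' : (R : Subgroup (F.autGroup S)) = ⊤ :=
    (R.3 (Q := ⊤) ((hA.to_subgroup (F.autGroup S)).of_equiv Subgroup.topEquiv.symm) le_top).symm
  have hm : (⟨α, hα⟩ : F.autGroup S) ∈ (R : Subgroup (F.autGroup S)) := hR'.symm ▸ Subgroup.mem_top _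
  rw [hR] at hm
  obtain ⟨g, hg, hge⟩ := mem_autInducedBy.1 (Subgroup.mem_subgroupOf.1 hm)
  exact ⟨g, hg, fun x => (he x).symm.trans (hge _)⟩

end CfsgLib.Fusion
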