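import Mathlib.GroupTheory.SchurZassenhaus
import Mathlib.GroupTheory.SemidirectProduct
import Mathlib.FieldTheory.Finite.Basic
import Mathlib.Algebra.Module.ZMod
import Cfsg.Agent.Fusion.SolvableSystem
import Cfsg.Agent.Fusion.Sparse
import Cfsg.Agent.Solvable.PGroupBasic

/-!
Strongly closed chains with cyclic steps, and groups of supersoluble type.
-/

set_option autoImplicit false
set_option linter.unusedSectionVars false
set_option linter.style.haveILetI false

open Cfsg Cfsg.FusionSystem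
open scoped commutatorElement

namespace CfsgLib.Fusion

universe u

variable {Ω : Type u} [Group Ω] {S : Subgroup Ω} {F : FusionSystem S} {p : ℕ}

/-! ### Series with steps of order `p` -/

/-- A series of strongly closed subgroups from `⊥`, each step generated by one element of order
`p` that is central modulo the previous term. -/
inductive PSeries (p : ℕ) (F : FusionSystem S) : Subgroup Ω → Prop
  | bot : PSeries p F ⊥
  | step {A : Subgroup Ω} {x : Ω} : PSeries p F A → x ∈ S → F.StronglyClosed (A ⊔ Subgroup.zpowers x) →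
      x ^ p ∈ A → (∀ g ∈ S, ⁅x, g⁆ ∈ A) → PSeries p F (A ⊔ Subgroup.zpowers x)

theorem PSeries.stronglyClosed {A : Subgroup Ω} (h : PSeries p F A) : F.StronglyClosed A := by
  cases h with
  | bot => exact stronglyClosed_bot
  | step _ _ hB _ _ => exact hB

theorem mem_sup_zpowers_iff {A : Subgroup Ω} (hA : A ≤ S) [(A.subgroupOf S).Normal] {t : Ω}
    (ht : t ∈ S) (y : S) :
    (y : Ω) ∈ A ⊔ Subgroup.zpowers t ↔
      QuotientGroup.mk' (A.subgroupOf S) y ∈
        Subgroup.zpowers (QuotientGroup.mk' (A.subgroupOf S) ⟨t, ht⟩) := by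
  constructor
  · intro hy
    have hle : A ⊔ Subgroup.zpowers t ≤ ((Subgroup.zpowers (QuotientGroup.mk' (A.subgroupOf S) ⟨t, ht⟩)).comap
        (QuotientGroup.mk' (A.subgroupOf S))).map S.subtype := by
      refine sup_le (fun a ha => ⟨⟨a, hA ha⟩, ?_, rfl⟩)
        (Subgroup.zpowers_le.2 ⟨⟨t, ht⟩, Subgroup.mem_zpowers _, rfl⟩)
      have h1 : QuotientGroup.mk' (A.subgroupOf S) ⟨a, hA ha⟩ = 1 :=
        (QuotientGroup.eq_one_iff _).2 (Subgroup.mem_subgroupOf.2 ha)
      rw [SetLike.mem_coe, Subgroup.mem_comap, h1]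
      exact one_mem _
    obtain ⟨y', hy', e⟩ := hle hy
    rwa [← Subtype.ext e]
  · intro hy
    obtain ⟨i, hi⟩ := Subgroup.mem_zpowers_iff.1 hy
    rw [← map_zpow, QuotientGroup.mk'_apply, QuotientGroup.mk'_apply, QuotientGroup.eq,
      Subgroup.mem_subgroupOf] at hi
    have e : (y : Ω) = t ^ i * (((⟨t, ht⟩ : S) ^ i)⁻¹ * y : S) := by simp
    rw [e]
    exact mul_mem (Subgroup.mem_sup_right (zpow_mem (Subgroup.mem_zpowers t) i)) (Subgroup.mem_sup_left hi)

/-- The steps of a series are central modulo the previous term. -/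
theorem commutator_step_le [Finite S] {A : Subgroup Ω} (hA : F.StronglyClosed A) {x : Ω}
    (hx : x ∈ S) (hc : ∀ g ∈ S, ⁅x, g⁆ ∈ A) : ⁅A ⊔ Subgroup.zpowers x, S⁆ ≤ A := by
  have := normal_subgroupOf_of_stronglyClosed hA
  rw [Subgroup.commutator_le]
  intro y hy g hg
  have hxc : QuotientGroup.mk' (A.subgroupOf S) ⟨x, hx⟩ ∈ Subgroup.center _ := by
    refine Subgroup.mem_center_iff.2 fun q => ?_
    obtain ⟨s, rfl⟩ := QuotientGroup.mk'_surjective _ q
    refine (commutatorElement_eq_one_iff_commute.1 ?_).symm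
    rw [← map_commutatorElement, QuotientGroup.mk'_apply, QuotientGroup.eq_one_iff]
    exact hc s s.2
  have hyS : y ∈ S := sup_le hA.1 (Subgroup.zpowers_le.2 hx) hy
  have h1 := (mem_sup_zpowers_iff hA.1 hx ⟨y, hyS⟩).1 hy
  have h2 := Subgroup.zpowers_le.2 hxc h1
  have h3 : QuotientGroup.mk' (A.subgroupOf S) ⁅(⟨y, hyS⟩ : S), ⟨g, hg⟩⁆ = 1 := by
    rw [map_commutatorElement, commutatorElement_eq_one_iff_commute]
    exact (Subgroup.mem_center_iff.1 h2 _).symm
  rw [QuotientGroup.mk'_apply, QuotientGroup.eq_one_iff] at h3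
  exact h3

theorem PSeries.exists_fin [Finite S] {A : Subgroup Ω} (h : PSeries p F A) :
    ∃ (n : ℕ) (C : Fin (n + 1) → Subgroup Ω), C 0 = ⊥ ∧ C (Fin.last n) = A ∧ Monotone C ∧
      (∀ i, F.StronglyClosed (C i)) ∧ ∀ i : Fin n, ⁅C i.succ, S⁆ ≤ C i.castSucc ∧
        ∃ x ∈ S, C i.succ = C i.castSucc ⊔ Subgroup.zpowers x := by
  induction h with
  | bot => exact ⟨0, fun _ => ⊥, rfl, rfl, fun _ _ _ => le_rfl, fun _ => stronglyClosed_bot,
      fun i => i.elim0⟩
  | @step A x hA hx hB _ hc ih =>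
    obtain ⟨n, C, h0, hn, hmono, hsc, hstep⟩ := ih
    refine ⟨n + 1, Fin.snoc C (A ⊔ Subgroup.zpowers x), ?_, Fin.snoc_last _ _, ?_, ?_, ?_⟩
    · rw [← Fin.castSucc_zero, Fin.snoc_castSucc, h0]
    · refine Fin.monotone_iff_le_succ.2 fun i => ?_
      rw [Fin.snoc_castSucc]
      induction i using Fin.lastCases with
      | last => rw [Fin.succ_last, Fin.snoc_last, hn]; exact le_sup_left
      | cast j => rw [Fin.succ_castSucc, Fin.snoc_castSucc]; exact hmono (Fin.castSucc_le_succ j)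
    · intro i
      induction i using Fin.lastCases with
      | last => rw [Fin.snoc_last]; exact hB
      | cast j => rw [Fin.snoc_castSucc]; exact hsc j
    · intro i
      induction i using Fin.lastCases with
      | last =>
        rw [Fin.succ_last, Fin.snoc_last, Fin.snoc_castSucc, hn]
        exact ⟨commutator_step_le hA.stronglyClosed hx hc, x, hx, rfl⟩
      | cast j =>
        rw [Fin.succ_castSucc, Fin.snoc_castSucc, Fin.snoc_castSucc]
        exact hstep j

theorem isNormal_of_pSeries [Finite S] [Fact p.Prime] (hS : IsPGroup p S) (hF : F.IsSaturated p)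
    (h : PSeries p F S) : F.IsNormal S := by
  obtain ⟨n, C, h0, hn, hmono, hsc, hstep⟩ := h.exists_fin
  exact isNormal_of_series p hS hF stronglyClosed_self C h0 hn (fun i => (hstep i).1) hmono
    fun i => weaklyClosed_of_stronglyClosed (hsc _)

/-- Refining a cyclic step. -/
theorem PSeries.cyclic_step [Finite S] [Fact p.Prime] (hS : IsPGroup p S) {B : Subgroup Ω}
    (hB : F.StronglyClosed B) {x : Ω} (hx : x ∈ S) :
    ∀ (k : ℕ) {A : Subgroup Ω}, PSeries p F A → x ^ p ^ k ∈ A →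
      B = A ⊔ Subgroup.zpowers x → PSeries p F B := by
  intro k
  induction k with
  | zero =>
    intro A hA hxA hBA
    rw [pow_zero, pow_one] at hxA
    rw [hBA, sup_eq_left.2 (Subgroup.zpowers_le.2 hxA)]
    exact hA
  | succ k ih =>
    intro A hA hxA hBA
    by_cases hk : x ^ p ^ k ∈ A
    · exact ih hA hk hBA
    have hAsc := hA.stronglyClosed
    have := normal_subgroupOf_of_stronglyClosed hAsc
    have hp := (Fact.out : p.Prime)
    set π := QuotientGroup.mk' (A.subgroupOf S) with hπ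
    have hker : ∀ s : S, π s = 1 ↔ (s : Ω) ∈ A := fun s => by
      rw [hπ, QuotientGroup.mk'_apply, QuotientGroup.eq_one_iff, Subgroup.mem_subgroupOf]
    have htS : x ^ p ^ k ∈ S := pow_mem hx _
    obtain ⟨T, hT⟩ : ∃ T, π ⟨x ^ p ^ k, htS⟩ = T := ⟨_, rfl⟩
    have hTX : π ⟨x, hx⟩ ^ p ^ k = T := by rw [← map_pow, ← hT]; rfl
    have hTp : T ^ p = 1 := by
      rw [← hT, ← map_pow, hker, Subgroup.coe_pow, ← pow_mul, ← pow_succ]
      exact hxA
    have hT1 : T ≠ 1 := by rw [← hT, Ne, hker]; exact hk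
    have hord : orderOf (π ⟨x, hx⟩) = p ^ (k + 1) :=
      orderOf_eq_prime_pow (by rw [hTX]; exact hT1) (by rw [pow_succ, pow_mul, hTX]; exact hTp)
    have hTn : (Subgroup.zpowers T).Normal := by
      refine ⟨fun y hy q => ?_⟩
      obtain ⟨g, rfl⟩ := QuotientGroup.mk'_surjective _ q
      obtain ⟨j, rfl⟩ := Subgroup.mem_zpowers_iff.1 hy
      rw [← conj_zpow]
      refine zpow_mem ?_ j
      have h1 : (g * ⟨x, hx⟩ * g⁻¹ : S).1 ∈ B := by
        rw [Subgroup.coe_mul, Subgroup.coe_mul, Subgroup.coe_inv]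
        exact (Subgroup.mem_normalizer_iff.1 (stronglyClosed_normal_in_S hB g.2) x).1
          (hBA ▸ Subgroup.mem_sup_right (Subgroup.mem_zpowers x))
      rw [hBA] at h1
      obtain ⟨i, hi⟩ := Subgroup.mem_zpowers_iff.1 ((mem_sup_zpowers_iff hAsc.1 hx _).1 h1)
      rw [← hπ] at hi ⊢
      rw [map_mul, map_mul, map_inv] at hi
      rw [← hTX, ← conj_pow, ← hi, show (π ⟨x, hx⟩ ^ i) ^ p ^ k = (π ⟨x, hx⟩ ^ p ^ k) ^ i by
        rw [← zpow_natCast, ← zpow_mul, mul_comm, zpow_mul, zpow_natCast]]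
      exact zpow_mem (Subgroup.mem_zpowers _) i
    have hTc : T ∈ Subgroup.center (↥S ⧸ A.subgroupOf S) := by
      have := (hS.to_quotient (A.subgroupOf S)).isNilpotent
      have hne : Subgroup.zpowers T ≠ ⊥ := by simpa using hT1
      obtain ⟨c, ⟨hc, hcc⟩, hc1⟩ := (Subgroup.bot_or_exists_ne_one _).resolve_left
        (CfsgLib.PGroupBasic.inf_center_ne_bot (Subgroup.zpowers T) hne)
      have hpr : (Nat.card (Subgroup.zpowers T)).Prime := by
        rw [Nat.card_zpowers, orderOf_eq_prime hTp hT1]; exact hp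
      have : Fact (Nat.card (Subgroup.zpowers T)).Prime := ⟨hpr⟩
      rcases ((Subgroup.center (↥S ⧸ A.subgroupOf S)).subgroupOf (Subgroup.zpowers T)).eq_bot_or_eq_top_of_prime_card with h | h
      · have h' : (⟨c, hc⟩ : Subgroup.zpowers T) ∈ (⊥ : Subgroup _) := h ▸ Subgroup.mem_subgroupOf.2 hcc
        exact absurd (congrArg Subtype.val (Subgroup.mem_bot.1 h')) hc1
      · exact Subgroup.mem_subgroupOf.1
          (h.ge (Subgroup.mem_top (⟨T, Subgroup.mem_zpowers T⟩ : Subgroup.zpowers T)))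
    have hA'B : A ⊔ Subgroup.zpowers (x ^ p ^ k) ≤ B := hBA ▸ sup_le_sup_left
      (Subgroup.zpowers_le.2 (pow_mem (Subgroup.mem_zpowers x) _)) A
    have hA' : F.StronglyClosed (A ⊔ Subgroup.zpowers (x ^ p ^ k)) := by
      refine ⟨hA'B.trans hB.1, fun R hR φ hφ y => ?_⟩
      have hyS : (y : Ω) ∈ S := hB.1 (hA'B (hR y.2))
      have hzS : φ y ∈ S := apply_mem_S hφ y
      have hz := hB.2 R (hR.trans hA'B) φ hφ y
      rw [hBA] at hz
      obtain ⟨i, hi⟩ := Subgroup.mem_zpowers_iff.1 ((mem_sup_zpowers_iff hAsc.1 hx ⟨φ y, hzS⟩).1 hz)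
      have hyp : (y : Ω) ^ p ∈ A := by
        obtain ⟨j, hj⟩ := Subgroup.mem_zpowers_iff.1
          ((mem_sup_zpowers_iff hAsc.1 htS ⟨y, hyS⟩).1 (hR y.2))
        rw [← hπ, hT] at hj
        rw [← Subgroup.coe_pow R y p]
        refine (hker ⟨_, pow_mem hyS p⟩).1 ?_
        rw [show (⟨(y : Ω) ^ p, pow_mem hyS p⟩ : S) = (⟨y, hyS⟩ : S) ^ p from rfl, map_pow, ← hj,
          ← zpow_natCast, ← zpow_mul, mul_comm, zpow_mul, zpow_natCast, hTp, one_zpow]
      have hφp : φ y ^ p ∈ A := by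
        rw [← map_pow]
        exact hAsc.2 _ (Subgroup.zpowers_le.2 hyp) _
          (restrict_mem hφ (Subgroup.zpowers_le.2 (pow_mem y.2 p))) ⟨_, Subgroup.mem_zpowers _⟩
      refine (mem_sup_zpowers_iff hAsc.1 htS ⟨φ y, hzS⟩).2 ?_
      rw [← hπ, hT, ← hi]
      have h1 : (π ⟨x, hx⟩ ^ i) ^ p = 1 := by
        rw [hi, ← map_pow, hker]; exact hφp
      rw [← zpow_natCast, ← zpow_mul, ← orderOf_dvd_iff_zpow_eq_one, hord, pow_succ,
        Nat.cast_mul, Int.mul_dvd_mul_iff_right (by exact_mod_cast hp.ne_zero)] at h1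
      obtain ⟨j, rfl⟩ := h1
      rw [zpow_mul, zpow_natCast, hTX]
      exact zpow_mem (Subgroup.mem_zpowers T) j
    refine ih (PSeries.step hA htS hA' (by rw [← pow_mul, ← pow_succ]; exact hxA) fun g hg => ?_)
      (Subgroup.mem_sup_right (Subgroup.mem_zpowers _)) ?_
    · refine (hker ⟨_, S.mul_mem (S.mul_mem (S.mul_mem htS hg) (S.inv_mem htS)) (S.inv_mem hg)⟩).1 ?_
      show π ⁅(⟨x ^ p ^ k, htS⟩ : S), ⟨g, hg⟩⁆ = 1
      rw [map_commutatorElement, hT, commutatorElement_eq_one_iff_commute]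
      exact (Subgroup.mem_center_iff.1 hTc _).symm
    · rw [sup_assoc, sup_eq_right.2 (Subgroup.zpowers_le.2 (pow_mem (Subgroup.mem_zpowers x) _) :
        Subgroup.zpowers (x ^ p ^ k) ≤ Subgroup.zpowers x), hBA]

/-- A chain of strongly closed subgroups with cyclic steps refines to a series. -/
theorem pSeries_of_chain [Finite S] [Fact p.Prime] (hS : IsPGroup p S) {m : ℕ}
    (c : Fin (m + 1) → Subgroup Ω) (h0 : c 0 = ⊥) (hsc : ∀ i, F.StronglyClosed (c i))
    (hstep : ∀ i : Fin m, ∃ x ∈ S, c i.succ = c i.castSucc ⊔ Subgroup.zpowers x)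
    (i : Fin (m + 1)) : PSeries p F (c i) := by
  induction i using Fin.induction with
  | zero => rw [h0]; exact .bot
  | succ j ih =>
    obtain ⟨x, hx, e⟩ := hstep j
    obtain ⟨k, hk⟩ := hS ⟨x, hx⟩
    refine PSeries.cyclic_step hS (hsc _) hx k ih ?_ e
    rw [show x ^ p ^ k = 1 from congrArg Subtype.val hk]
    exact one_mem _

/-! ### Automorphisms preserving a series -/

/-- An automorphism of the system of `S` killed by every linear character with values in the
units modulo `p` acts on a series as a `p`-element. -/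
theorem PSeries.exists_pow_fix [Finite S] [Fact p.Prime] (hS : IsPGroup p S) {γ : F.autGroup S}
    (hγ : ∀ ν : F.autGroup S →* (ZMod p)ˣ, ν γ = 1) {A : Subgroup Ω} (hA : PSeries p F A) :
    ∃ k : ℕ, ∀ y : S, (y : Ω) ∈ A → ((γ : MulAut S) ^ p ^ k) y = y := by
  induction hA with
  | bot =>
    refine ⟨0, fun y hy => ?_⟩
    rw [show y = 1 from Subtype.ext (Subgroup.mem_bot.1 hy), map_one]
  | @step A x hA hx hB hxp hc ih =>
    obtain ⟨k, hk⟩ := ih
    have hAsc := hA.stronglyClosed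
    have := normal_subgroupOf_of_stronglyClosed hAsc
    have hp := (Fact.out : p.Prime)
    set π := QuotientGroup.mk' (A.subgroupOf S) with hπ
    have hker : ∀ s : S, π s = 1 ↔ (s : Ω) ∈ A := fun s => by
      rw [hπ, QuotientGroup.mk'_apply, QuotientGroup.eq_one_iff, Subgroup.mem_subgroupOf]
    have hinvA : ∀ α ∈ F.autGroup S, ∀ a : S, (a : Ω) ∈ A → π (α a) = 1 := fun α hα a ha =>
      (hker _).2 (le_of_stronglyClosed_aut hAsc le_rfl hα a ha)
    suffices hlayer : ∀ y : S, (y : Ω) ∈ A ⊔ Subgroup.zpowers x →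
        y⁻¹ * (γ : MulAut S) y ∈ A.subgroupOf S by
      obtain ⟨j, hj⟩ := IsPGroup.iff_card.1 (hS.to_subgroup (A.subgroupOf S))
      refine ⟨k + j, fun y hy => ?_⟩
      rw [pow_add, ← hj]
      exact pow_mul_fix (γ : MulAut S) (B := (A ⊔ Subgroup.zpowers x).subgroupOf S) hlayer
        (fun a ha => le_of_stronglyClosed_aut hAsc le_rfl γ.2 a ha) hk y hy
    suffices hγx : π ((γ : MulAut S) ⟨x, hx⟩) = π ⟨x, hx⟩ by
      intro y hy
      have hle : A ⊔ Subgroup.zpowers x ≤
          ((π.comp (γ : MulAut S).toMonoidHom).eqLocus π).map S.subtype :=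
        sup_le (fun a ha => ⟨⟨a, hAsc.1 ha⟩,
            (hinvA _ γ.2 ⟨a, hAsc.1 ha⟩ ha).trans ((hker ⟨a, hAsc.1 ha⟩).2 ha).symm, rfl⟩)
          (Subgroup.zpowers_le.2 ⟨⟨x, hx⟩, hγx, rfl⟩)
      obtain ⟨y', hy', e⟩ := hle hy
      have e' : y' = y := Subtype.ext e
      rw [e'] at hy'
      rw [Subgroup.mem_subgroupOf, ← hker, map_mul, map_inv, inv_mul_eq_one]
      exact hy'.symm
    by_cases hxA : x ∈ A
    · rw [(hker ⟨x, hx⟩).2 hxA, hinvA _ γ.2 ⟨x, hx⟩ hxA]
    obtain ⟨T, hT⟩ : ∃ T, π ⟨x, hx⟩ = T := ⟨_, rfl⟩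
    have hTp : T ^ p = 1 := by rw [← hT, ← map_pow, hker]; exact hxp
    have hTo : orderOf T = p := orderOf_eq_prime hTp (by rw [← hT, Ne, hker]; exact hxA)
    have hex : ∀ α ∈ F.autGroup S, ∃ a : ℕ, π (α ⟨x, hx⟩) = T ^ a := by
      intro α hα
      have h1 := le_of_stronglyClosed_aut hB le_rfl hα ⟨x, hx⟩
        (Subgroup.mem_sup_right (Subgroup.mem_zpowers x))
      obtain ⟨a, ha⟩ := exists_nat_pow_of_finOrder (hT ▸ (mem_sup_zpowers_iff hAsc.1 hx _).1 h1)
      exact ⟨a, ha.symm⟩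
    choose e he using fun α : F.autGroup S => hex α α.2
    have huniq : ∀ a b : ℕ, T ^ a = T ^ b → (a : ZMod p) = b := fun a b h => by
      rw [ZMod.natCast_eq_natCast_iff, ← hTo]
      exact pow_eq_pow_iff_modEq.1 h
    let ν : F.autGroup S →* ZMod p :=
      { toFun := fun α => (e α : ZMod p)
        map_one' := by
          refine (huniq _ 1 ?_).trans Nat.cast_one
          rw [← he, pow_one, ← hT]; rfl
        map_mul' := fun α β => by
          refine (huniq _ (e α * e β) ?_).trans (Nat.cast_mul _ _)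
          rw [← he, pow_mul, ← he α, ← map_pow]
          show π ((α : MulAut S) ((β : MulAut S) ⟨x, hx⟩)) = _
          have h1 : ((((⟨x, hx⟩ : S) ^ e β)⁻¹ * (β : MulAut S) ⟨x, hx⟩ : S) : Ω) ∈ A := by
            rw [← hker, map_mul, map_inv, map_pow, hT, he, inv_mul_cancel]
          have h2 := hinvA _ α.2 _ h1
          rw [map_mul, map_inv, map_mul, map_inv, inv_mul_eq_one] at h2
          rw [← h2, map_pow] }
    have h1 : (ν γ : ZMod p) = 1 := congrArg Units.val (hγ ν.toHomUnits)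
    have h2 : T ^ e γ = T ^ 1 := by
      rw [pow_eq_pow_iff_modEq, hTo, ← ZMod.natCast_eq_natCast_iff, Nat.cast_one]
      exact h1
    rw [he, h2, pow_one, hT]
where
  exists_nat_pow_of_finOrder {G : Type u} [Group G] [Finite G] {t d : G} (hd : d ∈ Subgroup.zpowers t) :
      ∃ k : ℕ, t ^ k = d :=
    (Submonoid.mem_powers_iff _ _).1 ((isOfFinOrder_of_finite t).mem_powers_iff_mem_zpowers.2 hd)

/-- Over a series with steps of order `p` the coprime automorphisms form an abelian group of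
exponent dividing `p - 1`. -/
theorem aut_of_pSeries [Finite S] [Fact p.Prime] (hS : IsPGroup p S) (h : PSeries p F S)
    {H : Subgroup (MulAut S)} (hH : H ≤ F.autGroup S) (hcop : (Nat.card H).Coprime p) :
    IsMulCommutative H ∧ ∀ h ∈ H, h ^ (p - 1) = 1 := by
  have key : ∀ (γ : MulAut S) (hγ : γ ∈ H),
      (∀ ν : F.autGroup S →* (ZMod p)ˣ, ν ⟨γ, hH hγ⟩ = 1) → γ = 1 := by
    intro γ hγ hν
    obtain ⟨k, hk⟩ := h.exists_pow_fix hS hν
    have hk' : (⟨γ, hγ⟩ : H) ^ p ^ k = 1 := Subtype.ext (MulEquiv.ext fun y => hk y y.2)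
    have := Nat.eq_one_of_dvd_coprimes (hcop.pow_right k) (orderOf_dvd_natCard (⟨γ, hγ⟩ : H))
      (orderOf_dvd_of_pow_eq_one hk')
    exact congrArg Subtype.val (orderOf_eq_one_iff.1 this)
  refine ⟨⟨⟨fun a b => ?_⟩⟩, fun a ha => ?_⟩
  · have := key (⁅a, b⁆ : H) (⁅a, b⁆ : H).2 fun ν => by
      rw [show (⟨((⁅a, b⁆ : H) : MulAut S), hH (⁅a, b⁆ : H).2⟩ : F.autGroup S) =
        ⁅Subgroup.inclusion hH a, Subgroup.inclusion hH b⁆ from rfl, map_commutatorElement,
        commutatorElement_eq_one_iff_commute]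
      exact Commute.all _ _
    exact commutatorElement_eq_one_iff_commute.1 (Subtype.ext this : ⁅a, b⁆ = (1 : H))
  · refine key _ (pow_mem ha _) fun ν => ?_
    rw [show (⟨a ^ (p - 1), hH (pow_mem ha _)⟩ : F.autGroup S) = ⟨a, hH ha⟩ ^ (p - 1) from rfl,
      map_pow]
    exact ZMod.units_pow_card_sub_one_eq_one p _

/-! ### Common eigenvectors -/

/-- An endomorphism whose `(p-1)`-st power is the identity has an eigenvector in each nonzero
invariant subgroup. -/
theorem exists_eigen {M : Type*} [AddCommGroup M] (hp : p.Prime) [Module (ZMod p) M]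
    (f : M →+ M) (hf : ∀ v, (f^[p - 1]) v = v) (W : AddSubgroup M)
    (hW : ∀ v ∈ W, f v ∈ W) {u : M} (hu : u ∈ W) (hu0 : u ≠ 0) :
    ∃ v ∈ W, v ≠ 0 ∧ ∃ c : ℕ, f v = c • v := by
  classical
  have : Fact p.Prime := ⟨hp⟩
  let v : (ZMod p)ˣ → M := fun c =>
    ∑ i ∈ Finset.range (p - 1), ((c : ZMod p) ^ i) • (f^[i]) u
  have hiW : ∀ i, (f^[i]) u ∈ W := fun i => by
    induction i with
    | zero => exact hu
    | succ i ih => rw [Function.iterate_succ_apply']; exact hW _ ih
  have hvW : ∀ c, v c ∈ W := fun c => W.sum_mem fun i _ => ZMod.smul_mem (hiW i) _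
  have hv : ∀ c : (ZMod p)ˣ, (c : ZMod p) • f (v c) = v c := by
    intro c
    simp only [v, map_sum, ZMod.map_smul, Finset.smul_sum, smul_smul, ← pow_succ',
      ← Function.iterate_succ_apply' f]
    have h1 := Finset.sum_range_succ' (fun i => ((c : ZMod p) ^ i) • (f^[i]) u) (p - 1)
    rw [Finset.sum_range_succ] at h1
    have h2 : (c : ZMod p) ^ (p - 1) = 1 := by
      rw [← Units.val_pow_eq_pow_val, ZMod.units_pow_card_sub_one_eq_one, Units.val_one]
    simp only [pow_zero, one_smul, Function.iterate_zero_apply, h2, hf, add_left_inj] at h1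
    exact h1.symm
  obtain ⟨c, hc⟩ : ∃ c, v c ≠ 0 := by
    by_contra hcon
    push Not at hcon
    have h1 : ∑ c : (ZMod p)ˣ, v c = 0 := Finset.sum_eq_zero fun c _ => hcon c
    simp only [v] at h1
    rw [Finset.sum_comm] at h1
    simp only [← Finset.sum_smul, FiniteField.sum_pow_units, ZMod.card] at h1
    rw [Finset.sum_eq_single 0 (fun i hi h0 => by
      rw [if_neg (fun hd => h0 (Nat.eq_zero_of_dvd_of_lt hd (Finset.mem_range.1 hi))), zero_smul])
      (fun h0 => absurd (Finset.mem_range.2 (Nat.sub_pos_of_lt hp.one_lt)) h0)] at h1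
    simp at h1
    exact hu0 h1
  refine ⟨v c, hvW c, hc, ((c⁻¹ : (ZMod p)ˣ) : ZMod p).val, ?_⟩
  rw [← Nat.cast_smul_eq_nsmul (ZMod p), ZMod.natCast_val, ZMod.cast_id]
  conv_rhs => rw [← hv c, smul_smul, ← Units.val_mul, inv_mul_cancel, Units.val_one, one_smul]

/-- Commuting automorphisms of exponent dividing `p - 1` of a nontrivial elementary abelian
group normalize a common subgroup of order `p`. -/
theorem exists_common_line {V : Type*} [CommGroup V] [Finite V] (hp : p.Prime)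
    (hV : ∀ v : V, v ^ p = 1) (hne : Nontrivial V) (X : Set (MulAut V))
    (hcomm : ∀ f ∈ X, ∀ g ∈ X, ∀ v, f (g v) = g (f v)) (hexp : ∀ f ∈ X, f ^ (p - 1) = 1) :
    ∃ v : V, v ≠ 1 ∧ ∀ f ∈ X, f v ∈ Subgroup.zpowers v := by
  classical
  have : Fact p.Prime := ⟨hp⟩
  letI : Module (ZMod p) (Additive V) := AddCommGroup.zmodModule fun v => hV v.toMul
  have : Finite (MulAut V) := .of_injective _ DFunLike.coe_injective
  suffices hs : ∀ s : Finset (MulAut V), (↑s ⊆ X) → ∃ W : Subgroup V, W ≠ ⊥ ∧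
      (∀ g ∈ X, ∀ w ∈ W, g w ∈ W) ∧ ∀ f ∈ s, ∀ w ∈ W, f w ∈ Subgroup.zpowers w by
    obtain ⟨W, hW, -, hWf⟩ := hs (Set.toFinite X).toFinset (by simp)
    obtain ⟨w, hw, hw1⟩ := (Subgroup.bot_or_exists_ne_one W).resolve_left hW
    exact ⟨w, hw1, fun f hf => hWf f ((Set.toFinite X).mem_toFinset.2 hf) w hw⟩
  intro s
  induction s using Finset.induction with
  | empty => exact fun _ => ⟨⊤, top_ne_bot, fun _ _ _ _ => trivial, by simp⟩
  | @insert f s hfs ih =>
    intro hsX
    rw [Finset.coe_insert, Set.insert_subset_iff] at hsX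
    obtain ⟨W, hW, hWi, hWf⟩ := ih hsX.2
    obtain ⟨u, hu, hu1⟩ := (Subgroup.bot_or_exists_ne_one W).resolve_left hW
    let fl : Additive V →+ Additive V := MonoidHom.toAdditive f.toMonoidHom
    have hit : ∀ (n : ℕ) (v : Additive V), ((⇑fl)^[n]) v = Additive.ofMul ((f ^ n) v.toMul) := by
      intro n
      induction n with
      | zero => intro v; rfl
      | succ n ihn =>
        intro v
        rw [Function.iterate_succ_apply', ihn, pow_succ', MulAut.mul_apply]
        rfl
    obtain ⟨v, hv, hv0, c, hc⟩ := exists_eigen hp fl (fun v => by rw [hit, hexp f hsX.1]; rfl)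
      W.toAddSubgroup (fun v hv => hWi f hsX.1 _ hv) (u := Additive.ofMul u) hu hu1
    let W' : Subgroup V :=
      { carrier := {w | w ∈ W ∧ f w = w ^ c}
        one_mem' := ⟨one_mem _, by simp⟩
        mul_mem' := fun {a b} ha hb => ⟨mul_mem ha.1 hb.1, by rw [map_mul, ha.2, hb.2, mul_pow]⟩
        inv_mem' := fun {a} ha => ⟨inv_mem ha.1, by rw [map_inv, ha.2, inv_pow]⟩ }
    refine ⟨W', fun h => hv0 ?_, fun g hg w hw => ⟨hWi g hg w hw.1, ?_⟩, fun g hg w hw => ?_⟩
    · have hvW' : v.toMul ∈ W' := ⟨hv, congrArg Additive.toMul hc⟩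
      rw [h, Subgroup.mem_bot] at hvW'
      exact congrArg Additive.ofMul hvW'
    · rw [hcomm f hsX.1 g hg, hw.2, map_pow]
    · rcases Finset.mem_insert.1 hg with rfl | hg
      · rw [hw.2]; exact pow_mem (Subgroup.mem_zpowers w) c
      · exact hWf g hg w hw.1

/-! ### Constructing series -/

theorem stronglyClosed_of_normal_S [Finite S] (hn : F.IsNormal S) {C : Subgroup Ω} (hC : C ≤ S)
    (hinv : ∀ α ∈ F.autGroup S, ∀ y : S, (y : Ω) ∈ C → ((α y : S) : Ω) ∈ C) :
    F.StronglyClosed C := by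
  refine ⟨hC, fun R hR φ hφ y => ?_⟩
  obtain ⟨ψ, hψ, he, hm⟩ := hn.2 R φ hφ
  let β := ψ.comp (Subgroup.inclusion (le_sup_right : S ≤ R ⊔ S))
  have hβ : β ∈ F.Hom S := restrict_mem hψ le_sup_right
  have hβr : β.range = S := (range_restrict ψ le_sup_right).trans hm
  have h1 := hinv _ (autOfRange_mem hβ hβr) ⟨y, hC (hR y.2)⟩ (hR y.2)
  rw [coe_autOfRange] at h1
  rw [← he y]
  exact h1

/-- An abelian subgroup of exponent dividing `p - 1` complementing the inner automorphisms. -/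
theorem exists_complement_inn [Finite S] [Fact p.Prime] (hS : IsPGroup p S) (hF : F.IsSaturated p) :
    ∃ H : Subgroup (MulAut S), H ≤ F.autGroup S ∧ (Nat.card H).Coprime p ∧
      ∀ α ∈ F.autGroup S, ∃ i ∈ Inn S, ∃ h ∈ H, α = i * h := by
  have : Finite (MulAut S) := finite_mulAut
  obtain ⟨-, R, hR⟩ := (good_of_fullyNormalized p hS hF isFullyNormalized_S).1
  rw [← inn_eq_autInducedBy] at hR
  have hn : (R : Subgroup (F.autGroup S)).Normal := by
    rw [hR]
    refine ⟨fun i hi a => ?_⟩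
    obtain ⟨g, hg⟩ := (Subgroup.mem_subgroupOf.1 hi : (i : MulAut S) ∈ Inn S)
    refine Subgroup.mem_subgroupOf.2 ⟨(a : MulAut S) g, MulEquiv.ext fun y => ?_⟩
    simp [← hg, MulAut.mul_apply]
  have hidx : ¬ p ∣ (R : Subgroup (F.autGroup S)).index := R.not_dvd_index
  obtain ⟨K, hK⟩ := Subgroup.exists_right_complement'_of_coprime
    (N := (R : Subgroup (F.autGroup S))) (by
      obtain ⟨n, hn'⟩ := IsPGroup.iff_card.1 R.2
      rw [hn']
      exact Nat.Coprime.pow_left _ ((Fact.out : p.Prime).coprime_iff_not_dvd.2 hidx))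
  refine ⟨K.map (F.autGroup S).subtype, Subgroup.map_subtype_le K, ?_, fun α hα => ?_⟩
  · rw [Nat.card_congr (K.equivMapOfInjective _ (F.autGroup S).subtype_injective).symm.toEquiv]
    have e : Nat.card K = (R : Subgroup (F.autGroup S)).index := hK.symm.index_eq_card.symm
    rw [e]
    exact ((Fact.out : p.Prime).coprime_iff_not_dvd.2 hidx).symm
  · obtain ⟨⟨⟨i, hi⟩, ⟨h, hh⟩⟩, e⟩ := hK.2 ⟨α, hα⟩
    refine ⟨i, ?_, h, ⟨h, hh, rfl⟩, congrArg Subtype.val e.symm⟩
    rw [hR] at hi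
    exact hi

/-- If `S` is normal and its coprime automorphisms are abelian of exponent dividing `p - 1`, the
system has a series. -/
theorem exists_pSeries [Finite S] [Fact p.Prime] (hS : IsPGroup p S) (hF : F.IsSaturated p)
    (hn : F.IsNormal S)
    (hA : ∀ H : Subgroup (MulAut S), (Nat.card H).Coprime p →
      IsMulCommutative H ∧ ∀ h ∈ H, h ^ (p - 1) = 1) : PSeries p F S := by
  have hp := (Fact.out : p.Prime)
  obtain ⟨H, hHA, hHc, hdec⟩ := exists_complement_inn hS hF
  obtain ⟨hHcomm, hHexp⟩ := hA H hHc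
  suffices h : ∀ (n : ℕ) (A : Subgroup Ω), PSeries p F A → Nat.card S - Nat.card A ≤ n →
      PSeries p F S from h _ ⊥ .bot le_rfl
  intro n
  induction n with
  | zero =>
    intro A hA' h
    rwa [eq_of_le_of_card_le le_rfl hA'.stronglyClosed.1 (by omega)] at hA'
  | succ n ih =>
    intro A hA' hcard
    have hAsc := hA'.stronglyClosed
    by_cases hAS : A = S
    · rwa [hAS] at hA'
    have := normal_subgroupOf_of_stronglyClosed hAsc
    set π := QuotientGroup.mk' (A.subgroupOf S) with hπ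
    have hker : ∀ s : S, π s = 1 ↔ (s : Ω) ∈ A := fun s => by
      rw [hπ, QuotientGroup.mk'_apply, QuotientGroup.eq_one_iff, Subgroup.mem_subgroupOf]
    have hQp : IsPGroup p (↥S ⧸ A.subgroupOf S) := hS.to_quotient _
    have : Nontrivial (↥S ⧸ A.subgroupOf S) := by
      obtain ⟨y, hy, hyA⟩ := SetLike.exists_of_lt (lt_of_le_of_ne hAsc.1 hAS)
      exact ⟨π ⟨y, hy⟩, 1, fun h => hyA ((hker _).1 h)⟩
    let V : Subgroup (↥S ⧸ A.subgroupOf S) :=
      { carrier := {q | q ∈ Subgroup.center _ ∧ q ^ p = 1}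
        one_mem' := ⟨one_mem _, one_pow _⟩
        mul_mem' := fun {a b} ha hb => ⟨mul_mem ha.1 hb.1, by
          rw [(show Commute a b from (Subgroup.mem_center_iff.1 ha.1 b).symm).mul_pow, ha.2, hb.2,
            one_mul]⟩
        inv_mem' := fun {a} ha => ⟨inv_mem ha.1, by rw [inv_pow, ha.2, inv_one]⟩ }
    letI : CommGroup V :=
      { (inferInstance : Group V) with
        mul_comm := fun a b => Subtype.ext (Subgroup.mem_center_iff.1 b.2.1 a) }
    have hVp : ∀ v : V, v ^ p = 1 := fun v => Subtype.ext v.2.2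
    have hVne : Nontrivial V := by
      have := hQp.center_nontrivial
      obtain ⟨j, hj0, hj⟩ :=
        IsPGroup.nontrivial_iff_card (hQp.to_subgroup (Subgroup.center _)) |>.1 this
      obtain ⟨z, hz⟩ := exists_prime_orderOf_dvd_card' (G := Subgroup.center (↥S ⧸ A.subgroupOf S))
        p (hj ▸ dvd_pow_self p hj0.ne')
      refine ⟨⟨⟨z, z.2, ?_⟩, 1, fun h => ?_⟩⟩
      · rw [← Subgroup.coe_pow, ← hz, pow_orderOf_eq_one, Subgroup.coe_one]
      · rw [show z = 1 from Subtype.ext (congrArg (fun v : V => (v : ↥S ⧸ A.subgroupOf S)) h),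
          orderOf_one] at hz
        exact hp.ne_one hz.symm
    have hmap : ∀ α ∈ F.autGroup S,
        (A.subgroupOf S).map (α : MulAut S).toMonoidHom = A.subgroupOf S := by
      intro α hα
      ext y
      constructor
      · rintro ⟨a, ha, rfl⟩
        exact le_of_stronglyClosed_aut hAsc le_rfl hα a ha
      · intro hy
        exact ⟨α⁻¹ y, le_of_stronglyClosed_aut hAsc le_rfl (inv_mem hα) y hy,
          MulAut.apply_inv_self _ _ _⟩
    let θ : ∀ α ∈ F.autGroup S, MulAut (↥S ⧸ A.subgroupOf S) := fun α hα =>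
      QuotientGroup.congr _ _ α (hmap α hα)
    have hθ : ∀ α hα (s : S), θ α hα (π s) = π (α s) := fun α hα s => rfl
    have hθV : ∀ α hα, ∀ v ∈ V, θ α hα v ∈ V := fun α hα v hv =>
      ⟨Subgroup.characteristic_iff_le_comap.1 inferInstance (θ α hα) hv.1, by
        rw [← map_pow, hv.2, map_one]⟩
    let res : H → MulAut V := fun h =>
      MulEquiv.ofBijective (((θ h (hHA h.2)).toMonoidHom.comp V.subtype).codRestrict V
        fun v => hθV _ (hHA h.2) v v.2) (Finite.injective_iff_bijective.1 fun a b hab =>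
          Subtype.ext ((θ h (hHA h.2)).injective (congrArg Subtype.val hab)))
    have hres : ∀ (h : H) (v : V), ((res h v : V) : ↥S ⧸ A.subgroupOf S) = θ h (hHA h.2) v :=
      fun h v => rfl
    have hresmul : ∀ (g h : H) (v : V), res g (res h v) = res (g * h) v := by
      intro g h v
      have key : ∀ q, θ g (hHA g.2) (θ h (hHA h.2) q) =
          θ (g * h : H) (hHA (g * h : H).2) q := fun q => QuotientGroup.induction_on q fun s => rfl
      exact Subtype.ext (key v)
    have hresone : ∀ v : V, res 1 v = v := by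
      intro v
      have key : ∀ q, θ (1 : H) (hHA (1 : H).2) q = q :=
        fun q => QuotientGroup.induction_on q fun s => rfl
      exact Subtype.ext (key v)
    have hrespow : ∀ (h : H) (j : ℕ) (v : V), (res h ^ j) v = res (h ^ j) v := by
      intro h j
      induction j with
      | zero => intro v; rw [pow_zero, pow_zero, hresone]; rfl
      | succ j ihj => intro v; rw [pow_succ', pow_succ', MulAut.mul_apply, ihj, hresmul]
    obtain ⟨⟨v, hvV⟩, hv1, hv⟩ := exists_common_line hp hVp hVne (Set.range res) (by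
      rintro _ ⟨g, rfl⟩ _ ⟨h, rfl⟩ w
      rw [hresmul, hresmul, hHcomm.is_comm.comm]) (by
      rintro _ ⟨h, rfl⟩
      refine MulEquiv.ext fun w => ?_
      rw [hrespow, show h ^ (p - 1) = 1 from Subtype.ext (hHexp h h.2), hresone]
      rfl)
    obtain ⟨⟨x, hx⟩, hxv⟩ := QuotientGroup.mk'_surjective _ v
    rw [← hπ] at hxv
    have hxA : x ∉ A := fun h => hv1 (Subtype.ext (hxv.symm.trans ((hker _).2 h)))
    have hB : ∀ α ∈ F.autGroup S, ∀ y : S, (y : Ω) ∈ A ⊔ Subgroup.zpowers x →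
        ((α y : S) : Ω) ∈ A ⊔ Subgroup.zpowers x := by
      intro α hα y hy
      obtain ⟨j, hj⟩ := Subgroup.mem_zpowers_iff.1 ((mem_sup_zpowers_iff hAsc.1 hx y).1 hy)
      have hj' : π ⟨x, hx⟩ ^ j = π y := hj
      rw [mem_sup_zpowers_iff hAsc.1 hx, ← hπ, ← hθ α hα, ← hj', map_zpow]
      refine zpow_mem ?_ j
      rw [hxv]
      obtain ⟨i, ⟨g, hg⟩, h, hh, rfl⟩ := hdec α hα
      have h1 : θ h (hHA hh) v ∈ Subgroup.zpowers v := by
        obtain ⟨e, he⟩ := Subgroup.mem_zpowers_iff.1 (hv _ ⟨⟨h, hh⟩, rfl⟩)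
        exact ⟨e, congrArg Subtype.val he⟩
      obtain ⟨e, he⟩ := Subgroup.mem_zpowers_iff.1 h1
      have h2 : θ (i * h) hα v = π g * θ h (hHA hh) v * (π g)⁻¹ := by
        rw [← hxv, hθ _ hα, hθ h (hHA hh), ← map_inv, ← map_mul, ← map_mul, ← hg]
        rfl
      rw [h2, ← he, Subgroup.mem_center_iff.1 (zpow_mem hvV.1 e) (π g), mul_inv_cancel_right]
      exact zpow_mem (Subgroup.mem_zpowers v) e
    have hB' := stronglyClosed_of_normal_S hn (sup_le hAsc.1 (Subgroup.zpowers_le.2 hx)) hB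
    refine ih _ (PSeries.step hA' hx hB' ?_ fun g hg => ?_) ?_
    · exact (hker ⟨x ^ p, pow_mem hx p⟩).1 ((map_pow π ⟨x, hx⟩ p).trans (hxv ▸ hvV.2))
    · refine (hker ⁅(⟨x, hx⟩ : S), ⟨g, hg⟩⁆).1 ?_
      rw [map_commutatorElement, hxv, commutatorElement_eq_one_iff_commute]
      exact (Subgroup.mem_center_iff.1 hvV.1 _).symm
    · have := finite_of_le hB'.1
      have hlt : Nat.card A < Nat.card ↥(A ⊔ Subgroup.zpowers x) := by
        refine lt_of_le_of_ne (card_le_of_le hB'.1 le_sup_left) fun e => hxA ?_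
        rw [Subgroup.eq_of_le_of_card_ge le_sup_left e.ge]
        exact Subgroup.mem_sup_right (Subgroup.mem_zpowers x)
      omega

/-! ### The system of a group of automorphisms -/

/-- A group of automorphisms of order prime to `p` is contained in the automorphisms of some
saturated system. -/
theorem exists_system_of_coprime [Finite S] [Fact p.Prime] (hS : IsPGroup p S)
    (H : Subgroup (MulAut S)) (hH : (Nat.card H).Coprime p) :
    ∃ E : FusionSystem S, E.IsSaturated p ∧ H ≤ E.autGroup S := by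
  have : Finite (MulAut S) := finite_mulAut
  let G := ↥S ⋊[H.subtype] ↥H
  have : Finite G := Finite.of_equiv _ SemidirectProduct.equivProd.symm
  let ι : ↥S →* G := SemidirectProduct.inl
  have hι : Function.Injective ι := SemidirectProduct.inl_injective
  let E := pullSystem ι hι (⊤ : Subgroup G) (le_refl S) le_top
  have hE : E.IsRealizedBy ι :=
    ⟨hι, fun P hP φ hφ => ⟨fun ⟨_, _, g, _, hg⟩ => ⟨g, fun x => hg x _ _⟩,
      fun ⟨g, hg⟩ => ⟨hP, hφ, g, trivial, fun x _ _ => hg x⟩⟩⟩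
  have hidx : ι.range.index = Nat.card H := by
    have h1 := ι.range.card_mul_index
    rw [Nat.card_congr (MonoidHom.ofInjective hι).symm.toEquiv,
      Nat.card_congr (SemidirectProduct.equivProd (φ := H.subtype)), Nat.card_prod] at h1
    exact Nat.eq_of_mul_eq_mul_left Nat.card_pos h1
  have hrp : IsPGroup p ι.range := hS.of_surjective ι.rangeRestrict ι.rangeRestrict_surjective
  obtain ⟨T, hT⟩ := hrp.exists_le_sylow
  have hTeq : (T : Subgroup G) = ι.range := by
    refine le_antisymm (Subgroup.relIndex_eq_one.1 ?_) hT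
    obtain ⟨j, hj⟩ := IsPGroup.iff_card.1 T.2
    refine Nat.eq_one_of_dvd_coprimes (hH.pow_right j) ?_ (hj ▸ Subgroup.relIndex_dvd_card _ _)
    rw [← hidx]
    exact Dvd.intro _ (Subgroup.relIndex_mul_index hT)
  refine ⟨E, saturated_of_realized p hS hE T hTeq, fun h hh => ?_⟩
  refine (autGroup_carrier le_rfl).2 ((hE.2 S le_rfl _ fun x => (h x).2).2
    ⟨SemidirectProduct.inr ⟨h, hh⟩, fun x => ?_⟩)
  exact (SemidirectProduct.inl_aut (φ := H.subtype) ⟨h, hh⟩ x).trans (by rw [map_inv])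

/-- A finite `p`-group is of supersoluble type iff it is resistant and its coprime automorphism
groups are abelian of exponent dividing `p - 1`. -/
theorem supersoluble_iff [Finite S] [Fact p.Prime] (hS : IsPGroup p S) :
    (∀ E : FusionSystem S, E.IsSaturated p → (∃ (m : ℕ) (c : Fin (m + 1) → Subgroup Ω),
      c 0 = ⊥ ∧ c (Fin.last m) = S ∧ (∀ i : Fin (m + 1), E.StronglyClosed (c i)) ∧
        ∀ i : Fin m, c i.castSucc ≤ c i.succ ∧
          ∃ x ∈ S, c i.succ = c i.castSucc ⊔ Subgroup.zpowers x)) ↔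
      (∀ E : FusionSystem S, E.IsSaturated p → E.IsNormal S) ∧
        ∀ H : Subgroup (MulAut S), (Nat.card H).Coprime p →
          IsMulCommutative H ∧ ∀ h ∈ H, h ^ (p - 1) = 1 := by
  constructor
  · intro h
    have hser : ∀ E : FusionSystem S, E.IsSaturated p → PSeries p E S := by
      intro E hE
      obtain ⟨m, c, h0, hl, hsc, hstep⟩ := h E hE
      exact hl ▸ pSeries_of_chain hS c h0 hsc (fun i => (hstep i).2) (Fin.last m)
    refine ⟨fun E hE => isNormal_of_pSeries hS hE (hser E hE), fun H hH => ?_⟩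
    obtain ⟨E, hE, hHE⟩ := exists_system_of_coprime hS H hH
    exact aut_of_pSeries hS (hser E hE) hHE hH
  · rintro ⟨hres, hA⟩ E hE
    obtain ⟨n, C, h0, hn, hmono, hsc, hstep⟩ := (exists_pSeries hS hE (hres E hE) hA).exists_fin
    exact ⟨n, C, h0, hn, hsc, fun i => ⟨hmono (Fin.castSucc_le_succ i), (hstep i).2⟩⟩

end CfsgLib.Fusion
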