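import Mathlib.GroupTheory.FiniteAbelian.Basic
import Cfsg.Agent.Fusion.Supersoluble
import Cfsg.Agent.Fusion.SmallControl

/-!
The abelian groups of supersoluble type: pairwise distinct invariants.
-/

set_option autoImplicit false
set_option linter.unusedSectionVars false

open Cfsg Cfsg.FusionSystem
open scoped commutatorElement

namespace CfsgLib.Fusion

universe u

variable {p : ℕ}

/-! ### Automorphisms of a product of two equal cyclic factors -/

/-- A group of automorphisms of order prime to `p` of `C × C` that is not abelian of exponent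
dividing `p - 1`. -/
theorem exists_bad_aut {C : Type*} [CommGroup C] [Finite C] [Fact p.Prime] {g : C} (hg1 : g ≠ 1)
    (hg2 : p ≠ 2 → g ^ 2 ≠ 1) :
    ∃ H : Subgroup (MulAut (C × C)), (Nat.card H).Coprime p ∧
      ¬ (IsMulCommutative H ∧ ∀ h ∈ H, h ^ (p - 1) = 1) := by
  have : Finite (MulAut (C × C)) := .of_injective _ DFunLike.coe_injective
  have hp := (Fact.out : p.Prime)
  let s : MulAut (C × C) := MulEquiv.prodComm
  have hs : ∀ x : C × C, s x = (x.2, x.1) := fun _ => rfl
  by_cases hp2 : p = 2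
  · subst hp2
    let τ : MulAut (C × C) :=
      { toFun := fun x => (x.2, (x.1 * x.2)⁻¹)
        invFun := fun x => ((x.1 * x.2)⁻¹, x.1)
        left_inv := fun x => by ext <;> simp [mul_comm x.1 x.2]
        right_inv := fun x => by ext <;> simp [mul_comm x.1 x.2]
        map_mul' := fun x y => by
          ext
          · rfl
          · simp only [Prod.fst_mul, Prod.snd_mul, mul_inv]
            ac_rfl }
    have hτ : ∀ x : C × C, τ x = (x.2, (x.1 * x.2)⁻¹) := fun _ => rfl
    have hτ1 : τ ≠ 1 := fun h => hg1 (by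
      have := congrArg Prod.fst (DFunLike.congr_fun h (g, 1))
      simpa [hτ] using this.symm)
    have hτ3 : τ ^ 3 = 1 := by
      refine MulEquiv.ext fun x => ?_
      rw [pow_succ, pow_two, MulAut.mul_apply, MulAut.mul_apply, hτ, hτ, hτ, MulAut.one_apply]
      ext <;> simp
    refine ⟨Subgroup.zpowers τ, ?_, fun h => hτ1 ?_⟩
    · rw [Nat.card_zpowers, orderOf_eq_prime (hp := ⟨Nat.prime_three⟩) hτ3 hτ1]
      decide
    · simpa using h.2 τ (Subgroup.mem_zpowers τ)
  · let r : MulAut (C × C) :=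
      { toFun := fun x => (x.2⁻¹, x.1)
        invFun := fun x => (x.2, x.1⁻¹)
        left_inv := fun x => by ext <;> simp
        right_inv := fun x => by ext <;> simp
        map_mul' := fun x y => by ext <;> simp [mul_comm] }
    have hr : ∀ x : C × C, r x = (x.2⁻¹, x.1) := fun _ => rfl
    have hs2 : s ^ 2 ^ 1 = 1 := by
      refine MulEquiv.ext fun x => ?_
      rw [pow_one, pow_two, MulAut.mul_apply, hs, hs, MulAut.one_apply]
    have hr4 : r ^ 2 ^ 2 = 1 := by
      refine MulEquiv.ext fun x => ?_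
      rw [show (2 : ℕ) ^ 2 = 4 from rfl, pow_succ, pow_succ, pow_two, MulAut.mul_apply,
        MulAut.mul_apply, MulAut.mul_apply, hr, hr, hr, hr, MulAut.one_apply]
      ext <;> simp
    have hz : ∀ {x : MulAut (C × C)} {k : ℕ}, x ^ 2 ^ k = 1 → IsPGroup 2 (Subgroup.zpowers x) := by
      intro x k hx
      rintro ⟨y, hy⟩
      obtain ⟨i, rfl⟩ := Subgroup.mem_zpowers_iff.1 hy
      refine ⟨k, Subtype.ext ?_⟩
      rw [Subgroup.coe_pow, ← zpow_natCast, ← zpow_mul, mul_comm, zpow_mul, zpow_natCast, hx,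
        one_zpow, Subgroup.coe_one]
    have hconj : s * r * s⁻¹ = r⁻¹ := by
      refine eq_inv_of_mul_eq_one_left (MulEquiv.ext fun x => ?_)
      have hsi : s⁻¹ = s := inv_eq_of_mul_eq_one_left (by rwa [pow_one, pow_two] at hs2)
      rw [hsi, MulAut.mul_apply, MulAut.mul_apply, MulAut.mul_apply, hr, hs, hr, hs, MulAut.one_apply]
      ext <;> simp
    have hnorm : Subgroup.zpowers s ≤ Subgroup.normalizer (Subgroup.zpowers r : Set (MulAut (C × C))) := by
      rw [Subgroup.zpowers_le, Subgroup.mem_normalizer_iff]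
      have hmap : (Subgroup.zpowers r).map (MulAut.conj s).toMonoidHom = Subgroup.zpowers r := by
        rw [MonoidHom.map_zpowers, MulEquiv.coe_toMonoidHom, MulAut.conj_apply, hconj,
          Subgroup.zpowers_inv]
      intro y
      refine ⟨fun hy => hmap.le ⟨y, hy, rfl⟩, fun hy => ?_⟩
      obtain ⟨y', hy', e⟩ := hmap.ge hy
      have e' : y' = y := (MulAut.conj s).injective e
      exact e' ▸ hy'
    refine ⟨Subgroup.zpowers s ⊔ Subgroup.zpowers r, ?_, fun h => hg2 hp2 ?_⟩
    · obtain ⟨j, hj⟩ := IsPGroup.iff_card.1 ((hz hs2).to_sup_of_normal_right' (hz hr4) hnorm)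
      rw [hj]
      exact Nat.Coprime.pow_left _ ((Nat.coprime_primes Nat.prime_two hp).2 (Ne.symm hp2))
    · have h1 := congrArg Subtype.val (h.1.is_comm.comm
        (⟨s, Subgroup.mem_sup_left (Subgroup.mem_zpowers s)⟩ : ↥(Subgroup.zpowers s ⊔ Subgroup.zpowers r))
        ⟨r, Subgroup.mem_sup_right (Subgroup.mem_zpowers r)⟩)
      have h2 := congrArg Prod.fst (DFunLike.congr_fun h1 (g, 1))
      simp only [Subgroup.coe_mul, MulAut.mul_apply, hr, hs, inv_one] at h2
      rw [pow_two]
      nth_rw 1 [h2]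
      simp

/-! ### The powers of elements of small order -/

/-- The `p ^ n`-th powers of the elements killed by `p ^ (n + 1)`. -/
def omegaPow (p : ℕ) (G : Type*) [CommGroup G] (n : ℕ) : Subgroup G :=
  (powMonoidHom (p ^ (n + 1)) : G →* G).ker.map (powMonoidHom (p ^ n))

theorem mem_omegaPow {G : Type*} [CommGroup G] {n : ℕ} {y : G} :
    y ∈ omegaPow p G n ↔ ∃ x : G, x ^ p ^ (n + 1) = 1 ∧ x ^ p ^ n = y := Iff.rfl

theorem map_mem_omegaPow {G H : Type*} [CommGroup G] [CommGroup H] (f : G →* H) {n : ℕ} {y : G}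
    (hy : y ∈ omegaPow p G n) : f y ∈ omegaPow p H n := by
  obtain ⟨x, hx, rfl⟩ := hy
  exact ⟨f x, by
    show f x ^ p ^ (n + 1) = 1
    rw [← map_pow, show x ^ p ^ (n + 1) = 1 from hx, map_one], (map_pow f x _).symm⟩

theorem exists_root {E n : ℕ} (hp : p.Prime) (hn : n + 2 ≤ E) (a : Multiplicative (ZMod (p ^ E)))
    (ha : a ^ p ^ (n + 1) = 1) : ∃ c, c ^ p = a := by
  have : NeZero (p ^ E) := ⟨(pow_pos hp.pos E).ne'⟩
  have hm : a = Multiplicative.ofAdd (1 : ZMod (p ^ E)) ^ a.toAdd.val := by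
    rw [← ofAdd_nsmul, nsmul_one, ZMod.natCast_val, ZMod.cast_id, ofAdd_toAdd]
  rw [hm, ← pow_mul, ← ofAdd_nsmul, nsmul_one, ← ofAdd_zero, Multiplicative.ofAdd.apply_eq_iff_eq,
    ZMod.natCast_eq_zero_iff] at ha
  obtain ⟨d, hd⟩ : p ∣ a.toAdd.val := by
    have h1 : p ^ (n + 1) * p ^ (E - (n + 1)) ∣ p ^ (n + 1) * a.toAdd.val := by
      rwa [← pow_add, Nat.add_sub_cancel' (by omega), mul_comm]
    exact (dvd_pow_self p (by omega)).trans (Nat.dvd_of_mul_dvd_mul_left (pow_pos hp.pos _) h1)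
  exact ⟨Multiplicative.ofAdd (1 : ZMod (p ^ E)) ^ d, by rw [← pow_mul, mul_comm, ← hd, ← hm]⟩

/-- With pairwise distinct invariants each layer is generated by one element. -/
theorem exists_layer_gen_pi {ι : Type*} [Fintype ι] (hp : p.Prime) {e : ι → ℕ}
    (he : Function.Injective e) (n : ℕ) :
    ∃ g ∈ omegaPow p ((k : ι) → Multiplicative (ZMod (p ^ e k))) n,
      omegaPow p ((k : ι) → Multiplicative (ZMod (p ^ e k))) n ≤
        omegaPow p _ (n + 1) ⊔ Subgroup.zpowers g := by
  classical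
  have hsmall : ∀ k, e k ≤ n → ∀ a : Multiplicative (ZMod (p ^ e k)), a ^ p ^ n = 1 := by
    intro k hk a
    have : NeZero (p ^ e k) := ⟨(pow_pos hp.pos _).ne'⟩
    have hc : Nat.card (Multiplicative (ZMod (p ^ e k))) = p ^ e k := by
      rw [Nat.card_congr Multiplicative.toAdd, Nat.card_zmod]
    obtain ⟨d, hd⟩ := pow_dvd_pow p hk
    have h0 : a ^ (p ^ e k) = 1 := by
      have := pow_card_eq_one' (x := a)
      rwa [hc] at this
    rw [hd, pow_mul, h0, one_pow]
  let gen : (k : ι) → Multiplicative (ZMod (p ^ e k)) := fun k => if e k = n + 1 then Multiplicative.ofAdd 1 ^ p ^ n else 1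
  let gen0 : (k : ι) → Multiplicative (ZMod (p ^ e k)) := fun k => if e k = n + 1 then Multiplicative.ofAdd 1 else 1
  have hgen : gen = gen0 ^ p ^ n := by
    funext k
    simp only [gen, gen0, Pi.pow_apply]
    split_ifs <;> simp
  refine ⟨gen, ⟨gen0, ?_, hgen.symm⟩, ?_⟩
  · show gen0 ^ p ^ (n + 1) = 1
    funext k
    simp only [gen0, Pi.pow_apply, Pi.one_apply]
    split_ifs with h
    · rw [← h, ← ofAdd_nsmul, nsmul_one, ZMod.natCast_self, ofAdd_zero]
    · rw [one_pow]
  rintro _ ⟨x, hx, rfl⟩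
  have hx' : ∀ k, x k ^ p ^ (n + 1) = 1 := fun k => congrFun (show x ^ p ^ (n + 1) = 1 from hx) k
  -- the part away from the layer is a higher power
  have hc : ∀ k, ∃ c : Multiplicative (ZMod (p ^ e k)), c ^ p ^ (n + 2) = 1 ∧
      (e k ≠ n + 1 → c ^ p ^ (n + 1) = x k ^ p ^ n) := by
    intro k
    rcases lt_trichotomy (e k) (n + 1) with h | h | h
    · exact ⟨1, one_pow _, fun _ => by rw [one_pow, hsmall k (by omega)]⟩
    · exact ⟨1, one_pow _, fun hne => absurd h hne⟩
    · obtain ⟨c, hc⟩ := exists_root hp (by omega) (x k) (hx' k)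
      refine ⟨c, ?_, fun _ => ?_⟩
      · rw [show n + 2 = (n + 1) + 1 from rfl, pow_succ', pow_mul, hc, hx']
      · rw [pow_succ', pow_mul, hc]
  choose c hc1 hc2 using hc
  let c' : (k : ι) → Multiplicative (ZMod (p ^ e k)) := fun k => if e k = n + 1 then 1 else c k
  have hc' : c' ^ p ^ (n + 1) ∈ omegaPow p ((k : ι) → Multiplicative (ZMod (p ^ e k))) (n + 1) := by
    refine ⟨c', ?_, rfl⟩
    show c' ^ p ^ (n + 2) = 1
    funext k
    simp only [c', Pi.pow_apply, Pi.one_apply]
    split_ifs <;> simp [hc1]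
  suffices h : ∃ m : ℕ, x ^ p ^ n = c' ^ p ^ (n + 1) * gen ^ m by
    obtain ⟨m, hm⟩ := h
    show x ^ p ^ n ∈ _
    rw [hm]
    exact mul_mem (Subgroup.mem_sup_left hc')
      (Subgroup.mem_sup_right (pow_mem (Subgroup.mem_zpowers gen) m))
  by_cases hk0 : ∃ k₀, e k₀ = n + 1
  · obtain ⟨k₀, hk₀⟩ := hk0
    refine ⟨(x k₀).toAdd.val, funext fun k => ?_⟩
    by_cases h : e k = n + 1
    · obtain rfl := he (h.trans hk₀.symm)
      have : NeZero (p ^ e k) := ⟨(pow_pos hp.pos _).ne'⟩
      simp only [Pi.pow_apply, Pi.mul_apply, c', gen, if_pos h, one_pow, one_mul]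
      rw [← pow_mul, mul_comm, pow_mul, ← ofAdd_nsmul _ (1 : ZMod (p ^ e k)), nsmul_one, ZMod.natCast_val,
        ZMod.cast_id, ofAdd_toAdd]
    · simp only [Pi.pow_apply, Pi.mul_apply, c', gen, if_neg h, one_pow, mul_one, hc2 k h]
  · refine ⟨0, funext fun k => ?_⟩
    have h : e k ≠ n + 1 := fun h => hk0 ⟨k, h⟩
    simp only [Pi.pow_apply, pow_zero, mul_one, c', if_neg h, hc2 k h]

theorem exists_layer_gen_equiv {G T : Type*} [CommGroup G] [CommGroup T] (φ : G ≃* T) {n : ℕ}
    (h : ∃ g ∈ omegaPow p T n, omegaPow p T n ≤ omegaPow p T (n + 1) ⊔ Subgroup.zpowers g) :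
    ∃ g ∈ omegaPow p G n, omegaPow p G n ≤ omegaPow p G (n + 1) ⊔ Subgroup.zpowers g := by
  obtain ⟨g, hg, hle⟩ := h
  refine ⟨φ.symm g, map_mem_omegaPow φ.symm.toMonoidHom hg, fun y hy => ?_⟩
  have h1 := hle (map_mem_omegaPow φ.toMonoidHom hy)
  have h2 : omegaPow p T (n + 1) ⊔ Subgroup.zpowers g ≤
      (omegaPow p G (n + 1) ⊔ Subgroup.zpowers (φ.symm g)).comap φ.symm.toMonoidHom :=
    sup_le (fun a ha => Subgroup.mem_sup_left (map_mem_omegaPow φ.symm.toMonoidHom ha))
      (Subgroup.zpowers_le.2 (Subgroup.mem_sup_right (Subgroup.mem_zpowers (φ.symm g))))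
  simpa using h2 h1

/-! ### The criterion -/

variable {Ω : Type u} [Group Ω] {S : Subgroup Ω}

/-- An automorphism of order prime to `p` of an abelian `p`-group fixing the elements of order `p`
is trivial. -/
theorem aut_eq_one_of_abelian {G : Type u} [CommGroup G] [Finite G] [Fact p.Prime] (hG : IsPGroup p G)
    {φ : MulAut G} (hφ : (orderOf φ).Coprime p) (hfix : ∀ z, z ^ p = 1 → φ z = z) : φ = 1 := by
  suffices h : ∀ (j : ℕ) (x : G), x ^ p ^ j = 1 → φ x = x from
    MulEquiv.ext fun x => (hG x).elim fun j hj => h j x hj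
  intro j
  induction j with
  | zero => intro x hx; rw [pow_zero, pow_one] at hx; rw [hx, map_one]
  | succ j ih =>
    intro x hx
    have h1 : φ (x ^ p) = x ^ p := ih _ (by rwa [← pow_mul, ← pow_succ'])
    refine aut_eq_one_of_displacement hG hφ (hfix _ ?_)
    rw [mul_pow, ← map_pow, h1, inv_pow, inv_mul_cancel]

/-- Coprime automorphisms of an abelian `p`-group with pairwise distinct invariants. -/
theorem aut_of_distinct [Finite S] [Fact p.Prime] (hS : IsPGroup p S) (hab : IsMulCommutative S)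
    (hgen : ∀ n, letI : CommGroup S := { (inferInstance : Group S) with mul_comm := hab.is_comm.comm };
      ∃ g ∈ omegaPow p S n, omegaPow p S n ≤ omegaPow p S (n + 1) ⊔ Subgroup.zpowers g)
    (H : Subgroup (MulAut S)) (hH : (Nat.card H).Coprime p) :
    IsMulCommutative H ∧ ∀ h ∈ H, h ^ (p - 1) = 1 := by
  letI : CommGroup S := { (inferInstance : Group S) with mul_comm := hab.is_comm.comm }
  obtain ⟨E, hE, hHE⟩ := exists_system_of_coprime hS H hH
  have hn : E.IsNormal S := isNormal_of_abelian p hS hE stronglyClosed_self hab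
  let W : ℕ → Subgroup Ω := fun n => (omegaPow p S n).map S.subtype
  have hWsc : ∀ n, E.StronglyClosed (W n) := by
    refine fun n => stronglyClosed_of_normal_S hn (Subgroup.map_subtype_le _) ?_
    rintro α - y ⟨y', hy', e⟩
    have e' : y' = y := Subtype.ext e
    exact ⟨α y', map_mem_omegaPow α.toMonoidHom hy', by rw [e']; rfl⟩
  obtain ⟨N, hN⟩ := IsPGroup.iff_card.1 hS
  have hser : ∀ d n, N ≤ n + d → PSeries p E (W n) := by
    intro d
    induction d with
    | zero =>
      intro n hNn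
      have : W n = ⊥ := by
        rw [eq_bot_iff]
        rintro _ ⟨y, ⟨x, -, rfl⟩, rfl⟩
        obtain ⟨m, hm⟩ := pow_dvd_pow p (show N ≤ n by omega)
        have h0 : x ^ (p ^ N) = 1 := by rw [← hN]; exact pow_card_eq_one'
        rw [Subgroup.mem_bot]
        show ((x ^ p ^ n : S) : Ω) = 1
        rw [hm, pow_mul, h0, one_pow, Subgroup.coe_one]
      rw [this]
      exact .bot
    | succ d ih =>
      intro n hNn
      obtain ⟨g, ⟨x, hx, hxg⟩, hle⟩ := hgen n
      have hgW : g ∈ omegaPow p S n := ⟨x, hx, hxg⟩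
      have hmono : omegaPow p S (n + 1) ≤ omegaPow p S n := by
        rintro _ ⟨a, ha, rfl⟩
        refine ⟨a ^ p, ?_, ?_⟩
        · show (a ^ p) ^ p ^ (n + 1) = 1
          rw [← pow_mul, ← pow_succ']
          exact ha
        · show (a ^ p) ^ p ^ n = a ^ p ^ (n + 1)
          rw [← pow_mul, ← pow_succ']
      have e : W n = W (n + 1) ⊔ Subgroup.zpowers (g : Ω) := by
        rw [show Subgroup.zpowers (g : Ω) = (Subgroup.zpowers g).map S.subtype from
          (MonoidHom.map_zpowers S.subtype g).symm, ← Subgroup.map_sup]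
        exact congrArg (Subgroup.map S.subtype)
          (le_antisymm hle (sup_le hmono (Subgroup.zpowers_le.2 hgW)))
      rw [e]
      refine PSeries.step (ih (n + 1) (by omega)) g.2 (e ▸ hWsc n) ?_ fun s hs => ?_
      · have : g ^ p = 1 := by
          have hx' : x ^ p ^ (n + 1) = 1 := hx
          rw [← hxg]
          show (x ^ p ^ n) ^ p = 1
          rw [← pow_mul, ← pow_succ, hx']
        rw [← Subgroup.coe_pow, this, Subgroup.coe_one]
        exact one_mem _
      · rw [show ⁅(g : Ω), s⁆ = ((⁅g, (⟨s, hs⟩ : S)⁆ : S) : Ω) from rfl,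
          commutatorElement_eq_one_iff_commute.2 (Commute.all _ _), Subgroup.coe_one]
        exact one_mem _
  have key : ∀ (γ : MulAut S) (hγ : γ ∈ H),
      (∀ ν : E.autGroup S →* (ZMod p)ˣ, ν ⟨γ, hHE hγ⟩ = 1) → γ = 1 := by
    intro γ hγ hν
    obtain ⟨k, hk⟩ := (hser N 0 (by omega)).exists_pow_fix hS hν
    have hc : (orderOf γ).Coprime p :=
      hH.coprime_dvd_left (Subgroup.orderOf_dvd_natCard H hγ)
    refine aut_eq_one_of_abelian hS hc fun z hz => ?_
    obtain ⟨m, hm⟩ := exists_pow_eq_self_of_coprime (hc.symm.pow_left k)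
    rw [← hm]
    have hfix : (γ ^ p ^ k) z = z := hk z ⟨z, ⟨z, by
      show z ^ p ^ (0 + 1) = 1
      rw [zero_add, pow_one, hz], by show z ^ p ^ 0 = z; rw [pow_zero, pow_one]⟩, rfl⟩
    clear hm
    induction m with
    | zero => rw [pow_zero, MulAut.one_apply]
    | succ m ihm => rw [pow_succ', MulAut.mul_apply, ihm, hfix]
  refine ⟨⟨⟨fun a b => ?_⟩⟩, fun a ha => ?_⟩
  · have := key (⁅a, b⁆ : H) (⁅a, b⁆ : H).2 fun ν => by
      rw [show (⟨((⁅a, b⁆ : H) : MulAut S), hHE (⁅a, b⁆ : H).2⟩ : E.autGroup S) =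
        ⁅Subgroup.inclusion hHE a, Subgroup.inclusion hHE b⁆ from rfl, map_commutatorElement,
        commutatorElement_eq_one_iff_commute]
      exact Commute.all _ _
    exact commutatorElement_eq_one_iff_commute.1 (Subtype.ext this : ⁅a, b⁆ = (1 : H))
  · refine key _ (pow_mem ha _) fun ν => ?_
    rw [show (⟨a ^ (p - 1), hHE (pow_mem ha _)⟩ : E.autGroup S) = ⟨a, hHE ha⟩ ^ (p - 1) from rfl,
      map_pow]
    exact ZMod.units_pow_card_sub_one_eq_one p _

/-- A factor `C × C` gives a forbidden group of automorphisms. -/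
theorem exists_bad_aut_of_factor [Finite S] [Fact p.Prime] {n : ℕ} (hn : 0 < n) {K : Type} [CommGroup K]
    (e : S ≃* (Multiplicative (ZMod (p ^ n)) × Multiplicative (ZMod (p ^ n))) × K) :
    ∃ H : Subgroup (MulAut S), (Nat.card H).Coprime p ∧
      ¬ (IsMulCommutative H ∧ ∀ h ∈ H, h ^ (p - 1) = 1) := by
  have hp := (Fact.out : p.Prime)
  have : NeZero (p ^ n) := ⟨(pow_pos hp.pos n).ne'⟩
  obtain ⟨H, hH, hbad⟩ := exists_bad_aut (p := p) (C := Multiplicative (ZMod (p ^ n)))
    (g := Multiplicative.ofAdd 1) (fun h => by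
      rw [← ofAdd_zero, Multiplicative.ofAdd.apply_eq_iff_eq, ← Nat.cast_one,
        ZMod.natCast_eq_zero_iff] at h
      exact absurd (Nat.le_of_dvd one_pos h) (not_le.2 (Nat.one_lt_pow hn.ne' hp.one_lt)))
    (fun hp2 h => by
      rw [← ofAdd_nsmul, nsmul_one, ← ofAdd_zero, Multiplicative.ofAdd.apply_eq_iff_eq,
        ZMod.natCast_eq_zero_iff] at h
      exact hp2 ((Nat.prime_dvd_prime_iff_eq hp Nat.prime_two).1 ((dvd_pow_self p hn.ne').trans h)))
  let Φ : MulAut (Multiplicative (ZMod (p ^ n)) × Multiplicative (ZMod (p ^ n))) →* MulAut S :=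
    (MulAut.congr e.symm).toMonoidHom.comp
      { toFun := fun a => a.prodCongr (MulEquiv.refl K)
        map_one' := rfl
        map_mul' := fun _ _ => rfl }
  have hΦ : Function.Injective Φ := by
    intro a b h
    refine MulEquiv.ext fun x => ?_
    have h1 := congrArg Prod.fst (DFunLike.congr_fun ((MulAut.congr e.symm).injective h) (x, 1))
    exact h1
  refine ⟨H.map Φ, ?_, fun ⟨hc, hx⟩ => hbad ⟨⟨⟨fun a b => ?_⟩⟩, fun a ha => ?_⟩⟩
  · rwa [Nat.card_congr (H.equivMapOfInjective Φ hΦ).symm.toEquiv]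
  · exact (H.equivMapOfInjective Φ hΦ).injective (by rw [map_mul, map_mul]; exact hc.is_comm.comm _ _)
  · exact hΦ (by rw [map_pow, map_one]; exact hx _ ⟨a, ha, rfl⟩)

/-- An abelian `p`-group is of supersoluble type iff its invariants are pairwise distinct. -/
theorem abelian_aut_iff [Finite S] [Fact p.Prime] (hS : IsPGroup p S) (hab : IsMulCommutative S) :
    (∀ H : Subgroup (MulAut S), (Nat.card H).Coprime p →
      IsMulCommutative H ∧ ∀ h ∈ H, h ^ (p - 1) = 1) ↔
    ¬ ∃ (n : ℕ) (K : Type) (_ : CommGroup K), 0 < n ∧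
      Nonempty (S ≃* (Multiplicative (ZMod (p ^ n)) × Multiplicative (ZMod (p ^ n))) × K) := by
  classical
  have hp := (Fact.out : p.Prime)
  constructor
  · rintro h ⟨n, K, _, hn, ⟨e⟩⟩
    obtain ⟨H, hH, hbad⟩ := exists_bad_aut_of_factor hn e
    exact hbad (h H hH)
  intro hno H hH
  refine aut_of_distinct hS hab (fun m => ?_) H hH
  letI : CommGroup S := { (inferInstance : Group S) with mul_comm := hab.is_comm.comm }
  obtain ⟨ι, hι, d, hd, ⟨φ⟩⟩ := CommGroup.equiv_prod_multiplicative_zmod_of_finite S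
  have hpow : ∀ i, ∃ k, d i = p ^ k := by
    intro i
    obtain ⟨k, hk⟩ := hS (φ.symm (Pi.mulSingle i (Multiplicative.ofAdd 1)))
    rw [← map_pow, map_eq_one_iff _ φ.symm.injective, ← Pi.mulSingle_pow,
      Pi.mulSingle_eq_one_iff, ← ofAdd_nsmul, nsmul_one, ← ofAdd_zero,
      Multiplicative.ofAdd.apply_eq_iff_eq, ZMod.natCast_eq_zero_iff] at hk
    obtain ⟨j, -, hj⟩ := (Nat.dvd_prime_pow hp).1 hk
    exact ⟨j, hj⟩
  choose e he using hpow
  obtain rfl : d = fun i => p ^ e i := funext he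
  refine exists_layer_gen_equiv φ (exists_layer_gen_pi hp (fun i j hij => ?_) m)
  by_contra hne
  let tr : ∀ {a b : ℕ}, a = b → Multiplicative (ZMod a) ≃* Multiplicative (ZMod b) :=
    fun h => (ZMod.ringEquivCongr h).toAddEquiv.toMultiplicative
  let P := (k : ι) → Multiplicative (ZMod (p ^ e k))
  let K := (k : {k : ι // k ≠ i ∧ k ≠ j}) → Multiplicative (ZMod (p ^ e k.1))
  have hji : p ^ e j = p ^ e i := by rw [hij]
  let f : P →* (Multiplicative (ZMod (p ^ e i)) × Multiplicative (ZMod (p ^ e i))) × K :=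
    { toFun := fun x => ((x i, tr hji (x j)), fun k => x k.1)
      map_one' := by ext <;> simp <;> rfl
      map_mul' := fun x y => by
        refine Prod.ext (Prod.ext rfl ?_) rfl
        exact map_mul (tr hji) (x j) (y j) }
  have hbij : Function.Bijective f := by
    refine ⟨fun x y h => funext fun k => ?_, fun y => ?_⟩
    · by_cases hki : k = i
      · subst hki; exact congrArg (fun z => z.1.1) h
      by_cases hkj : k = j
      · subst hkj; exact (tr hji).injective (congrArg (fun z => z.1.2) h)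
      exact congrFun (congrArg Prod.snd h) ⟨k, hki, hkj⟩
    · refine ⟨Function.update (Function.update (fun k => if h : k ≠ i ∧ k ≠ j then y.2 ⟨k, h⟩ else 1)
        j ((tr hji).symm y.1.2)) i y.1.1, Prod.ext (Prod.ext ?_ ?_) (funext fun k => ?_)⟩
      · simp only [f, MonoidHom.coe_mk, OneHom.coe_mk, Function.update_self]
      · simp only [f, MonoidHom.coe_mk, OneHom.coe_mk]
        rw [Function.update_of_ne (Ne.symm hne), Function.update_self, MulEquiv.apply_symm_apply]
      · show Function.update _ i _ k.1 = _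
        rw [Function.update_of_ne k.2.1, Function.update_of_ne k.2.2, dif_pos k.2]
  refine hno ⟨e i, K, inferInstance, ?_, ⟨φ.trans (MulEquiv.ofBijective f hbij)⟩⟩
  exact Nat.pos_of_ne_zero fun h0 => absurd (hd i) (by simp [h0])

end CfsgLib.Fusion
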