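import Cfsg.Agent.Transfer.Alperin

/-!
Alperin's fusion theorem with the normalizing factors taken to be `p`-elements, except for the
factors normalizing the Sylow subgroup itself.
-/

set_option autoImplicit false
set_option linter.style.haveILetI false
set_option linter.unusedSectionVars false

namespace CfsgLib.Fusion

open Subgroup Pointwise CfsgLib.Solvable CfsgLib.SZ

variable {G : Type*} [Group G] [Finite G] {p : ℕ} [hp : Fact p.Prime]

/-- As `Conn`, with `p`-elements as factors unless the tame partner is `P` itself. -/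
inductive PConn (P : Sylow p G) : Subgroup G → G → Prop
  | one (A : Subgroup G) : PConn P A 1
  | step (A : Subgroup G) (Q : Sylow p G) (x g : G) (hQ : IsTame P Q)
      (hA : A ≤ (P : Subgroup G) ⊓ Q)
      (hx : x ∈ normalizer (((P : Subgroup G) ⊓ Q : Subgroup G) : Set G))
      (hxp : (Q : Subgroup G) = (P : Subgroup G) ∨ ∃ k : ℕ, orderOf x = p ^ k)
      (h : PConn P (MulAut.conj x⁻¹ • A) g) : PConn P A (x * g)

variable {P : Sylow p G}

theorem PConn.mono {A : Subgroup G} {g : G} (h : PConn P A g) :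
    ∀ {A' : Subgroup G}, A' ≤ A → PConn P A' g := by
  induction h with
  | one A => exact fun _ => PConn.one _
  | step A Q x g hQ hA hx hxp _ ih =>
    exact fun hle => PConn.step _ Q x g hQ (hle.trans hA) hx hxp
      (ih (pointwise_smul_le_pointwise_smul_iff.2 hle))

theorem PConn.trans {A : Subgroup G} {g : G} (h : PConn P A g) :
    ∀ {k : G}, PConn P (MulAut.conj g⁻¹ • A) k → PConn P A (g * k) := by
  induction h with
  | one A => exact fun hk => by simpa using hk
  | step A Q x g hQ hA hx hxp _ ih =>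
    intro k hk
    rw [mul_assoc]
    refine PConn.step _ Q x _ hQ hA hx hxp (ih ?_)
    rwa [mul_inv_rev, conj_smul_mul] at hk

theorem PConn.single {A : Subgroup G} (Q : Sylow p G) {x : G} (hQ : IsTame P Q)
    (hA : A ≤ (P : Subgroup G) ⊓ Q)
    (hx : x ∈ normalizer (((P : Subgroup G) ⊓ Q : Subgroup G) : Set G))
    (hxp : (Q : Subgroup G) = (P : Subgroup G) ∨ ∃ k : ℕ, orderOf x = p ^ k) : PConn P A x := by
  simpa using PConn.step A Q x 1 hQ hA hx hxp (PConn.one _)

/-- The elements of the normalizer of `D` moving `D` through `p`-element steps. -/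
def pMovers (P : Sylow p G) (D : Subgroup G) : Submonoid G where
  carrier := {x | x ∈ normalizer (D : Set G) ∧ PConn P D x}
  one_mem' := ⟨one_mem _, PConn.one _⟩
  mul_mem' := by
    rintro x y ⟨hx, hx'⟩ ⟨hy, hy'⟩
    refine ⟨mul_mem hx hy, hx'.trans ?_⟩
    rwa [conj_smul_eq_iff_mem_normalizer.2 (inv_mem hx)]

theorem pMovers_inv {D : Subgroup G} {x : G} (hx : x ∈ pMovers P D) : x⁻¹ ∈ pMovers P D := by
  rw [inv_eq_of_mul_eq_one_left (a := x ^ (orderOf x - 1)) (b := x)
    (by rw [← pow_succ, Nat.sub_add_cancel (orderOf_pos x), pow_orderOf_eq_one])]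
  exact pow_mem hx _

theorem pConn_normalizer (n : ℕ) : ∀ (Q : Sylow p G) (x : G),
    Nat.card P - Nat.card ↥((P : Subgroup G) ⊓ Q) = n → IsTame P Q →
      x ∈ normalizer (((P : Subgroup G) ⊓ Q : Subgroup G) : Set G) →
      PConn P ((P : Subgroup G) ⊓ Q) x := by
  induction n using Nat.strongRecOn with | ind n ih => ?_
  rintro Q x rfl hQ hx
  by_cases hQP : (Q : Subgroup G) = (P : Subgroup G)
  · exact PConn.single Q hQ le_rfl hx (Or.inl hQP)
  set D := (P : Subgroup G) ⊓ Q with hD
  have hlt : D < P := by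
    refine lt_of_le_of_ne inf_le_left fun h => hQP (eq_of_le_of_card_ge ?_ ?_).symm
    · exact h.ge.trans inf_le_right
    · exact le_of_eq (Sylow.card_eq_multiplicity Q |>.trans (Sylow.card_eq_multiplicity P).symm)
  have hTgt := lt_inf_normalizer P.2 hlt
  set N := normalizer (D : Set G) with hN
  set T := (P : Subgroup G) ⊓ N with hT
  -- everything above `D` is already known
  have hbig : ∀ (A : Subgroup G) (g : G), Conn P A g → Nat.card D < Nat.card A → PConn P A g := by
    intro A g hC
    induction hC with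
    | one A => exact fun _ => PConn.one _
    | step A R y g hR hA hy _ ihg =>
      intro hcard
      refine PConn.trans ((ih _ ?_ R y rfl hR hy).mono hA) (ihg ?_)
      · have h1 : Nat.card A ≤ Nat.card ↥((P : Subgroup G) ⊓ R) := card_le_of_le hA
        have h2 : Nat.card ↥((P : Subgroup G) ⊓ R) ≤ Nat.card P := card_le_of_le inf_le_left
        omega
      · rwa [card_conj_smul]
  let S : Sylow p N := ((P.2.to_le inf_le_left : IsPGroup p T).comap_subtype (K := N)).toSylow hQ.1
  set L : Subgroup N := closure {y : N | ∃ k, orderOf y = p ^ k} with hL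
  haveI : L.Normal := by
    rw [hL]
    refine ⟨fun y hy g => ?_⟩
    have hmap : (closure {y : N | ∃ k, orderOf y = p ^ k}).map (MulAut.conj g).toMonoidHom ≤
        closure {y : N | ∃ k, orderOf y = p ^ k} := by
      rw [MonoidHom.map_closure, closure_le]
      rintro _ ⟨z, ⟨k, hk⟩, rfl⟩
      exact subset_closure ⟨k, by rw [← hk]; exact (MulAut.conj g).orderOf_eq z⟩
    exact hmap ⟨y, hy, rfl⟩
  have hSL : (S : Subgroup N) ≤ L := fun y hy => subset_closure (by
    obtain ⟨k, hk⟩ := S.2 ⟨y, hy⟩
    obtain ⟨j, -, hj⟩ := (Nat.dvd_prime_pow hp.out).1 (orderOf_dvd_of_pow_eq_one hk)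
    exact ⟨j, by rw [← Subgroup.orderOf_coe] at hj; exact hj⟩)
  let M : Subgroup N :=
    { carrier := {y | (y : G) ∈ pMovers P D}
      one_mem' := (pMovers P D).one_mem
      mul_mem' := fun ha hb => (pMovers P D).mul_mem ha hb
      inv_mem' := fun ha => pMovers_inv ha }
  have htop : M = ⊤ := by
    rw [eq_top_iff, ← Sylow.normalizer_sup_eq_top' S hSL, sup_le_iff]
    constructor
    · intro m hm
      refine ⟨m.2, (hbig T m (alperin inf_le_left ?_) (card_lt_of_lt hTgt)).mono hTgt.le⟩
      rintro _ ⟨t, ht, rfl⟩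
      have := (mem_normalizer_iff.1 (inv_mem hm) ⟨t, ht.2⟩).1
        (show (⟨t, ht.2⟩ : N) ∈ (S : Subgroup N) from ht)
      exact (show _ ∈ T from this).1
    · rw [hL, closure_le]
      rintro y ⟨k, hk⟩
      exact ⟨y.2, PConn.single Q hQ le_rfl y.2 (Or.inr ⟨k, by rw [Subgroup.orderOf_coe]; exact hk⟩)⟩
  have : (⟨x, hx⟩ : N) ∈ M := htop ▸ mem_top _
  exact this.2

theorem pConn_of_conn {A : Subgroup G} {g : G} (h : Conn P A g) : PConn P A g := by
  induction h with
  | one A => exact PConn.one _
  | step A Q x g hQ hA hx _ ih => exact PConn.trans ((pConn_normalizer _ Q x rfl hQ hx).mono hA) ih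

/-- Conversion to lists. -/
theorem PConn.exists_fin {A : Subgroup G} {g : G} (h : PConn P A g) :
    ∃ (n : ℕ) (Q : Fin n → Sylow p G) (x : Fin n → G), (List.ofFn x).prod = g ∧
      (∀ i, x i ∈ normalizer (((P : Subgroup G) ⊓ Q i : Subgroup G) : Set G) ∧ IsTame P (Q i) ∧
        ((Q i : Subgroup G) = (P : Subgroup G) ∨ ∃ k : ℕ, orderOf (x i) = p ^ k)) ∧
      ∀ i : Fin n, MulAut.conj ((List.ofFn x).take i.val).prod⁻¹ • A ≤ (P : Subgroup G) ⊓ Q i := by
  induction h with
  | one A => exact ⟨0, Fin.elim0, Fin.elim0, by simp, fun i => i.elim0, fun i => i.elim0⟩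
  | step A Q x g hQ hA hx hxp _ ih =>
    obtain ⟨n, Qs, xs, hprod, hxs, hchain⟩ := ih
    refine ⟨n + 1, Fin.cons Q Qs, Fin.cons x xs, ?_, ?_, ?_⟩
    · rw [List.ofFn_cons, List.prod_cons, hprod]
    · exact Fin.cases ⟨by simpa using hx, by simpa using hQ, by simpa using hxp⟩
        (fun i => by simpa using hxs i)
    · refine Fin.cases (by simpa using hA) fun i => ?_
      rw [List.ofFn_cons, Fin.val_succ, List.take_succ_cons, List.prod_cons, Fin.cons_succ,
        mul_inv_rev, conj_smul_mul]
      exact hchain i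

end CfsgLib.Fusion
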