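import Cfsg.Agent.Fusion.AltSplit
import Mathlib.GroupTheory.Sylow

/-!
In an alternating group of degree at least `p²` and at least six, the fusion closure of a nontrivial
`p`-element contains the whole Sylow subgroup.
-/

set_option autoImplicit false
set_option linter.unusedSectionVars false

namespace CfsgLib.Fusion.AltChar

open Equiv Equiv.Perm Subgroup

variable {α : Type*} [Fintype α] [DecidableEq α] {p : ℕ} [Fact p.Prime]

/-- All fusions of `y` into `P` lie in `T`. -/
def Good (P T : Subgroup (Perm α)) (y : Perm α) : Prop :=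
  ∀ g ∈ alternatingGroup α, g * y * g⁻¹ ∈ P → g * y * g⁻¹ ∈ T

/-- The closure hypothesis: `P` is a Sylow subgroup of the alternating group and `T` strongly closed. -/
structure Closed (p : ℕ) (P T : Subgroup (Perm α)) : Prop where
  le : P ≤ alternatingGroup α
  conj : ∀ Q : Subgroup (Perm α), IsPGroup p Q → Q ≤ alternatingGroup α →
    ∃ k ∈ alternatingGroup α, ∀ x ∈ Q, k * x * k⁻¹ ∈ P
  closed : ∀ t ∈ T, ∀ g ∈ alternatingGroup α, g * t * g⁻¹ ∈ P → g * t * g⁻¹ ∈ T

variable {P T : Subgroup (Perm α)}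

theorem good_of_mem (H : Closed p P T) {y k : Perm α} (hk : k ∈ alternatingGroup α)
    (hy : k * y * k⁻¹ ∈ T) : Good P T y := fun g hg hgy => by
  have e : g * k⁻¹ * (k * y * k⁻¹) * (g * k⁻¹)⁻¹ = g * y * g⁻¹ := by group
  rw [← e] at hgy ⊢
  exact H.closed _ hy _ (mul_mem hg (inv_mem hk)) hgy

theorem good_mul (H : Closed p P T) {Q : Subgroup (Perm α)} (hQ : IsPGroup p Q)
    (hQA : Q ≤ alternatingGroup α) {x y : Perm α} (hx : x ∈ Q) (hy : y ∈ Q) (gx : Good P T x)
    (gy : Good P T y) : Good P T (x * y) := by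
  obtain ⟨k, hk, hkQ⟩ := H.conj Q hQ hQA
  refine good_of_mem H hk ?_
  rw [show k * (x * y) * k⁻¹ = (k * x * k⁻¹) * (k * y * k⁻¹) by group]
  exact mul_mem (gx k hk (hkQ x hx)) (gy k hk (hkQ y hy))

theorem good_inv (H : Closed p P T) {x : Perm α} {k : ℕ} (hxk : x ^ p ^ k = 1)
    (hx : x ∈ alternatingGroup α) (gx : Good P T x) : Good P T x⁻¹ := by
  have hQ : IsPGroup p (Subgroup.zpowers x) := by
    obtain ⟨j, -, hj⟩ := (Nat.dvd_prime_pow Fact.out).1 (orderOf_dvd_of_pow_eq_one hxk)
    exact IsPGroup.of_card (n := j) (by rw [Nat.card_zpowers, hj])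
  obtain ⟨g, hg, hgQ⟩ := H.conj _ hQ (Subgroup.zpowers_le.2 hx)
  refine good_of_mem H hg ?_
  rw [show g * x⁻¹ * g⁻¹ = (g * x * g⁻¹)⁻¹ by group]
  exact inv_mem (gx g hg (hgQ x (Subgroup.mem_zpowers x)))

theorem good_one : Good P T (1 : Perm α) := fun g _ _ => by
  rw [mul_one, mul_inv_cancel]; exact one_mem _

theorem good_conj (H : Closed p P T) {x g : Perm α} {k : ℕ} (hxk : x ^ p ^ k = 1)
    (hx : x ∈ alternatingGroup α) (hg : g ∈ alternatingGroup α) (gx : Good P T x) :
    Good P T (g * x * g⁻¹) := fun h hh hm => by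
  have := gx (h * g) (mul_mem hh hg) (by simpa [mul_assoc] using hm)
  simpa [mul_assoc] using this

/-- The group of two commuting elements of `p`-power order. -/
theorem pair_group {x y : Perm α} {k : ℕ} (hxy : Commute x y) (hx : x ^ p ^ k = 1) (hy : y ^ p ^ k = 1)
    (hxA : x ∈ alternatingGroup α) (hyA : y ∈ alternatingGroup α) :
    ∃ Q : Subgroup (Perm α), IsPGroup p Q ∧ Q ≤ alternatingGroup α ∧ x ∈ Q ∧ y ∈ Q := by
  refine ⟨Subgroup.closure {x, y}, ?_, ?_, Subgroup.subset_closure (by simp),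
    Subgroup.subset_closure (by simp)⟩
  · rintro ⟨w, hw⟩
    refine ⟨k, Subtype.ext ?_⟩
    show w ^ p ^ k = 1
    have hcc : IsMulCommutative (Subgroup.closure ({x, y} : Set (Perm α))) :=
      Subgroup.isMulCommutative_closure (by
        rintro a (rfl | rfl) b (rfl | rfl)
        exacts [rfl, hxy.eq, hxy.eq.symm, rfl])
    induction hw using Subgroup.closure_induction with
    | mem w hw => rcases hw with rfl | rfl <;> assumption
    | one => exact one_pow _
    | mul a b ha hb ha' hb' =>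
      have : Commute a b :=
        congrArg Subtype.val (mul_comm' (⟨a, ha⟩ : Subgroup.closure ({x, y} : Set (Perm α))) ⟨b, hb⟩)
      rw [this.mul_pow, ha', hb', one_mul]
    | inv a ha ha' => rw [inv_pow, ha', inv_one]
  · rw [Subgroup.closure_le]
    rintro w (rfl | rfl) <;> assumption

theorem good_mul_comm (H : Closed p P T) {x y : Perm α} {k : ℕ} (hxy : Commute x y)
    (hx : x ^ p ^ k = 1) (hy : y ^ p ^ k = 1) (hxA : x ∈ alternatingGroup α)
    (hyA : y ∈ alternatingGroup α) (gx : Good P T x) (gy : Good P T y) : Good P T (x * y) := by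
  obtain ⟨Q, hQ, hQA, hxQ, hyQ⟩ := pair_group hxy hx hy hxA hyA
  exact good_mul H hQ hQA hxQ hyQ gx gy

/-- Elements of one cycle type are fused. -/
theorem good_of_cycleType (H : Closed p P T) {x y : Perm α} {k : ℕ} (hxk : x ^ p ^ k = 1)
    (hx : x ∈ alternatingGroup α) (hy : y ∈ alternatingGroup α) (h : x.cycleType = y.cycleType)
    (hsupp : x.support.card + 2 ≤ Fintype.card α) (gx : Good P T x) : Good P T y := by
  obtain ⟨g, hg⟩ := isConj_iff.1 (alternatingGroup.isConj_of (σ := ⟨x, hx⟩) (τ := ⟨y, hy⟩)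
    (Perm.isConj_of_cycleType_eq h) hsupp)
  rw [← show (g : Perm α) * x * (g : Perm α)⁻¹ = y from congrArg Subtype.val hg]
  exact good_conj H hxk hx g.2 gx

theorem mem_alt_of_odd (hp : Odd p) {x : Perm α} {k : ℕ} (hx : x ^ p ^ k = 1) :
    x ∈ alternatingGroup α := by
  rw [Perm.mem_alternatingGroup]
  have h1 : sign x ^ p ^ k = 1 := by rw [← map_pow, hx, map_one]
  rcases Int.units_eq_one_or (sign x) with h | h
  · exact h
  · rw [h, hp.pow.neg_one_pow] at h1
    exact absurd h1 (by decide)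

theorem card_support_of_pow {x : Perm α} (hx : x.IsCycle) (hxp : x ^ p = 1) : x.support.card = p := by
  rw [← hx.orderOf]; exact orderOf_eq_prime hxp hx.ne_one

/-- Inverting a cycle inside its support. -/
theorem exists_invert {c : Perm α} (hc : c.IsCycle) :
    ∃ g : Perm α, g.support ⊆ c.support ∧ g * c * g⁻¹ = c⁻¹ := by
  obtain ⟨k, hk⟩ := isConj_iff.1 (Perm.isConj_of_cycleType_eq (σ := c) (τ := c⁻¹) (by rw [cycleType_inv]))
  have hs : ∀ x, x ∈ c.support ↔ k x ∈ c.support := fun x => by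
    have h1 := congrArg Perm.support hk
    rw [support_inv, support_conj] at h1
    conv_rhs => rw [← h1]
    simp
  refine ⟨Perm.ofSubtype (k.subtypePerm (p := (· ∈ c.support)) fun x => (hs x).symm), ?_, ?_⟩
  · intro x hx
    by_contra hxc
    exact mem_support.1 hx (Perm.ofSubtype_apply_of_not_mem _ hxc)
  · set g := Perm.ofSubtype (k.subtypePerm (p := (· ∈ c.support)) fun x => (hs x).symm) with hg
    have hin : ∀ x ∈ c.support, g x = k x := fun x hx => by
      rw [hg, Perm.ofSubtype_apply_of_mem _ hx]; rfl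
    have hout : ∀ x ∉ c.support, g x = x := fun x hx => Perm.ofSubtype_apply_of_not_mem _ hx
    rw [mul_inv_eq_iff_eq_mul]
    refine Equiv.ext fun x => ?_
    rw [Perm.mul_apply, Perm.mul_apply]
    by_cases hx : x ∈ c.support
    · rw [hin x hx, hin (c x) (apply_mem_support.2 hx), ← hk]
      simp
    · rw [hout x hx, notMem_support.1 hx, hout x hx]
      symm
      rw [Perm.inv_eq_iff_eq]
      exact (notMem_support.1 hx).symm

theorem isCycle_swap_card {x : Perm α} (hx : x.IsCycle) (hxp : x ^ 2 = 1) :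
    sign x = -1 ∧ x.support.card = 2 := by
  haveI : Fact (Nat.Prime 2) := ⟨Nat.prime_two⟩
  have h := card_support_of_pow hx hxp
  exact ⟨by rw [hx.sign, h]; decide, h⟩

/-- For odd `p`, some `p`-cycle is good. -/
theorem exists_good_cycle (H : Closed p P T) (hp : Odd p) (hn : p ^ 2 ≤ Fintype.card α) {x : Perm α}
    (hx1 : x ≠ 1) (hxp : x ^ p = 1) (gx : Good P T x) :
    ∃ c : Perm α, c.IsCycle ∧ c ^ p = 1 ∧ Good P T c := by
  classical
  by_cases hcyc : x.IsCycle
  · exact ⟨x, hcyc, hxp, gx⟩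
  obtain ⟨a, ha⟩ : x.support.Nonempty :=
    Finset.nonempty_iff_ne_empty.2 fun e => hx1 (Perm.support_eq_empty_iff.1 e)
  set c1 := x.cycleOf a with hc1
  have hc1f : c1 ∈ x.cycleFactorsFinset := cycleOf_mem_cycleFactorsFinset_iff.2 ha
  set y := x * c1⁻¹ with hy
  have hdisj : Perm.Disjoint y c1 := disjoint_mul_inv_of_mem_cycleFactorsFinset hc1f
  have hy1 : y ≠ 1 := fun e => hcyc (by
    rw [mul_inv_eq_one] at e
    rw [e]
    exact isCycle_cycleOf x (mem_support.1 ha))
  obtain ⟨b, hb⟩ : y.support.Nonempty :=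
    Finset.nonempty_iff_ne_empty.2 fun e => hy1 (Perm.support_eq_empty_iff.1 e)
  set c2 := y.cycleOf b with hc2
  have hc2f : c2 ∈ y.cycleFactorsFinset := cycleOf_mem_cycleFactorsFinset_iff.2 hb
  set z := y * c2⁻¹ with hz
  have hdisj2 : Perm.Disjoint z c2 := disjoint_mul_inv_of_mem_cycleFactorsFinset hc2f
  have hc1c : c1.IsCycle := isCycle_cycleOf x (mem_support.1 ha)
  have hc2c : c2.IsCycle := isCycle_cycleOf y (mem_support.1 hb)
  have hsy : y = z * c2 := by rw [hz, inv_mul_cancel_right]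
  have hsupp_y : y.support = z.support ∪ c2.support := by rw [hsy, hdisj2.support_mul]
  have h12 : Perm.Disjoint c1 c2 := Perm.disjoint_iff_disjoint_support.2
    ((Perm.disjoint_iff_disjoint_support.1 hdisj).symm.mono_right
      (by rw [hsupp_y]; exact Finset.subset_union_right))
  have h1z : Perm.Disjoint c1 z := Perm.disjoint_iff_disjoint_support.2
    ((Perm.disjoint_iff_disjoint_support.1 hdisj).symm.mono_right
      (by rw [hsupp_y]; exact Finset.subset_union_left))
  have hxe : x = z * (c1 * c2) := by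
    rw [h12.commute.eq, ← mul_assoc, ← hsy, hy, inv_mul_cancel_right]
  have hc1p : c1 ^ p = 1 ∧ y ^ p = 1 := by
    have h := hxp
    rw [show x = y * c1 by rw [hy, inv_mul_cancel_right], hdisj.commute.mul_pow] at h
    exact ((hdisj.pow_disjoint_pow p p).mul_eq_one_iff.1 h).symm
  have hc2p : c2 ^ p = 1 ∧ z ^ p = 1 := by
    have h := hc1p.2
    rw [hsy, hdisj2.commute.mul_pow] at h
    exact ((hdisj2.pow_disjoint_pow p p).mul_eq_one_iff.1 h).symm
  obtain ⟨g1, hg1s, hg1⟩ := exists_invert hc1c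
  obtain ⟨h, hh⟩ := isConj_iff.1 (hc1c.isConj hc2c (by
    rw [card_support_of_pow hc1c hc1p.1, card_support_of_pow hc2c hc2p.1]))
  set g2 := h * g1 * h⁻¹ with hg2
  have hg2c : g2 * c2 * g2⁻¹ = c2⁻¹ := by
    rw [hg2, ← hh]
    calc h * g1 * h⁻¹ * (h * c1 * h⁻¹) * (h * g1 * h⁻¹)⁻¹ = h * (g1 * c1 * g1⁻¹) * h⁻¹ := by group
      _ = (h * c1 * h⁻¹)⁻¹ := by rw [hg1]; group
  have hg2s : g2.support ⊆ c2.support := by
    rw [hg2, ← hh, support_conj, support_conj]
    exact Finset.map_subset_map.2 hg1s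
  have hcomm : ∀ {u v u' v' : Perm α}, u.support ⊆ u'.support → v.support ⊆ v'.support →
      Perm.Disjoint u' v' → Commute u v := fun hu hv hd =>
    (Perm.disjoint_iff_disjoint_support.2
      ((Perm.disjoint_iff_disjoint_support.1 hd).mono hu hv)).commute
  have hgA : g1 * g2 ∈ alternatingGroup α := by
    rw [Perm.mem_alternatingGroup, map_mul, hg2, map_mul, map_mul, map_inv]
    rcases Int.units_eq_one_or (sign h) with e1 | e1 <;> rcases Int.units_eq_one_or (sign g1) with e2 | e2 <;>
      simp [e1, e2]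
  set g := g1 * g2
  have hgx : g * x * g⁻¹ = z * (c1⁻¹ * c2⁻¹) := by
    have hz1 : Commute g1 z := hcomm hg1s (subset_refl _) h1z
    have hz2 : Commute g2 z := hcomm hg2s (subset_refl _) hdisj2.symm
    have h21 : Commute g2 c1 := hcomm hg2s (subset_refl _) h12.symm
    have hc12 : Commute g1 c2⁻¹ := (hcomm hg1s (subset_refl _) h12).inv_right
    have e1 : g * z * g⁻¹ = z := by rw [(hz1.mul_left hz2).eq, mul_inv_cancel_right]
    have e2 : g * c1 * g⁻¹ = c1⁻¹ := by
      calc g * c1 * g⁻¹ = g1 * (g2 * c1 * g2⁻¹) * g1⁻¹ := by simp only [g]; group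
        _ = c1⁻¹ := by rw [h21.eq, mul_inv_cancel_right, hg1]
    have e3 : g * c2 * g⁻¹ = c2⁻¹ := by
      calc g * c2 * g⁻¹ = g1 * (g2 * c2 * g2⁻¹) * g1⁻¹ := by simp only [g]; group
        _ = c2⁻¹ := by rw [hg2c, hc12.eq, mul_inv_cancel_right]
    calc g * x * g⁻¹ = (g * z * g⁻¹) * ((g * c1 * g⁻¹) * (g * c2 * g⁻¹)) := by rw [hxe]; group
      _ = _ := by rw [e1, e2, e3]
  set w := c1 * c2 with hw
  have hw' : c1⁻¹ * c2⁻¹ = w⁻¹ := by rw [hw, _root_.mul_inv_rev, h12.commute.inv_inv.eq]
  have hwp : w ^ p = 1 := by rw [hw, h12.commute.mul_pow, hc1p.1, hc2p.1, one_mul]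
  have hzw : Commute z w := (h1z.symm.commute.mul_right hdisj2.commute)
  have hA : ∀ {u : Perm α}, u ^ p = 1 → u ∈ alternatingGroup α := fun hu =>
    mem_alt_of_odd (p := p) hp (k := 1) (by rwa [pow_one])
  have hgx1 : (g * x * g⁻¹) ^ p ^ 1 = 1 := by rw [pow_one, conj_pow, hxp, mul_one, mul_inv_cancel]
  have gw2 : Good P T (w * w) := by
    have h1 := good_mul_comm H (k := 1) (x := x) (y := (g * x * g⁻¹)⁻¹) (by
      rw [hgx, hw', hxe]
      exact ((((Commute.refl z).mul_left hzw.symm).mul_right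
        ((hzw.mul_left (Commute.refl w)).inv_right)).inv_right))
      (by rwa [pow_one]) (by rw [inv_pow, hgx1, inv_one]) (hA hxp) (inv_mem (hA (by simpa using hgx1)))
      gx (good_inv H hgx1 (hA (by simpa using hgx1)) (good_conj H (k := 1) (by rwa [pow_one])
        (hA hxp) hgA gx))
    rwa [hgx, hw', hxe, _root_.mul_inv_rev, inv_inv, show z * w * (w * z⁻¹) = z * (w * w) * z⁻¹ by group,
      (hzw.mul_right hzw).eq, mul_inv_cancel_right] at h1
  have hpows : ∀ j : ℕ, Good P T ((w * w) ^ j) := by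
    intro j
    induction j with
    | zero => exact good_one
    | succ j ih =>
      rw [pow_succ]
      refine good_mul_comm H (k := 1) (Commute.pow_self _ j) ?_ ?_ ?_ ?_ ih gw2
      · rw [pow_one, ← pow_mul, mul_comm, pow_mul, (Commute.refl w).mul_pow, hwp, one_mul, one_pow]
      · rw [pow_one, (Commute.refl w).mul_pow, hwp, one_mul]
      · exact pow_mem (mul_mem (hA hwp) (hA hwp)) j
      · exact mul_mem (hA hwp) (hA hwp)
  have gw : Good P T w := by
    obtain ⟨j, hj⟩ := hp
    have := hpows (j + 1)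
    rwa [← pow_two, ← pow_mul, show 2 * (j + 1) = p + 1 by omega, pow_succ, hwp, one_mul] at this
  set w' := c1 * c2⁻¹ with hw'def
  have hw'p : w' ^ p = 1 := by
    rw [hw'def, h12.commute.inv_right.mul_pow, hc1p.1, inv_pow, hc2p.1, inv_one, one_mul]
  have gw' : Good P T w' := by
    refine good_of_cycleType H (k := 1) (by rwa [pow_one]) (hA hwp) (hA hw'p) ?_ ?_ gw
    · rw [hw, hw'def, h12.cycleType_mul, h12.inv_right.cycleType_mul, cycleType_inv]
    · rw [hw, h12.card_support_mul, card_support_of_pow hc1c hc1p.1, card_support_of_pow hc2c hc2p.1]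
      have : 3 ≤ p := by
        have := (Fact.out : p.Prime).two_le
        obtain ⟨j, hj⟩ := hp
        omega
      nlinarith
  have gc : Good P T (c1 ^ 2) := by
    have h1 := good_mul_comm H (k := 1) (x := w) (y := w')
      (((Commute.refl c1).mul_left h12.commute.symm).mul_right
        (h12.commute.inv_right.mul_left (Commute.refl c2).inv_right))
      (by rwa [pow_one]) (by rwa [pow_one]) (hA hwp) (hA hw'p) gw gw'
    rwa [hw, hw'def, mul_assoc c1 c2, ← mul_assoc c2, h12.commute.symm.eq, mul_assoc c1 c2,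
      mul_inv_cancel, mul_one, ← pow_two] at h1
  refine ⟨c1 ^ 2, ?_, by rw [← pow_mul, mul_comm, pow_mul, hc1p.1, one_pow], gc⟩
  refine (hc1c.pow_iff).2 ?_
  rw [hc1c.orderOf, card_support_of_pow hc1c hc1p.1]
  exact Nat.coprime_two_left.2 hp

/-- For `p = 2`, some product of two transpositions is good. -/
theorem exists_good_double (H : Closed 2 P T) {x : Perm α} (hx1 : x ≠ 1) (hxp : x ^ 2 = 1)
    (hxA : x ∈ alternatingGroup α) (gx : Good P T x) :
    ∃ u : Perm α, u ∈ alternatingGroup α ∧ u ^ 2 = 1 ∧ u.cycleType = {2, 2} ∧ Good P T u := by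
  classical
  haveI : Fact (Nat.Prime 2) := ⟨Nat.prime_two⟩
  have hone : ∀ y : Perm α, y ^ 2 = 1 → y ≠ 1 → ∃ a, y a ≠ a ∧ y = y * (Equiv.swap a (y a)) * Equiv.swap a (y a) ∧
      Perm.Disjoint (y * Equiv.swap a (y a)) (Equiv.swap a (y a)) ∧
      (y * Equiv.swap a (y a)) ^ 2 = 1 := by
    intro y hy hy1
    obtain ⟨a, ha⟩ : y.support.Nonempty :=
      Finset.nonempty_iff_ne_empty.2 fun e => hy1 (Perm.support_eq_empty_iff.1 e)
    have haa : y (y a) = a := by rw [← Perm.mul_apply, ← pow_two, hy, Perm.one_apply]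
    have hd : Perm.Disjoint (y * Equiv.swap a (y a)) (Equiv.swap a (y a)) := fun w => by
      by_cases h1 : w = a
      · left; rw [h1, Perm.mul_apply, Equiv.swap_apply_left, haa]
      · by_cases h2 : w = y a
        · left; rw [h2, Perm.mul_apply, Equiv.swap_apply_right]
        · right; exact Equiv.swap_apply_of_ne_of_ne h1 h2
    have he : y = y * Equiv.swap a (y a) * Equiv.swap a (y a) := by
      rw [mul_assoc, Equiv.swap_mul_self, mul_one]
    refine ⟨a, mem_support.1 ha, he, hd, ?_⟩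
    have h := hy
    rw [he, hd.commute.mul_pow] at h
    exact ((hd.pow_disjoint_pow 2 2).mul_eq_one_iff.1 h).1
  obtain ⟨a, ha, ea, hda, hy⟩ := hone x hxp hx1
  set t1 := Equiv.swap a (x a) with ht1
  set y := x * t1
  have ht1c : t1.IsCycle := Perm.isCycle_swap (Ne.symm ha)
  have hy1 : y ≠ 1 := fun e => by
    have hs : sign x = -1 := by rw [ea, e, one_mul, ht1, sign_swap (Ne.symm ha)]
    rw [Perm.mem_alternatingGroup.1 hxA] at hs
    exact absurd hs (by decide)
  obtain ⟨b, hb, eb, hdb, hz⟩ := hone y hy hy1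
  set t2 := Equiv.swap b (y b) with ht2
  set z := y * t2
  have hd12 : Perm.Disjoint t1 t2 := Perm.disjoint_iff_disjoint_support.2
    ((Perm.disjoint_iff_disjoint_support.1 hda).symm.mono_right (fun w hw => by
      rw [eb, hdb.support_mul]; exact Finset.mem_union_right _ hw))
  have hd1z : Perm.Disjoint t1 z := Perm.disjoint_iff_disjoint_support.2
    ((Perm.disjoint_iff_disjoint_support.1 hda).symm.mono_right (fun w hw => by
      rw [eb, hdb.support_mul]; exact Finset.mem_union_left _ hw))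
  have hct : (t1 * t2).cycleType = {2, 2} := by
    rw [hd12.cycleType_mul, ht1c.cycleType, (Perm.isCycle_swap (Ne.symm hb)).cycleType,
      Perm.card_support_swap (Ne.symm ha), Perm.card_support_swap (Ne.symm hb)]
    rfl
  have hsq : ∀ c d : α, Equiv.swap c d ^ 2 = 1 := fun c d => by rw [pow_two, Equiv.swap_mul_self]
  have hu2 : (t1 * t2) ^ 2 = 1 := by rw [hd12.commute.mul_pow, hsq, hsq, one_mul]
  have huA : t1 * t2 ∈ alternatingGroup α := by
    rw [Perm.mem_alternatingGroup, map_mul, sign_swap (Ne.symm ha), sign_swap (Ne.symm hb)]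
    decide
  have hxe : x = z * (t1 * t2) := by
    rw [hd12.commute.eq, ← mul_assoc, ← eb, ← ea]
  by_cases hz1 : z = 1
  · exact ⟨t1 * t2, huA, hu2, hct, by rwa [hxe, hz1, one_mul] at gx⟩
  obtain ⟨c, hc, ec, hdc, hw⟩ := hone z hz hz1
  set t3 := Equiv.swap c (z c) with ht3
  have hz2 : Perm.Disjoint t2 z := hdb.symm
  have ht3z : t3.support ⊆ z.support := fun w hw => by
    rw [ec, hdc.support_mul]; exact Finset.mem_union_right _ hw
  -- the four points
  have hmem1 : ∀ {w : α}, w = a ∨ w = x a → w ∈ t1.support := fun hw => by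
    rw [ht1, Perm.support_swap (Ne.symm ha)]; simpa using hw
  have hmem2 : ∀ {w : α}, w = b ∨ w = y b → w ∈ t2.support := fun hw => by
    rw [ht2, Perm.support_swap (Ne.symm hb)]; simpa using hw
  have hne12 : ∀ {u v : α}, u ∈ t1.support → v ∈ t2.support → u ≠ v := fun hu hv e =>
    Finset.disjoint_left.1 (Perm.disjoint_iff_disjoint_support.1 hd12) hu (e ▸ hv)
  have hnz : ∀ {w : α}, w ∈ t1.support ∨ w ∈ t2.support → w ∉ z.support := fun hw h => by
    rcases hw with hw | hw
    · exact Finset.disjoint_left.1 (Perm.disjoint_iff_disjoint_support.1 hd1z) hw h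
    · exact Finset.disjoint_left.1 (Perm.disjoint_iff_disjoint_support.1 hz2) hw h
  have n1 : x a ≠ b := hne12 (hmem1 (Or.inr rfl)) (hmem2 (Or.inl rfl))
  have n2 : a ≠ b := hne12 (hmem1 (Or.inl rfl)) (hmem2 (Or.inl rfl))
  have n3 : a ≠ y b := hne12 (hmem1 (Or.inl rfl)) (hmem2 (Or.inr rfl))
  have n4 : x a ≠ y b := hne12 (hmem1 (Or.inr rfl)) (hmem2 (Or.inr rfl))
  set σ := Equiv.swap (x a) b with hσ
  set g := σ * t3
  have hgA : g ∈ alternatingGroup α := by
    rw [Perm.mem_alternatingGroup, map_mul, sign_swap n1, sign_swap (Ne.symm hc)]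
    decide
  have hzσ : Commute σ z := (Perm.disjoint_iff_disjoint_support.2 (by
    rw [hσ, Perm.support_swap n1, Finset.disjoint_left]
    intro w hw
    simp only [Finset.mem_insert, Finset.mem_singleton] at hw
    rcases hw with rfl | rfl
    · exact hnz (Or.inl (hmem1 (Or.inr rfl)))
    · exact hnz (Or.inr (hmem2 (Or.inl rfl))))).commute
  have ht3zc : Commute t3 z := by
    conv_rhs => rw [ec]
    exact (hdc.commute.symm.mul_right (Commute.refl _))
  have ht3t : Commute t3 (t1 * t2) := ((Perm.disjoint_iff_disjoint_support.2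
    ((Perm.disjoint_iff_disjoint_support.1 hd1z).symm.mono_left ht3z)).commute).mul_right
    ((Perm.disjoint_iff_disjoint_support.2
    ((Perm.disjoint_iff_disjoint_support.1 hz2).symm.mono_left ht3z)).commute)
  have hconj : g * x * g⁻¹ = z * (σ * (t1 * t2) * σ⁻¹) := by
    calc g * x * g⁻¹ = σ * (t3 * z * t3⁻¹) * σ⁻¹ * (σ * (t3 * (t1 * t2) * t3⁻¹) * σ⁻¹) := by
          rw [hxe]; simp only [g]; group
      _ = _ := by rw [ht3zc.eq, mul_inv_cancel_right, hzσ.eq, mul_inv_cancel_right, ht3t.eq,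
            mul_inv_cancel_right]
  set u := σ * (t1 * t2) * σ⁻¹ with hu
  have huval : u = Equiv.swap a b * Equiv.swap (x a) (y b) := by
    rw [hu, show σ * (t1 * t2) * σ⁻¹ = (σ * t1 * σ⁻¹) * (σ * t2 * σ⁻¹) by group, ht1, ht2,
      ← Equiv.swap_apply_apply, ← Equiv.swap_apply_apply]
    simp only [hσ, Equiv.swap_apply_left, Equiv.swap_apply_right,
      Equiv.swap_apply_of_ne_of_ne (Ne.symm ha) n2,
      Equiv.swap_apply_of_ne_of_ne n4.symm hb]
  have huu : u ^ 2 = 1 := by rw [hu, conj_pow, hu2, mul_one, mul_inv_cancel]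
  have hzu : Commute z u := (hzσ.symm.mul_right (hd1z.symm.commute.mul_right hz2.symm.commute)).mul_right
    hzσ.symm.inv_right
  have hzt : Commute z (t1 * t2) := hd1z.symm.commute.mul_right hz2.symm.commute
  have hprod : (t1 * t2) * u = Equiv.swap a (y b) * Equiv.swap (x a) b := by
    rw [huval, ht1, ht2]
    refine Equiv.ext fun w => ?_
    simp only [Perm.mul_apply]
    by_cases h1 : w = a
    · subst h1; simp [Equiv.swap_apply_def, n1, n2, n3, n4, ha, hb, n1.symm, n2.symm, n3.symm, n4.symm, Ne.symm ha, Ne.symm hb]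
    by_cases h2 : w = x a
    · subst h2; simp [Equiv.swap_apply_def, n1, n2, n3, n4, ha, hb, n1.symm, n2.symm, n3.symm, n4.symm, Ne.symm ha, Ne.symm hb]
    by_cases h3 : w = b
    · subst h3; simp [Equiv.swap_apply_def, n1, n2, n3, n4, ha, hb, n1.symm, n2.symm, n3.symm, n4.symm, Ne.symm ha, Ne.symm hb]
    by_cases h4 : w = y b
    · subst h4; simp [Equiv.swap_apply_def, n1, n2, n3, n4, ha, hb, n1.symm, n2.symm, n3.symm, n4.symm, Ne.symm ha, Ne.symm hb]
    simp [Equiv.swap_apply_def, h1, h2, h3, h4]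
  have hcomm : Commute (t1 * t2) u := by
    have h1 : ((t1 * t2) * u) ^ 2 = 1 := by
      rw [hprod, (Perm.disjoint_swap_swap (by simp [n1, n2, n3, n3.symm, n4, ha, hb, Ne.symm ha, Ne.symm hb, n1.symm, n2.symm, n4.symm]) :
        Perm.Disjoint (Equiv.swap a (y b)) (Equiv.swap (x a) b)).commute.mul_pow, hsq, hsq, one_mul]
    rw [pow_two] at h1 hu2 huu
    have h2 := eq_inv_of_mul_eq_one_left h1
    rw [_root_.mul_inv_rev, inv_eq_of_mul_eq_one_left huu, inv_eq_of_mul_eq_one_left hu2] at h2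
    exact h2
  have hgood := good_mul_comm H (k := 1) (x := x) (y := g * x * g⁻¹) (by
      rw [hconj, hxe]
      exact ((Commute.refl z).mul_left hzt.symm).mul_right (hzu.mul_left hcomm))
    (by rwa [pow_one]) (by rw [pow_one, conj_pow, hxp, mul_one, mul_inv_cancel]) hxA
    (mul_mem (mul_mem hgA hxA) (inv_mem hgA)) gx (good_conj H (k := 1) (by rwa [pow_one]) hxA hgA gx)
  rw [hconj, hxe, mul_assoc z (t1 * t2), ← mul_assoc (t1 * t2) z, hzt.symm.eq, mul_assoc z (t1 * t2),
    ← mul_assoc z z, ← pow_two, hz, one_mul, hprod] at hgood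
  refine ⟨_, ?_, ?_, ?_, hgood⟩
  · rw [Perm.mem_alternatingGroup, map_mul, sign_swap n3, sign_swap n1]
    decide
  · rw [← hprod, hcomm.mul_pow, hu2, huu, one_mul]
  · rw [(Perm.disjoint_swap_swap (by simp [n1, n2, n3, n3.symm, n4, ha, hb, Ne.symm ha, Ne.symm hb, n1.symm, n2.symm, n4.symm]) :
        Perm.Disjoint (Equiv.swap a (y b)) (Equiv.swap (x a) b)).cycleType_mul,
      (Perm.isCycle_swap n3).cycleType, (Perm.isCycle_swap n1).cycleType,
      Perm.card_support_swap n3, Perm.card_support_swap n1]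
    rfl

/-- All elements of order `p` are good. -/
theorem good_of_order_prime (H : Closed p P T) (hn : p ^ 2 ≤ Fintype.card α)
    (h6 : 6 ≤ Fintype.card α) {x : Perm α} (hx1 : x ≠ 1) (hxp : x ^ p = 1)
    (hxA : x ∈ alternatingGroup α) (gx : Good P T x) :
    ∀ y : Perm α, y ^ p = 1 → y ∈ alternatingGroup α → Good P T y := by
  classical
  rcases (Fact.out : p.Prime).eq_two_or_odd' with rfl | hp
  · obtain ⟨u, huA, hu2, hct, gu⟩ := exists_good_double H hx1 hxp hxA gx
    intro y hy hyA
    induction hs : y.support.card using Nat.strong_induction_on generalizing y with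
    | _ d ih =>
      by_cases hy1 : y = 1
      · rw [hy1]; exact good_one
      obtain ⟨a, ha⟩ : y.support.Nonempty :=
        Finset.nonempty_iff_ne_empty.2 fun e => hy1 (Perm.support_eq_empty_iff.1 e)
      set c1 := y.cycleOf a
      have hd1 : Perm.Disjoint (y * c1⁻¹) c1 :=
        disjoint_mul_inv_of_mem_cycleFactorsFinset (cycleOf_mem_cycleFactorsFinset_iff.2 ha)
      have hc1 : c1.IsCycle := isCycle_cycleOf y (mem_support.1 ha)
      have hp1 : (y * c1⁻¹) ^ 2 = 1 ∧ c1 ^ 2 = 1 := by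
        have h := hy
        rw [show y = y * c1⁻¹ * c1 by rw [inv_mul_cancel_right], hd1.commute.mul_pow] at h
        exact (hd1.pow_disjoint_pow 2 2).mul_eq_one_iff.1 h
      obtain ⟨hsc1, hcard1⟩ := isCycle_swap_card hc1 hp1.2
      set r := y * c1⁻¹ with hr
      have hr1 : r ≠ 1 := fun e => by
        rw [mul_inv_eq_one] at e
        have h := Perm.mem_alternatingGroup.1 hyA
        rw [e, hsc1] at h
        exact absurd h (by decide)
      obtain ⟨b, hb⟩ : r.support.Nonempty :=
        Finset.nonempty_iff_ne_empty.2 fun e => hr1 (Perm.support_eq_empty_iff.1 e)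
      set c2 := r.cycleOf b
      have hd2 : Perm.Disjoint (r * c2⁻¹) c2 :=
        disjoint_mul_inv_of_mem_cycleFactorsFinset (cycleOf_mem_cycleFactorsFinset_iff.2 hb)
      have hc2 : c2.IsCycle := isCycle_cycleOf r (mem_support.1 hb)
      have hp2 : (r * c2⁻¹) ^ 2 = 1 ∧ c2 ^ 2 = 1 := by
        have h := hp1.1
        rw [show r = r * c2⁻¹ * c2 by rw [inv_mul_cancel_right], hd2.commute.mul_pow] at h
        exact (hd2.pow_disjoint_pow 2 2).mul_eq_one_iff.1 h
      obtain ⟨hsc2, hcard2⟩ := isCycle_swap_card hc2 hp2.2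
      set rest := r * c2⁻¹ with hrest
      have hrs : r.support = rest.support ∪ c2.support := by
        rw [← hd2.support_mul, hrest, inv_mul_cancel_right]
      have hd12 : Perm.Disjoint c1 c2 := Perm.disjoint_iff_disjoint_support.2
        ((Perm.disjoint_iff_disjoint_support.1 hd1).symm.mono_right
          (by rw [hrs]; exact Finset.subset_union_right))
      have hd1r : Perm.Disjoint c1 rest := Perm.disjoint_iff_disjoint_support.2
        ((Perm.disjoint_iff_disjoint_support.1 hd1).symm.mono_right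
          (by rw [hrs]; exact Finset.subset_union_left))
      have huA' : c1 * c2 ∈ alternatingGroup α := by
        rw [Perm.mem_alternatingGroup, map_mul, hsc1, hsc2]; decide
      have hu' : (c1 * c2) ^ 2 = 1 := by rw [hd12.commute.mul_pow, hp1.2, hp2.2, one_mul]
      have hct' : (c1 * c2).cycleType = {2, 2} := by
        rw [hd12.cycleType_mul, hc1.cycleType, hc2.cycleType, hcard1, hcard2]
        rfl
      have gc : Good P T (c1 * c2) := by
        refine good_of_cycleType H (k := 1) (by rwa [pow_one]) huA huA' (hct.trans hct'.symm) ?_ gu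
        rw [← Perm.sum_cycleType u, hct]
        simp
        omega
      have hye : y = rest * (c1 * c2) := by
        rw [hd12.commute.eq, ← mul_assoc, hrest, inv_mul_cancel_right, hr, inv_mul_cancel_right]
      have hcr : Commute rest (c1 * c2) := hd1r.symm.commute.mul_right hd2.commute
      have hrA : rest ∈ alternatingGroup α := by
        have h := mul_mem hyA (inv_mem huA')
        rwa [hye, mul_inv_cancel_right] at h
      have gr : Good P T rest := by
        refine ih rest.support.card ?_ _ hp2.1 hrA rfl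
        rw [← hs, hye, (hd1r.symm.mul_right hd2).card_support_mul, hd12.card_support_mul,
          hcard1, hcard2]
        omega
      rw [hye]
      exact good_mul_comm H (k := 1) hcr (by rw [pow_one]; exact hp2.1) (by rwa [pow_one]) hrA huA' gr gc
  · obtain ⟨c, hc, hcp, gc⟩ := exists_good_cycle H hp hn hx1 hxp gx
    have hA : ∀ {u : Perm α}, u ^ p = 1 → u ∈ alternatingGroup α := fun hu =>
      mem_alt_of_odd (p := p) hp (k := 1) (by rwa [pow_one])
    have hcyc : ∀ d : Perm α, d.IsCycle → d ^ p = 1 → Good P T d := fun d hd hdp => by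
      refine good_of_cycleType H (k := 1) (by rwa [pow_one]) (hA hcp) (hA hdp) ?_ ?_ gc
      · rw [hc.cycleType, hd.cycleType, card_support_of_pow hc hcp, card_support_of_pow hd hdp]
      · rw [card_support_of_pow hc hcp]
        have := (Fact.out : p.Prime).two_le
        nlinarith
    intro y
    induction y using Perm.cycle_induction_on with
    | base_one => intro _ _; exact good_one
    | base_cycles σ hσ => intro hσp _; exact hcyc σ hσ hσp
    | induction_disjoint σ τ hd _ ihσ ihτ =>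
      intro h _
      rw [hd.commute.mul_pow] at h
      obtain ⟨h1, h2⟩ := (hd.pow_disjoint_pow p p).mul_eq_one_iff.1 h
      exact good_mul_comm H (k := 1) hd.commute (by rwa [pow_one]) (by rwa [pow_one]) (hA h1) (hA h2)
        (ihσ h1 (hA h1)) (ihτ h2 (hA h2))

/-- **Every `p`-element is good.** -/
theorem good_all (H : Closed p P T) (hn : p ^ 2 ≤ Fintype.card α) (h6 : 6 ≤ Fintype.card α)
    {x : Perm α} (hx1 : x ≠ 1) (hxT : x ∈ T) (hxP : x ∈ P) {k : ℕ} (hxk : x ^ p ^ k = 1) :
    ∀ (a : ℕ) (g : Perm α), g ^ p ^ a = 1 → g ∈ alternatingGroup α → Good P T g := by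
  classical
  obtain ⟨x', hx'1, hx'p, hx'T, hx'A⟩ : ∃ x', x' ≠ 1 ∧ x' ^ p = 1 ∧ x' ∈ T ∧
      x' ∈ alternatingGroup α := by
    obtain ⟨j, -, hj⟩ := (Nat.dvd_prime_pow Fact.out).1 (orderOf_dvd_of_pow_eq_one hxk)
    obtain ⟨j, rfl⟩ : ∃ i, j = i + 1 := Nat.exists_eq_add_one.2 (Nat.pos_of_ne_zero fun e => by
      rw [e, pow_zero, orderOf_eq_one_iff] at hj; exact hx1 hj)
    refine ⟨x ^ p ^ j, fun e => ?_, ?_, pow_mem hxT _, pow_mem (H.le hxP) _⟩
    · have := Nat.le_of_dvd (pow_pos (Fact.out : p.Prime).pos _) (orderOf_dvd_of_pow_eq_one e)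
      rw [hj] at this
      exact absurd this (not_le.2 (Nat.pow_lt_pow_right (Fact.out : p.Prime).one_lt (by omega)))
    · rw [← pow_mul, ← pow_succ, ← hj, pow_orderOf_eq_one]
  have gx : Good P T x' := good_of_mem H (k := 1) (one_mem _) (by simpa using hx'T)
  intro a
  induction a with
  | zero => intro g hg _; rw [pow_zero, pow_one] at hg; rw [hg]; exact good_one
  | succ a ih =>
    intro g hg hgA
    obtain ⟨h, c, e, hcp, hh, hsign, Q, hQ, hhQ, hcQ, -⟩ := exists_split hg
    have hcA : c ∈ alternatingGroup α := by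
      rw [Perm.mem_alternatingGroup, hsign]; exact Perm.mem_alternatingGroup.1 hgA
    have hhA : h ∈ alternatingGroup α := by
      have h1 := mul_mem hgA (inv_mem hcA)
      rwa [e, mul_inv_cancel_right] at h1
    rw [e]
    exact good_mul H (hQ.to_le inf_le_left : IsPGroup p (Q ⊓ alternatingGroup α : Subgroup (Perm α)))
      inf_le_right ⟨hhQ, hhA⟩ ⟨hcQ, hcA⟩ (ih h hh hhA)
      (good_of_order_prime H hn h6 hx'1 hx'p hx'A gx c hcp hcA)

end CfsgLib.Fusion.AltChar
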