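import Cfsg.Agent.Fusion.AltTorus
import Cfsg.Agent.Fusion.AltGen
import Cfsg.Agent.SylowAlt.Normalizer

/-!
The fusion system of an alternating group of degree at least six and at least `p²`, congruent to
`0` or `1` modulo `p`, is simple.
-/

set_option autoImplicit false
set_option linter.unusedSectionVars false

namespace CfsgLib.Fusion.AltChar

open Equiv

variable {p : ℕ} [Fact p.Prime]

theorem closed_of_sylow {α : Type*} [Fintype α] [DecidableEq α] (P : Sylow p (alternatingGroup α))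
    (T : Subgroup (alternatingGroup α))
    (hcl : ∀ t ∈ T, ∀ g : alternatingGroup α, g * t * g⁻¹ ∈ (P : Subgroup (alternatingGroup α)) →
      g * t * g⁻¹ ∈ T) :
    Closed p ((P : Subgroup (alternatingGroup α)).map (alternatingGroup α).subtype)
      (T.map (alternatingGroup α).subtype) where
  le := by rintro _ ⟨x, -, rfl⟩; exact x.2
  conj Q hQ hQA := by
    obtain ⟨R, hR⟩ := (hQ.comap_subtype (K := alternatingGroup α)).exists_le_sylow
    obtain ⟨c, hc⟩ := MulAction.exists_smul_eq (alternatingGroup α) R P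
    refine ⟨c, c.2, fun x hx => ⟨c * ⟨x, hQA hx⟩ * c⁻¹, ?_, rfl⟩⟩
    rw [← hc]
    exact ⟨⟨x, hQA hx⟩, hR hx, rfl⟩
  closed := by
    rintro _ ⟨t, ht, rfl⟩ g hg ⟨y, hy, e⟩
    have hy' : y = ⟨g, hg⟩ * t * (⟨g, hg⟩ : alternatingGroup α)⁻¹ := Subtype.ext e
    exact ⟨y, hy' ▸ hcl t ht ⟨g, hg⟩ (hy' ▸ hy), e⟩

/-- A nontrivial strongly closed subgroup of an alternating Sylow subgroup is the whole of it. -/
theorem hgen_alt {α : Type*} [Fintype α] [DecidableEq α] (hn : p ^ 2 ≤ Fintype.card α)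
    (h6 : 6 ≤ Fintype.card α) (P : Sylow p (alternatingGroup α)) :
    ∀ x ∈ (P : Subgroup (alternatingGroup α)),
      (∀ y ∈ (P : Subgroup (alternatingGroup α)), x * y = y * x) → x ≠ 1 →
      ∀ T : Subgroup (alternatingGroup α), x ∈ T →
        (∀ t ∈ T, ∀ g : alternatingGroup α, g * t * g⁻¹ ∈ (P : Subgroup (alternatingGroup α)) →
          g * t * g⁻¹ ∈ T) →
        (P : Subgroup (alternatingGroup α)) ≤ T := by
  intro x hx _ hx1 T hxT hcl y hy
  have H := closed_of_sylow P T hcl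
  have hpow : ∀ z ∈ (P : Subgroup (alternatingGroup α)), ∃ a : ℕ, (z : Perm α) ^ p ^ a = 1 :=
    fun z hz => by
      obtain ⟨a, ha⟩ := P.2 ⟨z, hz⟩
      exact ⟨a, congrArg (fun w : (P : Subgroup (alternatingGroup α)) => ((w : alternatingGroup α) : Perm α)) ha⟩
  obtain ⟨k, hk⟩ := hpow x hx
  obtain ⟨a, ha⟩ := hpow y hy
  have hg := good_all H hn h6 (x := (x : Perm α)) (fun e => hx1 (Subtype.ext e)) ⟨x, hxT, rfl⟩
    ⟨x, hx, rfl⟩ hk a y ha y.2 1 (one_mem _) (by rw [one_mul, inv_one, mul_one]; exact ⟨y, hy, rfl⟩)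
  obtain ⟨t, ht, e⟩ := hg
  rw [one_mul, inv_one, mul_one] at e
  exact Subtype.ext (show (t : Perm α) = y from e) ▸ ht

/-- A Sylow subgroup lies in its own radical generators. -/
theorem mem_radicalGens_self {G : Type*} [Group G] [Finite G] (P : Sylow p G) {y : G}
    (hy : y ∈ (P : Subgroup G)) : y ∈ radicalGens p (P : Subgroup G) := by
  refine ⟨Subgroup.le_normalizer hy, P, le_rfl, fun x hxc hxk => ?_,
    Subgroup.subset_closure ⟨Subgroup.le_normalizer hy, ?_⟩⟩
  · obtain ⟨k, hk⟩ := hxk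
    have hz : IsPGroup p (Subgroup.zpowers x) :=
      IsPGroup.of_card (n := k) (by rw [Nat.card_zpowers, hk])
    have hxN : x ∈ Subgroup.normalizer ((P : Subgroup G) : Set G) :=
      PSLChar.mem_normalizer_of_le fun r hr => by rwa [hxc r hr, mul_inv_cancel_right]
    rw [← P.3 (IsPGroup.to_sup_of_normal_right' hz P.2 (Subgroup.zpowers_le.2 hxN)) le_sup_right]
    exact Subgroup.mem_sup_left (Subgroup.mem_zpowers x)
  · obtain ⟨k, hk⟩ := IsPGroup.iff_orderOf.1 P.2 ⟨y, hy⟩
    exact ⟨k, by rw [← hk, ← Subgroup.orderOf_coe]⟩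

/-- Transport of radical generators along an isomorphism. -/
theorem map_radicalGens {G H : Type*} [Group G] [Group H] (e : G ≃* H) (P : Subgroup G) {g : G}
    (hg : g ∈ radicalGens p P) : e g ∈ radicalGens p (P.map e.toMonoidHom) := by
  obtain ⟨hgN, R, hRP, hRc, hgR⟩ := hg
  have hnorm : ∀ (R : Subgroup G) x,
      x ∈ Subgroup.normalizer (R : Set G) →
        e x ∈ Subgroup.normalizer ((R.map e.toMonoidHom : Subgroup H) : Set H) := fun R x hx => by
    rw [← Subgroup.map_equiv_normalizer_eq]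
    exact ⟨x, hx, rfl⟩
  refine ⟨hnorm P g hgN, R.map e.toMonoidHom, Subgroup.map_mono hRP, fun x hx hk => ?_, ?_⟩
  · obtain ⟨x, rfl⟩ := e.surjective x
    refine ⟨x, hRc x (fun r hr => e.injective ?_) ?_, rfl⟩
    · rw [map_mul, map_mul]; exact hx _ ⟨r, hr, rfl⟩
    · obtain ⟨k, hk⟩ := hk
      exact ⟨k, by rw [← hk, MulEquiv.orderOf_eq]⟩
  · have h3 : e.toMonoidHom g ∈ (Subgroup.closure
        {y : G | y ∈ Subgroup.normalizer (R : Set G) ∧ ∃ k : ℕ, orderOf y = p ^ k}).map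
          e.toMonoidHom := ⟨g, hgR, rfl⟩
    rw [MonoidHom.map_closure] at h3
    refine Subgroup.closure_mono ?_ h3
    rintro _ ⟨w, ⟨hwN, k, hk⟩, rfl⟩
    exact ⟨hnorm R w hwN, k, (MulEquiv.orderOf_eq e w).trans hk⟩

/-- Monomial permutations normalizing a wreath product. -/
theorem aff_normalizes_wr {L E : Type*} (Q : Subgroup (Perm L)) (σ : Perm L)
    (lam : L → (ZMod p)ˣ) (hσ : ∀ τ ∈ Q, σ * τ * σ⁻¹ ∈ Q) (hlam : ∀ τ ∈ Q, ∀ l, lam (τ l) = lam l)
    {x : Perm ((L × ZMod p) ⊕ E)} (hx : x ∈ wr p E Q) :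
    aff σ lam 0 * x * (aff σ lam 0)⁻¹ ∈ wr p E Q := by
  obtain ⟨τ, hτ, h, rfl⟩ := hx
  refine ⟨σ * τ * σ⁻¹, hσ τ hτ, fun l => ((lam (σ.symm l) : (ZMod p)ˣ) : ZMod p) * h (σ.symm l), ?_⟩
  rw [mul_inv_eq_iff_eq_mul, aff_mul, aff_mul]
  congr 1
  · rw [inv_mul_cancel_right]
  · funext l
    simp [hlam τ hτ l]
  · funext l
    simp [hlam τ hτ l]

/-- The centric subgroup of an alternating group attached to a group of permutations. -/
theorem mem_radicalGens_of_pGen {α : Type*} [Fintype α] [DecidableEq α] (hp : Odd p)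
    {P : Subgroup (alternatingGroup α)} {R : Subgroup (Perm α)}
    (hRP : ∀ r : alternatingGroup α, (r : Perm α) ∈ R → r ∈ P) (hRA : R ≤ alternatingGroup α)
    (hRc : ∀ g : Perm α, (∀ r ∈ R, g * r = r * g) → g ∈ R)
    {s : alternatingGroup α} (hsN : s ∈ Subgroup.normalizer (P : Set (alternatingGroup α)))
    (hs : (s : Perm α) ∈ pGen p R) : s ∈ radicalGens p P :=
  ⟨hsN, R.subgroupOf (alternatingGroup α), fun r hr => hRP r hr,
    fun x hx _ => hRc x fun r hr => congrArg Subtype.val (hx ⟨r, hRA hr⟩ hr),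
    mem_closure_of_pGen hp hs⟩

/-- Odd primes, in the model. -/
theorem normalizer_model (hp : Odd p) {M A E : Type*} [Fintype M] [DecidableEq M] [Fintype A]
    [DecidableEq A] [Fintype E] [DecidableEq E] [Subsingleton E] [Nonempty M]
    (Q : Sylow p (Perm M)) (hA : Fintype.card A < p) (hE : Fintype.card E < p) :
    ∃ P : Sylow p (alternatingGroup ((((M × ZMod p) ⊕ A) × ZMod p) ⊕ E)),
      Subgroup.normalizer ((P : Subgroup (alternatingGroup ((((M × ZMod p) ⊕ A) × ZMod p) ⊕ E))) :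
          Set (alternatingGroup ((((M × ZMod p) ⊕ A) × ZMod p) ⊕ E))) ≤
        Subgroup.closure (radicalGens p
          (P : Subgroup (alternatingGroup ((((M × ZMod p) ⊕ A) × ZMod p) ⊕ E)))) := by
  classical
  obtain ⟨Q1, hQ1⟩ := exists_sylow_wr (E := A) hA Q
  obtain ⟨P0, hP0⟩ := exists_sylow_wr (E := E) hE Q1
  set G := alternatingGroup ((((M × ZMod p) ⊕ A) × ZMod p) ⊕ E) with hG
  have hP0A : (P0 : Subgroup (Perm ((((M × ZMod p) ⊕ A) × ZMod p) ⊕ E))) ≤ G := fun x hx => by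
    obtain ⟨k, hk⟩ := P0.2 ⟨x, hx⟩
    exact mem_alt_of_odd hp (k := k) (congrArg Subtype.val hk)
  refine ⟨P0.subtype hP0A, ?_⟩
  set P : Subgroup G := ((P0.subtype hP0A : Sylow p G) : Subgroup G) with hP
  have hmemP : ∀ r : G, r ∈ P ↔ (r : Perm _) ∈ wr p E (Q1 : Subgroup (Perm ((M × ZMod p) ⊕ A))) :=
    fun r => by rw [← hP0]; exact Iff.rfl
  have hbase : baseGrp p ((M × ZMod p) ⊕ A) E ≤ wr p E (Q1 : Subgroup (Perm ((M × ZMod p) ⊕ A))) := by
    intro r hr
    obtain ⟨f, rfl⟩ := mem_baseGrp.1 hr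
    exact tr_mem_wr _ f
  have hplane : planeGrp p M A E ≤ wr p E (Q1 : Subgroup (Perm ((M × ZMod p) ⊕ A))) := by
    rintro _ ⟨h, f, -, rfl⟩
    exact ⟨_, by rw [hQ1]; exact tr_mem_wr _ h, f, rfl⟩
  obtain ⟨j0⟩ := ‹Nonempty M›
  set O : Finset M := Finset.univ.filter fun j => j ∈ MulAction.orbit (Q : Subgroup (Perm M)) j0
  have hO : ∀ ρ ∈ (Q : Subgroup (Perm M)), ∀ j, ρ j ∈ O ↔ j ∈ O := fun ρ hρ j => by
    simp only [O, Finset.mem_filter, Finset.mem_univ, true_and]
    have : ρ j = (⟨ρ, hρ⟩ : (Q : Subgroup (Perm M))) • j := rfl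
    rw [this]
    constructor
    · rintro ⟨x, hx⟩
      exact ⟨(⟨ρ, hρ⟩ : (Q : Subgroup (Perm M)))⁻¹ * x, by
        simp only [mul_smul]; rw [show x • j0 = _ from hx, inv_smul_smul]⟩
    · rintro ⟨x, rfl⟩
      exact ⟨(⟨ρ, hρ⟩ : (Q : Subgroup (Perm M))) * x, mul_smul _ _ _⟩
  obtain ⟨m, hm⟩ := Q.2.card_orbit j0
  have hOc : O.card = p ^ m := by
    rw [← hm, Nat.card_eq_fintype_card, ← Set.toFinset_card]
    congr 1
    ext j
    simp [O]
  have hfix : ∀ (v : (ZMod p)ˣ) (i : ℕ), v ^ p ^ i = v := fun v i => by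
    induction i with
    | zero => rw [pow_zero, pow_one]
    | succ i ih =>
      rw [pow_succ, pow_mul, ih]
      calc v ^ p = v ^ (p - 1 + 1) :=
            congrArg (v ^ ·) (Nat.sub_add_cancel (Fact.out : p.Prime).one_lt.le).symm
        _ = v := by rw [pow_succ, ZMod.units_pow_card_sub_one_eq_one, one_mul]
  have hprod : ∀ v : (ZMod p)ˣ, ∏ l : (M × ZMod p) ⊕ A,
      Sum.elim (fun jy : M × ZMod p => if jy.1 ∈ O then v else 1) (fun _ : A => 1) l = v := fun v => by
    rw [Fintype.prod_sum_type]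
    simp only [Sum.elim_inl, Sum.elim_inr, Finset.prod_const_one, mul_one]
    rw [Fintype.prod_prod_type, Finset.prod_comm]
    simp only [Finset.prod_ite_mem, Finset.univ_inter, Finset.prod_const, Finset.card_univ, ZMod.card,
      hOc]
    rw [← pow_mul, ← pow_succ, hfix]
  -- the torus elements
  have htor : ∀ v : (ZMod p)ˣ, ∃ t : G,
      (t : Perm ((((M × ZMod p) ⊕ A) × ZMod p) ⊕ E)) = torusEl O v ∧
      t ∈ Subgroup.normalizer (P : Set G) ∧ t ∈ Subgroup.closure (radicalGens p P) := fun v => by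
    have hin := torusEl_mem (M := M) (A := A) (E := E) O v
    refine ⟨⟨_, pGen_le_alternating hp _ hin⟩, rfl, ?_, ?_⟩
    all_goals
      have hN : (⟨_, pGen_le_alternating hp _ hin⟩ : G) ∈ Subgroup.normalizer (P : Set G) :=
        PSLChar.mem_normalizer_of_le fun r hr => (hmemP _).2 (by
          refine aff_normalizes_wr _ _ _ (fun τ hτ => ?_) (fun τ hτ l => ?_) ((hmemP r).1 hr)
          · rw [hQ1] at hτ ⊢
            exact aff_normalizes_wr _ _ _ (fun τ' hτ' => by simpa using hτ')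
              (fun τ' hτ' l => by simp [hO τ' hτ' l]) hτ
          · rw [hQ1] at hτ
            obtain ⟨ρ, hρ, h, rfl⟩ := hτ
            rcases l with ⟨j, y⟩ | a
            · simp [aff_inl, hO ρ hρ j]
            · simp [aff_inr])
    · exact hN
    · exact Subgroup.subset_closure (mem_radicalGens_of_pGen hp
        (fun r hr => (hmemP r).2 (hplane hr)) ((hP0 ▸ hplane : _ ≤ _).trans hP0A)
        (fun g hg => mem_planeGrp_of_comm hg) hN hin)
  -- the decomposition of a normalizing element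
  intro s hs
  obtain ⟨σ, lam, f, hg⟩ := exists_aff_of_conj (s : Perm _) (normalizer_wr_conj _ _ fun x hx => by
    have hxG : x ∈ G := hP0A (hP0 ▸ hx)
    exact (hmemP _).1 ((Subgroup.mem_normalizer_iff.1 hs ⟨x, hxG⟩).1 ((hmemP ⟨x, hxG⟩).2 hx)))
  obtain ⟨t, ht, htN, htW⟩ := htor (∏ l, lam l)⁻¹
  suffices h : t * s ∈ radicalGens p P by
    have := mul_mem (inv_mem htW) (Subgroup.subset_closure h)
    rwa [inv_mul_cancel_left] at this
  refine mem_radicalGens_of_pGen hp (fun r hr => (hmemP r).2 (hbase hr))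
    ((hP0 ▸ hbase : _ ≤ _).trans hP0A) (fun g hg => eq_tr_of_comm hg) (mul_mem htN hs) ?_
  have hev := Perm.mem_alternatingGroup.1 (t * s).2
  have hts : ((t * s : G) : Perm ((((M × ZMod p) ⊕ A) × ZMod p) ⊕ E)) =
      torusEl O (∏ l, lam l)⁻¹ * aff σ lam f := by
    rw [← hg, ← ht]; rfl
  rw [hts, torusEl, aff_mul] at hev ⊢
  refine aff_mem_pGen hp (C := aff 1 1 (Pi.single j0 1)) (tr_pow_p _) (a := Sum.inl (j0, 0))
    (b := Sum.inl (j0, 1)) (c := Sum.inl (j0, 1 + 1)) ?_ ?_ ?_ ?_ ?_ ?_ hev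
  · simp [aff_inl]
  · simp [aff_inl]
  · simp
  · simp
  · simp only [ne_eq, Sum.inl.injEq, Prod.mk.injEq, true_and]
    intro e
    have h2 : ((2 : ℕ) : ZMod p) = 0 := by
      rw [Nat.cast_ofNat, ← one_add_one_eq_two]; exact e.symm
    rw [ZMod.natCast_eq_zero_iff] at h2
    obtain ⟨j, hj⟩ := hp
    have := Nat.le_of_dvd (by norm_num) h2
    have := (Fact.out : p.Prime).two_le
    omega
  · rw [Finset.prod_mul_distrib, Equiv.prod_comp σ, hprod, inv_mul_cancel]

/-- **The fusion system of the alternating group is simple.** -/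
theorem alternating_isSimple {n : ℕ} (hn : 6 ≤ n) (hnp : p ^ 2 ≤ n) (hb : n % p ≤ 1)
    (S : Sylow p (alternatingGroup (Fin n))) :
    (Cfsg.groupFusionSystem (S : Subgroup (alternatingGroup (Fin n)))).IsSimple p := by
  classical
  have hp : p.Prime := Fact.out
  have hcard : p ^ 2 ≤ Fintype.card (Fin n) := by rwa [Fintype.card_fin]
  have h6 : 6 ≤ Fintype.card (Fin n) := by rwa [Fintype.card_fin]
  obtain ⟨P, hN⟩ : ∃ P : Sylow p (alternatingGroup (Fin n)),
      Subgroup.normalizer ((P : Subgroup (alternatingGroup (Fin n))) : Set (alternatingGroup (Fin n))) ≤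
        Subgroup.closure (radicalGens p (P : Subgroup (alternatingGroup (Fin n)))) := by
    rcases hp.eq_two_or_odd' with h2 | hodd
    · subst h2
      refine ⟨S, fun y hy => Subgroup.subset_closure (mem_radicalGens_self S ?_)⟩
      rwa [CfsgLib.SylowAlt.alternating_sylow_two_normalizer hn S] at hy
    · have hM : 0 < n / p / p := by
        rw [Nat.div_div_eq_div_mul, ← pow_two]
        exact Nat.div_pos hnp (pow_pos hp.pos _)
      haveI : Nonempty (Fin (n / p / p)) := ⟨⟨0, hM⟩⟩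
      haveI : Subsingleton (Fin (n % p)) := Fin.subsingleton_iff_le_one.2 hb
      have e : ((Fin (n / p / p) × ZMod p) ⊕ Fin (n / p % p)) × ZMod p ⊕ Fin (n % p) ≃ Fin n :=
        Fintype.equivOfCardEq (by
          simp only [Fintype.card_sum, Fintype.card_prod, Fintype.card_fin, ZMod.card]
          rw [Nat.div_add_mod' (n / p) p, Nat.div_add_mod' n p])
      obtain ⟨Q⟩ : Nonempty (Sylow p (Perm (Fin (n / p / p)))) := Sylow.nonempty
      obtain ⟨P0, hP0⟩ := normalizer_model hodd (A := Fin (n / p % p)) (E := Fin (n % p)) Q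
        (by rw [Fintype.card_fin]; exact Nat.mod_lt _ hp.pos)
        (by rw [Fintype.card_fin]; exact Nat.mod_lt _ hp.pos)
      set φ := Equiv.altCongrHom e
      refine ⟨P0.mapSurjective (f := φ.toMonoidHom)
        (show Function.Surjective φ.toMonoidHom from φ.surjective), ?_⟩
      rw [Sylow.coe_mapSurjective, ← Subgroup.map_equiv_normalizer_eq]
      refine (Subgroup.map_mono hP0).trans ?_
      rw [MonoidHom.map_closure]
      refine Subgroup.closure_mono ?_
      rintro _ ⟨g, hg, rfl⟩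
      exact map_radicalGens φ _ hg
  refine isSimple_of_radicalGens P ?_ (hgen_alt hcard h6 P)
    (hN.trans (Subgroup.closure_mono Set.subset_union_left)) S
  refine P.ne_bot_of_dvd_card ?_
  obtain ⟨c, hc, hcp⟩ : ∃ c : alternatingGroup (Fin n), c ≠ 1 ∧ c ^ p = 1 := by
    rcases hp.eq_two_or_odd' with h2 | hodd
    · subst h2
      refine ⟨⟨swap ⟨0, by omega⟩ ⟨1, by omega⟩ * swap ⟨2, by omega⟩ ⟨3, by omega⟩, ?_⟩, ?_, ?_⟩
      · rw [Perm.mem_alternatingGroup, map_mul, Perm.sign_swap (by simp), Perm.sign_swap (by simp)]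
        decide
      · intro e
        have := DFunLike.congr_fun (congrArg Subtype.val e) (⟨2, by omega⟩ : Fin n)
        simp [Equiv.swap_apply_def] at this
      · refine Subtype.ext ?_
        rw [SubgroupClass.coe_pow, (Perm.disjoint_swap_swap (by simp)).commute.mul_pow]
        simp [pow_two]
    · obtain ⟨g, hg⟩ := exists_prime_orderOf_dvd_card' (G := Perm (Fin n)) p (by
        rw [Nat.card_eq_fintype_card, Fintype.card_perm, Fintype.card_fin]
        exact Nat.dvd_factorial hp.pos ((Nat.le_self_pow two_ne_zero p).trans hnp))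
      have hgp : g ^ p = 1 := by rw [← hg, pow_orderOf_eq_one]
      refine ⟨⟨g, mem_alt_of_odd hodd (k := 1) (by rwa [pow_one])⟩, fun e => ?_, Subtype.ext hgp⟩
      have h1 : g = 1 := congrArg Subtype.val e
      rw [h1, orderOf_one] at hg
      exact hp.one_lt.ne hg
  rw [← orderOf_eq_prime hcp hc]
  exact orderOf_dvd_natCard c

end CfsgLib.Fusion.AltChar
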