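import Mathlib.GroupTheory.PGroup
import Mathlib.GroupTheory.Perm.Cycle.Type
import Mathlib.GroupTheory.SpecificGroups.Alternating

/-!
A `p`-element of a symmetric group is, inside a `p`-subgroup, a product of an element of smaller
order and an element of order dividing `p` with the same sign.
-/

set_option autoImplicit false
set_option linter.unusedSectionVars false

namespace CfsgLib.Fusion.AltChar

open Equiv Equiv.Perm Subgroup

variable {α : Type*} [Fintype α] [DecidableEq α] {p : ℕ} [Fact p.Prime]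

/-- The permutations moving only points of a set. -/
def supportedIn (s : Finset α) : Subgroup (Perm α) where
  carrier := {f | f.support ⊆ s}
  mul_mem' {a b} ha hb := (Perm.support_mul_le a b).trans (sup_le ha hb)
  one_mem' := by simp
  inv_mem' {a} ha := by simpa using ha

theorem sign_eq_of_prime_pow_cycle {c : Perm α} (hc : c.IsCycle) {k : ℕ}
    (hk : orderOf c = p ^ (k + 1)) : sign c = -(-1) ^ p := by
  rw [hc.sign, ← hc.orderOf, hk]
  rcases (Fact.out : p.Prime).eq_two_or_odd' with rfl | hodd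
  · rw [pow_succ, pow_mul']; simp
  · rw [hodd.pow.neg_one_pow, hodd.neg_one_pow]

/-- The decomposition of a single cycle. -/
theorem exists_split_cycle {g : Perm α} (hg : g.IsCycle) {a : ℕ}
    (ha : orderOf g = p ^ (a + 1)) :
    ∃ h c : Perm α, g = h * c ∧ c ^ p = 1 ∧ h ^ p ^ a = 1 ∧ sign c = sign g ∧
      ∃ Q : Subgroup (Perm α), IsPGroup p Q ∧ h ∈ Q ∧ c ∈ Q ∧ Q ≤ supportedIn g.support := by
  classical
  have hp : p.Prime := Fact.out
  set N := p ^ a with hN
  set z := g ^ N with hz
  obtain ⟨r, hr⟩ : g.support.Nonempty := hg.nonempty_support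
  have hzp : z ^ p = 1 := by rw [hz, ← pow_mul, hN, ← pow_succ, ← ha, pow_orderOf_eq_one]
  have hzr : z r ≠ r := by
    intro e
    have h1 : g ^ N = 1 := hg.pow_eq_one_iff.2 ⟨r, mem_support.1 hr, e⟩
    have h2 := Nat.le_of_dvd (pow_pos hp.pos _) (orderOf_dvd_of_pow_eq_one h1)
    rw [ha] at h2
    exact absurd h2 (not_le.2 (Nat.pow_lt_pow_right hp.one_lt (by omega)))
  have hpiece : ∀ x, (z.cycleOf x) ^ p = 1 := fun x => Equiv.ext fun y => by
    by_cases hy : z.SameCycle x y
    · have h1 : z.cycleOf x = z.cycleOf y := hy.cycleOf_eq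
      rw [h1, cycleOf_pow_apply_self, hzp]
    · exact Perm.pow_apply_eq_self_of_apply_eq_self (cycleOf_apply_of_not_sameCycle hy) p
  set c := z.cycleOf r with hc
  have hccyc : c.IsCycle := isCycle_cycleOf z hzr
  have hco : orderOf c = p ^ (0 + 1) := by
    rw [zero_add, pow_one]
    exact orderOf_eq_prime (hpiece r) hccyc.ne_one
  have hcomm : Commute g z := Commute.self_pow g N
  -- the pieces
  set B := Subgroup.closure (Set.range fun x => z.cycleOf x) with hB
  have hBcomm : ∀ x y, Commute (z.cycleOf x) (z.cycleOf y) := fun x y => by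
    by_cases hxy : z.SameCycle x y
    · rw [hxy.cycleOf_eq]
    · refine Perm.Disjoint.commute fun w => ?_
      by_cases hw : z.SameCycle x w
      · right
        exact cycleOf_apply_of_not_sameCycle fun h => hxy (hw.trans h.symm)
      · left; exact cycleOf_apply_of_not_sameCycle hw
  have hBp : IsPGroup p B := by
    rintro ⟨x, hx⟩
    refine ⟨1, Subtype.ext ?_⟩
    show x ^ p ^ 1 = 1
    rw [pow_one]
    induction hx using Subgroup.closure_induction with
    | mem x hx => obtain ⟨y, rfl⟩ := hx; exact hpiece y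
    | one => exact one_pow p
    | mul x y hx hy hx' hy' =>
      have : Commute x y := by
        have hc : IsMulCommutative B :=
          Subgroup.isMulCommutative_closure (by rintro _ ⟨u, rfl⟩ _ ⟨v, rfl⟩; exact hBcomm u v)
        exact congrArg Subtype.val (mul_comm' (⟨x, hx⟩ : B) ⟨y, hy⟩)
      rw [this.mul_pow, hx', hy', one_mul]
    | inv x hx hx' => rw [inv_pow, hx', inv_one]
  have hnorm : ∀ x, g * z.cycleOf x * g⁻¹ = z.cycleOf (g x) := fun x => by
    refine Equiv.ext fun y => ?_
    have hzc : ∀ w, g (z w) = z (g w) := fun w => DFunLike.congr_fun hcomm.eq w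
    have hsame : z.SameCycle x (g⁻¹ y) ↔ z.SameCycle (g x) y := by
      have h1 := Perm.sameCycle_conj (f := z) (g := g) (x := g x) (y := y)
      rw [show g * z * g⁻¹ = z by rw [hcomm.eq, mul_inv_cancel_right]] at h1
      rw [h1]
      simp
    rw [Perm.mul_apply, Perm.mul_apply, cycleOf_apply, cycleOf_apply]
    by_cases h : z.SameCycle x (g⁻¹ y)
    · rw [if_pos h, if_pos (hsame.1 h), hzc]
      simp
    · rw [if_neg h, if_neg (fun h' => h (hsame.2 h'))]
      simp
  have hgB : g ∈ Subgroup.normalizer (B : Set (Perm α)) := by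
    have hle : B.map (MulAut.conj g).toMonoidHom ≤ B := by
      rw [hB, MonoidHom.map_closure]
      refine Subgroup.closure_mono ?_
      rintro _ ⟨_, ⟨x, rfl⟩, rfl⟩
      exact ⟨g x, (hnorm x).symm⟩
    have heq : B.map (MulAut.conj g).toMonoidHom = B :=
      Subgroup.eq_of_le_of_card_ge hle
        (le_of_eq (Subgroup.card_map_of_injective (MulAut.conj g).injective).symm)
    rw [Subgroup.mem_normalizer_iff]
    intro y
    conv_rhs => rw [← heq]
    exact ⟨fun hy => ⟨y, hy, rfl⟩, fun ⟨w, hw, e⟩ => (MulAut.conj g).injective e ▸ hw⟩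
  set Q := Subgroup.zpowers g ⊔ B
  have hQ : IsPGroup p Q := IsPGroup.to_sup_of_normal_right'
    (IsPGroup.of_card (n := a + 1) (by rw [Nat.card_zpowers, ha])) hBp
    (Subgroup.zpowers_le.2 hgB)
  have hcQ : c ∈ Q := Subgroup.mem_sup_right (Subgroup.subset_closure ⟨r, rfl⟩)
  refine ⟨g * c⁻¹, c, by rw [inv_mul_cancel_right], hpiece r, ?_, ?_, Q, hQ,
    mul_mem (Subgroup.mem_sup_left (Subgroup.mem_zpowers g)) (inv_mem hcQ), hcQ, ?_⟩
  · set h := g * c⁻¹ with hh
    have hcz : Commute z c := by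
      refine Equiv.ext fun y => ?_
      rw [Perm.mul_apply, Perm.mul_apply, cycleOf_apply, cycleOf_apply]
      by_cases hy : z.SameCycle r y
      · rw [if_pos hy, if_pos (sameCycle_apply_right.2 hy)]
      · rw [if_neg hy, if_neg (fun h' => hy (sameCycle_apply_right.1 h'))]
    have hhz : Commute h z := (hcomm.mul_left (hcz.symm.inv_left))
    have hpow : ∀ j, j < N → (h ^ j) (g r) = (g ^ (j + 1)) r := by
      intro j
      induction j with
      | zero => intro _; simp
      | succ j ih =>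
        intro hj
        have hns : ¬ z.SameCycle r ((g ^ (j + 1)) r) := by
          rintro ⟨i, hi⟩
          have h1 : (g ^ ((N : ℤ) * i - (j + 1 : ℕ))) r = r := by
            rw [sub_eq_neg_add, zpow_add, Perm.mul_apply, zpow_mul, zpow_natCast, hi, zpow_neg,
              zpow_natCast]
            simp
          have h2 : g ^ ((N : ℤ) * i - (j + 1 : ℕ)) = 1 := by
            obtain ⟨d, hd | hd⟩ := Int.eq_nat_or_neg ((N : ℤ) * i - (j + 1 : ℕ))
            · rw [hd, zpow_natCast] at h1 ⊢
              exact hg.pow_eq_one_iff.2 ⟨r, mem_support.1 hr, h1⟩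
            · rw [hd, zpow_neg, zpow_natCast, Perm.inv_eq_iff_eq] at h1
              rw [hd, zpow_neg, zpow_natCast, hg.pow_eq_one_iff.2 ⟨r, mem_support.1 hr, h1.symm⟩,
                inv_one]
          have h3 : (N : ℤ) ∣ (N : ℤ) * i - (j + 1 : ℕ) := by
            refine dvd_trans ?_ (orderOf_dvd_iff_zpow_eq_one.2 h2)
            rw [ha, hN, pow_succ]
            push_cast
            exact dvd_mul_right _ _
          have h4 : (N : ℤ) ∣ ((j + 1 : ℕ) : ℤ) := (dvd_sub_right (dvd_mul_right _ _)).1 h3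
          have h5 := Nat.le_of_dvd (Nat.succ_pos j) (Int.natCast_dvd_natCast.1 h4)
          omega
        rw [pow_succ', Perm.mul_apply, ih (by omega), hh, Perm.mul_apply,
          show c⁻¹ ((g ^ (j + 1)) r) = (g ^ (j + 1)) r by
            rw [Perm.inv_eq_iff_eq]; exact (cycleOf_apply_of_not_sameCycle hns).symm,
          pow_succ' g (j + 1), Perm.mul_apply]
    have hN0 : 0 < N := pow_pos hp.pos a
    have hfirst : (h ^ N) (g r) = g r := by
      rw [show N = (N - 1) + 1 by omega, pow_succ', Perm.mul_apply, hpow _ (by omega),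
        show N - 1 + 1 = N by omega, ← hz, hh, Perm.mul_apply]
      congr 1
      rw [Perm.inv_eq_iff_eq]
      exact (cycleOf_apply_self z r).symm
    have hall : ∀ j, j < N → (h ^ N) ((g ^ (j + 1)) r) = (g ^ (j + 1)) r := fun j hj => by
      rw [← hpow j hj, ← Perm.mul_apply, ← pow_add, add_comm, pow_add, Perm.mul_apply, hfirst]
    refine Equiv.ext fun y => ?_
    rw [Perm.one_apply]
    by_cases hy : g y = y
    · have hzy : z y = y := Perm.pow_apply_eq_self_of_apply_eq_self hy N
      have hcy : c y = y := by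
        by_cases hs : z.SameCycle r y
        · rw [cycleOf_apply, if_pos hs, hzy]
        · exact cycleOf_apply_of_not_sameCycle hs
      exact Perm.pow_apply_eq_self_of_apply_eq_self (by
        rw [hh, Perm.mul_apply, Perm.inv_eq_iff_eq.2 hcy.symm, hy]) N
    · obtain ⟨i, hi⟩ := hg.exists_pow_eq (mem_support.1 hr) hy
      obtain ⟨k, j, hj, hij⟩ : ∃ k j, j < N ∧ i + p ^ (a + 1) = N * k + (j + 1) := by
        refine ⟨(i + p ^ (a + 1) - 1) / N, (i + p ^ (a + 1) - 1) % N, Nat.mod_lt _ hN0, ?_⟩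
        have := Nat.div_add_mod (i + p ^ (a + 1) - 1) N
        have : 0 < p ^ (a + 1) := pow_pos hp.pos _
        omega
      have hy' : y = (z ^ k) ((g ^ (j + 1)) r) := by
        rw [← hi, hz, ← pow_mul, ← Perm.mul_apply, ← pow_add, ← hij, pow_add, Perm.mul_apply,
          ← ha, pow_orderOf_eq_one, Perm.one_apply]
      have hcomm' := DFunLike.congr_fun (hhz.pow_pow N k).eq ((g ^ (j + 1)) r)
      rw [Perm.mul_apply, Perm.mul_apply] at hcomm'
      rw [hy', hcomm', hall j hj]
  · rw [sign_eq_of_prime_pow_cycle hccyc hco, sign_eq_of_prime_pow_cycle hg ha]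
  · refine sup_le (Subgroup.zpowers_le.2 (Finset.Subset.refl _)) ?_
    rw [hB, Subgroup.closure_le]
    rintro _ ⟨x, rfl⟩
    exact (support_cycleOf_le z x).trans (support_pow_le g N)

/-- The decomposition of a `p`-element. -/
theorem exists_split {g : Perm α} {a : ℕ} (hg : g ^ p ^ (a + 1) = 1) :
    ∃ h c : Perm α, g = h * c ∧ c ^ p = 1 ∧ h ^ p ^ a = 1 ∧ sign c = sign g ∧
      ∃ Q : Subgroup (Perm α), IsPGroup p Q ∧ h ∈ Q ∧ c ∈ Q ∧ Q ≤ supportedIn g.support := by
  induction g using Perm.cycle_induction_on with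
  | base_one =>
    exact ⟨1, 1, (one_mul 1).symm, one_pow _, one_pow _, rfl, ⊥, IsPGroup.of_bot, one_mem _,
      one_mem _, bot_le⟩
  | base_cycles g hgc =>
    obtain ⟨k, hk, hkk⟩ := (Nat.dvd_prime_pow Fact.out).1 (orderOf_dvd_of_pow_eq_one hg)
    obtain ⟨k, rfl⟩ : ∃ j, k = j + 1 := Nat.exists_eq_add_one.2 (Nat.pos_of_ne_zero fun e => by
      rw [e, pow_zero, orderOf_eq_one_iff] at hkk
      exact hgc.ne_one hkk)
    obtain ⟨h, c, h1, h2, h3, h4, Q, hQ⟩ := exists_split_cycle hgc hkk
    exact ⟨h, c, h1, h2, orderOf_dvd_iff_pow_eq_one.1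
      ((orderOf_dvd_of_pow_eq_one h3).trans (Nat.pow_dvd_pow p (by omega))), h4, Q, hQ⟩
  | induction_disjoint σ τ hd _ ihσ ihτ =>
    rw [hd.commute.mul_pow] at hg
    have hdd := (hd.pow_disjoint_pow (p ^ (a + 1)) (p ^ (a + 1)))
    obtain ⟨hσ, hτ⟩ := hdd.mul_eq_one_iff.1 hg
    obtain ⟨h1, c1, e1, hc1, hh1, hs1, Q1, hQ1, hh1m, hc1m, hsup1⟩ := ihσ hσ
    obtain ⟨h2, c2, e2, hc2, hh2, hs2, Q2, hQ2, hh2m, hc2m, hsup2⟩ := ihτ hτ
    have hcomm : ∀ x ∈ Q1, ∀ y ∈ Q2, Commute x y := fun x hx y hy =>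
      (Perm.disjoint_iff_disjoint_support.2
        (Finset.disjoint_of_subset_left (hsup1 hx)
          (Finset.disjoint_of_subset_right (hsup2 hy)
            (Perm.disjoint_iff_disjoint_support.1 hd)))).commute
    refine ⟨h1 * h2, c1 * c2, ?_, ?_, ?_, ?_, Q1 ⊔ Q2, ?_, ?_, ?_, ?_⟩
    · rw [e1, e2, mul_assoc, ← mul_assoc c1, (hcomm c1 hc1m h2 hh2m).eq]; group
    · rw [(hcomm c1 hc1m c2 hc2m).mul_pow, hc1, hc2, one_mul]
    · rw [(hcomm h1 hh1m h2 hh2m).mul_pow, hh1, hh2, one_mul]
    · rw [map_mul, map_mul, hs1, hs2]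
    · refine IsPGroup.to_sup_of_normal_right' hQ1 hQ2 fun x hx => ?_
      rw [Subgroup.mem_normalizer_iff]
      intro y
      refine ⟨fun hy => by rwa [(hcomm x hx y hy).eq, mul_inv_cancel_right], fun hy => ?_⟩
      have h3 := hcomm x hx _ hy
      have h4 : x * y * x⁻¹ = y := by
        have h5 : x⁻¹ * (x * y * x⁻¹) * x = x * y * x⁻¹ := by
          rw [mul_assoc, ← h3.eq, ← mul_assoc, inv_mul_cancel, one_mul]
        rw [← h5]; group
      rwa [h4] at hy
    · exact mul_mem (Subgroup.mem_sup_left hh1m) (Subgroup.mem_sup_right hh2m)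
    · exact mul_mem (Subgroup.mem_sup_left hc1m) (Subgroup.mem_sup_right hc2m)
    · rw [hd.support_mul]
      exact sup_le (fun x hx => (hsup1 hx).trans Finset.subset_union_left)
        (fun x hx => (hsup2 hx).trans Finset.subset_union_right)

end CfsgLib.Fusion.AltChar
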