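import Cfsg.Agent.Invol.FusionSystemSimple
import Cfsg.Agent.Fusion.Invariant
import Cfsg.Agent.Solvable.PGroupBasic

/-!
Simplicity of a fusion system from centric subgroups: no proper strongly closed subgroup, and the
normalizer of `S` is generated, up to the centralizer of `S`, by elements lying in groups generated
by `p`-elements normalizing centric subgroups.
-/

set_option autoImplicit false
set_option linter.style.haveILetI false

namespace CfsgLib.Fusion

open Cfsg Cfsg.FusionSystem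

universe u

variable {G : Type u} [Group G] [Finite G] {p : ℕ} [Fact p.Prime]

/-- The elements normalizing `S` that lie in the group generated by the `p`-elements normalizing
some subgroup of `S` containing its centralizer. -/
def radicalGens (p : ℕ) (S : Subgroup G) : Set G :=
  {g | g ∈ Subgroup.normalizer (S : Set G) ∧ ∃ R : Subgroup G, R ≤ S ∧
    (∀ x : G, (∀ r ∈ R, x * r = r * x) → (∃ k : ℕ, orderOf x = p ^ k) → x ∈ R) ∧
    g ∈ Subgroup.closure {y : G | y ∈ Subgroup.normalizer (R : Set G) ∧ ∃ k : ℕ, orderOf y = p ^ k}}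

theorem isCentric_of_centralizer {S : Subgroup G} (hS : IsPGroup p S) {R : Subgroup G} (hR : R ≤ S)
    (h : ∀ x : G, (∀ r ∈ R, x * r = r * x) → (∃ k : ℕ, orderOf x = p ^ k) → x ∈ R) :
    (groupFusionSystem S).IsCentric R := by
  refine ⟨hR, fun Q hQ x hx => ?_⟩
  obtain ⟨g, hg, hgQ⟩ : ∃ g : G, True ∧ Q = R.map (MulAut.conj g).toMonoidHom := by
    obtain ⟨φ, hφ, hr⟩ := hQ
    obtain ⟨-, -, g, hg⟩ := mem_groupFusion.1 hφ
    exact ⟨g, trivial, hr.symm.trans (range_eq_map_conj hg)⟩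
  subst hgQ
  obtain ⟨hxS, hxc⟩ := hx
  obtain ⟨k, hk⟩ := IsPGroup.iff_orderOf.1 hS ⟨x, hxS⟩
  have hk' : orderOf (g⁻¹ * x * g) = p ^ k := by
    rw [show g⁻¹ * x * g = MulAut.conj g⁻¹ x by simp, MulEquiv.orderOf_eq, ← hk,
      ← Subgroup.orderOf_coe]
  have hmem := h (g⁻¹ * x * g) (fun r hr => by
    have h1 := Subgroup.mem_centralizer_iff.1 hxc (g * r * g⁻¹) ⟨r, hr, rfl⟩
    have h2 := congrArg (fun u => g⁻¹ * u * g) h1
    simpa [mul_assoc] using h2.symm) ⟨k, hk'⟩
  exact ⟨g⁻¹ * x * g, hmem, by simp [mul_assoc]⟩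

/-- Central generation gives no proper strongly closed subgroup. -/
theorem stronglyClosed_trivial_of_central_gen' (S : Sylow p G)
    (hgen : ∀ x ∈ (S : Subgroup G), (∀ y ∈ (S : Subgroup G), x * y = y * x) → x ≠ 1 →
      ∀ T : Subgroup G, x ∈ T →
        (∀ t ∈ T, ∀ g : G, g * t * g⁻¹ ∈ (S : Subgroup G) → g * t * g⁻¹ ∈ T) →
        (S : Subgroup G) ≤ T)
    {T : Subgroup G} (hT : (groupFusionSystem (S : Subgroup G)).StronglyClosed T) :
    T = ⊥ ∨ T = (S : Subgroup G) := by
  rcases eq_or_ne T ⊥ with h | hne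
  · exact Or.inl h
  refine Or.inr (le_antisymm hT.1 ?_)
  have hn : (T.subgroupOf (S : Subgroup G)).Normal := ⟨fun x hx g => by
    rw [Subgroup.mem_subgroupOf] at hx ⊢
    exact InvolPattern.conj_mem_of_stronglyClosed hT hx (mul_mem (mul_mem g.2 (hT.1 hx))
      (inv_mem g.2))⟩
  have hne' : T.subgroupOf (S : Subgroup G) ≠ ⊥ := fun h => hne (by
    rw [← Subgroup.map_subgroupOf_eq_of_le hT.1, h, Subgroup.map_bot])
  obtain ⟨⟨x, hxT, hxc⟩, hx1⟩ := (Subgroup.ne_bot_iff_exists_ne_one).1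
    (@PGroupBasic.inf_center_ne_bot _ _ S.2.isNilpotent _ hn hne')
  refine hgen x x.2 (fun y hy => (congrArg Subtype.val
    (Subgroup.mem_center_iff.1 hxc ⟨y, hy⟩)).symm) (fun h => hx1 (Subtype.ext (Subtype.ext h))) T
    (Subgroup.mem_subgroupOf.1 hxT) fun t ht g hg => InvolPattern.conj_mem_of_stronglyClosed hT ht hg

/-- The criterion for a given Sylow subgroup. -/
theorem isSimple_of_radicalGens_self (S : Sylow p G) (hne : (S : Subgroup G) ≠ ⊥)
    (hgen : ∀ x ∈ (S : Subgroup G), (∀ y ∈ (S : Subgroup G), x * y = y * x) → x ≠ 1 →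
      ∀ T : Subgroup G, x ∈ T →
        (∀ t ∈ T, ∀ g : G, g * t * g⁻¹ ∈ (S : Subgroup G) → g * t * g⁻¹ ∈ T) →
        (S : Subgroup G) ≤ T)
    (hN : Subgroup.normalizer ((S : Subgroup G) : Set G) ≤
      Subgroup.closure (radicalGens p (S : Subgroup G) ∪
        (Subgroup.centralizer ((S : Subgroup G) : Set G) : Set G))) :
    (groupFusionSystem (S : Subgroup G)).IsSimple p := by
  have hF := groupFusion_saturated S
  refine isSimple_of p hF hne (fun T hT => stronglyClosed_trivial_of_central_gen' S hgen hT)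
    fun E hE hEi => ?_
  rw [autGroup_groupFusion le_rfl]
  intro α hα
  obtain ⟨g₀, -, hg₀⟩ := mem_autInducedBy.1 hα
  let A : Subgroup G := {
    carrier := {g : G | g ∈ Subgroup.normalizer ((S : Subgroup G) : Set G) ∧
      ∀ β : MulAut (S : Subgroup G), (∀ x : (S : Subgroup G), ((β x : (S : Subgroup G)) : G) = g * x * g⁻¹) →
        β ∈ E.autGroup (S : Subgroup G)}
    one_mem' := ⟨one_mem _, fun β hβ => by
      have : β = 1 := MulEquiv.ext fun x => Subtype.ext (by rw [hβ x]; simp)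
      rw [this]; exact one_mem _⟩
    mul_mem' := by
      rintro a b ⟨ha, ha'⟩ ⟨hb, hb'⟩
      refine ⟨mul_mem ha hb, fun β hβ => ?_⟩
      have : β = conjAut ⊤ (S : Subgroup G) ⟨a, trivial, ha⟩ * conjAut ⊤ (S : Subgroup G) ⟨b, trivial, hb⟩ :=
        MulEquiv.ext fun x => Subtype.ext (by rw [hβ x]; show _ = a * (b * (x : G) * b⁻¹) * a⁻¹; group)
      rw [this]
      exact mul_mem (ha' _ fun x => rfl) (hb' _ fun x => rfl)
    inv_mem' := by
      rintro a ⟨ha, ha'⟩
      refine ⟨inv_mem ha, fun β hβ => ?_⟩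
      have : β = (conjAut ⊤ (S : Subgroup G) ⟨a, trivial, ha⟩)⁻¹ :=
        MulEquiv.ext fun x => Subtype.ext (by rw [hβ x, ← map_inv]; rfl)
      rw [this]
      exact inv_mem (ha' _ fun x => rfl) }
  suffices hA : Subgroup.normalizer ((S : Subgroup G) : Set G) ≤ A from
    (hA (mem_normalizer_of_aut hg₀)).2 α hg₀
  refine hN.trans ((Subgroup.closure_le A).2 (Set.union_subset ?_ ?_))
  · rintro g ⟨hgS, R, hRS, hRc, hgR⟩
    refine ⟨hgS, fun β hβ => ?_⟩
    let B : Subgroup G := {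
      carrier := {g : G | g ∈ Subgroup.normalizer (R : Set G) ∧
        ∀ γ : MulAut R, (∀ x : R, ((γ x : R) : G) = g * x * g⁻¹) → γ ∈ E.autGroup R}
      one_mem' := ⟨one_mem _, fun γ hγ => by
        have : γ = 1 := MulEquiv.ext fun x => Subtype.ext (by rw [hγ x]; simp)
        rw [this]; exact one_mem _⟩
      mul_mem' := by
        rintro a b ⟨ha, ha'⟩ ⟨hb, hb'⟩
        refine ⟨mul_mem ha hb, fun γ hγ => ?_⟩
        have : γ = conjAut ⊤ R ⟨a, trivial, ha⟩ * conjAut ⊤ R ⟨b, trivial, hb⟩ :=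
          MulEquiv.ext fun x => Subtype.ext (by rw [hγ x]; simp [mul_assoc])
        rw [this]
        exact mul_mem (ha' _ fun x => rfl) (hb' _ fun x => rfl)
      inv_mem' := by
        rintro a ⟨ha, ha'⟩
        refine ⟨inv_mem ha, fun γ hγ => ?_⟩
        have : γ = (conjAut ⊤ R ⟨a, trivial, ha⟩)⁻¹ :=
          MulEquiv.ext fun x => Subtype.ext (by rw [hγ x, ← map_inv]; rfl)
        rw [this]
        exact inv_mem (ha' _ fun x => rfl) }
    have hgB : g ∈ B := by
      refine (Subgroup.closure_le B).2 ?_ hgR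
      rintro y ⟨hyN, k, hk⟩
      refine ⟨hyN, fun γ hγ => ?_⟩
      refine pElement_mem_of_invariant p S.2 hF hEi hRS ?_ ⟨k, ?_⟩
      · rw [autGroup_groupFusion hRS]
        exact mem_autInducedBy.2 ⟨y, trivial, hγ⟩
      · have : γ = conjAut ⊤ R ⟨y, trivial, hyN⟩ := MulEquiv.ext fun z => Subtype.ext (hγ z)
        rw [this, ← map_pow]
        have hy1 : (⟨y, trivial, hyN⟩ : ↥((⊤ : Subgroup G) ⊓ Subgroup.normalizer (R : Set G))) ^ p ^ k = 1 :=
          Subtype.ext (show y ^ p ^ k = 1 by rw [← hk, pow_orderOf_eq_one])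
        rw [hy1, map_one]
    obtain ⟨hgN, hgE⟩ := hgB
    refine (autGroup_carrier le_rfl).2 (mem_of_restrict_centric p S.2 hF hE hEi.1 ?_ hRS
      (isCentric_of_centralizer S.2 hRS hRc) ?_)
    · exact ⟨le_rfl, fun x => (β x).2, g, hβ⟩
    · refine restrict_mem_of_eq
        ((autGroup_carrier hRS).1 (hgE (conjAut ⊤ R ⟨g, trivial, hgN⟩) fun x => rfl)) le_rfl
        fun x => ?_
      exact hβ _
  · intro g hg
    have hcomm : ∀ x ∈ (S : Subgroup G), g * x * g⁻¹ = x := fun x hx => by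
      rw [← Subgroup.mem_centralizer_iff.1 hg x hx, mul_inv_cancel_right]
    refine ⟨Subgroup.mem_normalizer_iff.2 fun x => ⟨fun hx => by rwa [hcomm x hx], fun hx => ?_⟩,
      fun β hβ => ?_⟩
    · have h1 := Subgroup.mem_centralizer_iff.1 hg _ hx
      rw [show g * x * g⁻¹ * g = g * x by group] at h1
      rwa [← mul_left_cancel h1] at hx
    · have : β = 1 := MulEquiv.ext fun x => Subtype.ext (by rw [hβ x, hcomm x x.2]; rfl)
      rw [this]
      exact one_mem _

/-- The criterion: the hypotheses may be checked at one Sylow subgroup. -/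
theorem isSimple_of_radicalGens (P : Sylow p G) (hne : (P : Subgroup G) ≠ ⊥)
    (hgen : ∀ x ∈ (P : Subgroup G), (∀ y ∈ (P : Subgroup G), x * y = y * x) → x ≠ 1 →
      ∀ T : Subgroup G, x ∈ T →
        (∀ t ∈ T, ∀ g : G, g * t * g⁻¹ ∈ (P : Subgroup G) → g * t * g⁻¹ ∈ T) →
        (P : Subgroup G) ≤ T)
    (hN : Subgroup.normalizer ((P : Subgroup G) : Set G) ≤
      Subgroup.closure (radicalGens p (P : Subgroup G) ∪
        (Subgroup.centralizer ((P : Subgroup G) : Set G) : Set G)))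
    (S : Sylow p G) : (groupFusionSystem (S : Subgroup G)).IsSimple p := by
  obtain ⟨c, hc⟩ := MulAction.exists_smul_eq G P S
  set e := MulAut.conj c
  have hS : (S : Subgroup G) = (P : Subgroup G).map e.toMonoidHom := by
    rw [← hc, Sylow.coe_subgroup_smul]
    rfl
  have hmem : ∀ x, e x ∈ (S : Subgroup G) ↔ x ∈ (P : Subgroup G) := fun x => by
    rw [hS]; exact Subgroup.mem_map_equiv.trans (by rw [MulEquiv.symm_apply_apply])
  have hnorm : ∀ (R : Subgroup G) x,
      e x ∈ Subgroup.normalizer ((R.map e.toMonoidHom : Subgroup G) : Set G) ↔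
        x ∈ Subgroup.normalizer (R : Set G) := fun R x => by
    rw [← Subgroup.map_equiv_normalizer_eq]
    exact Subgroup.mem_map_equiv.trans (by rw [MulEquiv.symm_apply_apply])
  refine isSimple_of_radicalGens_self S (fun h => hne ?_) ?_ ?_
  · rwa [hS, Subgroup.map_eq_bot_iff_of_injective _ e.injective] at h
  · intro x hx hxc hx1 T hxT hcl s hs
    obtain ⟨x, rfl⟩ := e.surjective x
    obtain ⟨s, rfl⟩ := e.surjective s
    refine hgen x ((hmem x).1 hx) (fun y hy => e.injective ?_) (fun h => hx1 (by rw [h, map_one]))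
      (T.comap e.toMonoidHom) hxT (fun t ht g hg => ?_) ((hmem s).1 hs)
    · rw [map_mul, map_mul]; exact hxc _ ((hmem y).2 hy)
    · show e (g * t * g⁻¹) ∈ T
      have h1 := (hmem _).2 hg
      rw [map_mul, map_mul, map_inv] at h1 ⊢
      exact hcl _ ht _ h1
  · intro g hg
    obtain ⟨g, rfl⟩ := e.surjective g
    rw [hS, hnorm] at hg
    have h1 : e g ∈ (Subgroup.closure (radicalGens p (P : Subgroup G) ∪
        (Subgroup.centralizer ((P : Subgroup G) : Set G) : Set G))).map e.toMonoidHom :=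
      ⟨g, hN hg, rfl⟩
    rw [MonoidHom.map_closure] at h1
    refine Subgroup.closure_mono ?_ h1
    rintro _ ⟨y, hy | hy, rfl⟩
    · obtain ⟨hyN, R, hRP, hRc, hyR⟩ := hy
      refine Or.inl ⟨?_, R.map e.toMonoidHom, ?_, fun x hx hk => ?_, ?_⟩
      · rw [hS]; exact (hnorm _ y).2 hyN
      · rw [hS]; exact Subgroup.map_mono hRP
      · obtain ⟨x, rfl⟩ := e.surjective x
        refine ⟨x, hRc x (fun r hr => e.injective ?_) ?_, rfl⟩
        · rw [map_mul, map_mul]; exact hx _ ⟨r, hr, rfl⟩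
        · obtain ⟨k, hk⟩ := hk
          exact ⟨k, by rw [← hk, MulEquiv.orderOf_eq]⟩
      · have h3 : e.toMonoidHom y ∈ (Subgroup.closure
            {y : G | y ∈ Subgroup.normalizer (R : Set G) ∧ ∃ k : ℕ, orderOf y = p ^ k}).map
              e.toMonoidHom := ⟨y, hyR, rfl⟩
        rw [MonoidHom.map_closure] at h3
        refine Subgroup.closure_mono ?_ h3
        rintro _ ⟨w, ⟨hwN, k, hk⟩, rfl⟩
        exact ⟨(hnorm R w).2 hwN, k, (MulEquiv.orderOf_eq e w).trans hk⟩
    · refine Or.inr (Subgroup.mem_centralizer_iff.2 fun s hs => ?_)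
      obtain ⟨s, rfl⟩ := e.surjective s
      exact (map_mul e s y).symm.trans ((congrArg e (Subgroup.mem_centralizer_iff.1 hy s
        ((hmem s).1 hs))).trans (map_mul e y s))

end CfsgLib.Fusion
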