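import Cfsg.Agent.Fusion.AltWreath
import Cfsg.Agent.Fusion.SimpleRadicals

/-!
Odd `p`: the normalizer of a Sylow subgroup of an alternating group, through two centric radicals.
-/

set_option autoImplicit false
set_option linter.unusedSectionVars false

namespace CfsgLib.Fusion.AltChar

open Equiv

variable {α : Type*} [Fintype α] [DecidableEq α] {p : ℕ} [Fact p.Prime]

/-- The group generated by the `p`-elements normalizing a subgroup. -/
def pGen (p : ℕ) (R : Subgroup (Perm α)) : Subgroup (Perm α) :=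
  Subgroup.closure {y | (∀ r ∈ R, y * r * y⁻¹ ∈ R) ∧ ∃ k : ℕ, y ^ p ^ k = 1}

theorem mem_pGen {R : Subgroup (Perm α)} {y : Perm α} (h : ∀ r ∈ R, y * r * y⁻¹ ∈ R)
    (hy : y ^ p = 1) : y ∈ pGen p R :=
  Subgroup.subset_closure ⟨h, 1, by rwa [pow_one]⟩

theorem pGen_conj {R : Subgroup (Perm α)} {g : Perm α} (hg : ∀ r ∈ R, g * r * g⁻¹ ∈ R)
    (hg' : ∀ r ∈ R, g⁻¹ * r * g ∈ R) {y : Perm α} (hy : y ∈ pGen p R) : g * y * g⁻¹ ∈ pGen p R := by
  have h1 : g * y * g⁻¹ ∈ (pGen p R).map (MulAut.conj g).toMonoidHom := ⟨y, hy, rfl⟩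
  rw [pGen, MonoidHom.map_closure] at h1
  refine Subgroup.closure_mono ?_ h1
  rintro _ ⟨z, ⟨hz, k, hk⟩, rfl⟩
  refine ⟨fun r hr => ?_, k, ?_⟩
  · show g * z * g⁻¹ * r * (g * z * g⁻¹)⁻¹ ∈ R
    rw [show g * z * g⁻¹ * r * (g * z * g⁻¹)⁻¹ = g * (z * (g⁻¹ * r * g) * z⁻¹) * g⁻¹ by group]
    exact hg _ (hz _ (hg' r hr))
  · show (g * z * g⁻¹) ^ p ^ k = 1
    rw [conj_pow, hk, mul_one, mul_inv_cancel]

theorem pGen_le_alternating (hp : Odd p) (R : Subgroup (Perm α)) : pGen p R ≤ alternatingGroup α := by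
  rw [pGen, Subgroup.closure_le]
  rintro y ⟨-, k, hk⟩
  rw [SetLike.mem_coe, Perm.mem_alternatingGroup]
  have h1 : Perm.sign y ^ p ^ k = 1 := by rw [← map_pow, hk, map_one]
  rcases Int.units_eq_one_or (Perm.sign y) with h | h
  · exact h
  · rw [h, hp.pow.neg_one_pow] at h1
    exact absurd h1 (by decide)

/-- The descent to the alternating group. -/
theorem mem_closure_of_pGen (hp : Odd p) {R : Subgroup (Perm α)} {g : alternatingGroup α}
    (hg : (g : Perm α) ∈ pGen p R) :
    g ∈ Subgroup.closure {y : alternatingGroup α |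
      y ∈ Subgroup.normalizer ((R.subgroupOf (alternatingGroup α) : Subgroup (alternatingGroup α)) :
        Set (alternatingGroup α)) ∧ ∃ k : ℕ, orderOf y = p ^ k} := by
  set S := {y : alternatingGroup α |
      y ∈ Subgroup.normalizer ((R.subgroupOf (alternatingGroup α) : Subgroup (alternatingGroup α)) :
        Set (alternatingGroup α)) ∧ ∃ k : ℕ, orderOf y = p ^ k}
  suffices pGen p R ≤ (Subgroup.closure S).map (alternatingGroup α).subtype by
    obtain ⟨y, hy, e⟩ := this hg
    rwa [Subtype.ext (show (y : Perm α) = g from e)] at hy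
  rw [pGen, Subgroup.closure_le]
  rintro y ⟨hy, k, hk⟩
  have hyA : y ∈ alternatingGroup α := pGen_le_alternating hp R (Subgroup.subset_closure ⟨hy, k, hk⟩)
  refine ⟨⟨y, hyA⟩, Subgroup.subset_closure ⟨PSLChar.mem_normalizer_of_le fun r hr => hy _ hr, ?_⟩, rfl⟩
  obtain ⟨j, -, hj⟩ := (Nat.dvd_prime_pow Fact.out).1 (orderOf_dvd_of_pow_eq_one hk)
  exact ⟨j, by rw [← hj, ← Subgroup.orderOf_coe]⟩

section Model

variable {L E : Type*} [Fintype L] [DecidableEq L] [Fintype E] [DecidableEq E]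

local notation "Ω" => (L × ZMod p) ⊕ E

variable (p L E) in
/-- The translations. -/
def baseGrp : Subgroup (Perm ((L × ZMod p) ⊕ E)) := wr p E (⊥ : Subgroup (Perm L))

theorem mem_baseGrp {g : Perm Ω} : g ∈ baseGrp p L E ↔ ∃ f, g = aff 1 1 f := by
  constructor
  · rintro ⟨σ, hσ, f, rfl⟩
    exact ⟨f, by rw [Subgroup.mem_bot.1 hσ]⟩
  · rintro ⟨f, rfl⟩
    exact tr_mem_wr _ f

/-- Monomial permutations normalize the translations. -/
theorem aff_conj_tr (σ : Perm L) (lam : L → (ZMod p)ˣ) (f h : L → ZMod p) :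
    (aff σ lam f : Perm Ω) * aff 1 1 h * (aff σ lam f)⁻¹ =
      aff 1 1 (fun l => ((lam (σ.symm l) : (ZMod p)ˣ) : ZMod p) * h (σ.symm l)) := by
  rw [mul_inv_eq_iff_eq_mul, aff_mul, aff_mul]
  congr 1
  · funext l; simp
  · funext l; simp [add_comm]

theorem aff_conj_base (σ : Perm L) (lam : L → (ZMod p)ˣ) (f : L → ZMod p) :
    ∀ r ∈ baseGrp p L E, (aff σ lam f : Perm Ω) * r * (aff σ lam f)⁻¹ ∈ baseGrp p L E := by
  intro r hr
  obtain ⟨h, rfl⟩ := mem_baseGrp.1 hr
  exact mem_baseGrp.2 ⟨_, aff_conj_tr σ lam f h⟩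

theorem aff_conj_base' (σ : Perm L) (lam : L → (ZMod p)ˣ) (f : L → ZMod p) :
    ∀ r ∈ baseGrp p L E, (aff σ lam f : Perm Ω)⁻¹ * r * aff σ lam f ∈ baseGrp p L E := by
  intro r hr
  obtain ⟨h, rfl⟩ := mem_baseGrp.1 hr
  refine mem_baseGrp.2 ⟨fun l => ((lam l)⁻¹ : (ZMod p)ˣ) * h (σ l), ?_⟩
  rw [mul_assoc, inv_mul_eq_iff_eq_mul, aff_mul, aff_mul]
  congr 1
  · funext l; simp
  · funext l
    simp only [Perm.one_apply, Pi.one_apply, Units.val_one, one_mul]
    rw [← mul_assoc, ← Units.val_mul, mul_inv_cancel, Units.val_one, one_mul, add_comm]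

/-- Elements commuting with the translations are translations. -/
theorem eq_tr_of_comm [Subsingleton E] {g : Perm Ω} (hg : ∀ r ∈ baseGrp p L E, g * r = r * g) :
    g ∈ baseGrp p L E := by
  obtain ⟨σ, lam, f, rfl⟩ := exists_aff_of_conj g fun f =>
    ⟨f, by rw [hg _ (mem_baseGrp.2 ⟨f, rfl⟩), mul_inv_cancel_right]⟩
  have h1 := fun l : L => hg _ (mem_baseGrp.2 ⟨Pi.single l 1, rfl⟩)
  have hσ : σ = 1 := Equiv.ext fun l => by
    have h2 := DFunLike.congr_fun (h1 l) (Sum.inl (l, 0))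
    rw [Perm.mul_apply, Perm.mul_apply, aff_inl, aff_inl, aff_inl, aff_inl] at h2
    simp at h2
    by_contra hne
    rw [Perm.one_apply] at hne
    simp [Pi.single_eq_of_ne hne] at h2
  refine mem_baseGrp.2 ⟨f, ?_⟩
  have hlam : lam = 1 := funext fun l => Units.ext (by
    have h2 := DFunLike.congr_fun (h1 l) (Sum.inl (l, 0))
    rw [Perm.mul_apply, Perm.mul_apply, aff_inl, aff_inl, aff_inl, aff_inl, hσ] at h2
    simpa [add_comm (f l)] using h2)
  rw [hσ, hlam]

theorem pure_mem_of_even (hp : Odd p) {C : Perm L} (hC : C ^ p = 1) {a b c : L} (hab : C a = b)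
    (hbc : C b = c) (hne : a ≠ b) (hne2 : b ≠ c) (hne3 : a ≠ c) {σ : Perm L}
    (hσ : σ ∈ alternatingGroup L) : pureHom p E σ ∈ pGen p (baseGrp p L E) := by
  set K := (pGen p (baseGrp p L E)).comap (pureHom p E)
  have hconj : ∀ τ : Perm L, ∀ x ∈ K, τ * x * τ⁻¹ ∈ K := fun τ x hx => by
    show pureHom p E (τ * x * τ⁻¹) ∈ pGen p (baseGrp p L E)
    rw [map_mul, map_mul, map_inv]
    exact pGen_conj (aff_conj_base τ 1 0) (aff_conj_base' τ 1 0) hx
  have hCK : C ∈ K := mem_pGen (aff_conj_base C 1 0) (by rw [← map_pow, hC, map_one])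
  have h3 : (swap b a * swap b c) ∈ K := by
    have : swap a b * C * (swap a b)⁻¹ * C⁻¹ = swap b a * swap b c := by
      rw [swap_inv, mul_assoc (swap a b) C, mul_assoc, ← Equiv.swap_apply_apply C a b, hab, hbc,
        swap_comm a b]
    exact this ▸ mul_mem (hconj _ C hCK) (inv_mem hCK)
  have hthree : Perm.IsThreeCycle (swap b a * swap b c) :=
    Perm.isThreeCycle_swap_mul_swap_same hne.symm hne2 hne3
  have hle : alternatingGroup L ≤ K := by
    rw [← Equiv.Perm.closure_three_cycles_eq_alternating, Subgroup.closure_le]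
    intro τ hτ
    obtain ⟨u, hu⟩ := isConj_iff.1 (Perm.isConj_of_cycleType_eq (σ := swap b a * swap b c) (τ := τ)
      (by rw [hthree.cycleType, (hτ : Perm.IsThreeCycle τ).cycleType]))
    exact hu ▸ hconj u _ h3
  exact hle hσ

theorem scal_mem (hp : Odd p) {C : Perm L} (hC : C ^ p = 1) {a b c : L} (hab : C a = b)
    (hbc : C b = c) (hne : a ≠ b) (hne2 : b ≠ c) (hne3 : a ≠ c) {lam : L → (ZMod p)ˣ}
    (hlam : ∏ l, lam l = 1) : (aff 1 lam 0 : Perm Ω) ∈ pGen p (baseGrp p L E) := by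
  classical
  have hpair : ∀ (i j : L) (u : (ZMod p)ˣ), i ≠ j →
      (aff 1 (Pi.mulSingle i u * Pi.mulSingle j u⁻¹) 0 : Perm Ω) ∈ pGen p (baseGrp p L E) := by
    intro i j u hij
    obtain ⟨k, hki, hkj⟩ : ∃ k, k ≠ i ∧ k ≠ j := by
      by_contra hcon
      push Not at hcon
      have hsub : ({a, b, c} : Finset L) ⊆ {i, j} := fun x _ => by
        by_cases hx : x = i
        · simp [hx]
        · simp [hcon x hx]
      have h1 := (Finset.card_le_card hsub).trans Finset.card_le_two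
      have h3 : ({a, b, c} : Finset L).card = 3 := by simp [hne, hne2, hne3]
      omega
    set σ := swap i k * swap i j
    have hσA : σ ∈ alternatingGroup L := by
      rw [Perm.mem_alternatingGroup, map_mul, Perm.sign_swap (Ne.symm hki), Perm.sign_swap hij]
      decide
    have hσi : σ i = j := by
      rw [Perm.mul_apply, swap_apply_left, swap_apply_of_ne_of_ne hij.symm (Ne.symm hkj)]
    have hmem := pure_mem_of_even (E := E) hp hC hab hbc hne hne2 hne3 hσA
    have h1 := mul_mem (pGen_conj (aff_conj_base 1 (Pi.mulSingle i u) 0)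
      (aff_conj_base' 1 (Pi.mulSingle i u) 0) hmem) (inv_mem hmem)
    have e : (aff 1 (Pi.mulSingle i u * Pi.mulSingle j u⁻¹) 0 : Perm Ω) =
        aff 1 (Pi.mulSingle i u) 0 * pureHom p E σ * (aff 1 (Pi.mulSingle i u) 0)⁻¹ *
          (pureHom p E σ)⁻¹ := by
      rw [eq_mul_inv_iff_mul_eq, eq_mul_inv_iff_mul_eq]
      show aff 1 _ 0 * aff σ 1 0 * aff 1 _ 0 = aff 1 _ 0 * aff σ 1 0
      rw [aff_mul, aff_mul, aff_mul]
      congr 1
      · funext l
        simp only [Perm.one_apply, Pi.one_apply, Pi.mul_apply, mul_one]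
        rcases eq_or_ne l i with rfl | hl
        · rw [hσi, Pi.mulSingle_eq_same, Pi.mulSingle_eq_same, Pi.mulSingle_eq_of_ne hij.symm, one_mul,
            inv_mul_cancel]
        · have hlj : σ l ≠ j := fun e => hl (σ.injective (e.trans hσi.symm))
          rw [Pi.mulSingle_eq_of_ne hlj, Pi.mulSingle_eq_of_ne hl, mul_one, mul_one]
      · funext l; simp
    exact e ▸ h1
  have hprod : ∀ s : Finset L, a ∉ s →
      (aff 1 (∏ l ∈ s, (Pi.mulSingle l (lam l) * Pi.mulSingle a (lam l)⁻¹)) 0 : Perm Ω) ∈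
        pGen p (baseGrp p L E) := by
    intro s
    induction s using Finset.induction_on with
    | empty => intro _; rw [Finset.prod_empty, aff_one]; exact one_mem _
    | insert x s hx ih =>
      intro ha
      rw [Finset.mem_insert, not_or] at ha
      rw [Finset.prod_insert hx]
      have := mul_mem (hpair x a (lam x) (Ne.symm ha.1)) (ih ha.2)
      rw [aff_mul, one_mul] at this
      convert this using 2
      all_goals (funext l; simp)
  have key : lam = ∏ l ∈ Finset.univ.erase a, (Pi.mulSingle l (lam l) * Pi.mulSingle a (lam l)⁻¹) := by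
    funext j
    rw [Finset.prod_apply]
    simp only [Pi.mul_apply, Finset.prod_mul_distrib]
    rcases eq_or_ne j a with rfl | hj
    · rw [Finset.prod_eq_one (fun l hl => Pi.mulSingle_eq_of_ne (Finset.ne_of_mem_erase hl).symm _),
        one_mul]
      simp only [Pi.mulSingle_eq_same]
      rw [Finset.prod_inv_distrib, eq_inv_iff_mul_eq_one, Finset.mul_prod_erase _ lam (Finset.mem_univ j),
        hlam]
    · rw [Finset.prod_eq_single_of_mem j (Finset.mem_erase.2 ⟨hj, Finset.mem_univ j⟩)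
        (fun l _ hl => Pi.mulSingle_eq_of_ne hl.symm _), Pi.mulSingle_eq_same,
        Finset.prod_eq_one (fun l _ => Pi.mulSingle_eq_of_ne hj _), mul_one]
  rw [key]
  exact hprod _ (Finset.notMem_erase a _)

/-- Even monomial permutations with trivial product of multipliers. -/
theorem aff_mem_pGen (hp : Odd p) {C : Perm L} (hC : C ^ p = 1) {a b c : L} (hab : C a = b)
    (hbc : C b = c) (hne : a ≠ b) (hne2 : b ≠ c) (hne3 : a ≠ c) {σ : Perm L}
    {lam : L → (ZMod p)ˣ} {f : L → ZMod p} (hlam : ∏ l, lam l = 1)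
    (heven : Perm.sign (aff σ lam f : Perm Ω) = 1) :
    (aff σ lam f : Perm Ω) ∈ pGen p (baseGrp p L E) := by
  have hlam' : ∏ l, lam (σ.symm l) = 1 := by rw [Equiv.prod_comp σ.symm lam, hlam]
  have hd := scal_mem (E := E) hp hC hab hbc hne hne2 hne3 hlam'
  have hmem : (aff 1 1 (fun l => f (σ.symm l)) : Perm Ω) ∈ pGen p (baseGrp p L E) :=
    mem_pGen (aff_conj_base _ _ _) (tr_pow_p _)
  have e : (aff σ lam f : Perm Ω) =
      aff 1 1 (fun l => f (σ.symm l)) * aff 1 (fun l => lam (σ.symm l)) 0 * pureHom p E σ := by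
    show _ = _ * aff σ 1 0
    rw [aff_mul, aff_mul]
    congr 1
    all_goals (funext l; simp)
  have hA := pGen_le_alternating hp _ (mul_mem hmem hd)
  rw [e] at heven ⊢
  rw [map_mul, Perm.mem_alternatingGroup.1 hA, one_mul] at heven
  refine mul_mem (mul_mem hmem hd) (pure_mem_of_even hp hC hab hbc hne hne2 hne3 ?_)
  rw [Perm.mem_alternatingGroup]
  have hsum : Perm.sign (pureHom p E σ) = Perm.sign σ := by
    show Perm.sign (aff σ 1 0 : Perm Ω) = _
    have : (aff σ 1 0 : Perm Ω) =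
        Equiv.sumCongr (Equiv.prodCongr σ (1 : Perm (ZMod p))) (1 : Perm E) := by
      refine Equiv.ext ?_
      rintro (⟨l, x⟩ | e) <;> simp [aff]
    rw [this, Perm.sign_sumCongr, map_one, mul_one]
    have h2 : Equiv.prodCongr σ (1 : Perm (ZMod p)) = (Equiv.prodComm (ZMod p) L).permCongr
        (Equiv.prodCongrRight fun _ : ZMod p => σ) := by
      refine Equiv.ext ?_
      rintro ⟨l, x⟩
      simp
    rw [h2, Perm.sign_permCongr, Perm.sign_prodCongrRight, Finset.prod_const, Finset.card_univ,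
      ZMod.card]
    rcases Int.units_eq_one_or (Perm.sign σ) with h | h <;> rw [h]
    · exact one_pow _
    · exact hp.neg_one_pow
  rwa [← hsum]

end Model

/-! ### The two-level model -/

section TwoLevel

variable {M A E : Type*} [Fintype M] [DecidableEq M] [Fintype A] [DecidableEq A] [Fintype E]
  [DecidableEq E]

local notation "LL" => (M × ZMod p) ⊕ A
local notation "Ω" => (((M × ZMod p) ⊕ A) × ZMod p) ⊕ E

variable (p M A E) in
/-- Translations constant on blocks, with the translations of the blocks. -/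
def planeGrp : Subgroup (Perm ((((M × ZMod p) ⊕ A) × ZMod p) ⊕ E)) where
  carrier := {g | ∃ (h : M → ZMod p) (f : (M × ZMod p) ⊕ A → ZMod p),
    (∀ j y, f (Sum.inl (j, y)) = f (Sum.inl (j, 0))) ∧ g = aff (aff 1 1 h) 1 f}
  mul_mem' := by
    rintro _ _ ⟨h, f, hf, rfl⟩ ⟨h', f', hf', rfl⟩
    refine ⟨fun j => h' j + h j, fun l => f' l + f ((aff 1 1 h' : Perm LL) l), fun j y => ?_, ?_⟩
    · simp only [aff_inl, Perm.one_apply]
      rw [hf' j y, hf, hf j (_ + _)]
    · rw [aff_mul, aff_mul]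
      congr 1
      · congr 1
        · exact funext fun _ => mul_one 1
        · funext j; simp
      · exact funext fun _ => mul_one 1
      · funext l; simp
  one_mem' := ⟨0, 0, fun _ _ => rfl, by rw [aff_one, aff_one]⟩
  inv_mem' := by
    rintro _ ⟨h, f, hf, rfl⟩
    refine ⟨fun j => -h j, fun l => -f ((aff 1 1 (fun j => -h j) : Perm LL) l), fun j y => ?_, ?_⟩
    · simp only [aff_inl]
      rw [hf, hf _ (_ + _)]
    · refine inv_eq_of_mul_eq_one_right ?_
      rw [aff_mul, aff_mul]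
      have : (aff 1 1 0 : Perm LL) = 1 := aff_one
      conv_rhs => rw [← aff_one (L := LL) (E := E), ← this]
      congr 1
      · congr 1
        · exact funext fun _ => mul_one 1
        · funext j; simp
      · exact funext fun _ => mul_one 1
      · funext l; simp

/-- The action of a vector on the plane of a block. -/
def shearY (O : Finset M) (c : ZMod p) : Perm ((((M × ZMod p) ⊕ A) × ZMod p) ⊕ E) where
  toFun := Sum.map (fun q => (Sum.map (fun jy => (jy.1, if jy.1 ∈ O then jy.2 + c * q.2 else jy.2)) id q.1, q.2)) id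
  invFun := Sum.map (fun q => (Sum.map (fun jy => (jy.1, if jy.1 ∈ O then jy.2 - c * q.2 else jy.2)) id q.1, q.2)) id
  left_inv := by rintro (⟨⟨j, y⟩ | a, x⟩ | e) <;> simp <;> split_ifs <;> simp
  right_inv := by rintro (⟨⟨j, y⟩ | a, x⟩ | e) <;> simp <;> split_ifs <;> simp

theorem shearY_mul (O : Finset M) (c d : ZMod p) :
    (shearY O c : Perm Ω) * shearY O d = shearY O (c + d) := by
  refine Equiv.ext ?_
  rintro (⟨⟨j, y⟩ | a, x⟩ | e) <;> simp [shearY] <;> split_ifs <;> ring

theorem shearY_zero (O : Finset M) : (shearY O 0 : Perm Ω) = 1 := by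
  refine Equiv.ext ?_
  rintro (⟨⟨j, y⟩ | a, x⟩ | e) <;> simp [shearY]

theorem shearY_pow_p (O : Finset M) (c : ZMod p) : (shearY O c : Perm Ω) ^ p = 1 := by
  have : ∀ k : ℕ, (shearY O c : Perm Ω) ^ k = shearY O ((k : ZMod p) * c) := by
    intro k
    induction k with
    | zero => rw [pow_zero, Nat.cast_zero, zero_mul, shearY_zero]
    | succ k ih => rw [pow_succ, ih, shearY_mul, Nat.cast_succ, add_mul, one_mul]
  rw [this, ZMod.natCast_self, zero_mul, shearY_zero]

/-- The shear in the other direction. -/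
def shearX (O : Finset M) (c : ZMod p) : (M × ZMod p) ⊕ A → ZMod p :=
  Sum.elim (fun jy => if jy.1 ∈ O then c * jy.2 else 0) (fun _ => 0)

theorem shearX_normalizes (O : Finset M) (c : ZMod p) :
    ∀ r ∈ planeGrp p M A E, (aff 1 1 (shearX O c) : Perm Ω) * r * (aff 1 1 (shearX O c))⁻¹ ∈
      planeGrp p M A E := by
  rintro _ ⟨h, f, hf, rfl⟩
  refine ⟨h, fun l => f l + (shearX O c ((aff 1 1 h : Perm LL) l) - shearX O c l), fun j y => ?_, ?_⟩
  · beta_reduce
    rw [hf j y]
    simp only [aff_inl, shearX, Sum.elim_inl, Perm.one_apply, Pi.one_apply, Units.val_one, one_mul]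
    split_ifs <;> ring
  · rw [mul_inv_eq_iff_eq_mul, aff_mul, aff_mul]
    congr 1
    funext l
    simp
    ring

theorem shearY_normalizes (O : Finset M) (c : ZMod p) :
    ∀ r ∈ planeGrp p M A E, (shearY O c : Perm Ω) * r * (shearY O c)⁻¹ ∈ planeGrp p M A E := by
  rintro _ ⟨h, f, hf, rfl⟩
  refine ⟨fun j => h j + (if j ∈ O then c * f (Sum.inl (j, 0)) else 0), f, hf, ?_⟩
  rw [mul_inv_eq_iff_eq_mul]
  refine Equiv.ext ?_
  rintro (⟨⟨j, y⟩ | a, x⟩ | e)
  · simp only [Perm.mul_apply, aff_inl, shearY, Equiv.coe_fn_mk, Sum.map_inl, id_eq,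
      Perm.one_apply, Pi.one_apply, Units.val_one, one_mul, hf j y]
    by_cases hj : j ∈ O <;> simp [hj, hf j] <;> ring
  · simp [shearY, aff]
  · simp [shearY, aff]

/-- Elements commuting with the plane group belong to it. -/
theorem mem_planeGrp_of_comm [Subsingleton E] {g : Perm Ω}
    (hg : ∀ r ∈ planeGrp p M A E, g * r = r * g) : g ∈ planeGrp p M A E := by
  classical
  have hcomm : ∀ r ∈ planeGrp p M A E, ∀ z, g (r z) = r (g z) := fun r hr z =>
    DFunLike.congr_fun (hg r hr) z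
  set u : M → (M × ZMod p) ⊕ A → ZMod p := fun j => Sum.elim (fun jy => if jy.1 = j then 1 else 0) (fun _ => 0)
  have hu : ∀ j, (aff 1 1 (u j) : Perm Ω) ∈ planeGrp p M A E := fun j =>
    ⟨0, u j, fun _ _ => rfl, by rw [aff_one]⟩
  have hv : ∀ j, (aff (aff 1 1 (Pi.single j 1)) 1 0 : Perm Ω) ∈ planeGrp p M A E := fun j =>
    ⟨Pi.single j 1, 0, fun _ _ => rfl, rfl⟩
  have hw : ∀ a : A, (aff 1 1 (Pi.single (Sum.inr a) 1) : Perm Ω) ∈ planeGrp p M A E := fun a =>
    ⟨0, Pi.single (Sum.inr a) 1, fun j y => by simp, by rw [aff_one]⟩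
  have hE : ∀ e : E, g (Sum.inr e) = Sum.inr e := by
    intro e
    rcases h : g (Sum.inr e) with ⟨⟨j, y⟩ | a, x⟩ | e'
    · have h1 := hcomm _ (hu j) (Sum.inr e)
      rw [aff_inr, h, aff_inl] at h1
      simp [u] at h1
    · have h1 := hcomm _ (hw a) (Sum.inr e)
      rw [aff_inr, h, aff_inl] at h1
      simp at h1
    · rw [Subsingleton.elim e' e]
  have hA : ∀ a : A, ∃ f, g (Sum.inl (Sum.inr a, 0)) = Sum.inl (Sum.inr a, f) := by
    intro a
    rcases h : g (Sum.inl (Sum.inr a, 0)) with ⟨⟨j, y⟩ | a', x⟩ | e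
    · have h1 := hcomm _ (hu j) (Sum.inl (Sum.inr a, 0))
      rw [aff_inl] at h1
      simp only [Perm.one_apply, Pi.one_apply, Units.val_one, one_mul, u, Sum.elim_inr, add_zero] at h1
      rw [h, aff_inl] at h1
      simp at h1
    · by_cases e : a' = a
      · exact ⟨x, by rw [e]⟩
      · have h1 := hcomm _ (hw a') (Sum.inl (Sum.inr a, 0))
        rw [aff_inl] at h1
        simp only [Perm.one_apply, Pi.one_apply, Units.val_one, one_mul,
          Pi.single_eq_of_ne (show (Sum.inr a : (M × ZMod p) ⊕ A) ≠ Sum.inr a' by simp [Ne.symm e]),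
          add_zero] at h1
        rw [h, aff_inl] at h1
        simp at h1
    · rw [← hE e] at h
      exact absurd (g.injective h) (by simp)
  have hM : ∀ j : M, ∃ y f, g (Sum.inl (Sum.inl (j, 0), 0)) = Sum.inl (Sum.inl (j, y), f) := by
    intro j
    rcases h : g (Sum.inl (Sum.inl (j, 0), 0)) with ⟨⟨j', y⟩ | a', x⟩ | e
    · by_cases e : j' = j
      · exact ⟨y, x, by rw [e]⟩
      · have h1 := hcomm _ (hu j') (Sum.inl (Sum.inl (j, 0), 0))
        rw [aff_inl] at h1
        simp only [Perm.one_apply, Pi.one_apply, Units.val_one, one_mul, u, Sum.elim_inl,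
          if_neg (Ne.symm e), add_zero] at h1
        rw [h, aff_inl] at h1
        simp at h1
    · have h1 := hcomm _ (hw a') (Sum.inl (Sum.inl (j, 0), 0))
      rw [aff_inl] at h1
      simp only [Perm.one_apply, Pi.one_apply, Units.val_one, one_mul,
        Pi.single_eq_of_ne (show (Sum.inl (j, 0) : (M × ZMod p) ⊕ A) ≠ Sum.inr a' by simp), add_zero] at h1
      rw [h, aff_inl] at h1
      simp at h1
    · rw [← hE e] at h
      exact absurd (g.injective h) (by simp)
  choose fA hfA using hA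
  choose yM fM hfM using hM
  set f0 : (M × ZMod p) ⊕ A → ZMod p := Sum.elim (fun jy => fM jy.1) fA
  refine ⟨yM, f0, fun j y => rfl, ?_⟩
  have key : ∀ r ∈ planeGrp p M A E, ∀ z, g z = (aff (aff 1 1 yM) 1 f0 : Perm Ω) z →
      g (r z) = (aff (aff 1 1 yM) 1 f0 : Perm Ω) (r z) := by
    intro r hr z hz
    rw [hcomm r hr, hz]
    obtain ⟨h', f', hf', rfl⟩ := hr
    rcases z with ⟨⟨j, y⟩ | a, x⟩ | e
    · simp only [aff_inl, Perm.one_apply, Pi.one_apply, Units.val_one, one_mul, f0, Sum.elim_inl]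
      rw [hf' j y, hf' j (y + yM j)]
      simp only [Sum.inl.injEq, Prod.mk.injEq, true_and]
      exact ⟨by ring, by ring⟩
    · simp [aff, f0]
      ring
    · simp [aff]
  refine Equiv.ext ?_
  rintro (⟨⟨j, y⟩ | a, x⟩ | e)
  · have h1 := key (aff (aff 1 1 (Pi.single j y)) 1 (fun l => u j l * x))
      ⟨Pi.single j y, _, fun _ _ => rfl, rfl⟩ (Sum.inl (Sum.inl (j, 0), 0))
      (by rw [hfM, aff_inl, aff_inl]; simp [f0])
    rw [aff_inl, aff_inl] at h1
    simpa [u] using h1
  · have h1 := key (aff (aff 1 1 0) 1 (Pi.single (Sum.inr a) x))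
      ⟨0, _, fun j y => by simp, rfl⟩ (Sum.inl (Sum.inr a, 0))
      (by rw [hfA]; simp [aff, f0])
    rw [aff_inl, aff_inr] at h1
    simpa using h1
  · rw [hE, aff_inr]

/-- The torus element. -/
def torusEl (O : Finset M) (u : (ZMod p)ˣ) : Perm ((((M × ZMod p) ⊕ A) × ZMod p) ⊕ E) :=
  aff (aff 1 (fun j => if j ∈ O then u⁻¹ else 1) 0)
    (Sum.elim (fun jy => if jy.1 ∈ O then u else 1) (fun _ => 1)) 0

theorem torusEl_mem (O : Finset M) (u : (ZMod p)ˣ) :
    (torusEl O u : Perm Ω) ∈ pGen p (planeGrp p M A E) := by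
  have hX : ∀ c, (aff 1 1 (shearX O c) : Perm Ω) ∈ pGen p (planeGrp p M A E) := fun c =>
    mem_pGen (shearX_normalizes O c) (tr_pow_p _)
  have hY : ∀ c, (shearY O c : Perm Ω) ∈ pGen p (planeGrp p M A E) := fun c =>
    mem_pGen (shearY_normalizes O c) (shearY_pow_p O c)
  have e : (torusEl O u : Perm Ω) = aff 1 1 (shearX O (u : ZMod p)) * shearY O (-((u⁻¹ : (ZMod p)ˣ) : ZMod p)) *
      aff 1 1 (shearX O (u : ZMod p)) *
      (aff 1 1 (shearX O (-1)) * shearY O 1 * aff 1 1 (shearX O (-1))) := by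
    have hu : (u : ZMod p) * ((u⁻¹ : (ZMod p)ˣ) : ZMod p) = 1 := by
      rw [← Units.val_mul, mul_inv_cancel, Units.val_one]
    refine Equiv.ext ?_
    rintro (⟨⟨j, y⟩ | a, x⟩ | e)
    · by_cases hj : j ∈ O
      · simp only [torusEl, Perm.mul_apply, aff_inl, shearY, shearX, Equiv.coe_fn_mk, Sum.map_inl,
          Sum.elim_inl, id_eq, Perm.one_apply, Pi.one_apply, Pi.zero_apply, Units.val_one, one_mul,
          add_zero, if_pos hj, Sum.inl.injEq, Prod.mk.injEq, true_and]
        constructor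
        · linear_combination x * hu
        · linear_combination ((u : ZMod p) * x - y) * hu
      · simp [torusEl, shearY, shearX, aff, hj, -ZMod.inv_coe_unit, -Units.val_inv_eq_inv_val]
    · simp [torusEl, shearY, shearX, aff, -ZMod.inv_coe_unit, -Units.val_inv_eq_inv_val]
    · simp [torusEl, shearY, shearX, aff, -ZMod.inv_coe_unit, -Units.val_inv_eq_inv_val]
  rw [e]
  exact mul_mem (mul_mem (mul_mem (hX _) (hY _)) (hX _)) (mul_mem (mul_mem (hX _) (hY _)) (hX _))

end TwoLevel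

end CfsgLib.Fusion.AltChar
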