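import Cfsg.Agent.Fusion.PSLSimple
import Mathlib.Data.ZMod.Basic
import Mathlib.NumberTheory.Padics.PadicVal.Basic
import Mathlib.GroupTheory.SpecificGroups.Alternating

/-!
Monomial permutations of `(L × ZMod p) ⊕ E` and wreath products `C_p ≀ Q` as Sylow subgroups.
-/

set_option autoImplicit false
set_option linter.unusedSectionVars false

namespace CfsgLib.Fusion.AltChar

open Equiv

variable {p : ℕ} [Fact p.Prime] {L E : Type*}

local notation "Ω" => (L × ZMod p) ⊕ E

/-- The monomial permutation `(l, x) ↦ (σ l, λ_l x + f_l)`. -/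
def aff (σ : Perm L) (lam : L → (ZMod p)ˣ) (f : L → ZMod p) : Perm ((L × ZMod p) ⊕ E) :=
  Equiv.sumCongr
    { toFun := fun a => (σ a.1, lam a.1 * a.2 + f a.1)
      invFun := fun a => (σ.symm a.1, ((lam (σ.symm a.1))⁻¹ : (ZMod p)ˣ) * (a.2 - f (σ.symm a.1)))
      left_inv := fun a => by
        obtain ⟨l, x⟩ := a
        simp only [Equiv.symm_apply_apply, Prod.mk.injEq, true_and]
        rw [add_sub_cancel_right, ← mul_assoc, ← Units.val_mul, inv_mul_cancel, Units.val_one, one_mul]
      right_inv := fun a => by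
        obtain ⟨l, x⟩ := a
        simp only [Equiv.apply_symm_apply, Prod.mk.injEq, true_and]
        rw [← mul_assoc, ← Units.val_mul, mul_inv_cancel, Units.val_one, one_mul, sub_add_cancel] }
    (Equiv.refl E)

theorem aff_inl (σ : Perm L) (lam : L → (ZMod p)ˣ) (f : L → ZMod p) (l : L) (x : ZMod p) :
    (aff σ lam f : Perm Ω) (Sum.inl (l, x)) = Sum.inl (σ l, lam l * x + f l) := rfl

theorem aff_inr (σ : Perm L) (lam : L → (ZMod p)ˣ) (f : L → ZMod p) (e : E) :
    (aff σ lam f : Perm Ω) (Sum.inr e) = Sum.inr e := rfl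

theorem aff_one : (aff 1 1 0 : Perm Ω) = 1 := by
  refine Equiv.ext ?_
  rintro (⟨l, x⟩ | e)
  · rw [aff_inl]; simp
  · rfl

theorem aff_mul (σ σ' : Perm L) (lam lam' : L → (ZMod p)ˣ) (f f' : L → ZMod p) :
    (aff σ lam f : Perm Ω) * aff σ' lam' f' =
      aff (σ * σ') (fun l => lam (σ' l) * lam' l) (fun l => lam (σ' l) * f' l + f (σ' l)) := by
  refine Equiv.ext ?_
  rintro (⟨l, x⟩ | e)
  · rw [Perm.mul_apply, aff_inl, aff_inl, aff_inl]
    simp only [Perm.mul_apply, Units.val_mul, Sum.inl.injEq, Prod.mk.injEq, true_and]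
    ring
  · rfl

theorem aff_inj {σ σ' : Perm L} {lam lam' : L → (ZMod p)ˣ} {f f' : L → ZMod p}
    (h : (aff σ lam f : Perm Ω) = aff σ' lam' f') : σ = σ' ∧ lam = lam' ∧ f = f' := by
  have h0 := fun l => DFunLike.congr_fun h (Sum.inl (l, 0))
  have h1 := fun l => DFunLike.congr_fun h (Sum.inl (l, 1))
  simp only [aff_inl, Sum.inl.injEq, Prod.mk.injEq, mul_zero, zero_add, mul_one] at h0 h1
  refine ⟨Equiv.ext fun l => (h0 l).1, funext fun l => Units.ext ?_, funext fun l => (h0 l).2⟩
  have := (h1 l).2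
  rw [(h0 l).2] at this
  exact add_right_cancel this

theorem tr_pow (f : L → ZMod p) (k : ℕ) :
    (aff 1 1 f : Perm Ω) ^ k = aff 1 1 ((k : ZMod p) • f) := by
  induction k with
  | zero => rw [pow_zero, Nat.cast_zero, zero_smul, aff_one]
  | succ k ih =>
    rw [pow_succ, ih, aff_mul]
    congr 1
    · exact funext fun _ => mul_one _
    · funext l
      simp [add_mul, add_comm]

theorem tr_pow_p (f : L → ZMod p) : (aff 1 1 f : Perm Ω) ^ p = 1 := by
  rw [tr_pow, ZMod.natCast_self, zero_smul, aff_one]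

variable (p E) in
/-- Permutations of `L` acting on the first coordinate. -/
def pureHom : Perm L →* Perm ((L × ZMod p) ⊕ E) where
  toFun σ := aff σ 1 0
  map_one' := aff_one
  map_mul' σ τ := by
    rw [aff_mul]
    congr 1
    · exact funext fun _ => (mul_one 1).symm
    · funext l; simp

variable (p E) in
/-- The wreath product of `ZMod p` by `Q`. -/
def wr (Q : Subgroup (Perm L)) : Subgroup (Perm ((L × ZMod p) ⊕ E)) where
  carrier := {g | ∃ σ ∈ Q, ∃ f : L → ZMod p, g = aff σ 1 f}
  mul_mem' := by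
    rintro _ _ ⟨σ, hσ, f, rfl⟩ ⟨τ, hτ, h, rfl⟩
    refine ⟨σ * τ, mul_mem hσ hτ, fun l => h l + f (τ l), ?_⟩
    rw [aff_mul]
    congr 1
    · exact funext fun _ => mul_one 1
    · funext l; simp
  one_mem' := ⟨1, one_mem _, 0, aff_one.symm⟩
  inv_mem' := by
    rintro _ ⟨σ, hσ, f, rfl⟩
    refine ⟨σ⁻¹, inv_mem hσ, fun l => -f (σ⁻¹ l), inv_eq_of_mul_eq_one_right ?_⟩
    rw [aff_mul, ← aff_one, mul_inv_cancel]
    congr 1
    · exact funext fun _ => mul_one 1
    · funext l; simp

theorem tr_mem_wr (Q : Subgroup (Perm L)) (f : L → ZMod p) : aff 1 1 f ∈ wr p E Q :=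
  ⟨1, one_mem _, f, rfl⟩

variable [Fintype L] [DecidableEq L] [Fintype E] [DecidableEq E]

theorem card_wr (Q : Subgroup (Perm L)) :
    Nat.card (wr p E Q) = p ^ Fintype.card L * Nat.card Q := by
  have hf : Function.Bijective
      (fun x : (L → ZMod p) × Q => (⟨aff x.2.1 1 x.1, x.2.1, x.2.2, x.1, rfl⟩ : wr p E Q)) := by
    refine ⟨fun x y h => ?_, ?_⟩
    · obtain ⟨h1, -, h3⟩ := aff_inj (congrArg Subtype.val h)
      exact Prod.ext h3 (Subtype.ext h1)
    · rintro ⟨_, σ, hσ, f, rfl⟩
      exact ⟨(f, ⟨σ, hσ⟩), rfl⟩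
  rw [← Nat.card_eq_of_bijective _ hf, Nat.card_prod, Nat.card_fun, Nat.card_zmod,
    Nat.card_eq_fintype_card (α := L)]

/-- The wreath product of a Sylow subgroup is a Sylow subgroup. -/
theorem exists_sylow_wr (hE : Fintype.card E < p) (Q : Sylow p (Perm L)) :
    ∃ P : Sylow p (Perm ((L × ZMod p) ⊕ E)),
      (P : Subgroup (Perm ((L × ZMod p) ⊕ E))) = wr p E (Q : Subgroup (Perm L)) := by
  have hp : p.Prime := Fact.out
  have hc : Nat.card (wr p E (Q : Subgroup (Perm L))) =
      p ^ padicValNat p (Fintype.card ((L × ZMod p) ⊕ E)).factorial := by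
    rw [card_wr, Q.card_eq_multiplicity, Nat.card_eq_fintype_card (α := Perm L), Fintype.card_perm,
      Fintype.card_sum, Fintype.card_prod, ZMod.card, mul_comm (Fintype.card L) p,
      padicValNat_factorial_mul_add _ hE, padicValNat_factorial_mul,
      Nat.factorization_def _ hp, ← pow_add, add_comm]
  obtain ⟨P, hP⟩ := (IsPGroup.of_card hc).exists_le_sylow
  refine ⟨P, (Subgroup.eq_of_le_of_card_ge hP ?_).symm⟩
  rw [hc, P.card_eq_multiplicity, Nat.card_eq_fintype_card, Fintype.card_perm,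
    Nat.factorization_def _ hp]

/-- A permutation normalizing the translations is monomial. -/
theorem exists_aff_of_conj [Subsingleton E] (g : Perm ((L × ZMod p) ⊕ E))
    (hg : ∀ f : L → ZMod p, ∃ h, g * aff 1 1 f * g⁻¹ = aff 1 1 h) :
    ∃ σ lam f, g = aff σ lam f := by
  classical
  choose H hH using hg
  have hHinj : Function.Injective H := fun f f' e => by
    have h1 : g * aff 1 1 f * g⁻¹ = g * aff 1 1 f' * g⁻¹ := by rw [hH, hH, e]
    exact (aff_inj (mul_left_cancel (mul_right_cancel h1))).2.2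
  have hHsurj := Finite.injective_iff_surjective.1 hHinj
  have happ : ∀ f a, g ((aff 1 1 f : Perm Ω) a) = (aff 1 1 (H f) : Perm Ω) (g a) := fun f a => by
    rw [← hH f]; simp
  have hE : ∀ e : E, g (Sum.inr e) = Sum.inr e := by
    intro e
    rcases h : g (Sum.inr e) with ⟨l, x⟩ | e'
    · exfalso
      obtain ⟨f, hf⟩ := hHsurj (Pi.single l 1)
      have h1 := happ f (Sum.inr e)
      rw [aff_inr, h, hf, aff_inl] at h1
      simp at h1
    · rw [Subsingleton.elim e' e]
  have hline : ∀ l : L, ∃ l' y, g (Sum.inl (l, 0)) = Sum.inl (l', y) := by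
    intro l
    rcases h : g (Sum.inl (l, 0)) with ⟨l', y⟩ | e'
    · exact ⟨l', y, rfl⟩
    · rw [← hE e'] at h
      exact absurd (g.injective h) (by simp)
  choose σ f hσ using hline
  set c : L → ZMod p := fun l => H (Pi.single l 1) (σ l) with hc
  have hform : ∀ (l : L) (x : ZMod p), g (Sum.inl (l, x)) = Sum.inl (σ l, c l * x + f l) := by
    intro l x
    have key : ∀ j : ℕ, g (Sum.inl (l, (j : ZMod p))) = Sum.inl (σ l, c l * j + f l) := by
      intro j
      induction j with
      | zero => rw [Nat.cast_zero, hσ, mul_zero, zero_add]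
      | succ j ih =>
        have h1 := happ (Pi.single l 1) (Sum.inl (l, (j : ZMod p)))
        rw [ih, aff_inl, aff_inl] at h1
        simp only [Perm.one_apply, Pi.one_apply, Units.val_one, one_mul, Pi.single_eq_same] at h1
        rw [Nat.cast_succ, h1, hc]
        simp only [Sum.inl.injEq, Prod.mk.injEq, true_and]
        ring
    obtain ⟨j, rfl⟩ : ∃ j : ℕ, (j : ZMod p) = x := ⟨x.val, ZMod.natCast_zmod_val x⟩
    exact key j
  have hc0 : ∀ l, c l ≠ 0 := fun l e => by
    have h1 : g (Sum.inl (l, 1)) = g (Sum.inl (l, 0)) := by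
      rw [hform, hform, e, zero_mul, zero_mul]
    simpa using g.injective h1
  have hσinj : Function.Injective σ := fun l l' e => by
    have h1 : g (Sum.inl (l', 0)) = g (Sum.inl (l, (f l' - f l) * (c l)⁻¹)) := by
      rw [hσ l', hform, e, mul_comm (f l' - f l), ← mul_assoc, mul_inv_cancel₀ (hc0 l), one_mul,
        sub_add_cancel]
    simp only [EmbeddingLike.apply_eq_iff_eq, Sum.inl.injEq, Prod.mk.injEq] at h1
    exact h1.1.symm
  refine ⟨Equiv.ofBijective σ (Finite.injective_iff_bijective.1 hσinj),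
    fun l => Units.mk0 (c l) (hc0 l), f, Equiv.ext ?_⟩
  rintro (⟨l, x⟩ | e)
  · rw [hform, aff_inl]; rfl
  · rw [hE, aff_inr]

/-- A permutation conjugating a single translation into the wreath product gives a translation. -/
theorem conj_single_mem (Q : Subgroup (Perm L)) (g : Perm ((L × ZMod p) ⊕ E)) (l : L) (a : ZMod p)
    (h : g * aff 1 1 (Pi.single l a) * g⁻¹ ∈ wr p E Q) :
    ∃ k, g * aff 1 1 (Pi.single l a) * g⁻¹ = aff 1 1 k := by
  classical
  obtain ⟨σ, hσ, k, hk⟩ := h
  suffices σ = 1 from ⟨k, by rw [hk, this]⟩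
  refine Equiv.ext fun l0 => ?_
  by_contra hne
  rw [Perm.one_apply] at hne
  have hpt : ∀ q : L × ZMod p, σ q.1 ≠ q.1 →
      ∃ x : ZMod p, g⁻¹ (Sum.inl q) = Sum.inl (l, x) := by
    intro q hq
    have h1 : (g * (aff 1 1 (Pi.single l a) : Perm Ω) * g⁻¹ : Perm Ω) (Sum.inl q) ≠ Sum.inl q := by
      rw [hk, show q = (q.1, q.2) from rfl, aff_inl]
      simp only [Pi.one_apply, Units.val_one, one_mul, ne_eq, Sum.inl.injEq]
      exact fun e => hq (congrArg Prod.fst e)
    rw [Perm.mul_apply, Perm.mul_apply] at h1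
    rcases e : g⁻¹ (Sum.inl q) with ⟨l', x⟩ | e'
    · by_cases hl : l' = l
      · exact ⟨x, by rw [hl]⟩
      · exfalso; apply h1
        rw [e, aff_inl, Pi.single_eq_of_ne hl, Pi.one_apply, Units.val_one, one_mul, add_zero,
          Perm.one_apply, ← e]
        simp
    · exfalso; apply h1
      rw [e, aff_inr, ← e]
      simp
  have hinj : ∀ q ∈ ({l0, σ l0} : Finset L) ×ˢ (Finset.univ : Finset (ZMod p)),
      σ q.1 ≠ q.1 := by
    intro q hq
    rw [Finset.mem_product] at hq
    rcases Finset.mem_insert.1 hq.1 with e | e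
    · rw [e]; exact hne
    · rw [Finset.mem_singleton.1 e]; exact fun e' => hne (σ.injective e')
  choose x hx using fun q hq => hpt q (hinj q hq)
  have hcard := Finset.card_le_card_of_injOn
    (s := ({l0, σ l0} : Finset L) ×ˢ (Finset.univ : Finset (ZMod p))) (t := (Finset.univ : Finset (ZMod p)))
    (fun q => if hq : q ∈ ({l0, σ l0} : Finset L) ×ˢ (Finset.univ : Finset (ZMod p)) then x q hq else 0)
    (fun q _ => Finset.mem_univ _) (fun q hq q' hq' e => by
      simp only [Finset.mem_coe] at hq hq'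
      simp only [dif_pos hq, dif_pos hq'] at e
      have h1 := (hx q hq).trans ((congrArg (fun z => (Sum.inl (l, z) : Ω)) e).trans (hx q' hq').symm)
      exact Sum.inl_injective ((g⁻¹).injective h1))
  rw [Finset.card_product, Finset.card_pair (Ne.symm hne), Finset.card_univ, ZMod.card] at hcard
  have := (Fact.out : p.Prime).pos
  omega

/-- The normalizer of the wreath product consists of monomial permutations normalizing translations. -/
theorem normalizer_wr_conj (Q : Subgroup (Perm L)) (g : Perm ((L × ZMod p) ⊕ E))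
    (hg : ∀ x ∈ wr p E Q, g * x * g⁻¹ ∈ wr p E Q) (f : L → ZMod p) :
    ∃ h, g * aff 1 1 f * g⁻¹ = aff 1 1 h := by
  classical
  have key : ∀ s : Finset L, ∃ h, g * aff 1 1 (∑ l ∈ s, Pi.single l (f l)) * g⁻¹ = aff 1 1 h := by
    intro s
    induction s using Finset.induction_on with
    | empty => exact ⟨0, by rw [Finset.sum_empty, aff_one, mul_one, mul_inv_cancel]⟩
    | insert a s ha ih =>
      obtain ⟨h1, e1⟩ := ih
      obtain ⟨h2, e2⟩ := conj_single_mem Q g a (f a) (hg _ (tr_mem_wr Q _))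
      refine ⟨h1 + h2, ?_⟩
      have hadd : ∀ u v : L → ZMod p, (aff 1 1 (u + v) : Perm Ω) = aff 1 1 v * aff 1 1 u := fun u v => by
        rw [aff_mul]
        congr 1
        · exact funext fun _ => (mul_one 1).symm
        · funext l; simp
      rw [Finset.sum_insert ha, add_comm (Pi.single a (f a) : L → ZMod p), hadd, hadd h1 h2, ← e1, ← e2]
      group
  obtain ⟨h, e⟩ := key Finset.univ
  exact ⟨h, by rwa [Finset.univ_sum_single f] at e⟩

end CfsgLib.Fusion.AltChar
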