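import Cfsg.Agent.Fusion.Factorization
import Cfsg.Agent.Fusion.Alperin
import Cfsg.Agent.CharP.PIrreducible

/-! Subsystems of p-power index contain the saturated subsystems on smaller subgroups. -/

set_option autoImplicit false

open Cfsg Cfsg.FusionSystem CfsgLib.Fusion

namespace CfsgLib.PPowerIndex

/-- Saturated subsystems of `p`-power index over the same subgroup contain one another. -/
theorem hom_subset_of_pPowerIndex {Ω : Type*} [Group Ω] {S T U : Subgroup Ω} [Finite T] (p : ℕ) [Fact p.Prime]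
    (hT : IsPGroup p T) (hTU : T ≤ U) {F : FusionSystem S} {E₁ : FusionSystem T} {E₂ : FusionSystem U}
    (h₁ : E₁.IsSubsystemOf F) (hsat : E₁.IsSaturated p) (h₂ : E₂.HasPPowerIndexIn F p)
    (P : Subgroup Ω) : E₁.Hom P ⊆ E₂.Hom P := by
  suffices h : E₁ ≤ restrictTo E₂ T hTU from fun φ hφ => (h P hφ).2.2
  refine alperin_saturated p hT hsat _ (fun Q hQ => ?_)
  have hQfn : E₁.IsFullyNormalized Q := by
    rcases hQ with rfl | hQ
    · exact isFullyNormalized_S
    · exact hQ.2.1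
  have hfin := finite_of_le hQfn.1
  have := finite_mulAut (P := Q)
  obtain ⟨-, R, hR⟩ := (good_of_fullyNormalized p hT hsat hQfn).1
  intro α hα
  suffices hα2 : α ∈ E₂.autGroup Q from (autGroup_carrier hQfn.1).2
    ⟨hQfn.1, fun x => hQfn.1 (α x).2, (autGroup_carrier (hQfn.1.trans hTU)).1 hα2⟩
  have hmem : (⟨α, hα⟩ : E₁.autGroup Q) ∈ Cfsg.pResidual p (E₁.autGroup Q) ⊔ (R : Subgroup (E₁.autGroup Q)) := by
    rw [CfsgLib.CharP.pResidual_sup_sylow]; exact Subgroup.mem_top _
  have hle : (Cfsg.pResidual p (E₁.autGroup Q) ⊔ (R : Subgroup (E₁.autGroup Q))).map (E₁.autGroup Q).subtype ≤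
      E₂.autGroup Q := by
    rw [Subgroup.map_sup]
    refine sup_le ?_ ?_
    · rw [Cfsg.pResidual, MonoidHom.map_closure, Subgroup.closure_le]
      rintro _ ⟨β, hβ, rfl⟩
      have hβF : (β : MulAut Q) ∈ F.autGroup Q := autGroup_mono' h₁ Q β.2
      refine h₂.2.2 Q (hQfn.1.trans hTU) ⟨⟨β, hβF⟩, Subgroup.subset_closure ?_, rfl⟩
      show Nat.Coprime (orderOf (⟨(β : MulAut Q), hβF⟩ : F.autGroup Q)) p
      rw [← orderOf_injective (F.autGroup Q).subtype (F.autGroup Q).subtype_injective]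
      show Nat.Coprime (orderOf (β : MulAut Q)) p
      rw [Subgroup.orderOf_coe]
      exact hβ
    · rintro _ ⟨β, hβ, rfl⟩
      rw [hR] at hβ
      exact autInducedBy_le_autGroup (hQfn.1.trans hTU) (autInducedBy_mono hTU Q hβ)
  exact hle ⟨_, hmem, rfl⟩

end CfsgLib.PPowerIndex
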