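import Cfsg.Agent.Fusion.SmallControl

/-!
Consequences of small-exponent detection: normality of `S` and nilpotency criteria.
-/

set_option autoImplicit false
set_option linter.unusedSectionVars false

namespace CfsgLib.Fusion

open Cfsg Cfsg.FusionSystem

variable {Ω : Type*} [Group Ω] {S : Subgroup Ω} {F : Cfsg.FusionSystem S} [Finite S]

theorem small_cyclic {p : ℕ} [Fact p.Prime] {x : Ω} (hx : x ^ CfsgLib.OrderPFix.small p = 1) (hx1 : x ≠ 1) :
    IsCyclic ↥(Subgroup.zpowers x) ∧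
      (Nat.card ↥(Subgroup.zpowers x) = p ∨ Nat.card ↥(Subgroup.zpowers x) = 4) := by
  refine ⟨Subgroup.isCyclic_zpowers x, ?_⟩
  rw [Nat.card_zpowers]
  rcases (CfsgLib.OrderPFix.eq_one_or_isSmall hx).resolve_left hx1 with h | ⟨-, h⟩
  · exact Or.inl h
  · exact Or.inr h

/-- A map on a small cyclic subgroup of the hyperfocal subgroup, read off an automorphism. -/
theorem exists_small_hom {p : ℕ} [Fact p.Prime] {P D : Subgroup Ω} (hP : P ≤ S)
    (hD : IsDetecting F p P D) {α : MulAut P} (hα : α ∈ F.autGroup P) (x : P) (hxD : (x : Ω) ∈ D)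
    (hx1 : x ≠ 1) :
    ∃ (A B : Subgroup Ω) (f : A →* Ω) (hxA : (x : Ω) ∈ A), A ≤ F.hyperfocalSubgroup p ∧
      B ≤ F.hyperfocalSubgroup p ∧ IsCyclic ↥A ∧ (Nat.card ↥A = p ∨ Nat.card ↥A = 4) ∧ IsCyclic ↥B ∧
      (Nat.card ↥B = p ∨ Nat.card ↥B = 4) ∧ f ∈ F.homSet A B ∧
      f ⟨x, hxA⟩ = ((α x : P) : Ω) := by
  have hz : Subgroup.zpowers (x : Ω) ≤ P := Subgroup.zpowers_le.2 x.2
  have hyD := hD.inv α hα x hxD
  have h1 : (x : Ω) ≠ 1 := fun h => hx1 (Subtype.ext h)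
  have h2 : ((α x : P) : Ω) ≠ 1 := fun h => hx1 (α.injective (by rw [map_one]; exact Subtype.ext h))
  obtain ⟨hA1, hA2⟩ := small_cyclic (hD.small _ hxD) h1
  obtain ⟨hB1, hB2⟩ := small_cyclic (hD.small _ hyD) h2
  refine ⟨_, _, _, Subgroup.mem_zpowers _, Subgroup.zpowers_le.2 (hD.le_hyp hxD),
    Subgroup.zpowers_le.2 (hD.le_hyp hyD), hA1, hA2, hB1, hB2,
    ⟨restrict_mem ((autGroup_carrier hP).1 hα) hz, ?_⟩, rfl⟩
  rintro ⟨_, n, rfl⟩
  refine ⟨n, ?_⟩
  show ((α x : P) : Ω) ^ n = ((α (Subgroup.inclusion hz ⟨(x : Ω) ^ n, n, rfl⟩) : P) : Ω)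
  rw [show Subgroup.inclusion hz ⟨(x : Ω) ^ n, n, rfl⟩ = x ^ n from Subtype.ext rfl, map_zpow]
  rfl

theorem isInner_of_small_inner (p : ℕ) [Fact p.Prime] (hS : IsPGroup p S) (hF : F.IsSaturated p)
    (h : ∀ A B : Subgroup Ω, A ≤ F.hyperfocalSubgroup p → B ≤ F.hyperfocalSubgroup p → IsCyclic ↥A →
      (Nat.card ↥A = p ∨ Nat.card ↥A = 4) → IsCyclic ↥B → (Nat.card ↥B = p ∨ Nat.card ↥B = 4) →
      F.homSet A B ⊆ (Cfsg.innerFusionSystem S).Hom A) :
    ∀ P : Subgroup Ω, F.Hom P = (Cfsg.innerFusionSystem S).Hom P := by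
  refine isInner_of_no_coprime p hS hF fun P hP α hα hcop => ?_
  have := finite_of_le hP
  obtain ⟨D, hD⟩ := exists_detecting p hS hF hP
  obtain ⟨m, hm⟩ := exists_upperIn_eq p hS
  refine hD.eq_one_of_chain (isPGroup_of_le hS hP) hα hcop (upperIn S) upperIn_zero (m := m)
    ((hD.le.trans hP).trans hm.ge) fun i x hxD hx => ?_
  by_cases hx1 : x = 1
  · rw [hx1, map_one, OneMemClass.coe_one, inv_one, mul_one]; exact one_mem _
  obtain ⟨A, B, f, hxA, hA, hB, hA1, hA2, hB1, hB2, hf, hfx⟩ := exists_small_hom hP hD hα x hxD hx1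
  obtain ⟨-, g, hg, hgx⟩ := h A B hA hB hA1 hA2 hB1 hB2 hf
  rw [← hfx, hgx]
  exact inv_mul_conj_mem_upperIn hx hg

theorem apply_mem_upperIn {ψ : S →* Ω} (hψ : ψ ∈ F.Hom S) {i : ℕ} {x : S}
    (hx : (x : Ω) ∈ upperIn S i) : ψ x ∈ upperIn S i := by
  obtain ⟨y, hy, hyx⟩ := hx
  obtain rfl : y = x := Subtype.ext hyx
  let e : S ≃* S := autOfRange ψ (F.injective_of_mem hψ) (range_eq_S hψ)
  refine ⟨e y, ?_, rfl⟩
  clear hyx
  induction i generalizing y with
  | zero =>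
    simp only [Subgroup.upperCentralSeries_zero, SetLike.mem_coe, Subgroup.mem_bot] at hy ⊢
    rw [hy, map_one]
  | succ i ih =>
    intro t
    have := ih _ (hy (e.symm t))
    rwa [map_commutatorElement, e.apply_symm_apply] at this

theorem isNormal_of_small_extends (p : ℕ) [Fact p.Prime] (hS : IsPGroup p S) (hF : F.IsSaturated p)
    (h : ∀ A B : Subgroup Ω, A ≤ F.hyperfocalSubgroup p → B ≤ F.hyperfocalSubgroup p → IsCyclic ↥A →
      (Nat.card ↥A = p ∨ Nat.card ↥A = 4) → IsCyclic ↥B → (Nat.card ↥B = p ∨ Nat.card ↥B = 4) →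
      F.homSet A B ⊆ F.normalizerHom S A) :
    F.IsNormal S := by
  refine isNormal_self_of_normalizer p hS hF fun P hP => ?_
  obtain ⟨D, hD⟩ := exists_detecting p hS hF hP.1.1
  obtain ⟨m, hm⟩ := exists_upperIn_eq p hS
  refine hD.le_of_chain hS hP.1 (isRadical_of_essential p hS hP) (upperIn S) upperIn_zero (m := m)
    ((hD.le.trans hP.1.1).trans hm.ge) (fun α hα i x hxD hx => ?_)
    fun g hg i x _ hx => inv_mul_conj_mem_upperIn hx hg.1
  by_cases hx1 : x = 1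
  · rw [hx1, map_one]; exact one_mem _
  obtain ⟨A, B, f, hxA, hA, hB, hA1, hA2, hB1, hB2, hf, hfx⟩ :=
    exists_small_hom hP.1.1 hD hα x hxD hx1
  obtain ⟨-, -, -, ψ, hψ, hψf, -⟩ := h A B hA hB hA1 hA2 hB1 hB2 hf
  have hxS : (x : Ω) ∈ S := hP.1.1 x.2
  have h1 : ψ (Subgroup.inclusion le_sup_right ⟨x, hxS⟩) ∈ upperIn S i :=
    apply_mem_upperIn (restrict_mem hψ le_sup_right) (x := ⟨x, hxS⟩) hx
  rw [← hfx, ← hψf]
  exact h1

theorem hyperfocal_le_focal (p : ℕ) : F.hyperfocalSubgroup p ≤ F.focalSubgroup := by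
  refine (Subgroup.closure_le _).2 ?_
  rintro _ ⟨P, α, x, hP, -, rfl⟩
  exact Subgroup.subset_closure ⟨P, _, x, (autGroup_carrier hP).1 α.2, rfl⟩

theorem isNormal_of_small_normal (p : ℕ) [Fact p.Prime] (hS : IsPGroup p S) (hF : F.IsSaturated p)
    (hnorm : ∀ x ∈ F.focalSubgroup, (x ^ p = 1 ∨ (p = 2 ∧ x ^ 4 = 1)) →
      ∀ s ∈ S, s * x * s⁻¹ ∈ Subgroup.zpowers x) :
    F.IsNormal S := by
  refine isNormal_self_of_normalizer p hS hF fun P hP => ?_
  obtain ⟨D, hD⟩ := exists_detecting p hS hF hP.1.1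
  have hfoc : ∀ x ∈ D, x ∈ F.focalSubgroup := fun x hx => hyperfocal_le_focal p (hD.le_hyp hx)
  have hDS : D ≤ S := hD.le.trans hP.1.1
  -- elements of order `p` in `D` are centralised by `S`
  have hcen : ∀ x ∈ D, x ^ p = 1 → ∀ s ∈ S, s * x * s⁻¹ = x := by
    intro x hx hxp s hs
    by_cases hx1 : x = 1
    · simp [hx1]
    have hn : ∀ t : S, ∀ y ∈ Subgroup.zpowers (⟨x, hDS hx⟩ : S), t * y * t⁻¹ ∈
        Subgroup.zpowers (⟨x, hDS hx⟩ : S) := by
      rintro t _ ⟨k, rfl⟩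
      obtain ⟨j, hj⟩ := hnorm x (hfoc x hx) (Or.inl hxp) t t.2
      refine ⟨j * k, Subtype.ext ?_⟩
      have hj' : x ^ j = (t : Ω) * x * (t : Ω)⁻¹ := hj
      show x ^ (j * k) = (t : Ω) * x ^ k * (t : Ω)⁻¹
      rw [zpow_mul, hj', conj_zpow]
    haveI : (Subgroup.zpowers (⟨x, hDS hx⟩ : S)).Normal := ⟨fun y hy t => hn t y hy⟩
    haveI := hS.isNilpotent
    have hne : Subgroup.zpowers (⟨x, hDS hx⟩ : S) ≠ ⊥ := by
      rw [Ne, Subgroup.zpowers_eq_bot]
      exact fun h => hx1 (congrArg Subtype.val h)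
    have h1 := CfsgLib.PGroupBasic.inf_center_ne_bot _ hne
    have hcard : Nat.card ↥(Subgroup.zpowers (⟨x, hDS hx⟩ : S)) = p := by
      rw [Nat.card_zpowers]
      exact orderOf_eq_prime (Subtype.ext hxp) fun h => hx1 (congrArg Subtype.val h)
    have h2 : Subgroup.zpowers (⟨x, hDS hx⟩ : S) ≤ Subgroup.center S := by
      rcases (Nat.dvd_prime (Fact.out : p.Prime)).1 (hcard ▸ Subgroup.card_dvd_of_le
        (inf_le_left : Subgroup.zpowers (⟨x, hDS hx⟩ : S) ⊓ Subgroup.center S ≤ _)) with e | e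
      · exact absurd (Subgroup.eq_bot_of_card_eq _ e) h1
      · exact inf_eq_left.1 (Subgroup.eq_of_le_of_card_ge inf_le_left (by rw [e, hcard]))
    have := congrArg Subtype.val
      (Subgroup.mem_center_iff.1 (h2 (Subgroup.mem_zpowers _)) ⟨s, hs⟩)
    exact mul_inv_eq_iff_eq_mul.2 this
  let Ω₁ : Subgroup Ω :=
    { carrier := {x | x ∈ D ∧ x ^ p = 1}
      one_mem' := ⟨one_mem _, one_pow _⟩
      mul_mem' := fun {a b} ha hb => ⟨mul_mem ha.1 hb.1, by
        have hc : Commute a b := by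
          have := hcen b hb.1 hb.2 a (hDS ha.1)
          exact mul_inv_eq_iff_eq_mul.1 this
        rw [hc.mul_pow, ha.2, hb.2, one_mul]⟩
      inv_mem' := fun {a} ha => ⟨Subgroup.inv_mem _ ha.1, by rw [inv_pow, ha.2, inv_one]⟩ }
  let Z : ℕ → Subgroup Ω := fun i => if i = 0 then ⊥ else if i = 1 then Ω₁ else S
  refine hD.le_of_chain hS hP.1 (isRadical_of_essential p hS hP) Z (by simp [Z]) (m := 2)
    (by simpa [Z] using hDS) (fun α hα i x hxD hx => ?_) fun g hg i x hxD hx => ?_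
  · simp only [Z] at hx ⊢
    split_ifs at hx ⊢ with h0 h1
    · rw [Subgroup.mem_bot] at hx ⊢
      rw [show x = 1 from Subtype.ext hx, map_one, OneMemClass.coe_one]
    · exact ⟨hD.inv α hα x hxD, by
        rw [← Subgroup.coe_pow, ← map_pow, show x ^ p = 1 from Subtype.ext hx.2, map_one]; rfl⟩
    · exact hP.1.1 (α x).2
  · have hgS := hg.1
    simp only [Z] at hx ⊢
    rcases i with _ | _ | i
    · simp only [if_pos, Subgroup.mem_bot]
      simp only [Nat.add_one_ne_zero, if_false, zero_add, if_true] at hx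
      rw [hcen x hxD hx.2 g hgS, inv_mul_cancel]
    · simp only [zero_add, one_ne_zero, if_false, if_true]
      have hsm := hD.small x hxD
      have hxD' : g * x * g⁻¹ ∈ D := by
        obtain ⟨j, hj⟩ := hnorm x (hfoc x hxD) (by
          rcases CfsgLib.OrderPFix.eq_one_or_isSmall hsm with h | h | ⟨h2, h⟩
          · exact Or.inl (by rw [h, one_pow])
          · exact Or.inl (h ▸ pow_orderOf_eq_one x)
          · exact Or.inr ⟨h2, h ▸ pow_orderOf_eq_one x⟩) g hgS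
        rw [← show x ^ j = g * x * g⁻¹ from hj]
        exact zpow_mem hxD j
      refine ⟨mul_mem (Subgroup.inv_mem _ hxD) hxD', ?_⟩
      by_cases hp2 : p = 2
      · subst hp2
        have h4 : x ^ 4 = 1 := by simpa [CfsgLib.OrderPFix.small] using hsm
        obtain ⟨j, hj⟩ := hnorm x (hfoc x hxD) (Or.inr ⟨rfl, h4⟩) g hgS
        have hj' : x ^ j = g * x * g⁻¹ := hj
        have hx22 : (x ^ 2) ^ 2 = 1 := by rw [← pow_mul]; exact h4
        have hxx : g * x ^ 2 * g⁻¹ = x ^ 2 := hcen _ (pow_mem hxD 2) hx22 g hgS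
        rw [← hj', ← zpow_neg_one, ← zpow_add, ← zpow_natCast, ← zpow_mul, add_mul, zpow_add]
        rw [show x ^ (j * ((2 : ℕ) : ℤ)) = x ^ 2 by
          rw [zpow_mul, hj', zpow_natCast, conj_pow, hxx]]
        rw [show (-1 : ℤ) * ((2 : ℕ) : ℤ) = -((2 : ℕ) : ℤ) by ring, zpow_neg, zpow_natCast,
          inv_mul_cancel]
      · have hxp : x ^ p = 1 := by simpa [CfsgLib.OrderPFix.small, hp2] using hsm
        rw [hcen x hxD hxp g hgS, inv_mul_cancel, one_pow]
    · have : ¬ (i + 1 + 1 = 1) := by omega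
      simp only [Nat.add_one_ne_zero, if_false, this]
      exact mul_mem (Subgroup.inv_mem _ (hDS hxD))
        (mul_mem (mul_mem hgS (hDS hxD)) (Subgroup.inv_mem _ hgS))

/-- A focal chain reaching the trivial group forces the inner system. -/
theorem isInner_of_focal_chain (p : ℕ) [Fact p.Prime] (hS : IsPGroup p S) (hF : F.IsSaturated p)
    (n : ℕ) (Q : Fin (n + 1) → Subgroup Ω) (hQ0 : Q 0 = S) (hQn : Q (Fin.last n) = ⊥)
    (hstep : ∀ i : Fin n, Subgroup.closure {y : Ω | ∃ x ∈ Q i.castSucc,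
      ∃ φ ∈ F.Hom (Subgroup.zpowers x), y = x⁻¹ * φ ⟨x, Subgroup.mem_zpowers x⟩} ≤ Q i.succ) :
    ∀ P : Subgroup Ω, F.Hom P = (Cfsg.innerFusionSystem S).Hom P := by
  refine isInner_of_no_coprime p hS hF fun P hP α hα hcop => ?_
  have := finite_of_le hP
  suffices ∀ i : Fin (n + 1), ∀ x : P, (x : Ω) ∈ Q i → α x = x from
    MulEquiv.ext fun x => this 0 x (hQ0 ▸ hP x.2)
  intro i
  induction i using Fin.reverseInduction with
  | last =>
    intro x hx
    rw [hQn, Subgroup.mem_bot] at hx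
    rw [show x = 1 from Subtype.ext hx, map_one]
  | cast i ih =>
    intro x hx
    refine aut_eq_one_of_displacement (isPGroup_of_le hS hP) hcop (ih _ (hstep i ?_))
    exact Subgroup.subset_closure ⟨x, hx, _,
      restrict_mem ((autGroup_carrier hP).1 hα) (Subgroup.zpowers_le.2 x.2), rfl⟩

end CfsgLib.Fusion
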