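import Cfsg.Agent.Fusion.Basic
import Cfsg.Prelude.Def_FusionComponents

/-!
Transport of fusion systems along an isomorphism of the underlying groups.
-/

set_option autoImplicit false
set_option linter.style.haveILetI false

open Cfsg Cfsg.FusionSystem

namespace CfsgLib.Fusion

variable {Ω : Type*} [Group Ω] {Ω' : Type*} [Group Ω']

/-- An isomorphism between two subgroups, recorded by functions on the ambient groups. -/
structure Tr (S : Subgroup Ω) (S' : Subgroup Ω') where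
  /-- forwards -/
  f : Ω → Ω'
  /-- backwards -/
  g : Ω' → Ω
  f_mem : ∀ x ∈ S, f x ∈ S'
  g_mem : ∀ y ∈ S', g y ∈ S
  gf : ∀ x ∈ S, g (f x) = x
  fg : ∀ y ∈ S', f (g y) = y
  f_mul : ∀ x ∈ S, ∀ y ∈ S, f (x * y) = f x * f y

namespace Tr

variable {S : Subgroup Ω} {S' : Subgroup Ω'} (t : Tr S S')

theorem f_one : t.f 1 = 1 := by
  have := t.f_mul 1 (one_mem _) 1 (one_mem _)
  rwa [one_mul, left_eq_mul] at this

theorem f_inv {x : Ω} (hx : x ∈ S) : t.f x⁻¹ = (t.f x)⁻¹ :=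
  eq_inv_of_mul_eq_one_left (by rw [← t.f_mul _ (inv_mem hx) _ hx, inv_mul_cancel, t.f_one])

theorem f_inj {x y : Ω} (hx : x ∈ S) (hy : y ∈ S) (h : t.f x = t.f y) : x = y := by
  rw [← t.gf x hx, h, t.gf y hy]

theorem f_conj {x y : Ω} (hx : x ∈ S) (hy : y ∈ S) : t.f (x * y * x⁻¹) = t.f x * t.f y * (t.f x)⁻¹ := by
  rw [t.f_mul _ (mul_mem hx hy) _ (inv_mem hx), t.f_mul _ hx _ hy, t.f_inv hx]

/-- The inverse. -/
def symm : Tr S' S where
  f := t.g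
  g := t.f
  f_mem := t.g_mem
  g_mem := t.f_mem
  gf := t.fg
  fg := t.gf
  f_mul x hx y hy := t.f_inj (t.g_mem _ (mul_mem hx hy)) (mul_mem (t.g_mem _ hx) (t.g_mem _ hy))
    (by rw [t.fg _ (mul_mem hx hy), t.f_mul _ (t.g_mem _ hx) _ (t.g_mem _ hy), t.fg _ hx, t.fg _ hy])

theorem g_mul {x y : Ω'} (hx : x ∈ S') (hy : y ∈ S') : t.g (x * y) = t.g x * t.g y := t.symm.f_mul x hx y hy

theorem g_one : t.g 1 = 1 := t.symm.f_one

theorem g_inv {x : Ω'} (hx : x ∈ S') : t.g x⁻¹ = (t.g x)⁻¹ := t.symm.f_inv hx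

/-- The image of a subgroup (only its part inside the source counts). -/
def im (P : Subgroup Ω) : Subgroup Ω' where
  carrier := {y | y ∈ S' ∧ t.g y ∈ P}
  one_mem' := ⟨one_mem _, by rw [t.g_one]; exact one_mem _⟩
  mul_mem' := fun ha hb => ⟨mul_mem ha.1 hb.1, by rw [t.g_mul ha.1 hb.1]; exact mul_mem ha.2 hb.2⟩
  inv_mem' := fun ha => ⟨inv_mem ha.1, by rw [t.g_inv ha.1]; exact inv_mem ha.2⟩

theorem mem_im {P : Subgroup Ω} {y : Ω'} : y ∈ t.im P ↔ y ∈ S' ∧ t.g y ∈ P := Iff.rfl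

theorem im_le (P : Subgroup Ω) : t.im P ≤ S' := fun _ h => h.1

theorem im_mono {P Q : Subgroup Ω} (h : P ≤ Q) : t.im P ≤ t.im Q := fun _ hy => ⟨hy.1, h hy.2⟩

theorem f_mem_im {P : Subgroup Ω} {x : Ω} (hP : P ≤ S) (hx : x ∈ P) : t.f x ∈ t.im P :=
  ⟨t.f_mem x (hP hx), by rwa [t.gf x (hP hx)]⟩

theorem mem_of_f_mem_im {P : Subgroup Ω} {x : Ω} (hxS : x ∈ S) (hx : t.f x ∈ t.im P) : x ∈ P := by
  have := hx.2
  rwa [t.gf x hxS] at this

theorem exists_of_mem_im {P : Subgroup Ω} (hP : P ≤ S) {y : Ω'} (hy : y ∈ t.im P) :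
    ∃ x ∈ P, t.f x = y := ⟨t.g y, hy.2, t.fg y hy.1⟩

theorem symm_im_im {P : Subgroup Ω} (hP : P ≤ S) : t.symm.im (t.im P) = P := by
  ext x
  exact ⟨fun h => t.mem_of_f_mem_im h.1 h.2, fun h => ⟨hP h, t.f_mem_im hP h⟩⟩

theorem im_symm_im {P : Subgroup Ω'} (hP : P ≤ S') : t.im (t.symm.im P) = P := t.symm.symm_im_im hP

theorem exists_im_eq {P' : Subgroup Ω'} (hP : P' ≤ S') : ∃ P : Subgroup Ω, P ≤ S ∧ t.im P = P' :=
  ⟨t.symm.im P', t.symm.im_le P', t.im_symm_im hP⟩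

theorem im_top : t.im S = S' := by
  ext y
  exact ⟨fun h => h.1, fun h => ⟨h, t.g_mem y h⟩⟩

theorem im_bot : t.im ⊥ = ⊥ := by
  rw [eq_bot_iff]
  intro y hy
  have h2 := Subgroup.mem_bot.1 hy.2
  rw [Subgroup.mem_bot, ← t.fg y hy.1, h2, t.f_one]

theorem im_inj {P Q : Subgroup Ω} (hP : P ≤ S) (hQ : Q ≤ S) (h : t.im P = t.im Q) : P = Q := by
  rw [← t.symm_im_im hP, h, t.symm_im_im hQ]

theorem im_le_iff {P : Subgroup Ω} (hP : P ≤ S) {X : Subgroup Ω'} (hX : X ≤ S') :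
    t.im P ≤ X ↔ P ≤ t.symm.im X :=
  ⟨fun h => (t.symm_im_im hP).ge.trans (t.symm.im_mono h), fun h => (t.im_mono h).trans (t.im_symm_im hX).le⟩

theorem im_sup {P Q : Subgroup Ω} (hP : P ≤ S) (hQ : Q ≤ S) : t.im (P ⊔ Q) = t.im P ⊔ t.im Q := by
  refine le_antisymm ?_ (sup_le (t.im_mono le_sup_left) (t.im_mono le_sup_right))
  have hX : t.im P ⊔ t.im Q ≤ S' := sup_le (t.im_le P) (t.im_le Q)
  rw [t.im_le_iff (sup_le hP hQ) hX]
  exact sup_le ((t.im_le_iff hP hX).1 le_sup_left) ((t.im_le_iff hQ hX).1 le_sup_right)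

theorem mem_normalizer_im {P : Subgroup Ω} (hP : P ≤ S) {x : Ω} (hx : x ∈ S) :
    t.f x ∈ Subgroup.normalizer (t.im P : Set Ω') ↔ x ∈ Subgroup.normalizer (P : Set Ω) := by
  constructor
  · intro h
    rw [Subgroup.mem_normalizer_iff] at h ⊢
    intro z
    constructor
    · intro hz
      have h1 := (h (t.f z)).1 (t.f_mem_im hP hz)
      rw [← t.f_conj hx (hP hz)] at h1
      exact t.mem_of_f_mem_im (mul_mem (mul_mem hx (hP hz)) (inv_mem hx)) h1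
    · intro hz
      have hzS : z ∈ S := by
        have := mul_mem (mul_mem (inv_mem hx) (hP hz)) hx
        simpa [mul_assoc] using this
      refine t.mem_of_f_mem_im hzS ((h (t.f z)).2 ?_)
      rw [← t.f_conj hx hzS]
      exact t.f_mem_im hP hz
  · intro h
    rw [Subgroup.mem_normalizer_iff] at h ⊢
    intro y
    constructor
    · intro hy
      obtain ⟨z, hz, rfl⟩ := t.exists_of_mem_im hP hy
      rw [← t.f_conj hx (hP hz)]
      exact t.f_mem_im hP ((h z).1 hz)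
    · intro hy
      have hyS : y ∈ S' := by
        have := mul_mem (mul_mem (inv_mem (t.f_mem x hx)) hy.1) (t.f_mem x hx)
        simpa [mul_assoc] using this
      refine ⟨hyS, (h _).2 (t.mem_of_f_mem_im (mul_mem (mul_mem hx (t.g_mem y hyS)) (inv_mem hx)) ?_)⟩
      rwa [t.f_conj hx (t.g_mem y hyS), t.fg y hyS]

theorem im_centralizerIn {P : Subgroup Ω} (hP : P ≤ S) :
    t.im (centralizerIn S P) = centralizerIn S' (t.im P) := by
  ext y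
  constructor
  · rintro ⟨hy, hg⟩
    refine ⟨hy, Subgroup.mem_centralizer_iff.2 fun z hz => ?_⟩
    obtain ⟨x, hx, rfl⟩ := t.exists_of_mem_im hP hz
    have := Subgroup.mem_centralizer_iff.1 hg.2 x hx
    rw [← t.fg y hy, ← t.f_mul _ (hP hx) _ hg.1, this, t.f_mul _ hg.1 _ (hP hx)]
  · rintro ⟨hy, hc⟩
    refine ⟨hy, t.g_mem y hy, Subgroup.mem_centralizer_iff.2 fun x hx => ?_⟩
    refine t.f_inj (mul_mem (hP hx) (t.g_mem y hy)) (mul_mem (t.g_mem y hy) (hP hx)) ?_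
    rw [t.f_mul _ (hP hx) _ (t.g_mem y hy), t.f_mul _ (t.g_mem y hy) _ (hP hx), t.fg y hy]
    exact Subgroup.mem_centralizer_iff.1 hc _ (t.f_mem_im hP hx)

/-- The isomorphism between a subgroup and its image. -/
def equiv {W : Subgroup Ω} (hW : W ≤ S) {W' : Subgroup Ω'} (h : t.im W = W') : W ≃* W' where
  toFun x := ⟨t.f x, h ▸ t.f_mem_im hW x.2⟩
  invFun y := ⟨t.g y, (h.ge y.2).2⟩
  left_inv x := Subtype.ext (t.gf _ (hW x.2))
  right_inv y := Subtype.ext (t.fg _ (h.ge y.2).1)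
  map_mul' x y := Subtype.ext (t.f_mul _ (hW x.2) _ (hW y.2))

theorem coe_equiv {W : Subgroup Ω} (hW : W ≤ S) {W' : Subgroup Ω'} (h : t.im W = W') (x : W) :
    ((t.equiv hW h x : W') : Ω') = t.f x := rfl

theorem coe_equiv_symm {W : Subgroup Ω} (hW : W ≤ S) {W' : Subgroup Ω'} (h : t.im W = W') (y : W') :
    (((t.equiv hW h).symm y : W) : Ω) = t.g y := rfl

theorem coe_congr {W : Subgroup Ω} (hW : W ≤ S) {W' : Subgroup Ω'} (h : t.im W = W') (α : MulAut W) (y : W') :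
    ((MulAut.congr (t.equiv hW h) α y : W') : Ω') = t.f ((α ⟨t.g y, (h.ge y.2).2⟩ : W) : Ω) := rfl

/-- The restriction to a subgroup and its image. -/
def sub {T : Subgroup Ω} (hT : T ≤ S) {T' : Subgroup Ω'} (h : t.im T = T') : Tr T T' where
  f := t.f
  g := t.g
  f_mem x hx := h ▸ t.f_mem_im hT hx
  g_mem y hy := (h.ge hy).2
  gf x hx := t.gf x (hT hx)
  fg y hy := t.fg y (h.ge hy).1
  f_mul x hx y hy := t.f_mul x (hT hx) y (hT hy)

theorem sub_im {T : Subgroup Ω} (hT : T ≤ S) {T' : Subgroup Ω'} (h : t.im T = T') {P : Subgroup Ω} (hP : P ≤ T) :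
    (t.sub hT h).im P = t.im P := by
  subst h
  ext y
  exact ⟨fun hy => ⟨hy.1.1, hy.2⟩, fun hy => ⟨⟨hy.1, hP hy.2⟩, hy.2⟩⟩

/-- The maps of `E` induce maps of `E'`. -/
def Fwd (E : FusionSystem S) (E' : FusionSystem S') : Prop :=
  ∀ (P : Subgroup Ω) (φ : P →* Ω), φ ∈ E.Hom P → ∃ φ' ∈ E'.Hom (t.im P),
    ∀ (x : Ω) (hx : x ∈ P) (hx' : t.f x ∈ t.im P), φ' ⟨t.f x, hx'⟩ = t.f (φ ⟨x, hx⟩)

/-- `E` and `E'` correspond under `t`. -/
def Corr (E : FusionSystem S) (E' : FusionSystem S') : Prop := t.Fwd E E' ∧ t.symm.Fwd E' E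

variable {t} {E : FusionSystem S} {E' : FusionSystem S'}

theorem Corr.symm (c : t.Corr E E') : t.symm.Corr E' E := ⟨c.2, c.1⟩

theorem Corr.fwd (c : t.Corr E E') {P : Subgroup Ω} {φ : P →* Ω} (hφ : φ ∈ E.Hom P) {P' : Subgroup Ω'}
    (hP' : t.im P = P') : ∃ φ' ∈ E'.Hom P', ∀ (x : Ω) (hx : x ∈ P) (hx' : t.f x ∈ P'),
      φ' ⟨t.f x, hx'⟩ = t.f (φ ⟨x, hx⟩) := by
  subst hP'
  exact c.1 P φ hφ

theorem Corr.bwd (c : t.Corr E E') {P : Subgroup Ω} (hP : P ≤ S) {P' : Subgroup Ω'} (hP' : t.im P = P')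
    {φ' : P' →* Ω'} (hφ' : φ' ∈ E'.Hom P') : ∃ φ ∈ E.Hom P, ∀ (x : Ω) (hx : x ∈ P) (hx' : t.f x ∈ P'),
      φ' ⟨t.f x, hx'⟩ = t.f (φ ⟨x, hx⟩) := by
  obtain ⟨φ, hφ, h⟩ := c.symm.fwd hφ' (P' := P) (by rw [← hP']; exact t.symm_im_im hP)
  refine ⟨φ, hφ, fun x hx hx' => ?_⟩
  have h1 := h (t.f x) hx' (by show t.g (t.f x) ∈ P; rw [t.gf x (hP hx)]; exact hx)
  rw [show φ ⟨x, hx⟩ = t.g (φ' ⟨t.f x, hx'⟩) from (apply_congr φ (t.gf x (hP hx)).symm).trans h1]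
  exact (t.fg _ (apply_mem_S hφ' _)).symm

theorem Corr.isConj (c : t.Corr E E') {P Q : Subgroup Ω} (h : E.IsConj P Q) : E'.IsConj (t.im P) (t.im Q) := by
  obtain ⟨φ, hφ, rfl⟩ := h
  obtain ⟨φ', hφ', he⟩ := c.fwd hφ (P' := t.im P) rfl
  have hP := le_of_mem_hom hφ
  refine ⟨φ', hφ', ?_⟩
  ext y
  constructor
  · rintro ⟨⟨z, hz⟩, rfl⟩
    obtain ⟨x, hx, rfl⟩ := t.exists_of_mem_im hP hz
    rw [he x hx hz]
    exact t.f_mem_im (range_le_S hφ) ⟨⟨x, hx⟩, rfl⟩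
  · intro hy
    obtain ⟨w, ⟨⟨x, hx⟩, rfl⟩, rfl⟩ := t.exists_of_mem_im (range_le_S hφ) hy
    exact ⟨⟨t.f x, t.f_mem_im hP hx⟩, he x hx _⟩

theorem Corr.congr_mem (c : t.Corr E E') {W : Subgroup Ω} (hW : W ≤ S) {W' : Subgroup Ω'} (h : t.im W = W')
    {α : MulAut W} : MulAut.congr (t.equiv hW h) α ∈ E'.autGroup W' ↔ α ∈ E.autGroup W := by
  subst h
  rw [autGroup_carrier (t.im_le W), autGroup_carrier hW]
  constructor
  · intro hα
    obtain ⟨φ, hφ, he⟩ := c.bwd hW rfl hα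
    refine restrict_mem_of_eq hφ le_rfl fun x => ?_
    have hfx := t.f_mem_im hW x.2
    have h1 := he x x.2 hfx
    refine t.f_inj (hW (α x).2) (apply_mem_S hφ _) (Eq.trans ?_ h1)
    exact congrArg (fun z : W => t.f ((α z : W) : Ω)) (Subtype.ext (t.gf x (hW x.2)).symm :
      x = (⟨t.g (t.f x), hfx.2⟩ : W))
  · intro hα
    obtain ⟨φ', hφ', he⟩ := c.fwd hα rfl
    refine restrict_mem_of_eq hφ' le_rfl fun y => ?_
    show t.f ((α ⟨t.g y, y.2.2⟩ : W) : Ω) = φ' _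
    exact (he (t.g y) y.2.2 (t.f_mem_im hW y.2.2)).symm.trans (apply_congr φ' (t.fg _ y.2.1))

theorem Corr.map_autGroup (c : t.Corr E E') {W : Subgroup Ω} (hW : W ≤ S) {W' : Subgroup Ω'} (h : t.im W = W') :
    (E.autGroup W).map (MulAut.congr (t.equiv hW h)).toMonoidHom = E'.autGroup W' := by
  ext β
  constructor
  · rintro ⟨α, hα, rfl⟩
    exact (c.congr_mem hW h).2 hα
  · intro hβ
    exact ⟨(MulAut.congr (t.equiv hW h)).symm β, (c.congr_mem hW h).1 (by rwa [MulEquiv.apply_symm_apply]),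
      MulEquiv.apply_symm_apply _ β⟩

theorem map_autInducedBy {W : Subgroup Ω} (hW : W ≤ S) {W' : Subgroup Ω'} (h : t.im W = W') :
    (autInducedBy S W).map (MulAut.congr (t.equiv hW h)).toMonoidHom = autInducedBy S' W' := by
  ext β
  rw [mem_autInducedBy]
  constructor
  · rintro ⟨α, hα, rfl⟩
    obtain ⟨z, hz, he⟩ := mem_autInducedBy.1 hα
    refine ⟨t.f z, t.f_mem z hz, fun y => ?_⟩
    have hy := h.ge y.2
    show t.f ((α ⟨t.g y, hy.2⟩ : W) : Ω) = _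
    rw [he, t.f_conj hz (t.g_mem _ hy.1), t.fg _ hy.1]
  · rintro ⟨z, hz, he⟩
    refine ⟨(MulAut.congr (t.equiv hW h)).symm β, mem_autInducedBy.2 ⟨t.g z, t.g_mem z hz, fun x => ?_⟩,
      MulEquiv.apply_symm_apply _ β⟩
    show t.g ((β (t.equiv hW h x) : W') : Ω') = _
    rw [he]
    exact (t.symm.f_conj hz (t.f_mem _ (hW x.2))).trans
      (by show t.g z * t.g (t.f x) * (t.g z)⁻¹ = _; rw [t.gf _ (hW x.2)])

theorem im_extender {P : Subgroup Ω} {φ : P →* Ω} (hP : P ≤ S) (hφ : ∀ x, φ x ∈ S) {φ' : t.im P →* Ω'}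
    (he : ∀ (x : Ω) (hx : x ∈ P) (hx' : t.f x ∈ t.im P), φ' ⟨t.f x, hx'⟩ = t.f (φ ⟨x, hx⟩)) :
    t.im (extender S P φ) = extender S' (t.im P) φ' := by
  ext y
  rw [t.mem_im, mem_extender, mem_extender]
  constructor
  · rintro ⟨hy, hyS, hyN, s, hs, he'⟩
    have hyN' := (t.mem_normalizer_im hP hyS).2 hyN
    rw [t.fg y hy] at hyN'
    refine ⟨hy, hyN', t.f s, t.f_mem s hs, fun z hz => ?_⟩
    obtain ⟨x, hx, hxz⟩ := t.exists_of_mem_im hP z.2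
    have hcx : t.g y * x * (t.g y)⁻¹ ∈ P := (Subgroup.mem_normalizer_iff.1 hyN x).1 hx
    have e1 : t.f (t.g y * x * (t.g y)⁻¹) = y * z * y⁻¹ := by rw [t.f_conj hyS (hP hx), t.fg y hy, hxz]
    have h1 := he _ hcx (t.f_mem_im hP hcx)
    rw [he' ⟨x, hx⟩ hcx, t.f_conj hs (hφ _), ← he x hx (t.f_mem_im hP hx)] at h1
    rw [← apply_congr φ' (x := ⟨t.f x, t.f_mem_im hP hx⟩) (y := z) hxz, ← h1]
    exact apply_congr φ' e1.symm
  · rintro ⟨hy, hyN', s, hs, he'⟩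
    have hyS := t.g_mem y hy
    refine ⟨hy, hyS, (t.mem_normalizer_im hP hyS).1 (by rwa [t.fg y hy]), t.g s, t.g_mem s hs, fun x hcx => ?_⟩
    have e1 : y * t.f x * y⁻¹ = t.f (t.g y * x * (t.g y)⁻¹) := by rw [t.f_conj hyS (hP x.2), t.fg y hy]
    have hz : y * t.f x * y⁻¹ ∈ t.im P := e1 ▸ t.f_mem_im hP hcx
    have h1 := he' ⟨t.f x, t.f_mem_im hP x.2⟩ hz
    rw [he x x.2 _, (apply_congr φ' e1 : φ' ⟨_, hz⟩ = φ' ⟨_, t.f_mem_im hP hcx⟩), he _ hcx _] at h1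
    refine t.f_inj (hφ _) (mul_mem (mul_mem (t.g_mem s hs) (hφ _)) (inv_mem (t.g_mem s hs))) ?_
    rw [h1, t.f_conj (t.g_mem s hs) (hφ _), t.fg s hs]

theorem Corr.saturated (c : t.Corr E E') {p : ℕ} [Fact p.Prime] [Finite S] (hE : E.IsSaturated p) :
    E'.IsSaturated p := by
  intro P' hP'
  obtain ⟨P, hP, rfl⟩ := t.exists_im_eq hP'
  obtain ⟨Q, hconj, ⟨hQ, R, hR⟩, -, hrec⟩ := hE P hP
  refine ⟨t.im Q, c.isConj hconj, ⟨t.im_le Q, ?_⟩, t.im_le Q, ?_⟩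
  · haveI : Finite Q := finite_of_le hQ
    haveI : Finite (MulAut Q) := finite_mulAut
    let e := MulAut.congr (t.equiv hQ (rfl : t.im Q = t.im Q))
    let ψ : E.autGroup Q ≃* E'.autGroup (t.im Q) :=
      ((E.autGroup Q).equivMapOfInjective e.toMonoidHom e.injective).trans
        (MulEquiv.subgroupCongr (c.map_autGroup hQ rfl))
    haveI : Finite (E'.autGroup (t.im Q)) := Finite.of_equiv _ ψ.toEquiv
    refine ⟨R.mapSurjective (f := ψ.toMonoidHom) ψ.surjective, ?_⟩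
    show (R : Subgroup (E.autGroup Q)).map ψ.toMonoidHom = _
    rw [hR]
    ext β
    rw [Subgroup.mem_map, Subgroup.mem_subgroupOf, ← map_autInducedBy hQ rfl]
    constructor
    · rintro ⟨α, hα, rfl⟩
      exact ⟨α, hα, rfl⟩
    · rintro ⟨α, hα, hαβ⟩
      have hαE : α ∈ E.autGroup Q := autInducedBy_le_autGroup hQ hα
      exact ⟨⟨α, hαE⟩, hα, Subtype.ext hαβ⟩
  · intro P₁' φ' hφ' hr
    obtain ⟨P₁, hP₁, rfl⟩ := t.exists_im_eq (le_of_mem_hom hφ')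
    obtain ⟨φ, hφ, he⟩ := c.bwd hP₁ rfl hφ'
    have hr' : φ.range = Q := by
      refine t.im_inj (range_le_S hφ) hQ ?_
      rw [← hr]
      ext y
      constructor
      · intro hy
        obtain ⟨w, ⟨⟨x, hx⟩, rfl⟩, rfl⟩ := t.exists_of_mem_im (range_le_S hφ) hy
        exact ⟨⟨t.f x, t.f_mem_im hP₁ hx⟩, he x hx _⟩
      · rintro ⟨⟨z, hz⟩, rfl⟩
        obtain ⟨x, hx, rfl⟩ := t.exists_of_mem_im hP₁ hz
        rw [he x hx hz]
        exact t.f_mem_im (range_le_S hφ) ⟨⟨x, hx⟩, rfl⟩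
    obtain ⟨ψ, hψ, hψe⟩ := hrec P₁ φ hφ hr'
    obtain ⟨ψ', hψ', hψe'⟩ := c.fwd hψ (im_extender hP₁ (apply_mem_S hφ) he)
    refine ⟨ψ', hψ', fun y hyP hyN => ?_⟩
    obtain ⟨x, hx, rfl⟩ := t.exists_of_mem_im hP₁ hyP
    have hxN : x ∈ extender S P₁ φ := le_extender hφ hx
    rw [hψe' x hxN hyN, hψe x hx hxN, he x hx hyP]

theorem Corr.stronglyClosed (c : t.Corr E E') {T : Subgroup Ω} (h : E.StronglyClosed T) :
    E'.StronglyClosed (t.im T) := by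
  refine ⟨t.im_le T, fun R' hR' φ' hφ' y => ?_⟩
  obtain ⟨R, hR, rfl⟩ := t.exists_im_eq (le_of_mem_hom hφ')
  have hRT : R ≤ T := by
    rw [← t.symm_im_im hR, ← t.symm_im_im h.1]
    exact t.symm.im_mono hR'
  obtain ⟨φ, hφ, he⟩ := c.bwd hR rfl hφ'
  obtain ⟨x, hx, hxy⟩ := t.exists_of_mem_im hR y.2
  rw [← apply_congr φ' (x := ⟨t.f x, t.f_mem_im hR hx⟩) (y := y) hxy, he x hx _]
  exact t.f_mem_im h.1 (h.2 R hRT φ hφ _)

/-- The transported system. -/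
def map (t : Tr S S') (E : FusionSystem S) : FusionSystem S' where
  Hom P' := {φ' | P' ≤ S' ∧ ∃ φ ∈ E.Hom (t.symm.im P'),
    ∀ (y : P') (hy : t.g y ∈ t.symm.im P'), φ' y = t.f (φ ⟨t.g y, hy⟩)}
  le_of_mem := by
    rintro P' φ' ⟨hP', φ, hφ, he⟩
    exact ⟨hP', fun y => by rw [he y (t.symm.f_mem_im hP' y.2)]; exact t.f_mem _ (apply_mem_S hφ _)⟩
  injective_of_mem := by
    rintro P' φ' ⟨hP', φ, hφ, he⟩ a b h
    rw [he a (t.symm.f_mem_im hP' a.2), he b (t.symm.f_mem_im hP' b.2)] at h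
    have h1 := congrArg Subtype.val (E.injective_of_mem hφ (t.f_inj (apply_mem_S hφ _) (apply_mem_S hφ _) h))
    exact Subtype.ext (by rw [← t.fg a (hP' a.2), ← t.fg b (hP' b.2)]; exact congrArg t.f h1)
  conj_mem := by
    intro P' z hP' hz
    refine ⟨hP', conjHom (t.symm.im P') (t.g z), E.conj_mem (t.symm.im_le _) (t.g_mem z hz), fun y hy => ?_⟩
    rw [conjHom_apply, conjHom_apply, t.f_conj (t.g_mem z hz) (t.g_mem y (hP' y.2)), t.fg z hz, t.fg y (hP' y.2)]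
  comp_mem := by
    rintro P' Q' φ' ψ' ⟨hP', φ, hφ, he⟩ ⟨hQ', ψ, hψ, he'⟩ hPQ
    have h : ∀ x : t.symm.im P', φ x ∈ t.symm.im Q' := fun x => by
      have hx := t.exists_of_mem_im (t.symm.im_le P') (show t.f x ∈ t.im (t.symm.im P') from
        t.f_mem_im (t.symm.im_le P') x.2)
      have hfx : t.f x ∈ P' := x.2.2
      have h1 := he ⟨t.f x, hfx⟩ (by rw [t.gf _ x.2.1]; exact x.2)
      refine ⟨apply_mem_S hφ _, ?_⟩
      have h2 := hPQ ⟨t.f x, hfx⟩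
      rw [h1, (apply_congr φ (t.gf _ x.2.1) : φ ⟨t.g (t.f x), _⟩ = φ x)] at h2
      exact h2
    refine ⟨hP', _, E.comp_mem hφ hψ h, fun y hy => ?_⟩
    show ψ' _ = t.f (ψ _)
    rw [he' _ (t.symm.f_mem_im hQ' (hPQ y))]
    congr 1
    refine apply_congr ψ ?_
    show t.g (φ' y) = φ _
    rw [he y hy, t.gf _ (apply_mem_S hφ _)]
  inv_mem := by
    rintro P' φ' ⟨hP', φ, hφ, he⟩
    obtain ⟨ψ, hψ, hψe⟩ := E.inv_mem hφ
    have hr : φ'.range ≤ S' := by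
      rintro _ ⟨y, rfl⟩
      rw [he y (t.symm.f_mem_im hP' y.2)]
      exact t.f_mem _ (apply_mem_S hφ _)
    have hreq : t.symm.im φ'.range = φ.range := by
      ext w
      constructor
      · rintro ⟨hw, y, hy⟩
        refine ⟨⟨t.g y, t.symm.f_mem_im hP' y.2⟩, t.f_inj (apply_mem_S hφ _) hw ?_⟩
        rw [← he y (t.symm.f_mem_im hP' y.2), hy]
        rfl
      · rintro ⟨x, rfl⟩
        refine ⟨apply_mem_S hφ _, ⟨t.f x, x.2.2⟩, ?_⟩
        rw [he _ (by rw [t.gf _ x.2.1]; exact x.2), apply_congr φ (t.gf _ x.2.1)]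
        rfl
    let ψr : t.symm.im φ'.range →* Ω := ψ.comp (Subgroup.inclusion hreq.le)
    have hψr : ψr ∈ E.Hom (t.symm.im φ'.range) := restrict_mem_of_eq hψ hreq.le fun _ => rfl
    let χ : φ'.range →* Ω' := MonoidHom.mk' (fun z => t.f (ψr ⟨t.g z, t.symm.f_mem_im hr z.2⟩)) fun a b => by
      rw [← t.f_mul _ (apply_mem_S hψr _) _ (apply_mem_S hψr _), ← map_mul]
      exact congrArg t.f (apply_congr ψr (t.g_mul (hr a.2) (hr b.2)))
    refine ⟨χ, ⟨hr, ψr, hψr, fun _ _ => rfl⟩, fun y => ?_⟩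
    show t.f (ψ _) = y
    have hgy := t.symm.f_mem_im hP' y.2
    have e : t.g (φ' y) = φ ⟨t.g y, hgy⟩ := by rw [he y hgy, t.gf _ (apply_mem_S hφ _)]
    rw [apply_congr ψ (y := ⟨φ ⟨t.g y, hgy⟩, _, rfl⟩) e, hψe ⟨t.g y, hgy⟩]
    exact t.fg _ (hP' y.2)

theorem corr_map (t : Tr S S') (E : FusionSystem S) : t.Corr E (t.map E) := by
  constructor
  · intro P φ hφ
    have hP := le_of_mem_hom hφ
    refine ⟨MonoidHom.mk' (fun y : t.im P => t.f (φ ⟨t.g y, y.2.2⟩)) fun a b => ?_, ⟨t.im_le P, ?_⟩, ?_⟩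
    · rw [← t.f_mul _ (apply_mem_S hφ _) _ (apply_mem_S hφ _), ← map_mul]
      exact congrArg t.f (apply_congr φ (t.g_mul a.2.1 b.2.1))
    · refine ⟨φ.comp (Subgroup.inclusion (t.symm_im_im hP).le),
        restrict_mem_of_eq hφ (t.symm_im_im hP).le fun _ => rfl, fun y hy => rfl⟩
    · intro x hx hx'
      show t.f (φ _) = _
      exact congrArg t.f (apply_congr φ (t.gf x (hP hx)))
  · rintro P' φ' ⟨hP', φ, hφ, he⟩
    refine ⟨φ, hφ, fun y hy hy' => ?_⟩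
    show φ _ = t.g (φ' _)
    rw [he ⟨y, hy⟩ hy', t.gf _ (apply_mem_S hφ _)]
    rfl

end Tr

end CfsgLib.Fusion
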