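import Cfsg.Agent.Fusion.NormalCentralizer
import Cfsg.Agent.Fusion.Transport
import Cfsg.Agent.Fusion.PIndex.Main
import Cfsg.Agent.Fusion.PIndex.Normal
import Cfsg.Agent.Fusion.PPowerIndex
import Cfsg.Agent.Fusion.SmallControlApps
import Cfsg.Agent.Fusion.LocalSaturation

/-!
The normal subsystem over `C_S(E)` inside the centralizer system of `T`.
-/

set_option autoImplicit false
set_option linter.style.haveILetI false
set_option linter.unusedSectionVars false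
set_option maxHeartbeats 1000000

open Cfsg Cfsg.FusionSystem CfsgLib.Fusion CfsgLib.FocCent

namespace CfsgLib.CentSys

variable {Ω : Type*} [Group Ω] {S T Y : Subgroup Ω} [Finite S] {F : FusionSystem S}

/-- The range of a map on the join of two strongly closed subgroups. -/
theorem range_sup_of_stronglyClosed {A B : Subgroup Ω} (hA : F.StronglyClosed A)
    (hB : F.StronglyClosed B) {ψ : ↥(A ⊔ B) →* Ω} (hψ : ψ ∈ F.Hom (A ⊔ B)) :
    ψ.range = A ⊔ B := by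
  refine eq_of_le_of_card_le (sup_le hA.1 hB.1) ?_ (card_range hψ).ge
  rw [range_eq_sup]
  refine sup_le_sup ?_ ?_
  · rintro _ ⟨z, hz, rfl⟩
    exact map_mem_of_stronglyClosed hA hψ hz
  · rintro _ ⟨z, hz, rfl⟩
    exact map_mem_of_stronglyClosed hB hψ hz

/-- The range of an extension to `P T`, for `T` strongly closed. -/
theorem range_ext (hT : F.StronglyClosed T) {P : Subgroup Ω} {η : P →* Ω} {ψ : ↥(P ⊔ T) →* Ω}
    (hψ : ψ ∈ F.Hom (P ⊔ T)) (he : ∀ x : P, ψ (Subgroup.inclusion le_sup_left x) = η x) :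
    ψ.range = η.range ⊔ T := by
  rw [range_eq_sup]
  congr 1
  · exact (map_subgroupOf_congr le_sup_left le_rfl fun x hx => he ⟨x, hx⟩).trans
      (map_subgroupOf_self η)
  · refine eq_of_le_of_card_le hT.1 ?_ ?_
    · rintro _ ⟨z, hz, rfl⟩
      exact map_mem_of_stronglyClosed hT hψ hz
    · rw [card_map_subgroupOf (F.injective_of_mem hψ) le_sup_right]

variable (p : ℕ) [Fact p.Prime] (hS : IsPGroup p S) (hF : F.IsSaturated p)
  (hT : F.StronglyClosed T) (hY : F.StronglyClosed Y) (hYT : Y ≤ centralizerIn S T)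

include hS hF hT hY hYT in
/-- Every map inside `Y` extends to `T`. -/
theorem exists_ext_sup {P : Subgroup Ω} (hP : P ≤ Y) {φ : P →* Ω} (hφ : φ ∈ F.Hom P) :
    ∃ ψ ∈ F.Hom (P ⊔ T), (∀ x : P, ψ (Subgroup.inclusion le_sup_left x) = φ x) ∧
      ψ.range = φ.range ⊔ T := by
  have hPS : P ≤ S := hP.trans hY.1
  obtain ⟨Q, hPQ, hQ⟩ := exists_fullyCentralized F hPS
  obtain ⟨η, hη, rfl⟩ := hPQ
  obtain ⟨θ, hθ, hθr, hθ1, -⟩ := exists_inv hφ rfl
  have hθP : ∀ y, θ y ∈ P := fun y => hθr.le ⟨y, rfl⟩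
  let η' : φ.range →* Ω := η.comp (θ.codRestrict P hθP)
  have hη' : η' ∈ F.Hom φ.range := F.comp_mem hθ hη hθP
  have hη'e : ∀ (x : P) (hx : φ x ∈ φ.range), η' ⟨φ x, hx⟩ = η x := fun x hx =>
    apply_congr η (hθ1 x hx)
  have hη'r : η'.range = η.range := by
    ext y
    constructor
    · rintro ⟨z, rfl⟩
      exact ⟨_, rfl⟩
    · rintro ⟨x, rfl⟩
      exact ⟨⟨φ x, x, rfl⟩, hη'e x _⟩
  have hφY : φ.range ≤ Y := by
    rintro _ ⟨x, rfl⟩
    exact hY.2 P hP φ hφ x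
  have hTC : ∀ {R : Subgroup Ω}, R ≤ Y → T ≤ centralizerIn S R := fun hR t ht =>
    mem_centralizerIn.2 ⟨hT.1 ht, fun x hx => (((hYT (hR hx)).2 t ht)).symm⟩
  obtain ⟨ψ₁, hψ₁, he₁⟩ := saturated_extend p hS hF hη hQ (N := P ⊔ T)
    (sup_le (le_extender hη) ((hTC hP).trans (centralizerIn_le_extender P η)))
  obtain ⟨ψ₂, hψ₂, he₂⟩ := saturated_extend p hS hF hη' (by rwa [hη'r]) (N := φ.range ⊔ T)
    (sup_le (le_extender hη') ((hTC hφY).trans (centralizerIn_le_extender φ.range η')))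
  have hr₁ := range_ext hT hψ₁ (η := η) fun x => he₁ x x.2 _
  have hr₂ := range_ext hT hψ₂ (η := η') fun x => he₂ x x.2 _
  rw [hη'r] at hr₂
  obtain ⟨θ₂, hθ₂, -, hθ₂1, -⟩ := exists_inv hψ₂ hr₂
  have hm : ∀ z, ψ₁ z ∈ η.range ⊔ T := fun z => hr₁.le ⟨z, rfl⟩
  have hψ := F.comp_mem hψ₁ hθ₂ hm
  have he : ∀ x : P, (θ₂.comp (ψ₁.codRestrict _ hm)) (Subgroup.inclusion le_sup_left x) = φ x :=
    fun x => by
    have h1 : ψ₁ (Subgroup.inclusion le_sup_left x) =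
        ψ₂ ⟨φ x, Subgroup.mem_sup_left ⟨x, rfl⟩⟩ :=
      (he₁ x x.2 _).trans ((hη'e x ⟨x, rfl⟩).symm.trans (he₂ _ ⟨x, rfl⟩ _).symm)
    show θ₂ ⟨_, hm _⟩ = _
    exact (apply_congr θ₂ (y := ⟨ψ₂ ⟨φ x, Subgroup.mem_sup_left ⟨x, rfl⟩⟩, hr₂.le ⟨_, rfl⟩⟩) h1).trans
      (hθ₂1 _ _)
  exact ⟨_, hψ, he, range_ext hT hψ he⟩

include hS hF hT hY hYT in
/-- An automorphism of `Y` extends to `Y T`. -/
theorem exists_aut_sup {α : MulAut Y} (hα : α ∈ F.autGroup Y) :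
    ∃ A ∈ F.autGroup (Y ⊔ T), Agree le_sup_left A α := by
  obtain ⟨ψ, hψ, he, hr⟩ := exists_ext_sup p hS hF hT hY hYT le_rfl ((autGroup_carrier hY.1).1 hα)
  rw [range_subtype_comp] at hr
  exact ⟨_, autOfRange_mem hψ hr, fun x => he x⟩

include hS hF hT hY hYT in
/-- Conjugating a map of `C_F(T)` by an automorphism of `Y` gives a map of `C_F(T)`. -/
theorem twist_mem {α : MulAut Y} (hα : α ∈ F.autGroup Y) {P : Subgroup Ω} (hP : P ≤ Y)
    {φ : P →* Ω} (hφ : φ ∈ (centSystem F T hT.1).Hom P) {P' : Subgroup Ω} (hP' : P' ≤ Y)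
    {φ' : P' →* Ω}
    (h : ∀ (y : P'), ∃ (hy : ((α⁻¹ ⟨y, hP' y.2⟩ : Y) : Ω) ∈ P) (hm : φ ⟨_, hy⟩ ∈ Y),
      φ' y = ((α ⟨φ ⟨_, hy⟩, hm⟩ : Y) : Ω)) :
    φ' ∈ (centSystem F T hT.1).Hom P' := by
  obtain ⟨A, hA, hAa⟩ := exists_aut_sup p hS hF hT hY hYT hα
  obtain ⟨hφF, -, -, ψ, hψ, hψe, hψf⟩ := hφ
  have hYTS : Y ⊔ T ≤ S := sup_le hY.1 hT.1
  have hAi := (autGroup_carrier hYTS).1 (inv_mem hA)
  have hAF := (autGroup_carrier hYTS).1 hA
  have hle : P' ⊔ T ≤ Y ⊔ T := sup_le_sup_right hP' T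
  let A' := ((Y ⊔ T).subtype.comp (A⁻¹).toMonoidHom).comp (Subgroup.inclusion hle)
  have hA' : A' ∈ F.Hom (P' ⊔ T) := restrict_mem hAi hle
  have hA'P : ∀ y : P', A' (Subgroup.inclusion le_sup_left y) = ((α⁻¹ ⟨y, hP' y.2⟩ : Y) : Ω) :=
    fun y => hAa.inv ⟨y, hP' y.2⟩
  have hA'm : ∀ z, A' z ∈ P ⊔ T := fun z => by
    refine (show A'.range ≤ P ⊔ T from ?_) ⟨z, rfl⟩
    rw [range_eq_sup]
    refine sup_le ?_ ?_
    · rintro _ ⟨⟨y, hy⟩, hyP, rfl⟩
      exact Subgroup.mem_sup_left (Set.mem_of_eq_of_mem (hA'P ⟨y, hyP⟩) (h ⟨y, hyP⟩).choose)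
    · rintro _ ⟨z, hz, rfl⟩
      exact Subgroup.mem_sup_right (map_mem_of_stronglyClosed hT hA' hz)
  have hψm : ∀ z, ψ z ∈ Y ⊔ T := fun z => by
    refine (show ψ.range ≤ Y ⊔ T from ?_) ⟨z, rfl⟩
    rw [range_eq_sup]
    refine sup_le_sup ?_ ?_
    · rintro _ ⟨⟨y, hy⟩, hyP, rfl⟩
      exact Set.mem_of_eq_of_mem (hψe ⟨y, hyP⟩) (hY.2 P hP φ hφF _)
    · rintro _ ⟨z, hz, rfl⟩
      exact map_mem_of_stronglyClosed hT hψ hz
  have hΨ := F.comp_mem hA' (F.comp_mem hψ hAF hψm) hA'm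
  let Ψ := (((Y ⊔ T).subtype.comp A.toMonoidHom).comp (ψ.codRestrict _ hψm)).comp
    (A'.codRestrict _ hA'm)
  have hΨe : ∀ y : P', Ψ (Subgroup.inclusion le_sup_left y) = φ' y := by
    intro y
    obtain ⟨hy, hm, he⟩ := h y
    rw [he, ← hAa ⟨φ ⟨_, hy⟩, hm⟩]
    refine congrArg (fun z : ↥(Y ⊔ T) => ((A z : ↥(Y ⊔ T)) : Ω)) (Subtype.ext ?_)
    exact (apply_congr ψ (hA'P y)).trans (hψe ⟨_, hy⟩)
  refine ⟨restrict_mem_of_eq hΨ le_sup_left fun y => (hΨe y).symm, hP'.trans hYT, fun y => ?_,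
    Ψ, hΨ, hΨe, fun r => ?_⟩
  · obtain ⟨hy, hm, he⟩ := h y
    rw [he]
    exact hYT (SetLike.coe_mem _)
  · have hr' : A' (Subgroup.inclusion le_sup_right r) ∈ T :=
      map_mem_of_stronglyClosed hT hA' r.2
    have h1 : ψ ⟨A' (Subgroup.inclusion le_sup_right r), hA'm _⟩ =
        A' (Subgroup.inclusion le_sup_right r) := (apply_congr ψ rfl).trans (hψf ⟨_, hr'⟩)
    show ((A ⟨ψ ⟨A' (Subgroup.inclusion le_sup_right r), hA'm _⟩, hψm _⟩ : ↥(Y ⊔ T)) : Ω) = r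
    rw [show (⟨ψ ⟨A' (Subgroup.inclusion le_sup_right r), hA'm _⟩, hψm _⟩ : ↥(Y ⊔ T)) =
      A⁻¹ (Subgroup.inclusion hle (Subgroup.inclusion le_sup_right r)) from Subtype.ext h1,
      MulAut.apply_inv_self]
    rfl

open Classical in
/-- Transport along an automorphism of `Y`. -/
noncomputable def trAut (α : MulAut Y) : Tr Y Y :=
  { f := fun x => if h : x ∈ Y then ((α ⟨x, h⟩ : Y) : Ω) else 1
    g := fun x => if h : x ∈ Y then ((α⁻¹ ⟨x, h⟩ : Y) : Ω) else 1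
    f_mem := fun x hx => by rw [dif_pos hx]; exact (α ⟨x, hx⟩).2
    g_mem := fun x hx => by rw [dif_pos hx]; exact (α⁻¹ ⟨x, hx⟩).2
    gf := fun x hx => by
      rw [dif_pos hx, dif_pos (α ⟨x, hx⟩).2]
      simp
    fg := fun x hx => by
      rw [dif_pos hx, dif_pos (α⁻¹ ⟨x, hx⟩).2]
      simp
    f_mul := fun x hx y hy => by
      rw [dif_pos hx, dif_pos hy, dif_pos (mul_mem hx hy), ← Subgroup.coe_mul, ← map_mul]
      rfl }

open Classical in
theorem trAut_f (α : MulAut Y) {x : Ω} (hx : x ∈ Y) :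
    (trAut α).f x = ((α ⟨x, hx⟩ : Y) : Ω) := by
  show dite _ _ _ = _
  rw [dif_pos hx]

open Classical in
theorem trAut_g (α : MulAut Y) {x : Ω} (hx : x ∈ Y) :
    (trAut α).g x = ((α⁻¹ ⟨x, hx⟩ : Y) : Ω) := by
  show dite _ _ _ = _
  rw [dif_pos hx]

include hS hF hT hY hYT in
/-- A saturated subsystem of `p`-power index in `C_F(T)` over `Y` is stable under `Aut_F(Y)`. -/
theorem aut_conj {D : FusionSystem Y} (hDs : D.IsSaturated p)
    (hDi : D.HasPPowerIndexIn (centSystem F T hT.1) p) {α : MulAut Y} (hα : α ∈ F.autGroup Y)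
    {P : Subgroup Ω} (hPY : P ≤ Y) {φ : P →* Ω} (hφ : φ ∈ D.Hom P) :
    ∃ χ ∈ D.Hom ((P.subgroupOf Y).map (Y.subtype.comp α.toMonoidHom)),
      ∀ (x : P) (hφx : φ x ∈ Y)
        (hαx : ((α ⟨x, hPY x.2⟩ : Y) : Ω) ∈ (P.subgroupOf Y).map (Y.subtype.comp α.toMonoidHom)),
        χ ⟨(α ⟨x, hPY x.2⟩ : Y), hαx⟩ = ((α ⟨φ x, hφx⟩ : Y) : Ω) := by
  haveI : Finite Y := finite_of_le hY.1
  let t := trAut α
  have hsub : (t.map D).IsSubsystemOf (centSystem F T hT.1) := by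
    rintro P' φ' ⟨hP', φ₁, hφ₁, he⟩
    refine twist_mem p hS hF hT hY hYT hα (le_of_mem_hom hφ₁) (hDi.1 _ hφ₁) hP' fun y => ?_
    have hg : t.g (y : Ω) ∈ t.symm.im P' := t.symm.f_mem_im hP' y.2
    have e := trAut_g α (hP' y.2)
    refine ⟨Set.mem_of_eq_of_mem e.symm hg, apply_mem_S hφ₁ _, ?_⟩
    rw [he y hg, trAut_f α (apply_mem_S hφ₁ _)]
    exact congrArg (fun z : Y => ((α z : Y) : Ω)) (Subtype.ext (apply_congr φ₁ e))
  have him : t.im P = (P.subgroupOf Y).map (Y.subtype.comp α.toMonoidHom) := by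
    ext y
    constructor
    · intro hy
      obtain ⟨x, hx, rfl⟩ := t.exists_of_mem_im hPY hy
      exact ⟨⟨x, hPY hx⟩, hx, (trAut_f α (hPY hx)).symm⟩
    · rintro ⟨x, hx, rfl⟩
      exact Set.mem_of_eq_of_mem (trAut_f α x.2).symm (t.f_mem_im hPY hx)
  obtain ⟨χ, hχ, hχe⟩ := (Tr.corr_map t D).fwd hφ him
  have hYp : IsPGroup p Y := isPGroup_of_le hS hY.1
  refine ⟨χ, CfsgLib.PPowerIndex.hom_subset_of_pPowerIndex p hYp le_rfl hsub
    ((Tr.corr_map t D).saturated hDs) hDi _ hχ, fun x hφx hαx => ?_⟩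
  have e := trAut_f α (hPY x.2)
  refine (apply_congr χ e.symm).trans ((hχe x x.2 (Set.mem_of_eq_of_mem e hαx)).trans ?_)
  exact trAut_f α hφx

include hS hF hT hY hYT in
/-- The Frattini condition. -/
theorem frattini {D : FusionSystem Y} (hDs : D.IsSaturated p)
    (hDi : D.HasPPowerIndexIn (centSystem F T hT.1) p)
    (hCs : (centSystem F T hT.1).IsSaturated p)
    (hhyp : (centSystem F T hT.1).hyperfocalSubgroup p ≤ Y) {P : Subgroup Ω} (hP : P ≤ Y)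
    {φ : P →* Ω} (hφ : φ ∈ F.Hom P) :
    ∃ α ∈ F.autGroup Y, ∃ φ₀ ∈ D.Hom P,
      ∀ (x : P) (hx : φ₀ x ∈ Y), φ x = ((α ⟨φ₀ x, hx⟩ : Y) : Ω) := by
  haveI : Finite Y := finite_of_le hY.1
  obtain ⟨ψ, hψ, he, -⟩ := exists_ext_sup p hS hF hT hY hYT hP hφ
  have hTn := stronglyClosed_normal_in_S hT
  have hYn := stronglyClosed_normal_in_S hY
  have hψT : (ψ.comp (Subgroup.inclusion (le_sup_right : T ≤ P ⊔ T))).range = T := by
    refine eq_of_le_of_card_le hT.1 ?_ (card_range (restrict_mem hψ le_sup_right)).ge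
    rintro _ ⟨z, rfl⟩
    exact map_mem_of_stronglyClosed hT hψ z.2
  have ha := autOfRange_mem (restrict_mem hψ le_sup_right) hψT
  set a := autOfRange _ (F.injective_of_mem (restrict_mem hψ le_sup_right)) hψT with hadef
  have hTfn : F.IsFullyNormalized T := ⟨hT.1, fun R _ =>
    card_le_of_le (normalizerIn_le_S T)
      ((normalizerIn_le_S R).trans fun x hx => ⟨hx, hTn hx⟩)⟩
  have hah := (autGroup_carrier hT.1).1 ha
  obtain ⟨A₀, hA₀, hA₀e⟩ := saturated_extend p hS hF hah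
    (by rw [range_subtype_comp]; exact fullyCentralized_of_fullyNormalized p hS hF hTfn)
    (sup_le (hYT.trans (centralizerIn_le_extender T (T.subtype.comp a.toMonoidHom)))
      (le_extender hah) : Y ⊔ T ≤ extender S T (T.subtype.comp a.toMonoidHom))
  have hrA := range_sup_of_stronglyClosed hY hT hA₀
  let A := autOfRange A₀ (F.injective_of_mem hA₀) hrA
  have hA : A ∈ F.autGroup (Y ⊔ T) := autOfRange_mem hA₀ hrA
  have hYTS : Y ⊔ T ≤ S := sup_le hY.1 hT.1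
  have hAF := (autGroup_carrier hYTS).1 hA
  have hAT : ∀ t : T, ((A (Subgroup.inclusion le_sup_right t) : ↥(Y ⊔ T)) : Ω) =
      ψ (Subgroup.inclusion le_sup_right t) := fun t => hA₀e t t.2 _
  obtain ⟨β, hβ⟩ := exists_agree (h := (le_sup_left : Y ≤ Y ⊔ T)) (P := Y) (A := A) fun x hx =>
    map_mem_of_stronglyClosed hY hAF hx
  have hφY : ∀ x : P, φ x ∈ Y := hY.2 P hP φ hφ
  have hψm : ∀ z, ψ z ∈ Y ⊔ T := fun z => by
    refine (show ψ.range ≤ Y ⊔ T from ?_) ⟨z, rfl⟩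
    rw [range_eq_sup]
    refine sup_le_sup ?_ ?_
    · rintro _ ⟨⟨y, hy⟩, hyP, rfl⟩
      exact Set.mem_of_eq_of_mem (he ⟨y, hyP⟩) (hφY _)
    · rintro _ ⟨z, hz, rfl⟩
      exact map_mem_of_stronglyClosed hT hψ hz
  have hΨ := F.comp_mem hψ ((autGroup_carrier hYTS).1 (inv_mem hA)) hψm
  let Ψ := ((Y ⊔ T).subtype.comp (A⁻¹).toMonoidHom).comp (ψ.codRestrict _ hψm)
  have hΨe : ∀ x : P, Ψ (Subgroup.inclusion le_sup_left x) = ((β⁻¹ ⟨φ x, hφY x⟩ : Y) : Ω) :=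
    fun x => by
    refine Eq.trans ?_ (hβ.inv ⟨φ x, hφY x⟩)
    exact congrArg (fun z : ↥(Y ⊔ T) => ((A⁻¹ z : ↥(Y ⊔ T)) : Ω)) (Subtype.ext (he x))
  have hc : Ψ.comp (Subgroup.inclusion le_sup_left) ∈ (centSystem F T hT.1).Hom P := by
    refine ⟨restrict_mem hΨ le_sup_left, hP.trans hYT, fun x => ?_, Ψ, hΨ, fun x => rfl, fun r => ?_⟩
    · exact Set.mem_of_eq_of_mem (hΨe x) (hYT (SetLike.coe_mem _))
    · show ((A⁻¹ ⟨ψ (Subgroup.inclusion le_sup_right r), hψm _⟩ : ↥(Y ⊔ T)) : Ω) = r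
      rw [show (⟨ψ (Subgroup.inclusion le_sup_right r), hψm _⟩ : ↥(Y ⊔ T)) =
        A (Subgroup.inclusion le_sup_right r) from Subtype.ext (hAT r).symm, MulAut.inv_apply_self]
      rfl
  haveI : Finite (centralizerIn S T) := finite_of_le (centralizerIn_le_S T)
  obtain ⟨s, hs, φ₀, hφ₀, hse⟩ := pPowerIndex_frattini p
    (isPGroup_of_le hS (centralizerIn_le_S T)) hCs hYT
    ((centralizerIn_le_S T).trans hYn) hhyp hDs hDi hP hc
  refine ⟨β * conjAut S Y ⟨s, hs.1, hYn hs.1⟩, mul_mem (hβ.mem hYTS hA)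
    (autInducedBy_le_autGroup hY.1 (mem_autInducedBy.2 ⟨s, hs.1, fun _ => rfl⟩)),
    φ₀, hφ₀, fun x hx => ?_⟩
  rw [MulAut.mul_apply, show conjAut S Y ⟨s, hs.1, hYn hs.1⟩ ⟨φ₀ x, hx⟩ = β⁻¹ ⟨φ x, hφY x⟩ from
    Subtype.ext ((hse x).symm.trans (hΨe x)), MulAut.apply_inv_self]

include hS hF hT hY hYT in
/-- The extension condition. -/
theorem autGroup_le_modAut {D : FusionSystem Y} (hDs : D.IsSaturated p)
    (hDi : D.HasPPowerIndexIn (centSystem F T hT.1) p)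
    (hfoc : (centSystem F T hT.1).focalSubgroup ≤ Y) :
    D.autGroup Y ≤ modAut F hY.1 := by
  haveI : Finite Y := finite_of_le hY.1
  haveI : Finite (MulAut Y) := finite_mulAut
  set R : Subgroup Ω := Y ⊔ centralizerIn S Y with hR
  have hRS : R ≤ S := sup_le hY.1 (centralizerIn_le_S Y)
  haveI : Finite R := finite_of_le hRS
  haveI : Finite (MulAut R) := finite_mulAut
  have hYn := stronglyClosed_normal_in_S hY
  have hTn := stronglyClosed_normal_in_S hT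
  have hTC : T ≤ centralizerIn S Y := fun t ht =>
    mem_centralizerIn.2 ⟨hT.1 ht, fun x hx => ((hYT hx).2 t ht).symm⟩
  obtain ⟨⟨-, Sy, hSy⟩, -⟩ := good_of_fullyNormalized p (isPGroup_of_le hS hY.1) hDs
    (isFullyNormalized_S (S := Y))
  suffices h : (⊤ : Subgroup (D.autGroup Y)) ≤ (modAut F hY.1).subgroupOf (D.autGroup Y) from
    fun a ha => Subgroup.mem_subgroupOf.1 (h (Subgroup.mem_top ⟨a, ha⟩))
  refine le_of_sylow_coprime p Sy le_top (fun a ha => ?_) fun a _ hco => ?_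
  · rw [hSy] at ha
    obtain ⟨u, hu, hua⟩ := mem_autInducedBy.1 (Subgroup.mem_subgroupOf.1 ha)
    have huN : u ∈ Subgroup.normalizer ((Y ⊔ centralizerIn S Y : Subgroup Ω) : Set Ω) :=
      Subgroup.le_normalizer (Subgroup.mem_sup_left hu)
    refine Subgroup.mem_subgroupOf.2 ⟨conjAut S _ ⟨u, hY.1 hu, huN⟩, autInducedBy_le_autGroup hRS
      (mem_autInducedBy.2 ⟨u, hY.1 hu, fun _ => rfl⟩), fun x => (hua x).symm, fun c hc => ?_⟩
    show (c : Ω)⁻¹ * (u * c * u⁻¹) ∈ Y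
    rw [hc.2 u hu, mul_inv_cancel_right, inv_mul_cancel]
    exact one_mem Y
  rw [Subgroup.mem_subgroupOf]
  have hco' : (orderOf (a : MulAut Y)).Coprime p := by rwa [Subgroup.orderOf_coe]
  -- the extension fixing `T`
  obtain ⟨-, -, -, ψ, hψ, hψe, hψf⟩ := hDi.1 Y ((autGroup_carrier (S := Y) le_rfl).1 a.2)
  have hr := range_sup_of_stronglyClosed hY hT hψ
  have hYTS : Y ⊔ T ≤ S := sup_le hY.1 hT.1
  let A := autOfRange ψ (F.injective_of_mem hψ) hr
  have hAF := (autGroup_carrier hYTS).1 (autOfRange_mem hψ hr)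
  have hN : ∀ x ∈ S, x ∈ Subgroup.normalizer ((Y ⊔ T : Subgroup Ω) : Set Ω) := fun x hx =>
    mem_normalizer_sup hY.1 hT.1 (hYn hx) (hTn hx)
  have hfn : F.IsFullyNormalized (Y ⊔ T) := ⟨hYTS, fun Q _ =>
    card_le_of_le (normalizerIn_le_S _) ((normalizerIn_le_S Q).trans fun x hx => ⟨hx, hN x hx⟩)⟩
  have hext : R ≤ extender S (Y ⊔ T) ((Y ⊔ T).subtype.comp A.toMonoidHom) := by
    refine sup_le ((le_sup_left : Y ≤ Y ⊔ T).trans (le_extender hAF)) fun c hc => ?_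
    refine mem_extender_of ⟨hc.1, hN c hc.1⟩ hc.1 fun x hx => ?_
    let cc := conjAut S (Y ⊔ T) ⟨c, hc.1, hN c hc.1⟩
    have hgen : ∀ z : ↥(Y ⊔ T), A (cc z) = cc (A z) := by
      suffices h : ⊤ ≤ MonoidHom.eqLocus (A.toMonoidHom.comp cc.toMonoidHom)
          (cc.toMonoidHom.comp A.toMonoidHom) from fun z => h (Subgroup.mem_top z)
      rw [← Subgroup.subgroupOf_self (H := Y ⊔ T),
        Subgroup.subgroupOf_sup le_sup_left le_sup_right]
      refine sup_le (fun z hz => ?_) fun z hz => ?_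
      · have hcy : ∀ w : Ω, w ∈ Y → c * w * c⁻¹ = w := fun w hw =>
          conj_eq_of_mem_centralizerIn hc hw
        have hAz : ((A z : ↥(Y ⊔ T)) : Ω) ∈ Y := map_mem_of_stronglyClosed hY hAF hz
        refine Subtype.ext ?_
        show ((A (cc z) : ↥(Y ⊔ T)) : Ω) = c * ((A z : ↥(Y ⊔ T)) : Ω) * c⁻¹
        rw [hcy _ hAz, show cc z = z from Subtype.ext (hcy _ hz)]
      · have hfix : ∀ w : ↥(Y ⊔ T), (w : Ω) ∈ T → A w = w := fun w hw => Subtype.ext
          ((apply_congr ψ rfl).trans (hψf ⟨w, hw⟩))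
        show A (cc z) = cc (A z)
        rw [hfix z hz, hfix (cc z) ((Subgroup.mem_normalizer_iff.1 (hTn hc.1) z).1 hz)]
    exact congrArg Subtype.val (hgen x)
  obtain ⟨ψ', hψ', hψ'e⟩ := saturated_extend p hS hF hAF
    (by rw [range_subtype_comp]; exact fullyCentralized_of_fullyNormalized p hS hF hfn) hext
  have hTR : T ≤ R := hTC.trans le_sup_right
  have hr' : ψ'.range = R := by
    refine eq_of_le_of_card_le hRS ?_ (card_range hψ').ge
    have hm : (Y.subgroupOf R).map ψ' = Y := by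
      refine eq_of_le_of_card_le hY.1 ?_ ?_
      · rintro _ ⟨z, hz, rfl⟩
        exact map_mem_of_stronglyClosed hY hψ' hz
      · rw [card_map_subgroupOf (F.injective_of_mem hψ') le_sup_left]
    rw [range_eq_sup, hm]
    refine sup_le_sup_left ?_ Y
    rintro _ ⟨⟨y, hy⟩, hyC, rfl⟩
    have h1 := map_mem_centralizerIn hψ' (P := Y) le_sup_left hyC hy
    rwa [hm] at h1
  let B := autOfRange ψ' (F.injective_of_mem hψ') hr'
  have hB : B ∈ F.autGroup R := autOfRange_mem hψ' hr'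
  have hBa : Agree le_sup_left B (a : MulAut Y) := fun x =>
    (hψ'e x (Subgroup.mem_sup_left x.2) _).trans (hψe x)
  have hBT : ∀ z : R, (z : Ω) ∈ T → B z = z := fun z hz => Subtype.ext
    ((hψ'e z (Subgroup.mem_sup_right hz) _).trans (hψf ⟨z, hz⟩))
  obtain ⟨e, he1, he2⟩ := CfsgLib.Fusion.ConstrainedNormal.exists_pow_coprime p B
  have hae : (a : MulAut Y) ^ e = a := he2 (a : MulAut Y) hco'
    (orderOf_dvd_of_pow_eq_one ((hBa.pow _).eq_one (pow_orderOf_eq_one B)))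
  set β := B ^ e with hβdef
  have hβF : β ∈ F.autGroup R := pow_mem hB e
  have hβa : Agree le_sup_left β (a : MulAut Y) := by
    have := hBa.pow e
    rwa [hae] at this
  have hβT : ∀ z : R, (z : Ω) ∈ T → β z = z := by
    intro z hz
    have key : ∀ n : ℕ, (B ^ n) z = z := fun n => by
      induction n with
      | zero => rfl
      | succ n ih => rw [pow_succ', MulAut.mul_apply, ih, hBT z hz]
    exact key e
  refine ⟨β, hβF, hβa, fun c hc => ?_⟩
  have hβh := (autGroup_carrier hRS).1 hβF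
  have hcC : ∀ {w : R}, (w : Ω) ∈ centralizerIn S Y →
      ((β w : R) : Ω) ∈ centralizerIn S Y := fun hw => map_cent hβa hRS hw
  set x : R := c⁻¹ * β c with hx
  have hxY : (x : Ω) ∈ centralizerIn S Y := mul_mem (inv_mem hc) (hcC hc)
  -- `x` centralizes `T`
  have hxT : (x : Ω) ∈ centralizerIn S T := by
    refine mem_centralizerIn.2 ⟨hxY.1, fun t ht => ?_⟩
    let t' : R := ⟨t, hTR ht⟩
    have hct : ((c * t' * c⁻¹ : R) : Ω) ∈ T :=
      (Subgroup.mem_normalizer_iff.1 (hTn hc.1) t).1 ht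
    have h1 := hβT _ hct
    rw [map_mul, map_mul, map_inv, hβT t' ht] at h1
    have h2 : t' * x = x * t' := by
      rw [hx]
      calc t' * (c⁻¹ * β c) = c⁻¹ * (c * t' * c⁻¹) * β c := by group
        _ = c⁻¹ * (β c * t' * (β c)⁻¹) * β c := by rw [h1]
        _ = c⁻¹ * β c * t' := by group
    exact congrArg Subtype.val h2
  have hβxT : ((β x : R) : Ω) ∈ centralizerIn S T := by
    refine mem_centralizerIn.2 ⟨hRS (β x).2, fun t ht => ?_⟩
    let t' : R := ⟨t, hTR ht⟩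
    have h1 : t' * x = x * t' := Subtype.ext (hxT.2 t ht)
    have h2 := congrArg β h1
    rw [map_mul β t' x, map_mul β x t', hβT t' ht] at h2
    exact congrArg Subtype.val h2
  -- `x⁻¹ β x` lies in `Y`
  have hz : (x : Ω)⁻¹ * ((β x : R) : Ω) ∈ Y := by
    have hle : Subgroup.zpowers (x : Ω) ⊔ T ≤ R :=
      sup_le (Subgroup.zpowers_le.2 x.2) hTR
    let χ := (R.subtype.comp β.toMonoidHom).comp (Subgroup.inclusion hle)
    have hχ : χ ∈ F.Hom _ := restrict_mem hβh hle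
    have hzC : Subgroup.zpowers (x : Ω) ≤ centralizerIn S T := Subgroup.zpowers_le.2 hxT
    have hmem : χ.comp (Subgroup.inclusion le_sup_left) ∈
        (centSystem F T hT.1).Hom (Subgroup.zpowers (x : Ω)) := by
      refine ⟨restrict_mem hχ _, hzC, fun z => ?_, χ, hχ, fun z => rfl,
        fun t => congrArg Subtype.val (hβT _ t.2)⟩
      obtain ⟨k, hk⟩ := Subgroup.mem_zpowers_iff.1 z.2
      show ((β (Subgroup.inclusion hle (Subgroup.inclusion le_sup_left z)) : R) : Ω) ∈ _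
      rw [show Subgroup.inclusion hle (Subgroup.inclusion le_sup_left z) = x ^ k from
        Subtype.ext (by simp [hk]), map_zpow, Subgroup.coe_zpow]
      exact zpow_mem hβxT k
    exact hfoc (Subgroup.subset_closure ⟨_, _, ⟨x, Subgroup.mem_zpowers _⟩, hmem, rfl⟩)
  -- the iteration
  have hcomm : Commute x (x⁻¹ * β x) := Subtype.ext ((hxY.2 _ hz).symm)
  have hit : ∀ n : ℕ, ∃ y : R, (y : Ω) ∈ Y ∧ (β ^ n) c = c * x ^ n * y := by
    intro n
    induction n with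
    | zero => exact ⟨1, one_mem Y, by simp⟩
    | succ n ih =>
      obtain ⟨y, hy, he⟩ := ih
      refine ⟨(x⁻¹ * β x) ^ n * β y,
        mul_mem (pow_mem hz n) (map_mem_of_stronglyClosed hY hβh hy), ?_⟩
      rw [pow_succ', MulAut.mul_apply, he, map_mul, map_mul, map_pow,
        show β c = c * x by rw [hx, mul_inv_cancel_left],
        show β x = x * (x⁻¹ * β x) by rw [mul_inv_cancel_left], hcomm.mul_pow,
        ← show β x = x * (x⁻¹ * β x) by rw [mul_inv_cancel_left], pow_succ']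
      simp only [mul_assoc]
  obtain ⟨y, hy, he⟩ := hit (orderOf β)
  rw [pow_orderOf_eq_one, MulAut.one_apply, mul_assoc, left_eq_mul] at he
  have hxn : ((x ^ orderOf β : R) : Ω) ∈ Y := by
    rw [eq_inv_of_mul_eq_one_left he]
    exact inv_mem hy
  obtain ⟨k, hk⟩ := IsPGroup.iff_orderOf.1 (isPGroup_of_le hS hRS) x
  obtain ⟨m, hm⟩ := exists_pow_eq_self_of_coprime
    (x := x) (n := orderOf β) (by rw [hk]; exact he1.pow_right k)
  show (x : Ω) ∈ Y
  rw [← hm, Subgroup.coe_pow]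
  exact pow_mem hxn m

include hS hF hT hY hYT in
/-- The normal subsystem. -/
theorem exists_normal (hfoc : (centSystem F T hT.1).focalSubgroup ≤ Y) :
    ∃ D : FusionSystem Y, D.IsNormalIn F p ∧
      D.IsSubsystemOf (centSystem F T hT.1) := by
  haveI : Finite (centralizerIn S T) := finite_of_le (centralizerIn_le_S T)
  have hTn := stronglyClosed_normal_in_S hT
  have hTfn : F.IsFullyNormalized T := ⟨hT.1, fun R _ =>
    card_le_of_le (normalizerIn_le_S T)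
      ((normalizerIn_le_S R).trans fun x hx => ⟨hx, hTn hx⟩)⟩
  have hCs := centralizerSystem_saturated p hS hF
    (fullyCentralized_of_fullyNormalized p hS hF hTfn) (centSystem_spec F T hT.1)
  have hhyp := (hyperfocal_le_focal (F := centSystem F T hT.1) p).trans hfoc
  obtain ⟨D, hDs, hDi⟩ := exists_pPowerIndex_subsystem p
    (isPGroup_of_le hS (centralizerIn_le_S T)) _ hCs Y hYT hhyp
  refine ⟨D, ⟨⟨hDs, hF, fun P φ hφ => (hDi.1 P hφ).1, hY,
    fun P hPY φ hφ α hα => aut_conj p hS hF hT hY hYT hDs hDi hα hPY hφ,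
    fun P hP φ hφ => frattini p hS hF hT hY hYT hDs hDi hCs hhyp hP hφ⟩, fun α hα => ?_⟩, hDi.1⟩
  obtain ⟨β, hβ, hβa, hβm⟩ := autGroup_le_modAut p hS hF hT hY hYT hDs hDi hfoc hα
  refine ⟨β, hβ, fun x => hβa x, fun c hc => ⟨hβm c hc, ?_⟩⟩
  exact (mul_mem (inv_mem hc) (map_cent hβa (sup_le hY.1 (centralizerIn_le_S Y)) hc)).2

end CfsgLib.CentSys
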