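import Cfsg.Agent.Fusion.Factor
import Cfsg.Agent.Fusion.NormalCriteria
import Cfsg.Agent.Fusion.Invariant
import Cfsg.Agent.Transfer.PResidual

/-!
Transport of fusion systems along isomorphisms: factor systems modulo the trivial subgroup,
their composition, and the transport of normality, subnormality and quasisimplicity.
-/

set_option autoImplicit false
set_option linter.style.haveILetI false

open Cfsg Cfsg.FusionSystem

namespace CfsgLib.FusionImage

open CfsgLib.Fusion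

variable {Ω : Type*} [Group Ω] {S : Subgroup Ω} {F : FusionSystem S}
  {Ω' : Type*} [Group Ω'] {S' : Subgroup Ω'} {θ : S →* Ω'} {F' : FusionSystem S'}

theorem inj_of_bot (hk : ∀ s : S, θ s = 1 ↔ (s : Ω) ∈ (⊥ : Subgroup Ω)) :
    Function.Injective θ := by
  rw [injective_iff_map_eq_one]
  intro s hs
  exact Subtype.ext (Subgroup.mem_bot.1 ((hk s).1 hs))

theorem bot_of_inj (hθ : Function.Injective θ) :
    ∀ s : S, θ s = 1 ↔ (s : Ω) ∈ (⊥ : Subgroup Ω) := fun s => by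
  rw [Subgroup.mem_bot, map_eq_one_iff θ hθ, ← OneMemClass.coe_eq_one]

theorem img_le_of_range (hr : θ.range = S') (P : Subgroup Ω) : img θ P ≤ S' :=
  (img_le_range P).trans hr.le

theorem mem_img_iff {P : Subgroup Ω} {y : Ω'} :
    y ∈ img θ P ↔ ∃ x : S, (x : Ω) ∈ P ∧ θ x = y := Iff.rfl

/-- Two factor systems along the same map coincide. -/
theorem factor_unique {T : Subgroup Ω} {E₁ E₂ : FusionSystem S'}
    (h₁ : F.IsFactorSystem T θ E₁) (h₂ : F.IsFactorSystem T θ E₂) : E₁ = E₂ :=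
  ext_hom fun P' => Set.ext fun φ' => (h₁.2.2.2 P' φ').trans (h₂.2.2.2 P' φ').symm

theorem im_injective (h : F.IsFactorSystem ⊥ θ F') : Function.Injective θ := inj_of_bot h.2.1

theorem im_fwd [Finite S] (h : F.IsFactorSystem ⊥ θ F') {P : Subgroup Ω} {φ : P →* Ω}
    (hφ : φ ∈ F.Hom P) : ∃ φ' ∈ F'.Hom (img θ P), InducedAlong θ φ φ' :=
  exists_factor_hom stronglyClosed_bot h hφ bot_le rfl

/-- A criterion for a system to be the image of another one along an injective map. -/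
theorem im_mk (hθ : Function.Injective θ) (hr : θ.range = S')
    (hf : ∀ (P : Subgroup Ω) (φ : P →* Ω), φ ∈ F.Hom P →
      ∃ φ' ∈ F'.Hom (img θ P), InducedAlong θ φ φ')
    (hb : ∀ (P' : Subgroup Ω') (φ' : P' →* Ω'), φ' ∈ F'.Hom P' →
      ∃ φ ∈ F.Hom (preimg θ P'), InducedAlong θ φ φ') :
    F.IsFactorSystem ⊥ θ F' := by
  refine ⟨bot_le, bot_of_inj hθ, hr, fun P' φ' => ⟨fun h => ⟨le_of_mem_hom h, hb P' φ' h⟩, ?_⟩⟩
  rintro ⟨hP', φ, hφ, hi⟩
  obtain ⟨φ'', hφ'', hi'⟩ := hf _ φ hφ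
  have he : img θ (preimg θ P') = P' := img_preimg (ι := θ) (hP'.trans hr.ge)
  have key : ∀ (Q : Subgroup Ω') (e : img θ (preimg θ P') = Q) (χ : Q →* Ω'),
      InducedAlong θ φ χ → χ ∈ F'.Hom Q := by
    intro Q e χ hχ
    subst e
    exact induced_ext rfl hi' hχ ▸ hφ''
  exact key P' he φ' hi

theorem exists_im [Finite S] (F : FusionSystem S) (hθ : Function.Injective θ) (hr : θ.range = S') :
    ∃ E : FusionSystem S', F.IsFactorSystem ⊥ θ E :=
  ⟨factorSystem stronglyClosed_bot (bot_of_inj hθ) hr, factorSystem_spec _ _ _⟩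

/-- Composition of factor systems. -/
theorem factor_comp {T : Subgroup Ω} {Ω'' : Type*} [Group Ω''] {S'' : Subgroup Ω''} {T' : Subgroup Ω'}
    {θ' : S' →* Ω''} {F'' : FusionSystem S''} [Finite S] (hT : F.StronglyClosed T)
    (h : F.IsFactorSystem T θ F') (h' : F'.IsFactorSystem T' θ' F'') (χ : S →* Ω'')
    (hχ : ∀ (s : S) (hs : θ s ∈ S'), χ s = θ' ⟨θ s, hs⟩) :
    F.IsFactorSystem (preimg θ T') χ F'' := by
  have hS' : ∀ s : S, θ s ∈ S' := fun s => h.2.2.1.le ⟨s, rfl⟩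
  have hχ' : ∀ s : S, χ s = θ' ⟨θ s, hS' s⟩ := fun s => hχ s _
  have hpre : ∀ U : Subgroup Ω'', preimg χ U = preimg θ (preimg θ' U) := by
    intro U
    ext x
    simp only [mem_preimg]
    exact ⟨fun ⟨hx, h1⟩ => ⟨hx, hS' _, hχ' ⟨x, hx⟩ ▸ h1⟩,
      fun ⟨hx, hy, h1⟩ => ⟨hx, (hχ ⟨x, hx⟩ hy).symm ▸ h1⟩⟩
  refine ⟨preimg_le _, fun s => ?_, ?_, fun P'' φ'' => ?_⟩
  · rw [hχ' s, h'.2.1 ⟨θ s, hS' s⟩, mem_preimg]
    exact ⟨fun h1 => ⟨s.2, h1⟩, fun ⟨_, h1⟩ => h1⟩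
  · ext z
    constructor
    · rintro ⟨s, rfl⟩
      rw [hχ' s]
      exact h'.2.2.1.le ⟨_, rfl⟩
    · intro hz
      obtain ⟨⟨y, hy⟩, hyz⟩ := h'.2.2.1.ge hz
      obtain ⟨s, rfl⟩ := h.2.2.1.ge hy
      exact ⟨s, (hχ s hy).trans hyz⟩
  · rw [show preimageAlong χ P'' = preimg θ (preimg θ' P'') from hpre P'', h'.2.2.2 P'' φ'']
    constructor
    · rintro ⟨hP'', φ', hφ', hi'⟩
      obtain ⟨φ, hφ, hi⟩ := ((h.2.2.2 _ φ').1 hφ').2
      refine ⟨hP'', φ, hφ, preimg_le _, fun x => apply_mem_S hφ x, fun x => ?_, fun x => ?_⟩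
      · obtain ⟨hx, hy⟩ := mem_preimg.1 x.2
        obtain ⟨hy', hz⟩ := mem_preimg.1 hy
        exact (hχ ⟨x, hx⟩ hy').symm ▸ hz
      · obtain ⟨hx, hy⟩ := mem_preimg.1 x.2
        obtain ⟨hy', hz⟩ := mem_preimg.1 hy
        have e1 := induced_apply hi x (hP := hx) (hφ := apply_mem_S hφ x) (hP' := hy)
        have e2 := induced_apply hi' ⟨θ ⟨x, hx⟩, hy⟩ (hP := hy')
          (hφ := apply_mem_S hφ' _) (hP' := hz)
        refine (apply_congr φ'' (hχ ⟨x, hx⟩ hy')).trans (e2.trans ?_)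
        exact (congrArg θ' (Subtype.ext e1)).trans (hχ' ⟨φ x, apply_mem_S hφ x⟩).symm
    · rintro ⟨hP'', φ, hφ, hi⟩
      obtain ⟨φ', hφ', hi₁⟩ := exists_factor_hom hT h hφ (factor_preimg_le h _)
        (img_preimg (ι := θ) ((preimg_le _).trans h.2.2.1.ge))
      refine ⟨hP'', φ', hφ', preimg_le _, fun y => apply_mem_S hφ' y,
        fun y => (mem_preimg.1 y.2).2, ?_⟩
      rintro ⟨y, hy⟩
      obtain ⟨hy', hz⟩ := mem_preimg.1 hy
      obtain ⟨s, rfl⟩ := h.2.2.1.ge hy'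
      have hs : (s : Ω) ∈ preimg θ (preimg θ' P'') := mem_preimg.2 ⟨s.2, hy⟩
      have e1 := induced_apply hi₁ ⟨s, hs⟩ (hP := s.2) (hφ := apply_mem_S hφ _) (hP' := hy)
      have e2 := induced_apply hi ⟨s, hs⟩ (hP := s.2) (hφ := apply_mem_S hφ _)
        (hP' := (hχ s hy').symm ▸ hz)
      refine (apply_congr φ'' (hχ s hy').symm).trans (e2.trans ?_)
      exact (hχ' ⟨φ ⟨s, hs⟩, apply_mem_S hφ _⟩).trans (congrArg θ' (Subtype.ext e1.symm))

theorem preimg_bot (hθ : Function.Injective θ) : preimg θ ⊥ = (⊥ : Subgroup Ω) := by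
  refine eq_bot_iff.2 fun x hx => ?_
  obtain ⟨hxS, h⟩ := mem_preimg.1 hx
  exact (bot_of_inj hθ ⟨x, hxS⟩).1 (Subgroup.mem_bot.1 h)

/-- The image of an image. -/
theorem im_comp [Finite S] {Ω'' : Type*} [Group Ω''] {S'' : Subgroup Ω''} {θ' : S' →* Ω''}
    {F'' : FusionSystem S''} (h : F.IsFactorSystem ⊥ θ F') (h' : F'.IsFactorSystem ⊥ θ' F'')
    (χ : S →* Ω'') (hχ : ∀ (s : S) (hs : θ s ∈ S'), χ s = θ' ⟨θ s, hs⟩) :
    F.IsFactorSystem ⊥ χ F'' :=
  preimg_bot (im_injective h) ▸ factor_comp stronglyClosed_bot h h' χ hχ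

/-! ### The inverse map -/

/-- The inverse of an injective homomorphism with image `S'`. -/
noncomputable def invHom (θ : S →* Ω') (hθ : Function.Injective θ) (hr : θ.range = S') : S' →* Ω :=
  S.subtype.comp ((MonoidHom.ofInjective hθ).trans (MulEquiv.subgroupCongr hr)).symm.toMonoidHom

theorem invHom_apply (hθ : Function.Injective θ) (hr : θ.range = S') (s : S) (hs : θ s ∈ S') :
    invHom θ hθ hr ⟨θ s, hs⟩ = s := by
  have : ((MonoidHom.ofInjective hθ).trans (MulEquiv.subgroupCongr hr)) s = ⟨θ s, hs⟩ :=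
    Subtype.ext rfl
  rw [← this]
  show ((((MonoidHom.ofInjective hθ).trans (MulEquiv.subgroupCongr hr)).symm _ : S) : Ω) = s
  rw [MulEquiv.symm_apply_apply]

theorem invHom_spec (hθ : Function.Injective θ) (hr : θ.range = S') (y : S') :
    ∃ h : invHom θ hθ hr y ∈ S, θ ⟨invHom θ hθ hr y, h⟩ = y := by
  obtain ⟨s, hs⟩ := hr.ge y.2
  have hy : y = ⟨θ s, hs ▸ y.2⟩ := Subtype.ext hs.symm
  have e : invHom θ hθ hr y = s := by rw [hy]; exact invHom_apply hθ hr s _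
  exact ⟨e ▸ s.2, (congrArg θ (Subtype.ext e)).trans hs⟩

theorem invHom_injective (hθ : Function.Injective θ) (hr : θ.range = S') :
    Function.Injective (invHom θ hθ hr) :=
  S.subtype_injective.comp (MulEquiv.injective _)

theorem range_invHom (hθ : Function.Injective θ) (hr : θ.range = S') :
    (invHom θ hθ hr).range = S := by
  rw [invHom, MonoidHom.range_comp, MonoidHom.range_eq_top.2 (MulEquiv.surjective _),
    ← MonoidHom.range_eq_map, S.range_subtype]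

theorem img_invHom (hθ : Function.Injective θ) (hr : θ.range = S') (P' : Subgroup Ω') :
    img (invHom θ hθ hr) P' = preimg θ P' := by
  ext x
  rw [mem_preimg]
  constructor
  · rintro ⟨y, hy, rfl⟩
    obtain ⟨h, e⟩ := invHom_spec hθ hr y
    exact ⟨h, e.symm ▸ hy⟩
  · rintro ⟨hx, hy⟩
    exact ⟨⟨θ ⟨x, hx⟩, hr.le ⟨_, rfl⟩⟩, hy, invHom_apply hθ hr ⟨x, hx⟩ _⟩

theorem preimg_invHom (hθ : Function.Injective θ) (hr : θ.range = S') {P : Subgroup Ω} :
    preimg (invHom θ hθ hr) P = img θ P := by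
  ext y
  rw [mem_preimg]
  constructor
  · rintro ⟨hy, h⟩
    obtain ⟨hs, e⟩ := invHom_spec hθ hr ⟨y, hy⟩
    exact ⟨⟨_, hs⟩, h, e⟩
  · rintro ⟨s, hs, rfl⟩
    exact ⟨hr.le ⟨_, rfl⟩, (invHom_apply hθ hr s _).symm ▸ hs⟩

theorem finite_im [Finite S] (h : F.IsFactorSystem ⊥ θ F') : Finite S' :=
  Finite.of_equiv S ((MonoidHom.ofInjective (im_injective h)).trans
    (MulEquiv.subgroupCongr h.2.2.1)).toEquiv

/-- The image relation is symmetric. -/
theorem im_symm [Finite S] (h : F.IsFactorSystem ⊥ θ F') :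
    F'.IsFactorSystem ⊥ (invHom θ (im_injective h) h.2.2.1) F := by
  have hθ := im_injective h
  have hr := h.2.2.1
  refine im_mk (invHom_injective hθ hr) (range_invHom hθ hr) ?_ ?_
  · intro P' φ' hφ'
    obtain ⟨φ, hφ, hi⟩ := exists_lift_hom h hφ'
    have key : ∀ (Q : Subgroup Ω) (e : Q = preimg θ P'), ∃ χ ∈ F.Hom Q,
        ∀ (x : Q), χ x = φ ⟨x, e ▸ x.2⟩ := by
      intro Q e; subst e; exact ⟨φ, hφ, fun x => rfl⟩
    obtain ⟨χ, hχ, hχv⟩ := key _ (img_invHom hθ hr P')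
    refine ⟨χ, hχ, le_of_mem_hom hφ', apply_mem_S hφ', fun y => apply_mem_img (ι := invHom θ hθ hr)
      (x := ⟨y, le_of_mem_hom hφ' y.2⟩) y.2, ?_⟩
    rintro ⟨y, hy⟩
    obtain ⟨s, rfl⟩ := hr.ge (le_of_mem_hom hφ' hy)
    have hs : (s : Ω) ∈ preimg θ P' := mem_preimg.2 ⟨s.2, hy⟩
    rw [hχv]
    refine (apply_congr φ (y := ⟨s, hs⟩) (invHom_apply hθ hr s _)).trans ?_
    refine ((invHom_apply hθ hr ⟨_, apply_mem_S hφ ⟨s, hs⟩⟩ (hr.le (MonoidHom.mem_range.2 ⟨_, rfl⟩))).symm).trans ?_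
    exact congrArg (invHom θ hθ hr)
      (Subtype.ext (induced_apply hi ⟨s, hs⟩ (hP := s.2) (hP' := hy)).symm)
  · intro P φ hφ
    obtain ⟨φ', hφ', hi⟩ := im_fwd h hφ
    have hP := le_of_mem_hom hφ
    have key : ∀ (Q : Subgroup Ω') (e : Q = img θ P), ∃ χ ∈ F'.Hom Q,
        ∀ (x : Q), χ x = φ' ⟨x, e ▸ x.2⟩ := by
      intro Q e; subst e; exact ⟨φ', hφ', fun x => rfl⟩
    obtain ⟨χ, hχ, hχv⟩ := key _ (preimg_invHom hθ hr)
    refine ⟨χ, hχ, preimg_le _, apply_mem_S hχ, fun y => (mem_preimg.1 y.2).2, ?_⟩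
    rintro ⟨y, hy⟩
    obtain ⟨hyS, hyP⟩ := mem_preimg.1 hy
    obtain ⟨s, rfl⟩ := hr.ge hyS
    have hs : (s : Ω) ∈ P := (invHom_apply hθ hr s hyS) ▸ hyP
    refine (apply_congr φ (y := ⟨s, hs⟩) (invHom_apply hθ hr s _)).trans ?_
    refine ((invHom_apply hθ hr ⟨_, apply_mem_S hφ ⟨s, hs⟩⟩ (hr.le (MonoidHom.mem_range.2 ⟨_, rfl⟩))).symm).trans ?_
    refine congrArg (invHom θ hθ hr) (Subtype.ext ?_)
    exact (induced_apply hi ⟨s, hs⟩ (hP := s.2) (hP' := apply_mem_img (ι := θ) (x := s) hs)).symm.trans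
      (hχv ⟨θ s, hy⟩).symm

/-! ### Images along automorphisms -/

theorem im_of_isMorphism {U : Subgroup Ω} (D : FusionSystem U) (e : U ≃* U)
    (h : D.IsMorphism D (U.subtype.comp e.toMonoidHom))
    (h' : D.IsMorphism D (U.subtype.comp e.symm.toMonoidHom)) :
    D.IsFactorSystem ⊥ (U.subtype.comp e.toMonoidHom) D := by
  refine im_mk (U.subtype_injective.comp e.injective) (range_subtype_comp e) h.2 ?_
  intro P' φ' hφ'
  obtain ⟨φ, hφ, hi⟩ := h'.2 P' φ' hφ'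
  have heq : preimg (U.subtype.comp e.toMonoidHom) P' = img (U.subtype.comp e.symm.toMonoidHom) P' := by
    ext x
    rw [mem_preimg]
    constructor
    · rintro ⟨hx, hy⟩
      exact ⟨e ⟨x, hx⟩, hy, congrArg Subtype.val (e.symm_apply_apply ⟨x, hx⟩)⟩
    · rintro ⟨y, hy, rfl⟩
      refine ⟨(e.symm y).2, ?_⟩
      show ((e (e.symm y) : U) : Ω) ∈ P'
      rw [e.apply_symm_apply]
      exact hy
  refine ⟨φ.comp (Subgroup.inclusion heq.le), restrict_mem hφ heq.le, preimg_le _,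
    fun x => apply_mem_S hφ _, fun x => (mem_preimg.1 x.2).2, fun x => ?_⟩
  obtain ⟨hx, hy⟩ := mem_preimg.1 x.2
  set y : P' := ⟨_, hy⟩
  have hyU : (y : Ω) ∈ U := (e ⟨x, hx⟩).2
  have he := induced_apply hi y (hP := hyU) (hφ := apply_mem_S hφ' y)
    (hP' := apply_mem_img (ι := U.subtype.comp e.symm.toMonoidHom) (x := ⟨(y : Ω), hyU⟩) y.2)
  have hxy : e.symm ⟨y, hyU⟩ = ⟨x, hx⟩ := e.symm_apply_apply ⟨x, hx⟩
  have e2 : φ ⟨x, heq.le x.2⟩ = ((e.symm ⟨φ' y, apply_mem_S hφ' y⟩ : U) : Ω) :=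
    (apply_congr φ (congrArg Subtype.val hxy).symm).trans he
  show φ' y = ((e ⟨φ ⟨x, heq.le x.2⟩, _⟩ : U) : Ω)
  rw [show (⟨φ ⟨x, heq.le x.2⟩, apply_mem_S hφ _⟩ : U) = e.symm ⟨φ' y, apply_mem_S hφ' y⟩ from
    Subtype.ext e2, e.apply_symm_apply]

/-- An automorphism in an invariant situation is a morphism. -/
theorem isMorphism_of_invariant {U : Subgroup Ω} {D : FusionSystem U} (h : D.IsInvariantIn F)
    {α : MulAut U} (hα : α ∈ F.autGroup U) : D.IsMorphism D (U.subtype.comp α.toMonoidHom) := by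
  refine ⟨fun s => (α s).2, fun P φ hφ => ?_⟩
  have hPU := le_of_mem_hom hφ
  obtain ⟨χ, hχ, hv⟩ := h.2.2.1 P hPU φ hφ α hα
  exact ⟨χ, hχ, hPU, apply_mem_S hφ,
    fun x => apply_mem_img (ι := U.subtype.comp α.toMonoidHom) (x := ⟨x, hPU x.2⟩) x.2,
    fun x => hv x _ _⟩

theorem im_of_invariant {U : Subgroup Ω} {D : FusionSystem U} (h : D.IsInvariantIn F)
    {α : MulAut U} (hα : α ∈ F.autGroup U) :
    D.IsFactorSystem ⊥ (U.subtype.comp α.toMonoidHom) D :=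
  im_of_isMorphism D α (isMorphism_of_invariant h hα) (isMorphism_of_invariant h (inv_mem hα))

theorem isMorphism_of_mem_aut {α : MulAut S} (hα : α ∈ F.autGroup S) :
    F.IsMorphism F (S.subtype.comp α.toMonoidHom) := by
  refine ⟨fun s => (α s).2, fun P φ hφ => ?_⟩
  have hP := le_of_mem_hom hφ
  have hm := (autGroup_carrier le_rfl).1 hα
  have hm' := (autGroup_carrier le_rfl).1 (inv_mem hα)
  have hle : img (S.subtype.comp α.toMonoidHom) P ≤ S := by
    rintro _ ⟨x, -, rfl⟩; exact (α x).2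
  have hmem : ∀ y : img (S.subtype.comp α.toMonoidHom) P,
      ((S.subtype.comp (α⁻¹ : MulAut S).toMonoidHom).comp (Subgroup.inclusion hle)) y ∈ P := by
    rintro ⟨_, x, hx, rfl⟩
    show ((α⁻¹ (α x) : S) : Ω) ∈ P
    rw [show α⁻¹ (α x) = x from α.symm_apply_apply x]
    exact hx
  have h1 := F.comp_mem (restrict_mem hm' hle) hφ hmem
  have h2 := F.comp_mem h1 hm (fun y => apply_mem_S hφ _)
  refine ⟨_, h2, hP, apply_mem_S hφ,
    fun x => apply_mem_img (ι := S.subtype.comp α.toMonoidHom) (x := ⟨x, hP x.2⟩) x.2, fun x => ?_⟩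
  show ((α ⟨φ _, _⟩ : S) : Ω) = ((α ⟨φ x, _⟩ : S) : Ω)
  refine congrArg (fun z : S => ((α z : S) : Ω)) (Subtype.ext (apply_congr φ ?_))
  show ((α⁻¹ (α ⟨x, hP x.2⟩) : S) : Ω) = x
  simp

/-! ### Transport of normality -/

/-- The restriction of `θ` to a subgroup. -/
abbrev resHom (θ : S →* Ω') {T : Subgroup Ω} (hT : T ≤ S) : T →* Ω' :=
  θ.comp (Subgroup.inclusion hT)

theorem range_resHom {T : Subgroup Ω} (hT : T ≤ S) : (resHom θ hT).range = img θ T := by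
  ext y
  constructor
  · rintro ⟨x, rfl⟩; exact apply_mem_img (ι := θ) (x := ⟨x, hT x.2⟩) x.2
  · rintro ⟨x, hx, rfl⟩; exact ⟨⟨x, hx⟩, rfl⟩

theorem img_resHom {T P : Subgroup Ω} (hT : T ≤ S) (hP : P ≤ T) :
    img (resHom θ hT) P = img θ P := by
  ext y
  constructor
  · rintro ⟨x, hx, rfl⟩; exact apply_mem_img (ι := θ) (x := ⟨x, hT x.2⟩) hx
  · rintro ⟨x, hx, rfl⟩; exact ⟨⟨x, hP hx⟩, hx, rfl⟩

theorem preimg_le_of (hθ : Function.Injective θ) {T : Subgroup Ω} {P' : Subgroup Ω'}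
    (h : P' ≤ img θ T) : preimg θ P' ≤ T := fun _ hx => by
  obtain ⟨hxS, hy⟩ := mem_preimg.1 hx
  exact (mem_img hθ).1 (h hy)

theorem subsystem_im [Finite S] (hI : F.IsFactorSystem ⊥ θ F') {T : Subgroup Ω}
    {C : FusionSystem T} (hC : C.IsSubsystemOf F) (hTS : T ≤ S) {T' : Subgroup Ω'}
    {C' : FusionSystem T'} (hI' : C.IsFactorSystem ⊥ (resHom θ hTS) C') :
    C'.IsSubsystemOf F' := by
  intro P' φ' hφ'
  have : Finite T := finite_of_le hTS
  obtain ⟨φ, hφ, hi⟩ := exists_lift_hom hI' hφ'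
  obtain ⟨φ'', hφ'', hi₂⟩ := im_fwd hI (hC _ hφ)
  have hP' : P' ≤ T' := le_of_mem_hom hφ'
  have he : P' ≤ img θ (preimg (resHom θ hTS) P') := fun y hy => by
    obtain ⟨x, rfl⟩ := hI'.2.2.1.ge (hP' hy)
    exact apply_mem_img (ι := θ) (x := ⟨x, hTS x.2⟩) (mem_preimg.2 ⟨x.2, hy⟩)
  refine restrict_mem_of_eq hφ'' he fun y => ?_
  obtain ⟨y, hy⟩ := y
  obtain ⟨x, rfl⟩ := hI'.2.2.1.ge (hP' hy)
  have hx : (x : Ω) ∈ preimg (resHom θ hTS) P' := mem_preimg.2 ⟨x.2, hy⟩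
  exact (induced_apply hi ⟨x, hx⟩ (hP := x.2) (hφ := apply_mem_S hφ _) (hP' := hy)).trans
    (induced_apply hi₂ ⟨x, hx⟩ (hP := hTS x.2)).symm

theorem stronglyClosed_im [Finite S] (hI : F.IsFactorSystem ⊥ θ F') {T : Subgroup Ω}
    (hT : F.StronglyClosed T) : F'.StronglyClosed (img θ T) := by
  refine ⟨img_le_of_range hI.2.2.1 _, fun R' hR' φ' hφ' y => ?_⟩
  obtain ⟨φ, hφ, hi⟩ := exists_lift_hom hI hφ'
  have hle := preimg_le_of (im_injective hI) hR'
  obtain ⟨y, hy⟩ := y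
  obtain ⟨s, rfl⟩ := hI.2.2.1.ge (le_of_mem_hom hφ' hy)
  have hs : (s : Ω) ∈ preimg θ R' := mem_preimg.2 ⟨s.2, hy⟩
  rw [induced_apply hi ⟨s, hs⟩ (hP := s.2) (hφ := apply_mem_S hφ _)]
  exact apply_mem_img (hT.2 _ hle φ hφ ⟨s, hs⟩)

section aut

variable [Finite S] (hI : F.IsFactorSystem ⊥ θ F') {P : Subgroup Ω} (hP : P ≤ S)

/-- Transport of automorphisms of a subgroup along `θ`. -/
noncomputable def autTr : MulAut P ≃* MulAut (img θ P) :=
  MulAut.congr (imgEquiv (im_injective hI) hP)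

theorem autTr_apply (α : MulAut P) (x : P) :
    ((autTr hI hP α ⟨θ ⟨x, hP x.2⟩, apply_mem_img (ι := θ) (x := ⟨x, hP x.2⟩) x.2⟩ : img θ P) : Ω') =
      θ ⟨α x, hP (α x).2⟩ := by
  have : (⟨θ ⟨x, hP x.2⟩, apply_mem_img (ι := θ) (x := ⟨x, hP x.2⟩) x.2⟩ : img θ P) =
      imgEquiv (im_injective hI) hP x := Subtype.ext rfl
  rw [this]
  show ((imgEquiv (im_injective hI) hP (α ((imgEquiv (im_injective hI) hP).symm
    (imgEquiv (im_injective hI) hP x))) : img θ P) : Ω') = _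
  rw [MulEquiv.symm_apply_apply]
  rfl

theorem autTr_mem {α : MulAut P} (hα : α ∈ F.autGroup P) : autTr hI hP α ∈ F'.autGroup (img θ P) := by
  rw [autGroup_carrier (img_le_of_range hI.2.2.1 _)]
  obtain ⟨φ', hφ', hi⟩ := im_fwd hI ((autGroup_carrier hP).1 hα)
  refine restrict_mem_of_eq hφ' le_rfl fun y => ?_
  obtain ⟨_, s, hs, rfl⟩ := y
  exact (autTr_apply hI hP α ⟨s, hs⟩).trans
    (induced_apply hi ⟨s, hs⟩ (hP := s.2) (hφ := hP (α ⟨s, hs⟩).2)).symm

theorem autTr_mem_iff {α : MulAut P} :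
    autTr hI hP α ∈ F'.autGroup (img θ P) ↔ α ∈ F.autGroup P := by
  refine ⟨fun h => ?_, autTr_mem hI hP⟩
  rw [autGroup_carrier hP]
  obtain ⟨φ, hφ, hi⟩ := exists_lift_hom hI ((autGroup_carrier (img_le_of_range hI.2.2.1 _)).1 h)
  have hle : P ≤ preimg θ (img θ P) := fun x hx =>
    mem_preimg.2 ⟨hP hx, apply_mem_img (ι := θ) (x := ⟨x, hP hx⟩) hx⟩
  refine restrict_mem_of_eq hφ hle fun x => ?_
  have e1 := induced_apply hi (Subgroup.inclusion hle x) (hP := hP x.2)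
    (hφ := apply_mem_S hφ _) (hP' := apply_mem_img (ι := θ) (x := ⟨x, hP x.2⟩) x.2)
  have e2 := im_injective hI ((autTr_apply hI hP α x).symm.trans e1)
  exact congrArg Subtype.val e2

end aut

theorem centralizerIn_im [Finite S] (hI : F.IsFactorSystem ⊥ θ F') {T : Subgroup Ω} (hT : T ≤ S) :
    centralizerIn S' (img θ T) = img θ (centralizerIn S T) := by
  ext y
  constructor
  · rintro ⟨hy, hc⟩
    obtain ⟨s, rfl⟩ := hI.2.2.1.ge hy
    refine apply_mem_img ⟨s.2, Subgroup.mem_centralizer_iff.2 fun t ht => ?_⟩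
    have := Subgroup.mem_centralizer_iff.1 hc (θ ⟨t, hT ht⟩) (apply_mem_img ht)
    rw [← map_mul, ← map_mul] at this
    exact congrArg Subtype.val (im_injective hI this)
  · rintro ⟨s, hs, rfl⟩
    refine ⟨hI.2.2.1.le ⟨_, rfl⟩, Subgroup.mem_centralizer_iff.2 ?_⟩
    rintro _ ⟨t, ht, rfl⟩
    rw [← map_mul, ← map_mul]
    exact congrArg θ (Subtype.ext (Subgroup.mem_centralizer_iff.1 hs.2 t ht))

/-- Transport of a normal subsystem along an isomorphism. -/
theorem normal_im {p : ℕ} [Fact p.Prime] [Finite S] (hS : IsPGroup p S)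
    (hI : F.IsFactorSystem ⊥ θ F') {T : Subgroup Ω} {C : FusionSystem T} (hC : C.IsNormalIn F p)
    (hTS : T ≤ S) {T' : Subgroup Ω'} {C' : FusionSystem T'}
    (hI' : C.IsFactorSystem ⊥ (resHom θ hTS) C') : C'.IsNormalIn F' p := by
  obtain ⟨⟨hCsat, hFsat, hsub, hTc, hinv, hfr⟩, hext⟩ := hC
  have : Finite T := finite_of_le hTS
  have hθ := im_injective hI
  obtain rfl : img θ T = T' := (range_resHom hTS).symm.trans hI'.2.2.1
  have hT'S := img_le_of_range hI.2.2.1 T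
  refine ⟨⟨factor_saturated stronglyClosed_bot hI' p (isPGroup_of_le hS hTS) hCsat,
    factor_saturated stronglyClosed_bot hI p hS hFsat, subsystem_im hI hsub hTS hI',
    stronglyClosed_im hI hTc, ?_, ?_⟩, ?_⟩
  · intro P' hP' φ' hφ' α' hα'
    obtain ⟨α, rfl⟩ := (autTr hI hTS).surjective α'
    rw [autTr_mem_iff hI hTS] at hα'
    obtain ⟨φ, hφ, hi⟩ := exists_lift_hom hI' hφ'
    have hPT : preimg (resHom θ hTS) P' ≤ T := preimg_le _
    obtain ⟨χ, hχ, hv⟩ := hinv _ hPT φ hφ α hα'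
    obtain ⟨χ', hχ', hi₂⟩ := im_fwd hI' hχ
    have he : (P'.subgroupOf (img θ T)).map ((img θ T).subtype.comp (autTr hI hTS α).toMonoidHom) ≤
        img (resHom θ hTS)
          (((preimg (resHom θ hTS) P').subgroupOf T).map (T.subtype.comp α.toMonoidHom)) := by
      rintro _ ⟨⟨_, s, hs, rfl⟩, hy, rfl⟩
      refine ⟨α ⟨s, hs⟩, ?_, (autTr_apply hI hTS α ⟨s, hs⟩).symm⟩
      exact ⟨⟨s, hs⟩, mem_preimg.2 ⟨hs, hy⟩, rfl⟩
    refine ⟨χ'.comp (Subgroup.inclusion he), restrict_mem hχ' he, fun x hφx hαx => ?_⟩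
    obtain ⟨x, hxP⟩ := x
    obtain ⟨t, rfl⟩ := hI'.2.2.1.ge (hP' hxP)
    have ht : (t : Ω) ∈ preimg (resHom θ hTS) P' := mem_preimg.2 ⟨t.2, hxP⟩
    have hφt : φ ⟨t, ht⟩ ∈ T := apply_mem_S hφ _
    have e1 : φ' ⟨resHom θ hTS t, hxP⟩ = θ ⟨φ ⟨t, ht⟩, hTS hφt⟩ :=
      induced_apply hi ⟨t, ht⟩ (hP := t.2) (hφ := hφt)
    have hm : ((α t : T) : Ω) ∈ ((preimg (resHom θ hTS) P').subgroupOf T).map
        (T.subtype.comp α.toMonoidHom) := ⟨t, ht, rfl⟩
    have e2 := induced_apply hi₂ ⟨_, hm⟩ (hP := (α t).2) (hφ := apply_mem_S hχ _)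
      (hP' := apply_mem_img (ι := resHom θ hTS) (x := α t) hm)
    refine (apply_congr χ' (autTr_apply hI hTS α t)).trans (e2.trans ?_)
    have e3 : (⟨χ ⟨_, hm⟩, hTS (apply_mem_S hχ _)⟩ : S) = ⟨(α ⟨φ ⟨t, ht⟩, hφt⟩ : T),
        hTS (α ⟨φ ⟨t, ht⟩, hφt⟩).2⟩ := Subtype.ext (hv ⟨t, ht⟩ hφt hm)
    refine (congrArg θ e3).trans ?_
    refine (autTr_apply hI hTS α ⟨_, hφt⟩).symm.trans ?_
    exact congrArg (fun z : img θ T => ((autTr hI hTS α z : img θ T) : Ω')) (Subtype.ext e1.symm)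
  · intro P' hP' φ' hφ'
    obtain ⟨φ, hφ, hi⟩ := exists_lift_hom hI hφ'
    have hle := preimg_le_of hθ hP'
    obtain ⟨α, hα, φ₀, hφ₀, hv⟩ := hfr _ hle φ hφ
    obtain ⟨φ₀', hφ₀', hi₀⟩ := im_fwd hI' hφ₀
    have he : P' ≤ img (resHom θ hTS) (preimg θ P') := fun y hy => by
      rw [img_resHom hTS hle, img_preimg (ι := θ) ((hP'.trans hT'S).trans hI.2.2.1.ge)]
      exact hy
    refine ⟨autTr hI hTS α, autTr_mem hI hTS hα, φ₀'.comp (Subgroup.inclusion he),
      restrict_mem hφ₀' he, fun x hx => ?_⟩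
    obtain ⟨x, hxP⟩ := x
    obtain ⟨s, rfl⟩ := hI.2.2.1.ge ((hP'.trans hT'S) hxP)
    have hs : (s : Ω) ∈ preimg θ P' := mem_preimg.2 ⟨s.2, hxP⟩
    have hφs : φ₀ ⟨s, hs⟩ ∈ T := apply_mem_S hφ₀ _
    have e0 := induced_apply hi₀ ⟨s, hs⟩ (hP := hle hs) (hφ := hφs)
      (hP' := apply_mem_img (ι := resHom θ hTS) (x := ⟨s, hle hs⟩) hs)
    refine (induced_apply hi ⟨s, hs⟩ (hP := s.2) (hφ := apply_mem_S hφ _)).trans ?_
    have e3 : (⟨φ ⟨s, hs⟩, apply_mem_S hφ _⟩ : S) = ⟨(α ⟨φ₀ ⟨s, hs⟩, hφs⟩ : T),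
        hTS (α ⟨φ₀ ⟨s, hs⟩, hφs⟩).2⟩ := Subtype.ext (hv ⟨s, hs⟩ hφs)
    refine (congrArg θ e3).trans ?_
    refine (autTr_apply hI hTS α ⟨_, hφs⟩).symm.trans ?_
    refine congrArg (fun z : img θ T => ((autTr hI hTS α z : img θ T) : Ω')) (Subtype.ext ?_)
    exact ((apply_congr φ₀' rfl).trans e0).symm
  · intro α' hα'
    obtain ⟨α, rfl⟩ := (autTr hI hTS).surjective α'
    have hα : α ∈ C.autGroup T := by
      rw [autGroup_carrier le_rfl]
      obtain ⟨φ, hφ, hi⟩ := exists_lift_hom hI' ((autGroup_carrier le_rfl).1 hα')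
      have hle : T ≤ preimg (resHom θ hTS) (img θ T) := fun x hx =>
        mem_preimg.2 ⟨hx, apply_mem_img (ι := θ) (x := ⟨x, hTS hx⟩) hx⟩
      refine restrict_mem_of_eq hφ hle fun x => ?_
      have e1 := induced_apply hi (Subgroup.inclusion hle x) (hP := x.2) (hφ := apply_mem_S hφ _)
        (hP' := apply_mem_img (ι := θ) (x := ⟨x, hTS x.2⟩) x.2)
      exact congrArg Subtype.val (hθ ((autTr_apply hI hTS α x).symm.trans e1))
    obtain ⟨β, hβ, hβv, hβc⟩ := hext α hα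
    have hU : T ⊔ centralizerIn S T ≤ S := sup_le hTS inf_le_left
    have hU' : img θ T ⊔ centralizerIn S' (img θ T) = img θ (T ⊔ centralizerIn S T) := by
      rw [centralizerIn_im hI hTS]
      refine le_antisymm (sup_le ?_ ?_) ?_
      · rintro _ ⟨x, hx, rfl⟩; exact apply_mem_img (Subgroup.mem_sup_left hx)
      · rintro _ ⟨x, hx, rfl⟩; exact apply_mem_img (Subgroup.mem_sup_right hx)
      · exact le_of_eq ((congrArg (Subgroup.map θ)
          (Subgroup.subgroupOf_sup hTS (centralizerIn_le_S T))).trans (Subgroup.map_sup _ _ _))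
    have key : ∀ (Q : Subgroup Ω') (e : Q = img θ (T ⊔ centralizerIn S T)), ∃ β' ∈ F'.autGroup Q,
        ∀ (x : ↥(T ⊔ centralizerIn S T)) (hx : θ ⟨x, hU x.2⟩ ∈ Q),
          ((β' ⟨θ ⟨x, hU x.2⟩, hx⟩ : Q) : Ω') = θ ⟨β x, hU (β x).2⟩ := by
      intro Q e
      subst e
      exact ⟨_, autTr_mem hI hU hβ, fun x hx => autTr_apply hI hU β x⟩
    obtain ⟨β', hβ', hv⟩ := key _ hU'
    refine ⟨β', hβ', ?_, ?_⟩
    · rintro ⟨_, t, ht, rfl⟩
      refine (hv ⟨t, Subgroup.mem_sup_left ht⟩ _).trans ?_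
      rw [autTr_apply hI hTS α ⟨t, ht⟩]
      exact congrArg θ (Subtype.ext (hβv ⟨t, ht⟩))
    · rintro ⟨c, hc⟩ hcc
      obtain ⟨s, hs, rfl⟩ : c ∈ img θ (centralizerIn S T) := centralizerIn_im hI hTS ▸ hcc
      have h1 := hβc ⟨s, Subgroup.mem_sup_right hs⟩ hs
      rw [hv ⟨s, Subgroup.mem_sup_right hs⟩ _, ← map_inv, ← map_mul]
      refine ⟨apply_mem_img h1.1, Subgroup.mem_centralizer_iff.2 ?_⟩
      rintro _ ⟨t, ht, rfl⟩
      rw [← map_mul, ← map_mul]
      exact congrArg θ (Subtype.ext (Subgroup.mem_centralizer_iff.1 h1.2 t ht))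

/-! ### Transport of subnormality -/

theorem subsystem_of_subnormal {p : ℕ} {U : Subgroup Ω} {C : FusionSystem U}
    (h : C.IsSubnormalIn F p) : C.IsSubsystemOf F := by
  induction h with
  | refl => exact fun _ _ h => h
  | step _ hD ih => exact fun P φ hφ => hD.1.2.2.1 P (ih P hφ)

theorem exists_im_res [Finite S] {T : Subgroup Ω} (hT : T ≤ S) (C : FusionSystem T)
    (hθ : Function.Injective θ) :
    ∃ C' : FusionSystem (img θ T), C.IsFactorSystem ⊥ (resHom θ hT) C' := by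
  have : Finite T := finite_of_le hT
  exact exists_im C (hθ.comp (Subgroup.inclusion_injective hT)) (range_resHom hT)

theorem subnormal_im {p : ℕ} [Fact p.Prime] [Finite S] (hS : IsPGroup p S)
    {T : Subgroup Ω} {C : FusionSystem T} (hC : C.IsSubnormalIn F p)
    (hI : F.IsFactorSystem ⊥ θ F') (hTS : T ≤ S) {T' : Subgroup Ω'} {C' : FusionSystem T'}
    (hI' : C.IsFactorSystem ⊥ (resHom θ hTS) C') : C'.IsSubnormalIn F' p := by
  rename_i hfp hfin
  revert hfp hfin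
  induction hC generalizing T' S' with
  | @refl G q =>
    intro hfp hfin
    have hres : resHom θ hTS = θ := rfl
    rw [hres] at hI'
    obtain rfl : S' = T' := hI.2.2.1.symm.trans hI'.2.2.1
    obtain rfl := factor_unique hI' hI
    exact IsSubnormalIn.refl _ _
  | @step U₀ S₀ E D G q hsub hD ih =>
    intro hfp hfin
    have hUS : U₀ ≤ S₀ := le_of_subsystem hD.1.2.2.1
    have hTU : T ≤ U₀ := le_of_subsystem (subsystem_of_subnormal hsub)
    obtain ⟨D', hD'⟩ := exists_im_res hUS D (im_injective hI)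
    have : Finite U₀ := finite_of_le hUS
    exact IsSubnormalIn.step (ih (isPGroup_of_le hS hUS) hD' hTU hI') (normal_im hS hI hD hUS hD')

/-- The image of a subnormal system under a map of the big system is subnormal. -/
theorem subnormal_conj {p : ℕ} [Fact p.Prime] [Finite S] (hS : IsPGroup p S)
    {T : Subgroup Ω} {C : FusionSystem T} (hC : C.IsSubnormalIn F p) {γ : T →* Ω}
    (hγ : γ ∈ F.Hom T) {T' : Subgroup Ω} {C' : FusionSystem T'}
    (hI : C.IsFactorSystem ⊥ γ C') : C'.IsSubnormalIn F p := by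
  rename_i hfp hfin
  revert hfp hfin
  induction hC generalizing γ T' with
  | @refl G q =>
    intro hfp hfin
    have hr : γ.range = T := eq_of_le_of_card_le le_rfl (range_le_S hγ) (card_range hγ).ge
    let α : MulAut T := autOfRange γ (G.injective_of_mem hγ) hr
    have hα : α ∈ G.autGroup T := autOfRange_mem hγ hr
    have hαγ : T.subtype.comp α.toMonoidHom = γ := MonoidHom.ext fun _ => rfl
    have h1 := im_of_isMorphism G α (isMorphism_of_mem_aut hα) (isMorphism_of_mem_aut (inv_mem hα))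
    rw [hαγ] at h1
    obtain rfl : T = T' := hr.symm.trans hI.2.2.1
    obtain rfl := factor_unique hI h1
    exact IsSubnormalIn.refl _ _
  | @step U₀ S₀ E D G q hsub hD ih =>
    intro hfp hfin
    have hUS : U₀ ≤ S₀ := le_of_subsystem hD.1.2.2.1
    have hTU : T ≤ U₀ := le_of_subsystem (subsystem_of_subnormal hsub)
    have : Finite U₀ := finite_of_le hUS
    have : Finite T := finite_of_le hTU
    obtain ⟨α, hα, ψ, hψ, hv⟩ := hD.1.2.2.2.2.2 T hTU γ hγ
    obtain ⟨C₁, hC₁⟩ := exists_im E (D.injective_of_mem hψ) rfl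
    have h1 := ih (isPGroup_of_le hS hUS) hψ hC₁
    have hIm := im_of_invariant hD.1.2.2 hα
    obtain ⟨C₂, hC₂⟩ := exists_im_res (θ := U₀.subtype.comp α.toMonoidHom) (range_le_S hψ) C₁
      (U₀.subtype_injective.comp α.injective)
    have h2 := subnormal_im (isPGroup_of_le hS hUS) h1 hIm (range_le_S hψ) hC₂
    have h3 := im_comp hC₁ hC₂ γ (fun t ht => (hv t (apply_mem_S hψ t)).trans rfl)
    obtain rfl : img (U₀.subtype.comp α.toMonoidHom) ψ.range = T' := by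
      rw [← hI.2.2.1, ← h3.2.2.1]
    obtain rfl := factor_unique hI h3
    exact IsSubnormalIn.step h2 hD

/-! ### Transport of quasisimplicity -/

theorem center_im_le [Finite S] (hI : F.IsFactorSystem ⊥ θ F') : img θ F.center ≤ F'.center := by
  refine le_center ⟨img_le_of_range hI.2.2.1 _, fun P' φ' hφ' => ?_⟩
  obtain ⟨φ, hφ, hi⟩ := exists_lift_hom hI hφ'
  obtain ⟨ψ, hψ, he, hf⟩ := (isCentral_center (F := F)).2 _ φ hφ
  obtain ⟨ψ', hψ', hi₂⟩ := im_fwd hI hψ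
  have hle : P' ⊔ img θ F.center ≤ img θ (preimg θ P' ⊔ F.center) := by
    refine sup_le (fun y hy => ?_) ?_
    · obtain ⟨s, rfl⟩ := hI.2.2.1.ge (le_of_mem_hom hφ' hy)
      exact apply_mem_img (Subgroup.mem_sup_left (mem_preimg.2 ⟨s.2, hy⟩))
    · rintro _ ⟨s, hs, rfl⟩
      exact apply_mem_img (Subgroup.mem_sup_right hs)
  refine ⟨ψ'.comp (Subgroup.inclusion hle), restrict_mem hψ' hle, ?_, ?_⟩
  · rintro ⟨y, hy⟩
    obtain ⟨s, rfl⟩ := hI.2.2.1.ge (le_of_mem_hom hφ' hy)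
    have hs : (s : Ω) ∈ preimg θ P' := mem_preimg.2 ⟨s.2, hy⟩
    refine (induced_apply hi₂ ⟨s, Subgroup.mem_sup_left hs⟩ (hP := s.2) (hφ := apply_mem_S hψ _)).trans ?_
    refine Eq.trans ?_ (induced_apply hi ⟨s, hs⟩ (hP := s.2) (hφ := apply_mem_S hφ _)).symm
    exact congrArg θ (Subtype.ext (he ⟨s, hs⟩))
  · rintro ⟨_, s, hs, rfl⟩
    refine (induced_apply hi₂ ⟨s, Subgroup.mem_sup_right hs⟩ (hP := s.2) (hφ := apply_mem_S hψ _)).trans ?_
    exact congrArg θ (Subtype.ext (hf ⟨s, hs⟩))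

theorem center_im [Finite S] (hI : F.IsFactorSystem ⊥ θ F') : img θ F.center = F'.center := by
  refine le_antisymm (center_im_le hI) fun y hy => ?_
  have : Finite S' := finite_im hI
  obtain ⟨s, rfl⟩ := hI.2.2.1.ge (center_le_S hy)
  have h1 := center_im_le (im_symm hI)
    (apply_mem_img (ι := invHom θ (im_injective hI) hI.2.2.1) (x := ⟨θ s, center_le_S hy⟩) hy)
  rw [invHom_apply] at h1
  exact apply_mem_img h1

theorem hyperfocal_im_le {p : ℕ} [Finite S] (hI : F.IsFactorSystem ⊥ θ F') :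
    img θ (F.hyperfocalSubgroup p) ≤ F'.hyperfocalSubgroup p := by
  rintro _ ⟨z, hz, rfl⟩
  suffices h : F.hyperfocalSubgroup p ≤ preimg θ (F'.hyperfocalSubgroup p) by
    exact (mem_preimg.1 (h hz)).2
  rw [FusionSystem.hyperfocalSubgroup, Subgroup.closure_le]
  rintro _ ⟨P, ⟨α, hα⟩, x, hP, hres, rfl⟩
  refine mem_preimg.2 ⟨mul_mem (inv_mem (hP x.2)) (hP (α x).2), ?_⟩
  have : Finite P := finite_of_le hP
  have : Finite (MulAut P) := finite_mulAut
  let f : F.autGroup P →* F'.autGroup (img θ P) :=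
    ((autTr hI hP).toMonoidHom.comp (F.autGroup P).subtype).codRestrict _
      fun a => autTr_mem hI hP a.2
  have hf := CfsgLib.PResidual.map_pResidual_le (p := p) f ⟨_, hres, rfl⟩
  refine Subgroup.subset_closure ⟨img θ P, f ⟨α, hα⟩,
    ⟨θ ⟨x, hP x.2⟩, apply_mem_img (ι := θ) (x := ⟨x, hP x.2⟩) x.2⟩, img_le_of_range hI.2.2.1 _, hf, ?_⟩
  show θ ⟨_, _⟩ = _
  rw [show (⟨(x : Ω)⁻¹ * ((α x : P) : Ω), mul_mem (inv_mem (hP x.2)) (hP (α x).2)⟩ : S) =
    ⟨x, hP x.2⟩⁻¹ * ⟨α x, hP (α x).2⟩ from rfl, map_mul, map_inv]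
  exact congrArg (_ * ·) (autTr_apply hI hP α x).symm

theorem simple_im {p : ℕ} [Fact p.Prime] [Finite S] (hS : IsPGroup p S)
    (hI : F.IsFactorSystem ⊥ θ F') (h : F.IsSimple p) : F'.IsSimple p := by
  obtain ⟨hsat, hne, hn⟩ := h
  have hθ := im_injective hI
  have hr := hI.2.2.1
  have : Finite S' := finite_im hI
  have hS' : IsPGroup p S' := hS.of_equiv ((MonoidHom.ofInjective hθ).trans (MulEquiv.subgroupCongr hr))
  refine ⟨factor_saturated stronglyClosed_bot hI p hS hsat, fun h0 => hne (eq_bot_iff.2 fun x hx => ?_), ?_⟩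
  · have h1 : θ ⟨x, hx⟩ ∈ (⊥ : Subgroup Ω') := h0 ▸ hr.le ⟨_, rfl⟩
    exact (bot_of_inj hθ ⟨x, hx⟩).1 (Subgroup.mem_bot.1 h1)
  · intro T' E' hE'
    have hT' : T' ≤ S' := le_of_subsystem hE'.1.2.2.1
    have : Finite T' := finite_of_le hT'
    obtain ⟨E, hE⟩ := exists_im_res (θ := invHom θ hθ hr) hT' E' (invHom_injective hθ hr)
    have hN := normal_im hS' (im_symm hI) hE' hT' hE
    rcases hn _ E hN with h0 | ⟨h0, hH⟩
    · refine Or.inl (eq_bot_iff.2 fun y hy => ?_)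
      have h1 : invHom θ hθ hr ⟨y, hT' hy⟩ ∈ (⊥ : Subgroup Ω) :=
        h0 ▸ apply_mem_img (ι := invHom θ hθ hr) (x := ⟨y, hT' hy⟩) hy
      rw [Subgroup.mem_bot, map_eq_one_iff _ (invHom_injective hθ hr)] at h1
      exact congrArg Subtype.val h1
    · obtain rfl : T' = S' := by
        refine le_antisymm hT' fun y hy => ?_
        have h1 : invHom θ hθ hr ⟨y, hy⟩ ∈ img (invHom θ hθ hr) T' := by
          rw [h0]; exact (range_invHom hθ hr).le ⟨_, rfl⟩
        exact (mem_img (invHom_injective hθ hr)).1 h1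
      refine Or.inr ⟨rfl, fun P' => Set.Subset.antisymm (hE'.1.2.2.1 P') fun φ' hφ' => ?_⟩
      obtain ⟨φ, hφ, hi⟩ := im_fwd (im_symm hI) hφ'
      rw [← hH] at hφ
      obtain ⟨χ, hχ, hj⟩ := exists_lift_hom hE hφ
      have hP' := le_of_mem_hom hφ'
      have hle : P' ≤ preimg (resHom (invHom θ hθ hr) hT') (img (invHom θ hθ hr) P') := fun y hy =>
        mem_preimg.2 ⟨hP' hy, apply_mem_img (ι := invHom θ hθ hr) (x := ⟨y, hP' hy⟩) hy⟩
      refine restrict_mem_of_eq hχ hle fun y => ?_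
      have hm : invHom θ hθ hr ⟨y, hP' y.2⟩ ∈ img (invHom θ hθ hr) P' :=
        apply_mem_img (ι := invHom θ hθ hr) (x := ⟨y, hP' y.2⟩) y.2
      have e1 := induced_apply hi y (hP := hP' y.2) (hφ := apply_mem_S hφ' y) (hP' := hm)
      have e2 := induced_apply hj (Subgroup.inclusion hle y) (hP := hP' y.2)
        (hφ := apply_mem_S hχ _) (hP' := hm)
      exact congrArg Subtype.val (invHom_injective hθ hr (e1.symm.trans e2))

theorem quasisimple_im {p : ℕ} [Fact p.Prime] [Finite S] (hS : IsPGroup p S)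
    (hI : F.IsFactorSystem ⊥ θ F') (h : F.Quasisimple p) : F'.Quasisimple p := by
  obtain ⟨hsat, hyp, hsimp⟩ := h
  have hθ := im_injective hI
  have hr := hI.2.2.1
  have : Finite S' := finite_im hI
  refine ⟨factor_saturated stronglyClosed_bot hI p hS hsat, le_antisymm ?_ ?_, ?_⟩
  · rw [FusionSystem.hyperfocalSubgroup, Subgroup.closure_le]
    rintro _ ⟨P, α, x, hP, -, rfl⟩
    exact mul_mem (inv_mem (hP x.2)) (hP ((α : MulAut P) x).2)
  · intro y hy
    obtain ⟨s, rfl⟩ := hr.ge hy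
    exact hyperfocal_im_le hI (apply_mem_img (hyp.symm ▸ s.2))
  · intro E' hE'
    let q := QuotientGroup.mk' ((F.center).subgroupOf S)
    let q' := QuotientGroup.mk' ((F'.center).subgroupOf S')
    let θc : S →* S' := θ.codRestrict S' fun s => hr.le ⟨s, rfl⟩
    have hker : ∀ s : S, q s = 1 ↔ q' (θc s) = 1 := fun s => by
      simp only [q, q', QuotientGroup.mk'_apply, QuotientGroup.eq_one_iff, Subgroup.mem_subgroupOf]
      show _ ↔ θ s ∈ F'.center
      rw [← center_im hI, mem_img hθ]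
    have hk : ∀ s : S, q s = 1 ↔ (s : Ω) ∈ F.center := fun s => by
      rw [QuotientGroup.mk'_apply, QuotientGroup.eq_one_iff, Subgroup.mem_subgroupOf]
    have hqr : q.range = ⊤ := MonoidHom.range_eq_top.2 (QuotientGroup.mk'_surjective _)
    have hZ : F.StronglyClosed F.center :=
      stronglyClosed_of_isNormal (isNormal_of_isCentral isCentral_center)
    let E := factorSystem hZ hk hqr
    have hE : F.IsFactorSystem F.center q E := factorSystem_spec hZ hk hqr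
    let g : S ⧸ (F.center).subgroupOf S →* S' ⧸ (F'.center).subgroupOf S' :=
      QuotientGroup.lift _ (q'.comp θc) (fun s hs =>
        (hker s).1 ((QuotientGroup.eq_one_iff s).2 hs))
    let ν : (⊤ : Subgroup (S ⧸ (F.center).subgroupOf S)) →* S' ⧸ (F'.center).subgroupOf S' :=
      g.comp (Subgroup.subtype ⊤)
    have hν : Function.Injective ν := by
      rw [injective_iff_map_eq_one]
      rintro ⟨x, _⟩ hx
      obtain ⟨s, rfl⟩ := QuotientGroup.mk'_surjective _ x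
      exact Subtype.ext ((hker s).2 hx)
    have hνr : ν.range = ⊤ := by
      refine MonoidHom.range_eq_top.2 fun y => ?_
      obtain ⟨⟨y, hy⟩, rfl⟩ := QuotientGroup.mk'_surjective _ y
      obtain ⟨s, rfl⟩ := hr.ge hy
      exact ⟨⟨q s, Subgroup.mem_top _⟩, rfl⟩
    obtain ⟨E'', hE''⟩ := exists_im E hν hνr
    have h1 := factor_comp hZ hE hE'' (q'.comp θc) (fun s _ => rfl)
    have h2 := factor_comp stronglyClosed_bot hI hE' (q'.comp θc) (fun s _ => rfl)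
    have he : preimg θ F'.center = preimg q ⊥ := by
      ext x
      simp only [mem_preimg, Subgroup.mem_bot]
      refine exists_congr fun hx => ?_
      rw [hk ⟨x, hx⟩, ← center_im hI, mem_img hθ]
    rw [he] at h2
    obtain rfl := factor_unique h2 h1
    exact simple_im ((hS.to_quotient _).to_subgroup ⊤) hE'' (hsimp E hE)

theorem component_im {p : ℕ} [Fact p.Prime] [Finite S] (hS : IsPGroup p S)
    {T : Subgroup Ω} {C : FusionSystem T} (hC : C.IsComponentIn F p)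
    (hI : F.IsFactorSystem ⊥ θ F') (hTS : T ≤ S) {T' : Subgroup Ω'} {C' : FusionSystem T'}
    (hI' : C.IsFactorSystem ⊥ (resHom θ hTS) C') : C'.IsComponentIn F' p := by
  have : Finite T := finite_of_le hTS
  exact ⟨subnormal_im hS hC.1 hI hTS hI', quasisimple_im (isPGroup_of_le hS hTS) hI' hC.2⟩

end CfsgLib.FusionImage
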