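import Mathlib.GroupTheory.SchurZassenhaus
import Cfsg.Prelude.Def_FusionReduction
import Cfsg.Agent.Fusion.Factor
import Cfsg.Agent.Fusion.LocalSaturation
import Cfsg.Agent.Fusion.NormalizerModel
import Cfsg.Agent.Fusion.LocalModels
import Cfsg.Agent.Fusion.NormalCriteria
import Cfsg.Agent.ZJ.Involve
import Cfsg.Agent.ZJ.Constrained

/-!
Realizations of factor systems by quotient groups, and freeness of a section in factor systems.
-/

set_option autoImplicit false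

open Cfsg Cfsg.FusionSystem

namespace CfsgLib.Fusion

/-! ### Quotients of a realizing group -/

section Realization

variable {Ω : Type*} [Group Ω] {U : Subgroup Ω} {N : FusionSystem U} {G : Type*} [Group G]
  {ι : U →* G}

/-- A strongly closed subgroup below a normal image has a normal image. -/
theorem normal_img_of_stronglyClosed (h : N.IsRealizedBy ι) {P Q : Subgroup Ω} (hPU : P ≤ U)
    (hP : (img ι P).Normal) (hQ : N.StronglyClosed Q) (hQP : Q ≤ P) : (img ι Q).Normal := by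
  refine ⟨?_⟩
  rintro _ ⟨x, hx, rfl⟩ g
  obtain ⟨φ, hφ, hφι⟩ := exists_realized_hom h (hQP.trans hPU) (g := g) fun y =>
    img_le_range P (hP.conj_mem _
      (apply_mem_img (ι := ι) (x := ⟨y, hPU (hQP y.2)⟩) (hQP y.2)) g)
  exact ⟨⟨φ ⟨x, hx⟩, apply_mem_S hφ _⟩, hQ.2 Q le_rfl φ hφ ⟨x, hx⟩, hφι ⟨x, hx⟩⟩

/-- A normal subgroup of order prime to `p` can be factored out of a realization. -/
theorem realized_quotient_pPrime [Finite G] (p : ℕ) [Fact p.Prime] (hU : IsPGroup p U)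
    (h : N.IsRealizedBy ι) (K : Subgroup G) [K.Normal] (hK : (Nat.card K).Coprime p) :
    N.IsRealizedBy ((QuotientGroup.mk' K).comp ι) := by
  have hr : IsPGroup p ι.range := hU.of_surjective ι.rangeRestrict ι.rangeRestrict_surjective
  constructor
  · refine (injective_iff_map_eq_one _).2 fun x hx => (injective_iff_map_eq_one ι).1 h.1 x ?_
    exact Subgroup.mem_bot.1 (CfsgLib.ZJ.isPGroup_inf_coprime hr hK ▸
      (⟨⟨x, rfl⟩, (QuotientGroup.eq_one_iff (ι x)).1 hx⟩ : ι x ∈ ι.range ⊓ K))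
  intro P hP φ hφ
  constructor
  · intro hmem
    obtain ⟨g, hg⟩ := (h.2 P hP φ hφ).1 hmem
    exact ⟨QuotientGroup.mk' K g, fun x => by
      simp only [MonoidHom.comp_apply, hg x, map_mul, map_inv]⟩
  · rintro ⟨q, hq⟩
    obtain ⟨g, rfl⟩ := QuotientGroup.mk'_surjective K q
    refine (h.2 P hP φ hφ).2 ?_
    let f : P →* G := ι.comp (φ.codRestrict U hφ)
    let c : P →* G := (MulAut.conj g).toMonoidHom.comp (ι.comp (Subgroup.inclusion hP))
    have hcf : ∀ x : P, (c x)⁻¹ * f x ∈ K := fun x => QuotientGroup.eq.1 (by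
      have := hq x
      simp only [MonoidHom.comp_apply, QuotientGroup.mk'_apply] at this
      show ((g * ι ⟨x, hP x.2⟩ * g⁻¹ : G) : G ⧸ K) = (ι ⟨φ x, hφ x⟩ : G)
      rw [this]
      simp)
    have hPp : IsPGroup p P := hU.of_injective _ (Subgroup.inclusion_injective hP)
    have hA : IsPGroup p c.range := hPp.of_surjective _ c.rangeRestrict_surjective
    have hB : IsPGroup p f.range := hPp.of_surjective _ f.rangeRestrict_surjective
    have hAB : c.range ⊔ K = f.range ⊔ K := by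
      refine le_antisymm (sup_le ?_ le_sup_right) (sup_le ?_ le_sup_right)
      · rintro _ ⟨x, rfl⟩
        have h1 : f x * ((c x)⁻¹ * f x)⁻¹ ∈ f.range ⊔ K :=
          mul_mem (Subgroup.mem_sup_left ⟨x, rfl⟩) (inv_mem (Subgroup.mem_sup_right (hcf x)))
        simpa [mul_assoc] using h1
      · rintro _ ⟨x, rfl⟩
        have h1 : c x * ((c x)⁻¹ * f x) ∈ c.range ⊔ K :=
          mul_mem (Subgroup.mem_sup_left ⟨x, rfl⟩) (Subgroup.mem_sup_right (hcf x))
        simpa [mul_assoc] using h1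
    have hSB := CfsgLib.ZJ.isSylowIn_sup_coprime hB hK
    have hSA := CfsgLib.ZJ.isSylowIn_sup_coprime hA hK
    rw [hAB] at hSA
    obtain ⟨m, hm, hmeq⟩ := hSB.exists_cj_eq hSA
    obtain ⟨b, hb, k, hk, rfl⟩ :=
      (CfsgLib.Solvable.mem_sup_of_le_normalizer (A := f.range) (K := K)
        Subgroup.le_normalizer_of_normal).1 hm
    refine ⟨k * g, fun x => ?_⟩
    have h1 : b * k * c x * (b * k)⁻¹ ∈ f.range := hmeq.le ⟨c x, ⟨x, rfl⟩, rfl⟩
    have h2 : k * c x * k⁻¹ ∈ f.range := by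
      have := mul_mem (mul_mem (inv_mem hb) h1) hb
      simpa [mul_assoc] using this
    have h3 : (k * c x * k⁻¹)⁻¹ * f x ∈ f.range ⊓ K := by
      refine ⟨mul_mem (Subgroup.inv_mem _ h2) ⟨x, rfl⟩, QuotientGroup.eq.1 ?_⟩
      have h4 : ((c x : G) : G ⧸ K) = (f x : G) := QuotientGroup.eq.2 (hcf x)
      simp [(QuotientGroup.eq_one_iff k).2 hk, h4]
    rw [CfsgLib.ZJ.isPGroup_inf_coprime hB hK, Subgroup.mem_bot, inv_mul_eq_one] at h3
    refine h3.symm.trans ?_
    show k * (g * ι ⟨x, hP x.2⟩ * g⁻¹) * k⁻¹ = k * g * ι ⟨x, hP x.2⟩ * (k * g)⁻¹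
    group

variable [Finite U]

/-- A realization of a constrained system maps onto its model. -/
theorem exists_hom_onto_model [Finite G] (p : ℕ) [Fact p.Prime] (hU : IsPGroup p U)
    (h : N.IsRealizedBy ι) (P : Sylow p G) (hP : (P : Subgroup G) = ι.range) {T : Subgroup Ω}
    (hTn : N.IsNormal T) (hTc : N.IsCentric T) (hn : (img ι T).Normal) {G' : Type*} [Group G']
    {ι' : U →* G'} (hm : N.IsModel p G' ι') : ∃ f : G →* G', Function.Surjective f := by
  classical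
  set C := Subgroup.centralizer (img ι T : Set G)
  have hCn : C.Normal := by
    haveI := hn
    exact inferInstanceAs (Subgroup.centralizer (img ι T : Set G)).Normal
  have hTC : ∀ z ∈ img ι T ⊓ C, ∀ x ∈ C, z * x = x * z := fun z hz x hx =>
    (Subgroup.mem_centralizer_iff.1 hx z hz.1)
  have hpel : ∀ x ∈ C, (∃ j : ℕ, x ^ p ^ j = 1) → x ∈ img ι T ⊓ C := by
    rintro x hx ⟨j, hj⟩
    refine ⟨?_, hx⟩
    have hxp : IsPGroup p (Subgroup.zpowers x) := by
      rintro ⟨_, i, rfl⟩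
      refine ⟨j, Subtype.ext ?_⟩
      show (x ^ i) ^ p ^ j = 1
      rw [← zpow_natCast, ← zpow_mul, mul_comm, zpow_mul, zpow_natCast, hj, one_zpow]
    obtain ⟨P', hP'⟩ := hxp.exists_le_sylow
    obtain ⟨g, hg⟩ := MulAction.exists_smul_eq G P' P
    have h1 : g * x * g⁻¹ ∈ ι.range := by
      rw [← hP, ← hg, Sylow.coe_subgroup_smul]
      exact ⟨x, hP' (Subgroup.mem_zpowers x), rfl⟩
    obtain ⟨s, hs⟩ := h1
    have h2 : ι s ∈ C := hs ▸ hCn.conj_mem x hx g
    have h3 : (s : Ω) ∈ T := centralizerIn_le_self hTc (mem_centralizerIn.2 ⟨s.2, fun y hy => by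
      have e := Subgroup.mem_centralizer_iff.1 h2 _
        (apply_mem_img (ι := ι) (x := ⟨y, hTn.1 hy⟩) hy)
      rw [← map_mul, ← map_mul] at e
      exact congrArg Subtype.val (h.1 e)⟩)
    have h4 := hn.conj_mem _ (apply_mem_img (ι := ι) h3) g⁻¹
    rw [hs] at h4
    simpa [mul_assoc] using h4
  -- the complement of the central Sylow subgroup of `C`
  set Z : Subgroup C := (img ι T).subgroupOf C
  have hTp : IsPGroup p (img ι T) :=
    (hU.of_surjective ι.rangeRestrict ι.rangeRestrict_surjective).to_le (img_le_range T)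
  have hZp : IsPGroup p Z := hTp.comap_of_injective _ C.subtype_injective
  have hZn : Z.Normal := by
    haveI := hn
    exact inferInstanceAs ((img ι T).subgroupOf C).Normal
  have hZidx : (Nat.card Z).Coprime Z.index := by
    obtain ⟨Q⟩ := (inferInstance : Nonempty (Sylow p C))
    have hQ : (Q : Subgroup C) = Z := by
      refine (Q.3 hZp fun y hy => ?_).symm
      obtain ⟨j, hj⟩ := Q.2 ⟨y, hy⟩
      exact (hpel y y.2 ⟨j, by simpa using congrArg (fun z : Q => ((z : C) : G)) hj⟩).1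
    rw [← hQ, Q.card_eq_multiplicity]
    exact ((Fact.out : p.Prime).coprime_iff_not_dvd.2 Q.not_dvd_index).pow_left _
  obtain ⟨K₀, hK₀⟩ := Subgroup.exists_right_complement'_of_coprime hZidx
  set m := Nat.card K₀
  have hmp : m.Coprime p := by
    show (Nat.card K₀).Coprime p
    rw [← hK₀.symm.index_eq_card]
    obtain ⟨Q⟩ := (inferInstance : Nonempty (Sylow p C))
    have hQ : (Q : Subgroup C) = Z := by
      refine (Q.3 hZp fun y hy => ?_).symm
      obtain ⟨j, hj⟩ := Q.2 ⟨y, hy⟩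
      exact (hpel y y.2 ⟨j, by simpa using congrArg (fun z : Q => ((z : C) : G)) hj⟩).1
    rw [← hQ]
    exact ((Fact.out : p.Prime).coprime_iff_not_dvd.2 Q.not_dvd_index).symm
  have hdec : ∀ x : C, ∃ z ∈ Z, ∃ k ∈ K₀, z * k = x := fun x => by
    obtain ⟨⟨z, k⟩, hzk⟩ := hK₀.2 x
    exact ⟨z, z.2, k, k.2, hzk⟩
  have hmem : ∀ x : C, x ∈ K₀ ↔ x ^ m = 1 := by
    intro x
    refine ⟨fun hx => orderOf_dvd_iff_pow_eq_one.1 (K₀.orderOf_dvd_natCard hx),
      fun hx => ?_⟩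
    obtain ⟨z, hz, k, hk, rfl⟩ := hdec x
    have hzk : Commute z k := Subtype.ext (hTC z ⟨hz, z.2⟩ k k.2)
    have hkm : k ^ m = 1 := orderOf_dvd_iff_pow_eq_one.1 (K₀.orderOf_dvd_natCard hk)
    rw [hzk.mul_pow, hkm, mul_one] at hx
    obtain ⟨j, hj⟩ := hZp ⟨z, hz⟩
    have hz1 : z = 1 := orderOf_eq_one_iff.1 (Nat.eq_one_of_dvd_coprimes (hmp.pow_right j)
      (orderOf_dvd_of_pow_eq_one hx) (orderOf_dvd_of_pow_eq_one (congrArg Subtype.val hj :)))
    rw [hz1, one_mul]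
    exact hk
  set K : Subgroup G := K₀.map C.subtype
  have hKn : K.Normal := by
    refine ⟨?_⟩
    rintro _ ⟨x, hx, rfl⟩ g
    refine ⟨⟨g * x * g⁻¹, hCn.conj_mem _ x.2 g⟩, (hmem _).2 (Subtype.ext ?_), rfl⟩
    show (g * (x : G) * g⁻¹) ^ m = 1
    rw [conj_pow, ← Subgroup.coe_pow, (hmem x).1 hx]
    simp
  have hKcard : (Nat.card K).Coprime p := by
    rw [← Nat.card_congr (K₀.equivMapOfInjective _ C.subtype_injective).toEquiv]
    exact hmp
  have hrK := realized_quotient_pPrime p hU h K hKcard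
  let π := QuotientGroup.mk' K
  have himg : img (π.comp ι) T = (img ι T).map π := by
    unfold img
    rw [Subgroup.map_map]
  have hn' : (img (π.comp ι) T).Normal := himg ▸ hn.map π (QuotientGroup.mk'_surjective K)
  have hC' : Subgroup.centralizer (img (π.comp ι) T : Set (G ⧸ K)) ≤ img (π.comp ι) T := by
    intro q hq
    obtain ⟨x, rfl⟩ := QuotientGroup.mk'_surjective K q
    rw [himg] at hq ⊢
    have hxC : x ∈ C := by
      refine Subgroup.mem_centralizer_iff.2 fun t ht => ?_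
      have h1 : π (x * t * x⁻¹) = π t := by
        rw [map_mul, map_mul, map_inv, ← Subgroup.mem_centralizer_iff.1 hq _ ⟨t, ht, rfl⟩,
          mul_inv_cancel_right]
      have h2 : (x * t * x⁻¹)⁻¹ * t ∈ img ι T ⊓ K :=
        ⟨mul_mem (Subgroup.inv_mem _ (hn.conj_mem t ht x)) ht, QuotientGroup.eq.1 h1⟩
      rw [CfsgLib.ZJ.isPGroup_inf_coprime hTp hKcard, Subgroup.mem_bot, inv_mul_eq_one,
        mul_inv_eq_iff_eq_mul] at h2
      exact h2.symm
    obtain ⟨z, hz, k, hk, hzk⟩ := hdec ⟨x, hxC⟩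
    refine ⟨(z : G), hz, ?_⟩
    have e : x = (z : G) * k := (congrArg Subtype.val hzk).symm
    rw [e, map_mul, show π (k : G) = 1 from (QuotientGroup.eq_one_iff _).2 ⟨k, hk, rfl⟩, mul_one]
  have hnm := normal_img_of_isNormal p hm hTn
  have hcm := centralizer_img_le p hU hm hTn hTc
  obtain ⟨φ, -⟩ := realized_unique p hU (saturated_of_realized p hU h P hP) hTn hTc hrK hn' hC'
    hm.2.1 hnm hcm
  exact ⟨φ.toMonoidHom.comp π, φ.surjective.comp (QuotientGroup.mk'_surjective K)⟩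

/-- A realization modulo a strongly closed subgroup realizes the factor system. -/
theorem realized_factor {Ω' : Type*} [Group Ω'] {U' : Subgroup Ω'} {θ : U →* Ω'} {Q : Subgroup Ω}
    {N' : FusionSystem U'} (hfac : N.IsFactorSystem Q θ N') (h : N.IsRealizedBy ι)
    [(img ι Q).Normal] :
    ∃ ῑ : U' →* G ⧸ img ι Q, N'.IsRealizedBy ῑ ∧
      ∀ (s : U) (hs : θ s ∈ U'), ῑ ⟨θ s, hs⟩ = (ι s : G ⧸ img ι Q) := by
  obtain ⟨hQU, hk, hr, hHom⟩ := hfac
  let θ' : U →* U' := θ.codRestrict U' fun s => hr.le ⟨s, rfl⟩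
  have hθ' : Function.Surjective θ' := fun y => by
    obtain ⟨s, hs⟩ := hr.ge y.2
    exact ⟨s, Subtype.ext hs⟩
  let g₀ : U →* G ⧸ img ι Q := (QuotientGroup.mk' _).comp ι
  have hle : θ'.ker ≤ g₀.ker := fun s hs =>
    (QuotientGroup.eq_one_iff (ι s)).2 (apply_mem_img ((hk s).1 (congrArg Subtype.val hs)))
  let ῑ := θ'.liftOfSurjective hθ' ⟨g₀, hle⟩
  have key : ∀ s : U, ῑ (θ' s) = (ι s : G ⧸ img ι Q) := fun s =>
    MonoidHom.liftOfRightInverse_comp_apply θ' _ (Function.rightInverse_surjInv hθ') ⟨g₀, hle⟩ s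
  have hinj : Function.Injective ῑ := by
    refine (injective_iff_map_eq_one ῑ).2 fun y hy => ?_
    obtain ⟨s, rfl⟩ := hθ' y
    rw [key, QuotientGroup.eq_one_iff, mem_img h.1] at hy
    exact Subtype.ext ((hk s).2 hy)
  refine ⟨ῑ, ⟨hinj, fun P' hP' φ' hφ' => ?_⟩, fun s hs => key s⟩
  constructor
  · intro hmem
    obtain ⟨φ, hφ, hi⟩ := ((hHom P' φ').1 hmem).2
    obtain ⟨g, hg⟩ := realized_hom h hφ
    refine ⟨(g : G ⧸ img ι Q), fun x => ?_⟩
    obtain ⟨s, hs⟩ := hr.ge (hP' x.2)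
    have hsP : (s : Ω) ∈ preimg θ P' := mem_preimg.2 ⟨s.2, hs ▸ x.2⟩
    have e : φ' x = θ ⟨φ ⟨s, hsP⟩, apply_mem_S hφ _⟩ :=
      (congrArg φ' (Subtype.ext hs.symm)).trans
        (induced_apply hi ⟨s, hsP⟩ (hP := s.2) (hP' := hs ▸ x.2))
    rw [show (⟨φ' x, hφ' x⟩ : U') = θ' ⟨φ ⟨s, hsP⟩, apply_mem_S hφ _⟩ from Subtype.ext e, key,
      show (⟨(x : Ω'), hP' x.2⟩ : U') = θ' s from Subtype.ext hs.symm, key, hg ⟨s, hsP⟩]
    rfl
  · rintro ⟨q, hq⟩
    obtain ⟨g, rfl⟩ := QuotientGroup.mk'_surjective _ q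
    have hgr : ∀ x : preimg θ P', g * ι ⟨x, preimg_le P' x.2⟩ * g⁻¹ ∈ ι.range := by
      intro x
      obtain ⟨hx, hx'⟩ := mem_preimg.1 x.2
      have h1 := hq ⟨θ ⟨x, hx⟩, hx'⟩
      obtain ⟨t, ht⟩ := hθ' ⟨φ' ⟨θ ⟨x, hx⟩, hx'⟩, hφ' _⟩
      rw [← ht, key, show (⟨θ ⟨x, hx⟩, hP' hx'⟩ : U') = θ' ⟨x, hx⟩ from rfl, key,
        QuotientGroup.mk'_apply, ← QuotientGroup.mk_inv, ← QuotientGroup.mk_mul,
        ← QuotientGroup.mk_mul, QuotientGroup.eq] at h1
      have h2 := mul_mem (show ι t ∈ ι.range from ⟨t, rfl⟩) (img_le_range Q h1)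
      rwa [mul_inv_cancel_left] at h2
    obtain ⟨φ, hφ, hφι⟩ := exists_realized_hom h (preimg_le P') hgr
    refine (hHom P' φ').2 ⟨hP', φ, hφ, preimg_le P', apply_mem_S hφ,
      fun x => (mem_preimg.1 x.2).2, fun x => ?_⟩
    obtain ⟨hx, hx'⟩ := mem_preimg.1 x.2
    refine congrArg Subtype.val (hinj (a₁ := (⟨φ' ⟨θ ⟨x, hx⟩, hx'⟩, hφ' _⟩ : U'))
      (a₂ := θ' ⟨φ x, apply_mem_S hφ x⟩) ?_)
    rw [hq, key, show (⟨θ ⟨x, hx⟩, hP' hx'⟩ : U') = θ' ⟨x, hx⟩ from rfl, key]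
    exact (congrArg (fun y : G => (y : G ⧸ img ι Q)) (hφι x)).symm

end Realization

/-! ### Normalizers in factor systems -/

section Normalizer

variable {Ω : Type*} [Group Ω] {S : Subgroup Ω} [Finite S] {F : FusionSystem S}
  {Ω' : Type*} [Group Ω'] {S' : Subgroup Ω'} {θ : S →* Ω'} {E : FusionSystem S'} {Q : Subgroup Ω}

theorem img_sup {A B : Subgroup Ω} (hA : A ≤ S) (hB : B ≤ S) :
    img θ (A ⊔ B) = img θ A ⊔ img θ B := by
  unfold img
  rw [Subgroup.subgroupOf_sup hA hB, Subgroup.map_sup]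

/-- A normalizer in the factor system is a factor of the normalizer. -/
theorem normalizer_factor (hT : F.StronglyClosed Q) (hE : F.IsFactorSystem Q θ E)
    {R : Subgroup Ω'} (hR : R ≤ S') {N : FusionSystem (normalizerIn S (preimg θ R))}
    (hN : F.IsNormalizerSystem (preimg θ R) N) {N' : FusionSystem (normalizerIn S' R)}
    (hN' : E.IsNormalizerSystem R N') :
    N.IsFactorSystem Q (θ.comp (Subgroup.inclusion (normalizerIn_le_S (preimg θ R)))) N' := by
  have hQP : Q ≤ preimg θ R := factor_preimg_le hE R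
  have hQN : Q ≤ normalizerIn S (preimg θ R) := hQP.trans (le_normalizerIn (preimg_le R))
  have hpre := preimg_normalizerIn hE hR
  have hrg := hE.2.2.1
  set θN := θ.comp (Subgroup.inclusion (normalizerIn_le_S (S := S) (preimg θ R)))
  have hsame : ∀ P' : Subgroup Ω', P' ≤ normalizerIn S' R → preimg θN P' = preimg θ P' := by
    intro P' hP'
    ext x
    rw [mem_preimg, mem_preimg]
    constructor
    · rintro ⟨hx, hx'⟩
      exact ⟨normalizerIn_le_S _ hx, hx'⟩
    · rintro ⟨hx, hx'⟩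
      exact ⟨hpre.le (mem_preimg.2 ⟨hx, hP' hx'⟩), hx'⟩
  refine ⟨hQN, fun s => hE.2.1 _, ?_, fun P' φ' => ?_⟩
  · ext y
    constructor
    · rintro ⟨s, rfl⟩
      exact (mem_preimg.1 (hpre.ge s.2)).2
    · intro hy
      obtain ⟨s, rfl⟩ := hrg.ge hy.1
      exact ⟨⟨s, hpre.le (mem_preimg.2 ⟨s.2, hy⟩)⟩, rfl⟩
  show φ' ∈ N'.Hom P' ↔ P' ≤ normalizerIn S' R ∧ ∃ φ ∈ N.Hom (preimg θN P'), InducedAlong θN φ φ'
  constructor
  · intro hφ'
    rw [hN'] at hφ'
    obtain ⟨hφE, hP', hval, ψ', hψ', he, hm⟩ := hφ'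
    refine ⟨hP', ?_⟩
    rw [hsame P' hP']
    obtain ⟨ψ, hψ, hi⟩ := exists_lift_hom hE hψ'
    have h1 : preimg θ P' ≤ preimg θ (P' ⊔ R) := preimg_mono le_sup_left
    have h2 : preimg θ P' ⊔ preimg θ R ≤ preimg θ (P' ⊔ R) :=
      sup_le h1 (preimg_mono le_sup_right)
    have hv : ∀ x : preimg θ P', ψ (Subgroup.inclusion h1 x) ∈ normalizerIn S (preimg θ R) := by
      intro x
      refine hpre.le (mem_preimg.2 ⟨apply_mem_S hψ _, ?_⟩)
      rw [← induced_apply hi (Subgroup.inclusion h1 x) (hP := preimg_le P' x.2)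
        (hP' := Subgroup.mem_sup_left (mem_preimg.1 x.2).2)]
      exact Set.mem_of_eq_of_mem (he ⟨_, (mem_preimg.1 x.2).2⟩) (hval _)
    have hPN : preimg θ P' ≤ normalizerIn S (preimg θ R) :=
      (preimg_mono hP').trans hpre.le
    refine ⟨ψ.comp (Subgroup.inclusion h1), ?_, ?_⟩
    · rw [hN]
      refine ⟨restrict_mem hψ h1, hPN, hv, ψ.comp (Subgroup.inclusion h2), restrict_mem hψ h2,
        fun x => rfl, ?_⟩
      rw [map_subgroupOf_congr (ψ := ψ.comp (Subgroup.inclusion h2)) (χ := ψ) le_sup_right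
        (preimg_mono le_sup_right) fun _ _ => rfl]
      refine eq_of_le_of_card_le (preimg_le R) ?_
        (card_map_subgroupOf (F.injective_of_mem hψ) (preimg_mono le_sup_right)).ge
      intro y hy
      obtain ⟨x, hx, hxR, rfl⟩ := mem_map_subgroupOf.1 hy
      refine mem_preimg.2 ⟨apply_mem_S hψ _, ?_⟩
      rw [← induced_apply hi ⟨x, hx⟩ (hP := preimg_le _ hx) (hP' := (mem_preimg.1 hx).2)]
      exact hm.le (apply_mem_map_subgroupOf ψ' (x := ⟨_, (mem_preimg.1 hx).2⟩)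
        (mem_preimg.1 hxR).2)
    · refine ⟨hPN, hv, fun x => (mem_preimg.1 x.2).2, fun x => ?_⟩
      exact (he ⟨_, (mem_preimg.1 x.2).2⟩).symm.trans (induced_apply hi (Subgroup.inclusion h1 x))
  · rintro ⟨hP', hex⟩
    rw [hsame P' hP'] at hex
    obtain ⟨φ, hφ, hi⟩ := hex
    rw [hN] at hφ
    obtain ⟨hφF, hPN, hval, ψ, hψ, he, hm⟩ := hφ
    obtain ⟨hPN', hφN', hP'', hi4⟩ := hi
    have hi' : InducedAlong θ φ φ' :=
      ⟨preimg_le P', apply_mem_S hφF, fun x => hP'' x, fun x => hi4 x⟩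
    rw [hN']
    have hPr : P' ≤ θ.range := le_range_factor hE (hP'.trans (normalizerIn_le_S R))
    have himg : img θ (preimg θ P' ⊔ preimg θ R) = P' ⊔ R := by
      rw [img_sup (preimg_le P') (preimg_le R), img_preimg hPr,
        img_preimg (le_range_factor hE hR)]
    obtain ⟨ψ', hψ', hiψ⟩ := exists_factor_hom hT hE hψ (hQP.trans le_sup_right) himg
    refine ⟨(hE.2.2.2 P' φ').2 ⟨hP'.trans (normalizerIn_le_S R), φ, hφF, hi'⟩, hP', fun x => ?_,
      ψ', hψ', fun x => ?_, ?_⟩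
    · obtain ⟨s, hs⟩ := hPr x.2
      have hsP : (s : Ω) ∈ preimg θ P' := mem_preimg.2 ⟨s.2, hs ▸ x.2⟩
      rw [show x = ⟨θ s, hs ▸ x.2⟩ from Subtype.ext hs.symm,
        induced_apply hi' ⟨s, hsP⟩ (hφ := apply_mem_S hφF _)]
      exact (mem_preimg.1 (hpre.ge (hval ⟨s, hsP⟩))).2
    · obtain ⟨s, hs⟩ := hPr x.2
      have hsP : (s : Ω) ∈ preimg θ P' := mem_preimg.2 ⟨s.2, hs ▸ x.2⟩
      rw [show x = ⟨θ s, hs ▸ x.2⟩ from Subtype.ext hs.symm,
        induced_apply hi' ⟨s, hsP⟩ (hφ := apply_mem_S hφF _)]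
      refine (induced_apply hiψ (Subgroup.inclusion le_sup_left ⟨s, hsP⟩)
        (hP := s.2) (hφ := apply_mem_S hψ _) (hP' := Subgroup.mem_sup_left (hs ▸ x.2))).trans ?_
      exact congrArg θ (Subtype.ext (he ⟨s, hsP⟩))
    · ext y
      rw [mem_map_subgroupOf]
      constructor
      · rintro ⟨x, hx, hxR, rfl⟩
        obtain ⟨s, rfl⟩ := le_range_factor hE hR hxR
        have hsR : (s : Ω) ∈ preimg θ R := mem_preimg.2 ⟨s.2, hxR⟩
        rw [induced_apply hiψ ⟨s, Subgroup.mem_sup_right hsR⟩ (hφ := apply_mem_S hψ _)]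
        exact (mem_preimg.1 (hm.le (apply_mem_map_subgroupOf ψ
          (x := ⟨s, Subgroup.mem_sup_right hsR⟩) hsR))).2
      · intro hy
        obtain ⟨t, ht⟩ := le_range_factor hE hR hy
        have htR : (t : Ω) ∈ preimg θ R := mem_preimg.2 ⟨t.2, ht ▸ hy⟩
        obtain ⟨s, hs, hsR, hst⟩ := mem_map_subgroupOf.1 (hm.ge htR)
        obtain ⟨hsS, hsR'⟩ := mem_preimg.1 hsR
        refine ⟨θ ⟨s, hsS⟩, Subgroup.mem_sup_right hsR', hsR', ?_⟩
        rw [induced_apply hiψ ⟨s, hs⟩ (hφ := apply_mem_S hψ _)]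
        exact (congrArg θ (Subtype.ext hst)).trans ht

/-- The preimage of a centric subgroup of a factor system is centric. -/
theorem isCentric_preimg (hT : F.StronglyClosed Q) (hE : F.IsFactorSystem Q θ E)
    {R : Subgroup Ω'} (hRc : E.IsCentric R) : F.IsCentric (preimg θ R) := by
  refine ⟨preimg_le R, ?_⟩
  rintro _ ⟨φ, hφ, rfl⟩ x hx
  obtain ⟨hxS, hxC⟩ := mem_centralizerIn.1 hx
  have hQr : Q ≤ φ.range := fun y hy => by
    obtain ⟨z, hz, -, rfl⟩ := mem_map_subgroupOf.1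
      ((map_ker_eq hT hφ (factor_preimg_le hE R)).ge hy)
    exact ⟨_, rfl⟩
  have hc : E.IsConj R (img θ φ.range) := by
    rw [isConj_factor hT hE hRc.1 ((img_le_range _).trans hE.2.2.1.le),
      preimg_img hE.2.1 (range_le_S hφ) hQr]
    exact ⟨φ, hφ, rfl⟩
  have h1 : θ ⟨x, hxS⟩ ∈ img θ φ.range := hRc.2 _ hc (mem_centralizerIn.2
    ⟨hE.2.2.1.le ⟨_, rfl⟩, fun y hy => by
      obtain ⟨s, hs, rfl⟩ := hy
      rw [← map_mul, ← map_mul]
      exact congrArg θ (Subtype.ext (hxC s hs))⟩)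
  rw [← preimg_img hE.2.1 (range_le_S hφ) hQr]
  exact mem_preimg.2 ⟨hxS, h1⟩

end Normalizer

/-! ### Freeness of a section passes to factor systems -/

section SectionFree

universe u v w

variable {Ω : Type u} [Group Ω] {S : Subgroup Ω} [Finite S] {F : FusionSystem S}

/-- A section absent from the local models of a system is absent from those of a factor system. -/
theorem sectionFree_factor (p : ℕ) [Fact p.Prime] (hS : IsPGroup p S) (hF : F.IsSaturated p)
    {Q : Subgroup Ω} (hQ : F.StronglyClosed Q) {X : Type w} [Group X]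
    (hfree : F.IsSectionFree p X) {Ω' : Type v} [Group Ω'] {S' : Subgroup Ω'} {θ : S →* Ω'}
    {E : FusionSystem S'} (hE : F.IsFactorSystem Q θ E) : E.IsSectionFree p X := by
  intro R hfn hc N' hN' L' _ ι' hι' hX
  have hR := hc.1
  set P := preimg θ R
  have hPc : F.IsCentric P := isCentric_preimg hQ hE hc
  have hPfn : F.IsFullyNormalized P := (fullyNormalized_factor hQ hE hR).1 hfn
  have hspec := normSystem_spec F P hPc.1
  have := finite_of_le (normalizerIn_le_S (S := S) P)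
  have hUp := isPGroup_of_le hS (normalizerIn_le_S (S := S) P)
  have hNs := normalizerSystem_saturated p hS hF hPfn hspec
  obtain ⟨L, _, ι, hι⟩ := exists_model p hUp hNs (isNormal_normalizerSystem hPc.1 hspec)
    (isCentric_normalizerSystem hPc hspec)
  have hfin : Finite L := hι.1
  refine hfree P hPfn hPc _ hspec L ι hι ?_
  have hfac := normalizer_factor hQ hE hR hspec hN'
  have hQsc : (normSystem F P hPc.1).StronglyClosed Q := ⟨hfac.1, fun A hA φ hφ x => by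
    rw [hspec] at hφ
    exact hQ.2 A hA φ hφ.1 x⟩
  have hQn : (img ι Q).Normal := normal_img_of_stronglyClosed hι.2.1 (le_normalizerIn hPc.1)
    (normal_img_of_isNormal p hι (isNormal_normalizerSystem hPc.1 hspec)) hQsc
    (factor_preimg_le hE R)
  obtain ⟨ῑ, hῑ, hῑe⟩ := realized_factor hfac hι.2.1
  have hr' := hfac.2.2.1
  have : Finite (normalizerIn S' R) :=
    hr' ▸ Finite.of_surjective _ (MonoidHom.rangeRestrict_surjective _)
  have hU'p : IsPGroup p (normalizerIn S' R) :=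
    hr' ▸ hUp.of_surjective _ (MonoidHom.rangeRestrict_surjective _)
  obtain ⟨T, hT⟩ := hι.2.2.1
  have hTbar : ((T.mapSurjective (f := QuotientGroup.mk' (img ι Q))
      (QuotientGroup.mk'_surjective _)) : Subgroup (L ⧸ img ι Q)) = ῑ.range := by
    rw [Sylow.coe_mapSurjective, hT]
    ext y
    constructor
    · rintro ⟨_, ⟨s, rfl⟩, rfl⟩
      exact ⟨⟨_, hr'.le ⟨s, rfl⟩⟩, hῑe s (hr'.le ⟨s, rfl⟩)⟩
    · rintro ⟨⟨z, hz⟩, rfl⟩
      obtain ⟨s, rfl⟩ := hr'.ge hz
      exact ⟨ι s, ⟨s, rfl⟩, (hῑe s hz).symm⟩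
  have hRn : (img ῑ R).Normal := by
    have hPn := normal_img_of_isNormal p hι (isNormal_normalizerSystem hPc.1 hspec)
    have e : img ῑ R = (img ι P).map (QuotientGroup.mk' (img ι Q)) := by
      ext y
      constructor
      · rintro ⟨⟨z, hz⟩, hzR, rfl⟩
        obtain ⟨s, rfl⟩ := hr'.ge hz
        exact ⟨ι s, apply_mem_img (mem_preimg.2 ⟨normalizerIn_le_S P s.2, hzR⟩),
          (hῑe s hz).symm⟩
      · rintro ⟨_, ⟨s, hs, rfl⟩, rfl⟩
        exact ⟨⟨_, hr'.le ⟨s, rfl⟩⟩, (mem_preimg.1 hs).2, hῑe s (hr'.le ⟨s, rfl⟩)⟩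
    exact e ▸ hPn.map _ (QuotientGroup.mk'_surjective _)
  have : Finite S' := hE.2.2.1 ▸ Finite.of_surjective _ θ.rangeRestrict_surjective
  obtain ⟨f, hf⟩ := exists_hom_onto_model p hU'p hῑ
    (T.mapSurjective (QuotientGroup.mk'_surjective (img ι Q))) hTbar
    (isNormal_normalizerSystem hR hN') (isCentric_normalizerSystem hc hN') hRn hι'
  exact CfsgLib.ZJ.involves_of_quotient (img ι Q)
    (CfsgLib.ZJ.involves_of_hom ⊤ (f.comp Subgroup.topEquiv.toMonoidHom)
      (hf.comp (MulEquiv.surjective _)) hX)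

end SectionFree

end CfsgLib.Fusion
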