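import Cfsg.Agent.Fusion.FocalCentralizerNormal
import Cfsg.Agent.Fusion.Quasisimple
import Cfsg.Agent.Fusion.ImageTransport
import Cfsg.Agent.Fusion.SmallControl
import Cfsg.Agent.Fusion.SolvableSystem
import Cfsg.Agent.Fusion.Quotient

/-!
Subnormal quasisimple subsystems centralize every normal subgroup, and the centralizer system of a
normal subgroup is a normal subsystem.
-/

set_option autoImplicit false
set_option linter.style.haveILetI false
set_option linter.unusedSectionVars false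

open Cfsg Cfsg.FusionSystem CfsgLib.Fusion CfsgLib.FocCent
open scoped commutatorElement

namespace CfsgLib.CoreComp

variable {Ω : Type*} [Group Ω] {S T U : Subgroup Ω} {F : FusionSystem S} {D : FusionSystem U}
  {C : FusionSystem T}

/-! ### The inner system of a normal subgroup -/

theorem inner_normal [Finite S] (p : ℕ) [Fact p.Prime] (hS : IsPGroup p S) (hF : F.IsSaturated p)
    {Q : Subgroup Ω} (hQ : F.IsNormal Q) : (innerFusionSystem Q).IsNormalIn F p := by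
  have hQS := hQ.1
  haveI : Finite Q := finite_of_le hQS
  refine ⟨⟨innerSystem_saturated p (isPGroup_of_le hS hQS), hF, ?_, stronglyClosed_of_isNormal hQ,
    ?_, ?_⟩, ?_⟩
  · rintro P φ ⟨hP, g, hg, h⟩
    exact restrict_mem_of_eq (F.conj_mem (hP.trans hQS) (hQS hg)) le_rfl fun x => h x
  · rintro P hP φ ⟨-, q, hq, h⟩ α -
    have hle : (P.subgroupOf Q).map (Q.subtype.comp α.toMonoidHom) ≤ Q := by
      rintro _ ⟨x, -, rfl⟩; exact (α x).2
    refine ⟨conjHom _ ((α ⟨q, hq⟩ : Q) : Ω), (innerFusionSystem Q).conj_mem hle (α ⟨q, hq⟩).2,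
      fun x hφx hαx => ?_⟩
    show ((α ⟨q, hq⟩ : Q) : Ω) * ((α ⟨x, hP x.2⟩ : Q) : Ω) * ((α ⟨q, hq⟩ : Q) : Ω)⁻¹ = _
    rw [show (⟨φ x, hφx⟩ : Q) = ⟨q, hq⟩ * ⟨x, hP x.2⟩ * ⟨q, hq⟩⁻¹ from Subtype.ext (h x),
      map_mul, map_mul, map_inv]
    rfl
  · intro P hP φ hφ
    obtain ⟨ψ, hψ, he, hm⟩ := hQ.2 P φ hφ
    have hr : (ψ.comp (Subgroup.inclusion (le_sup_right : Q ≤ P ⊔ Q))).range = Q :=
      (range_restrict ψ le_sup_right).trans hm
    refine ⟨_, autOfRange_mem (restrict_mem hψ le_sup_right) hr, P.subtype,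
      subtype_mem hP, fun x hx => ?_⟩
    exact (he x).symm.trans (apply_congr ψ rfl)
  · intro α hα
    obtain ⟨-, q, hq, h⟩ := (autGroup_carrier le_rfl).1 hα
    have hV : Q ⊔ centralizerIn S Q ≤ S := sup_le hQS (centralizerIn_le_S Q)
    have hqN : q ∈ Subgroup.normalizer ((Q ⊔ centralizerIn S Q : Subgroup Ω) : Set Ω) :=
      Subgroup.le_normalizer (Subgroup.mem_sup_left hq)
    refine ⟨conjAut S _ ⟨q, hQS hq, hqN⟩, autInducedBy_le_autGroup hV
      (mem_autInducedBy.2 ⟨q, hQS hq, fun _ => rfl⟩), fun x => (h x).symm, fun c hc => ?_⟩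
    have h1 : q * (c : Ω) * q⁻¹ = c := by rw [hc.2 q hq, mul_inv_cancel_right]
    show (c : Ω)⁻¹ * (q * (c : Ω) * q⁻¹) ∈ _
    rw [h1, inv_mul_cancel]
    exact one_mem _

/-! ### Normal subgroups of quasisimple systems are central -/

theorem le_center_of_quasisimple [Finite S] (p : ℕ) [Fact p.Prime] (hS : IsPGroup p S)
    (hq : F.Quasisimple p) {R : Subgroup Ω} (hR : F.IsNormal R) : R ≤ F.center := by
  obtain ⟨hF, hyp, hsimp⟩ := hq
  let θ := QuotientGroup.mk' ((F.center).subgroupOf S)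
  have hk : ∀ s : S, θ s = 1 ↔ (s : Ω) ∈ F.center := fun s => by
    rw [QuotientGroup.mk'_apply, QuotientGroup.eq_one_iff, Subgroup.mem_subgroupOf]
  have hr : θ.range = ⊤ := MonoidHom.range_eq_top.2 (QuotientGroup.mk'_surjective _)
  have hZ : F.StronglyClosed F.center :=
    stronglyClosed_of_isNormal (isNormal_of_isCentral isCentral_center)
  let E := factorSystem hZ hk hr
  have hE : F.IsFactorSystem F.center θ E := factorSystem_spec hZ hk hr
  obtain ⟨hEsat, hne, hnorm⟩ := hsimp E hE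
  have hfin : Finite (⊤ : Subgroup (S ⧸ (F.center).subgroupOf S)) := finite_factor hE
  have hp' := isPGroup_factor hE p hS
  have hN : E.IsNormal (img θ R) := by
    refine ⟨le_top, fun P' φ' hφ' => ?_⟩
    obtain ⟨φ, hφ, hi⟩ := exists_lift_hom hE hφ'
    obtain ⟨ψ, hψ, he, hm⟩ := hR.2 _ φ hφ
    have hpS : preimg θ P' ≤ S := preimg_le P'
    have hP'r : P' ≤ θ.range := by rw [hr]; exact le_top
    have himg : img θ (preimg θ P' ⊔ R) = P' ⊔ img θ R := by
      rw [img_sup hpS hR.1, img_preimg hP'r]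
    obtain ⟨ψ', hψ', hi'⟩ := exists_factor_hom hZ hE hψ
      ((factor_preimg_le hE P').trans le_sup_left) himg
    refine ⟨ψ', hψ', ?_, ?_⟩
    · rintro ⟨_, hx⟩
      obtain ⟨s, rfl⟩ := hP'r hx
      have hs : (s : Ω) ∈ preimg θ P' := mem_preimg.2 ⟨s.2, hx⟩
      refine (induced_apply hi' ⟨s, Subgroup.mem_sup_left hs⟩ (hP := s.2)
        (hφ := apply_mem_S hψ _)).trans ?_
      refine Eq.trans ?_ (induced_apply hi ⟨s, hs⟩ (hP := s.2) (hφ := apply_mem_S hφ _)).symm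
      exact congrArg θ (Subtype.ext (he ⟨s, hs⟩))
    · refine eq_of_le_of_card_le (S := (⊤ : Subgroup (S ⧸ (F.center).subgroupOf S))) le_top ?_
        (card_map_subgroupOf (E.injective_of_mem hψ') le_sup_right).ge
      rintro _ ⟨⟨_, hy⟩, hyR, rfl⟩
      obtain ⟨s, hs, rfl⟩ := (Subgroup.mem_subgroupOf.1 hyR : _ ∈ img θ R)
      rw [induced_apply hi' ⟨s, Subgroup.mem_sup_right hs⟩ (hP := s.2) (hφ := apply_mem_S hψ _)]
      exact apply_mem_img (ι := θ) (x := ⟨_, apply_mem_S hψ _⟩)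
        (hm.le ⟨⟨s, Subgroup.mem_sup_right hs⟩, hs, rfl⟩)
  rcases hnorm _ _ (inner_normal p hp' hEsat hN) with h | ⟨h, hEq⟩
  · intro r hr'
    refine (hk ⟨r, hR.1 hr'⟩).1 (Subgroup.mem_bot.1 ?_)
    rw [← h]
    exact apply_mem_img (ι := θ) (x := ⟨r, hR.1 hr'⟩) hr'
  · exfalso
    let K : Subgroup Ω := preimg θ (commutator (S ⧸ (F.center).subgroupOf S))
    have hle : F.hyperfocalSubgroup p ≤ K := by
      rw [FusionSystem.hyperfocalSubgroup, Subgroup.closure_le]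
      rintro _ ⟨P, ⟨α, hα⟩, x, hP, -, rfl⟩
      obtain ⟨φ', hφ', hPS, hφS, hP', he⟩ :=
        induces_of_mem hZ hE p hS hF ((autGroup_carrier hP).1 hα)
      rw [← hEq] at hφ'
      obtain ⟨-, g, -, hg⟩ := hφ'
      refine mem_preimg.2 ⟨mul_mem (inv_mem (hPS x.2)) (hφS x), ?_⟩
      show θ ((⟨x, hPS x.2⟩ : S)⁻¹ * ⟨_, hφS x⟩) ∈ commutator _
      rw [map_mul, map_inv, ← he x, hg]
      show (θ ⟨x, hPS x.2⟩)⁻¹ * (g * θ ⟨x, hPS x.2⟩ * g⁻¹) ∈ _
      rw [show (θ ⟨(x : Ω), hPS x.2⟩)⁻¹ * (g * θ ⟨x, hPS x.2⟩ * g⁻¹) =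
        ⁅(θ ⟨(x : Ω), hPS x.2⟩)⁻¹, g⁆ by rw [commutatorElement_def]; group]
      exact Subgroup.commutator_mem_commutator (Subgroup.mem_top _) (Subgroup.mem_top _)
    have hQnil : Group.IsNilpotent (S ⧸ (F.center).subgroupOf S) := (hS.to_quotient _).isNilpotent
    have hnt : Nontrivial (S ⧸ (F.center).subgroupOf S) := by
      by_contra hn
      rw [not_nontrivial_iff_subsingleton] at hn
      exact hne (Subsingleton.elim _ _)
    refine (IsSolvable.commutator_lt_top_of_nontrivial (S ⧸ (F.center).subgroupOf S)).ne ?_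
    refine top_le_iff.1 fun y _ => ?_
    obtain ⟨s, rfl⟩ := QuotientGroup.mk'_surjective _ y
    exact (mem_preimg.1 (hle (hyp.symm ▸ s.2))).2

theorem hom_le_centralizerHom_of_central [Finite S] {R : Subgroup Ω} (hR : R ≤ F.center)
    (P : Subgroup Ω) : F.Hom P ⊆ F.centralizerHom R P := by
  intro φ hφ
  have hc : F.IsCentral R := isCentral_mono isCentral_center hR
  have hcen : ∀ s ∈ S, s ∈ centralizerIn S R := fun s hs => mem_centralizerIn.2
    ⟨hs, fun r hr => ((F.center_le_centralizer (hR hr)) s hs).symm⟩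
  obtain ⟨ψ, hψ, he, hf⟩ := hc.2 P φ hφ
  exact ⟨hφ, fun x hx => hcen x (le_of_mem_hom hφ hx), fun x => hcen _ (apply_mem_S hφ x),
    ψ, hψ, he, hf⟩

/-! ### Maps acting trivially on `R` modulo `R₀` -/

/-- `φ` extends to `P R` acting trivially on `R` modulo `R₀`. -/
def TrivMod (F : FusionSystem S) (R R₀ P : Subgroup Ω) (φ : P →* Ω) : Prop :=
  ∃ ψ ∈ F.Hom (P ⊔ R), (∀ x : P, ψ (Subgroup.inclusion le_sup_left x) = φ x) ∧
    ∀ r : R, (r : Ω)⁻¹ * ψ (Subgroup.inclusion le_sup_right r) ∈ R₀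

theorem trivMod_map_mem {R R₀ P : Subgroup Ω} (hR₀ : R₀ ≤ R) {ψ : ↥(P ⊔ R) →* Ω}
    (h : ∀ r : R, (r : Ω)⁻¹ * ψ (Subgroup.inclusion le_sup_right r) ∈ R₀) (r : R) :
    ψ (Subgroup.inclusion le_sup_right r) ∈ R := by
  simpa using mul_mem r.2 (hR₀ (h r))

/-- The maps of `D` acting trivially on `R` modulo `R ⊓ U`. -/
def trivSystem (D : FusionSystem U) (hD : D.IsInvariantIn F) {R : Subgroup Ω} (hR : F.IsNormal R)
    [Finite S] : FusionSystem U where
  Hom P := {φ | φ ∈ D.Hom P ∧ TrivMod F R (R ⊓ U) P φ}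
  le_of_mem h := D.le_of_mem h.1
  injective_of_mem h := D.injective_of_mem h.1
  conj_mem {P u} hP hu := by
    refine ⟨D.conj_mem hP hu, conjHom (P ⊔ R) u,
      F.conj_mem (sup_le (hP.trans hD.2.1.1) hR.1) (hD.2.1.1 hu), fun x => rfl, fun r => ?_⟩
    show (r : Ω)⁻¹ * (u * (r : Ω) * u⁻¹) ∈ R ⊓ U
    refine Subgroup.mem_inf.2 ⟨mul_mem (inv_mem r.2) ?_, ?_⟩
    · exact (Subgroup.mem_normalizer_iff.1 (normal_S_le_normalizer hR (hD.2.1.1 hu)) _).1 r.2
    · have h1 := (Subgroup.mem_normalizer_iff''.1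
        (stronglyClosed_normal_in_S hD.2.1 (hR.1 r.2)) u).1 hu
      simpa [mul_assoc] using mul_mem h1 (inv_mem hu)
  comp_mem {P Q φ φ'} hφ hφ' h := by
    obtain ⟨hφ, ψ, hψ, he, ht⟩ := hφ
    obtain ⟨hφ', ψ', hψ', he', ht'⟩ := hφ'
    have hm : ∀ x, ψ x ∈ Q ⊔ R := fun x => by
      refine (show ψ.range ≤ Q ⊔ R from ?_) ⟨x, rfl⟩
      rw [range_eq_sup]
      refine sup_le ?_ ?_
      · rintro _ ⟨⟨y, hy⟩, hyP, rfl⟩
        exact Subgroup.mem_sup_left (Set.mem_of_eq_of_mem (he ⟨y, hyP⟩) (h _))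
      · rintro _ ⟨⟨y, hy⟩, hyR, rfl⟩
        exact Subgroup.mem_sup_right (trivMod_map_mem inf_le_left ht ⟨y, hyR⟩)
    refine ⟨D.comp_mem hφ hφ' h, ψ'.comp (ψ.codRestrict _ hm), F.comp_mem hψ hψ' hm,
      fun x => ?_, fun r => ?_⟩
    · exact (apply_congr ψ' (he x)).trans (he' ⟨φ x, h x⟩)
    · set a : R := ⟨_, (Subgroup.mem_inf.1 (ht r)).1⟩ with ha
      have e : ψ'.comp (ψ.codRestrict _ hm) (Subgroup.inclusion le_sup_right r) =
          ψ' (Subgroup.inclusion le_sup_right r) * ψ' (Subgroup.inclusion le_sup_right a) := by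
        rw [← map_mul]
        exact apply_congr ψ' (by simp [ha])
      rw [e, ← mul_assoc]
      have h1 := mul_mem (show (a : Ω) ∈ R ⊓ U from ht r) (ht' a)
      rw [mul_inv_cancel_left] at h1
      exact mul_mem (ht' r) h1
  inv_mem {P φ} hφ := by
    obtain ⟨hφD, ψ, hψ, he, ht⟩ := hφ
    obtain ⟨χ, hχ, hχ'⟩ := D.inv_mem hφD
    have hRS := hR.1
    have := finite_of_le hRS
    have hψR : (R.subgroupOf (P ⊔ R)).map ψ = R := by
      refine eq_of_le_of_card_le hRS ?_ (card_map_subgroupOf (F.injective_of_mem hψ) le_sup_right).ge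
      rintro _ ⟨⟨y, hy⟩, hyR, rfl⟩
      exact trivMod_map_mem inf_le_left ht ⟨y, hyR⟩
    have hrange : ψ.range = φ.range ⊔ R := by
      rw [range_eq_sup, hψR]
      congr 1
      exact (map_subgroupOf_congr le_sup_left le_rfl fun x hx => he ⟨x, hx⟩).trans
        (map_subgroupOf_self φ)
    obtain ⟨ρ, hρ, -, hρ1, -⟩ := exists_inv hψ hrange
    refine ⟨χ, ⟨hχ, ρ, hρ, fun y => ?_, fun r => ?_⟩, hχ'⟩
    · obtain ⟨x, hx⟩ := y.2
      obtain rfl : y = ⟨φ x, ⟨x, rfl⟩⟩ := Subtype.ext hx.symm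
      refine ((apply_congr ρ ?_).trans (hρ1 (Subgroup.inclusion le_sup_left x) ?_)).trans (hχ' x).symm
      · exact (he x).symm
      · rw [he]; exact Subgroup.mem_sup_left ⟨x, rfl⟩
    · obtain ⟨z, hz, hzR, hze⟩ := mem_map_subgroupOf.1 (hψR.ge r.2)
      have h1 : ρ (Subgroup.inclusion le_sup_right r) = z :=
        (apply_congr ρ hze.symm).trans (hρ1 ⟨z, hz⟩ (hze.symm ▸ Subgroup.mem_sup_right r.2))
      rw [h1, show (r : Ω) = ψ ⟨z, hz⟩ from hze.symm]
      have h2 := inv_mem (ht ⟨z, hzR⟩)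
      rw [mul_inv_rev, inv_inv] at h2
      exact h2

/-- An automorphism of order prime to `p` moving `r` into `V₀`, and `V₀` only modulo `U`, moves `r`
only modulo `U`. -/
theorem displacement_mem_of_coprime {G : Type*} [Group G] [Finite G] (p : ℕ) [Fact p.Prime]
    (hG : IsPGroup p G) {γ : MulAut G} (hco : (orderOf γ).Coprime p) {U' V₀ : Subgroup G}
    [U'.Normal] (hU : ∀ v ∈ V₀, v⁻¹ * γ v ∈ U') (hUγ : ∀ v ∈ U', γ v ∈ U') {r : G}
    (hr : r⁻¹ * γ r ∈ V₀) : r⁻¹ * γ r ∈ U' := by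
  obtain ⟨d, hd⟩ : ∃ d, d = r⁻¹ * γ r := ⟨_, rfl⟩
  rw [← hd] at hr ⊢
  let π := QuotientGroup.mk' U'
  have hk : ∀ {a b : G}, a⁻¹ * b ∈ U' → π a = π b := fun h => QuotientGroup.eq.2 h
  have hγd : π (γ d) = π d := (hk (hU d hr)).symm
  have hcong : ∀ {a b : G}, π a = π b → π (γ a) = π (γ b) := fun {a b} h => hk (by
    rw [← map_inv, ← map_mul]; exact hUγ _ (QuotientGroup.eq.1 h))
  have hit : ∀ n : ℕ, π ((γ ^ n) r) = π r * π d ^ n := by
    intro n
    induction n with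
    | zero => simp
    | succ n ih =>
      rw [pow_succ', MulAut.mul_apply, hcong (b := r * d ^ n) (by rw [ih, map_mul, map_pow]),
        map_mul, map_mul, map_pow, map_pow, hγd, show γ r = r * d by rw [hd, mul_inv_cancel_left],
        map_mul, pow_succ', mul_assoc]
  have h1 : π d ^ orderOf γ = 1 := by
    have := hit (orderOf γ)
    rw [pow_orderOf_eq_one] at this
    exact mul_eq_left.1 this.symm
  obtain ⟨j, hj⟩ := IsPGroup.iff_card.1 hG
  have h2 : π d ^ p ^ j = 1 := by rw [← map_pow, ← hj, pow_card_eq_one', map_one]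
  exact (QuotientGroup.eq_one_iff d).1 (orderOf_eq_one_iff.1 (Nat.eq_one_of_dvd_coprimes
    (hco.pow_right j) (orderOf_dvd_of_pow_eq_one h1) (orderOf_dvd_of_pow_eq_one h2)))

variable [Finite S] (p : ℕ) [Fact p.Prime] (hS : IsPGroup p S)

include hS in
/-- Every map of a normal subsystem over `U` acts trivially on `R` modulo `R ⊓ U`. -/
theorem trivMod_of_normal (hD : D.IsNormalIn F p) {R : Subgroup Ω} (hR : F.IsNormal R)
    {P : Subgroup Ω} {φ : P →* Ω} (hφ : φ ∈ D.Hom P) : TrivMod F R (R ⊓ U) P φ := by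
  obtain ⟨⟨hDs, hF, hinv⟩, hext⟩ := hD
  have hUS := hinv.2.1.1
  have hUn := stronglyClosed_normal_in_S hinv.2.1
  have hRn := normal_S_le_normalizer hR
  have := finite_of_le hUS
  have hU : IsPGroup p U := isPGroup_of_le hS hUS
  suffices h : D ≤ trivSystem D hinv hR from (h P hφ).2
  refine CfsgLib.Fusion.ConstrainedNormal.le_of_conj p hU hDs ?_ ?_
  · intro α hα
    have : Finite (MulAut U) := finite_mulAut
    obtain ⟨⟨-, Sy, hSy⟩, -⟩ := good_of_fullyNormalized p hU hDs (isFullyNormalized_S (S := U))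
    suffices h : (⊤ : Subgroup (D.autGroup U)) ≤
        ((trivSystem D hinv hR).autGroup U).subgroupOf (D.autGroup U) from
      Subgroup.mem_subgroupOf.1 (h (Subgroup.mem_top ⟨α, hα⟩))
    refine le_of_sylow_coprime p Sy le_top (fun a ha => ?_) fun a _ hco => ?_
    · rw [hSy] at ha
      exact Subgroup.mem_subgroupOf.2
        (autInducedBy_le_autGroup le_rfl (Subgroup.mem_subgroupOf.1 ha))
    have hco' : (orderOf (a : MulAut U)).Coprime p := by rwa [Subgroup.orderOf_coe]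
    obtain ⟨β, hβ, hβ1, hβ2⟩ := hext _ a.2
    have hV₀S : (U ⊔ centralizerIn S U) ≤ S := sup_le hUS (centralizerIn_le_S U)
    obtain ⟨ψ, hψ, he, hm⟩ := hR.2 (U ⊔ centralizerIn S U) _ ((autGroup_carrier hV₀S).1 hβ)
    have hVS : (U ⊔ centralizerIn S U) ⊔ R ≤ S := sup_le hV₀S hR.1
    have hψr : ψ.range = (U ⊔ centralizerIn S U) ⊔ R := by
      rw [range_eq_sup, hm]
      congr 1
      exact ((map_subgroupOf_congr le_sup_left le_rfl fun x hx => he ⟨x, hx⟩).trans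
        (map_subgroupOf_self _)).trans (range_subtype_comp β)
    let Γ₀ := autOfRange ψ (F.injective_of_mem hψ) hψr
    have hΓ₀ : Γ₀ ∈ F.autGroup ((U ⊔ centralizerIn S U) ⊔ R) := autOfRange_mem hψ hψr
    have := finite_of_le hVS
    have : Finite (MulAut ↥((U ⊔ centralizerIn S U) ⊔ R)) := finite_mulAut
    have hΓ₀β : Agree le_sup_left Γ₀ β := fun x => he x
    have hUV : U ≤ (U ⊔ centralizerIn S U) ⊔ R := (le_sup_left : U ≤ (U ⊔ centralizerIn S U)).trans le_sup_left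
    have hΓ₀a : Agree hUV Γ₀ (a : MulAut U) := fun x =>
      (hΓ₀β (Subgroup.inclusion le_sup_left x)).trans (hβ1 x)
    obtain ⟨e, he1, he2⟩ := CfsgLib.Fusion.ConstrainedNormal.exists_pow_coprime p Γ₀
    have hae : (a : MulAut U) ^ e = a := he2 _ hco'
      (orderOf_dvd_of_pow_eq_one ((hΓ₀a.pow _).eq_one (pow_orderOf_eq_one Γ₀)))
    set Γ := Γ₀ ^ e with hΓ
    have hΓa : Agree hUV Γ (a : MulAut U) := hae ▸ hΓ₀a.pow e
    have hΓm : Γ ∈ F.autGroup ((U ⊔ centralizerIn S U) ⊔ R) := pow_mem hΓ₀ e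
    have hΓF := (autGroup_carrier hVS).1 hΓm
    have hΓR : ∀ x : ↥((U ⊔ centralizerIn S U) ⊔ R), (x : Ω) ∈ R → ((Γ x : ↥((U ⊔ centralizerIn S U) ⊔ R)) : Ω) ∈ R := fun x hx =>
      map_mem_of_stronglyClosed (stronglyClosed_of_isNormal hR) hΓF hx
    have hΓU : ∀ x : ↥((U ⊔ centralizerIn S U) ⊔ R), (x : Ω) ∈ U → ((Γ x : ↥((U ⊔ centralizerIn S U) ⊔ R)) : Ω) ∈ U := fun x hx =>
      map_mem_of_stronglyClosed hinv.2.1 hΓF hx
    have hΓV : ∀ x : ↥((U ⊔ centralizerIn S U) ⊔ R), (x : Ω) ∈ (U ⊔ centralizerIn S U) → (x : Ω)⁻¹ * ((Γ x : ↥((U ⊔ centralizerIn S U) ⊔ R)) : Ω) ∈ U := by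
      have hβV : ∀ v : ↥(U ⊔ centralizerIn S U), (v : Ω)⁻¹ * ((β v : ↥(U ⊔ centralizerIn S U)) : Ω) ∈ U := by
        rintro ⟨v, hv⟩
        have hUc : U ≤ Subgroup.normalizer ((centralizerIn S U : Subgroup Ω) : Set Ω) := fun u hu =>
          mem_normalizer_of_conj_mem (centralizerIn_le_S U) fun c hc => by
            rw [show u * c * u⁻¹ = c by rw [hc.2 u hu, mul_inv_cancel_right]]; exact hc
        obtain ⟨u, hu, c, hc, rfl⟩ := (CfsgLib.Solvable.mem_sup_of_le_normalizer hUc).1 hv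
        have h1 : β ⟨u * c, hv⟩ = β (Subgroup.inclusion le_sup_left ⟨u, hu⟩) *
            β ⟨c, Subgroup.mem_sup_right hc⟩ := by rw [← map_mul]; rfl
        rw [h1, Subgroup.coe_mul, hβ1]
        have h2 := (hβ2 ⟨c, Subgroup.mem_sup_right hc⟩ hc).1
        have h3 : (u : Ω)⁻¹ * (((a : MulAut U) ⟨u, hu⟩ : U) : Ω) ∈ U :=
          mul_mem (inv_mem hu) ((a : MulAut U) _).2
        have h4 := (Subgroup.mem_normalizer_iff''.1 (hUn hc.1) _).1 h3
        simpa [mul_assoc] using mul_mem h4 h2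
      intro x hx
      have key : ∀ n : ℕ, (x : Ω)⁻¹ * (((Γ₀ ^ n) x : ↥((U ⊔ centralizerIn S U) ⊔ R)) : Ω) ∈ U ∧
          (((Γ₀ ^ n) x : ↥((U ⊔ centralizerIn S U) ⊔ R)) : Ω) ∈ (U ⊔ centralizerIn S U) := by
        intro n
        induction n with
        | zero => exact ⟨by simp, by simpa using hx⟩
        | succ n ih =>
          have h1 : ((Γ₀ ((Γ₀ ^ n) x) : ↥((U ⊔ centralizerIn S U) ⊔ R)) : Ω) = ((β ⟨_, ih.2⟩ : ↥(U ⊔ centralizerIn S U)) : Ω) :=
            hΓ₀β ⟨_, ih.2⟩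
          rw [pow_succ', MulAut.mul_apply, h1]
          refine ⟨?_, SetLike.coe_mem _⟩
          simpa [mul_assoc] using mul_mem ih.1 (hβV ⟨_, ih.2⟩)
      exact (key e).1
    have hΓv : ∀ r : R, (r : Ω)⁻¹ * ((Γ (Subgroup.inclusion le_sup_right r) : ↥((U ⊔ centralizerIn S U) ⊔ R)) : Ω) ∈ (U ⊔ centralizerIn S U) := by
      intro r
      set x := Subgroup.inclusion (le_sup_right : R ≤ (U ⊔ centralizerIn S U) ⊔ R) r with hx
      set r' := (r : Ω)⁻¹ * ((Γ x : ↥((U ⊔ centralizerIn S U) ⊔ R)) : Ω) with hr'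
      have hrS := hR.1 r.2
      have hr'R : r' ∈ R := mul_mem (inv_mem r.2) (hΓR x r.2)
      have hcr : conjAut S U ⟨(r : Ω), hrS, hUn hrS⟩ ∈ F.autGroup U :=
        autInducedBy_le_autGroup hUS (mem_autInducedBy.2 ⟨r, hrS, fun _ => rfl⟩)
      let c' := conjAut S U ⟨r', hR.1 hr'R, hUn (hR.1 hr'R)⟩
      set cr := conjAut S U ⟨(r : Ω), hrS, hUn hrS⟩ with hcr_def
      have e : c' = cr⁻¹ * (a : MulAut U) * cr * (a : MulAut U)⁻¹ := by
        refine MulEquiv.ext fun u => ?_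
        obtain ⟨v, rfl⟩ := (a : MulAut U).surjective u
        have h0 : ((a : MulAut U)⁻¹ ((a : MulAut U) v)) = v := MulAut.inv_apply_self _ _ _
        simp only [MulAut.mul_apply, h0]
        apply cr.injective
        rw [MulAut.apply_inv_self]
        refine Subtype.ext ?_
        show (r : Ω) * (r' * (((a : MulAut U) v : U) : Ω) * r'⁻¹) * (r : Ω)⁻¹ =
          (((a : MulAut U) (cr v) : U) : Ω)
        rw [← hΓa (cr v), ← hΓa v, show Subgroup.inclusion hUV (cr v) =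
            x * Subgroup.inclusion hUV v * x⁻¹ from Subtype.ext rfl, map_mul, map_mul, map_inv, hr']
        simp [mul_assoc]
      have hc'D : c' ∈ D.autGroup U := by
        rw [e]
        refine mul_mem ?_ (inv_mem a.2)
        have := invariant_conj_aut hinv le_rfl (inv_mem hcr) a.2
        rwa [inv_inv] at this
      have hSyN : (Sy : Subgroup (D.autGroup U)).Normal := by
        rw [hSy]
        refine ⟨fun i hi g => ?_⟩
        obtain ⟨u, hu, hiu⟩ := mem_autInducedBy.1 (Subgroup.mem_subgroupOf.1 hi)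
        refine Subgroup.mem_subgroupOf.2 (mem_autInducedBy.2
          ⟨(((g : MulAut U) ⟨u, hu⟩ : U) : Ω), SetLike.coe_mem _, fun y => ?_⟩)
        obtain ⟨v, rfl⟩ := (g : MulAut U).surjective y
        have hiv : (i : MulAut U) v = ⟨u, hu⟩ * v * ⟨u, hu⟩⁻¹ := Subtype.ext (hiu v)
        simp only [Subgroup.coe_mul, InvMemClass.coe_inv, MulAut.mul_apply, MulAut.inv_apply_self,
          hiv, map_mul, map_inv]
      have hp' : IsPGroup p (Subgroup.zpowers (⟨c', hc'D⟩ : D.autGroup U)) := by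
        obtain ⟨k, hk⟩ := isPGroup_autInducedBy hS U
          ⟨c', mem_autInducedBy.2 ⟨r', hR.1 hr'R, fun _ => rfl⟩⟩
        intro z
        obtain ⟨i, hi⟩ := Subgroup.mem_zpowers_iff.1 z.2
        refine ⟨k, Subtype.ext ?_⟩
        rw [SubmonoidClass.coe_pow, ← hi, ← zpow_natCast, ← zpow_mul, mul_comm, zpow_mul,
          zpow_natCast, show (⟨c', hc'D⟩ : D.autGroup U) ^ p ^ k = 1 from
            Subtype.ext (show c' ^ p ^ k = 1 by simpa using congrArg Subtype.val hk)]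
        simp
      obtain ⟨R', hR'⟩ := hp'.exists_le_sylow
      have hR'e : R' = Sy := by
        obtain ⟨g, hg⟩ := MulAction.exists_smul_eq (D.autGroup U) Sy R'
        rw [← hg]; exact Sylow.smul_eq_of_normal
      have h5 : (⟨c', hc'D⟩ : D.autGroup U) ∈ (Sy : Subgroup (D.autGroup U)) :=
        hR'e ▸ hR' (Subgroup.mem_zpowers _)
      rw [hSy, Subgroup.mem_subgroupOf] at h5
      obtain ⟨u, hu, hcu⟩ := mem_autInducedBy.1 h5
      have h6 : u⁻¹ * r' ∈ centralizerIn S U := by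
        refine mem_centralizerIn.2 ⟨mul_mem (inv_mem (hUS hu)) (hR.1 hr'R), fun y hy => ?_⟩
        have h7 : r' * y * r'⁻¹ = u * y * u⁻¹ := hcu ⟨y, hy⟩
        calc y * (u⁻¹ * r') = u⁻¹ * (u * y * u⁻¹) * r' := by group
          _ = u⁻¹ * (r' * y * r'⁻¹) * r' := by rw [h7]
          _ = u⁻¹ * r' * y := by group
      simpa using mul_mem (Subgroup.mem_sup_left hu : u ∈ (U ⊔ centralizerIn S U)) (Subgroup.mem_sup_right h6)
    have hUsub : (U.subgroupOf ((U ⊔ centralizerIn S U) ⊔ R)).Normal := ⟨fun n hn g => Subgroup.mem_subgroupOf.2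
      ((Subgroup.mem_normalizer_iff.1 (hUn (hVS g.2)) n).1 (Subgroup.mem_subgroupOf.1 hn))⟩
    have hUR : U ⊔ R ≤ (U ⊔ centralizerIn S U) ⊔ R := sup_le_sup_right le_sup_left R
    refine Subgroup.mem_subgroupOf.2 ((autGroup_carrier le_rfl).2
      ⟨(autGroup_carrier le_rfl).1 a.2, _, restrict_mem hΓF hUR, fun x => hΓa x, fun r => ?_⟩)
    refine Subgroup.mem_inf.2 ⟨mul_mem (inv_mem r.2) (hΓR _ r.2), ?_⟩
    exact displacement_mem_of_coprime p (isPGroup_of_le hS hVS) he1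
      (U' := U.subgroupOf ((U ⊔ centralizerIn S U) ⊔ R)) (V₀ := (U ⊔ centralizerIn S U).subgroupOf (U ⊔ centralizerIn S U ⊔ R))
      (fun v hv => hΓV v hv) (fun v hv => hΓU v hv) (r := Subgroup.inclusion le_sup_right r)
      (hΓv r)
  · intro P hP γ hγ t ht
    have hPU := hP.1.1
    have hPS := hPU.trans hUS
    obtain ⟨u, hu, htu⟩ := mem_autInducedBy.1 ht
    have hγF := (autGroup_carrier hPS).1 (autGroup_mono' hinv.1 P hγ)
    obtain ⟨ψ, hψ, he, hm⟩ := hR.2 P _ hγF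
    have hψr : ψ.range = P ⊔ R := by
      rw [range_eq_sup, hm]
      congr 1
      exact ((map_subgroupOf_congr le_sup_left le_rfl fun x hx => he ⟨x, hx⟩).trans
        (map_subgroupOf_self _)).trans (range_subtype_comp γ)
    have hVS : P ⊔ R ≤ S := sup_le hPS hR.1
    let G := autOfRange ψ (F.injective_of_mem hψ) hψr
    have huN : u ∈ Subgroup.normalizer ((P ⊔ R : Subgroup Ω) : Set Ω) :=
      mem_normalizer_sup hPS hR.1 (mem_normalizer_of_aut htu) (hRn (hUS hu))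
    let cu := conjAut S (P ⊔ R) ⟨u, hUS hu, huN⟩
    have hG : Agree le_sup_left (G * cu * G⁻¹) (γ * t * γ⁻¹) := by
      have h1 : Agree le_sup_left G γ := fun x => he x
      have h2 : Agree le_sup_left cu t := fun x => (htu x).symm
      exact (h1.mul h2).mul h1.inv
    have hGm : G * cu * G⁻¹ ∈ F.autGroup (P ⊔ R) := mul_mem (mul_mem (autOfRange_mem hψ hψr)
      (autInducedBy_le_autGroup hVS (mem_autInducedBy.2 ⟨u, hUS hu, fun _ => rfl⟩)))
      (inv_mem (autOfRange_mem hψ hψr))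
    refine (autGroup_carrier hPU).2 ⟨(autGroup_carrier hPU).1
      (mul_mem (mul_mem hγ (autInducedBy_le_autGroup hPU ht)) (inv_mem hγ)),
      _, (autGroup_carrier hVS).1 hGm, hG, fun r => ?_⟩
    obtain ⟨s, hs⟩ := G.surjective (Subgroup.inclusion le_sup_right r)
    have hGF := (autGroup_carrier hVS).1 (autOfRange_mem hψ hψr)
    have hsR : (s : Ω) ∈ R := by
      have h1 := map_mem_of_stronglyClosed (stronglyClosed_of_isNormal hR)
        ((autGroup_carrier hVS).1 (inv_mem (autOfRange_mem hψ hψr)))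
        (x := Subgroup.inclusion le_sup_right r) r.2
      rw [← hs] at h1
      simpa [G] using h1
    have hd : ((s⁻¹ * cu s : ↥(P ⊔ R)) : Ω) ∈ R ⊓ U := by
      show (s : Ω)⁻¹ * (u * (s : Ω) * u⁻¹) ∈ R ⊓ U
      refine Subgroup.mem_inf.2 ⟨mul_mem (inv_mem hsR)
        ((Subgroup.mem_normalizer_iff.1 (hRn (hUS hu)) _).1 hsR), ?_⟩
      have h1 := (Subgroup.mem_normalizer_iff''.1 (hUn (hR.1 hsR)) u).1 hu
      simpa [mul_assoc] using mul_mem h1 (inv_mem hu)
    have h2 : ((G (s⁻¹ * cu s) : ↥(P ⊔ R)) : Ω) ∈ R ⊓ U := Subgroup.mem_inf.2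
      ⟨map_mem_of_stronglyClosed (stronglyClosed_of_isNormal hR) hGF (Subgroup.mem_inf.1 hd).1,
        map_mem_of_stronglyClosed hinv.2.1 hGF (Subgroup.mem_inf.1 hd).2⟩
    show ((Subgroup.inclusion le_sup_right r : ↥(P ⊔ R)) : Ω)⁻¹ *
      (((G * cu * G⁻¹) (Subgroup.inclusion le_sup_right r) : ↥(P ⊔ R)) : Ω) ∈ R ⊓ U
    rw [← hs, MulAut.mul_apply, MulAut.mul_apply, MulAut.inv_apply_self]
    rwa [map_mul, map_inv, Subgroup.coe_mul, InvMemClass.coe_inv] at h2

include hS in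
/-- A normal subgroup meets the group of a normal subsystem in a normal subgroup of that subsystem. -/
theorem isNormal_inf (hD : D.IsNormalIn F p) {R : Subgroup Ω} (hR : F.IsNormal R) :
    D.IsNormal (R ⊓ U) := by
  obtain ⟨⟨hDs, hF, hinv⟩, -⟩ := hD
  have := finite_of_le hinv.2.1.1
  obtain ⟨n, K, h0, hn, hmono, hcomm, hK⟩ := exists_series p hS hR
  have hsc : ∀ X, F.StronglyClosed X → D.StronglyClosed (X ⊓ U) := fun X hX =>
    ⟨inf_le_right, fun P hP φ hφ x => Subgroup.mem_inf.2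
      ⟨hX.2 P (hP.trans inf_le_left) φ (hinv.1 P hφ) x, apply_mem_S hφ x⟩⟩
  refine isNormal_of_series p (isPGroup_of_le hS hinv.2.1.1) hDs
    (hsc R (stronglyClosed_of_isNormal hR)) (fun i => K i ⊓ U) (by simp [h0]) (by rw [hn])
    (fun i => ?_) (fun i j hij => inf_le_inf_right U (hmono hij))
    fun i => weaklyClosed_of_stronglyClosed (hsc _ (stronglyClosed_of_isNormal (hK _)))
  refine le_inf ((Subgroup.commutator_mono inf_le_left inf_le_left).trans (hcomm i)) ?_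
  refine Subgroup.commutator_le.2 fun a ha b hb => ?_
  rw [commutatorElement_def]
  exact mul_mem (mul_mem (mul_mem (Subgroup.mem_inf.1 ha).2 (Subgroup.mem_inf.1 hb).2)
    (inv_mem (Subgroup.mem_inf.1 ha).2)) (inv_mem (Subgroup.mem_inf.1 hb).2)

include hS in
/-- The inductive step. -/
theorem centralizes_step (hD : D.IsNormalIn F p) (hCs : C.IsSaturated p)
    (hyp : C.hyperfocalSubgroup p = T) (hCD : C.IsSubsystemOf D) {R : Subgroup Ω} (hR : F.IsNormal R)
    (hIH : ∀ P, C.Hom P ⊆ D.centralizerHom (R ⊓ U) P) (P₀ : Subgroup Ω) :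
    C.Hom P₀ ⊆ F.centralizerHom R P₀ := by
  have hTU := le_of_subsystem hCD
  obtain ⟨⟨-, hF, hinv⟩, -⟩ := id hD
  have hUS := hinv.2.1.1
  have hUn := stronglyClosed_normal_in_S hinv.2.1
  have hRn := normal_S_le_normalizer hR
  have hTS := hTU.trans hUS
  have := finite_of_le hTS
  have hTR₀ : T ≤ centralizerIn U (R ⊓ U) := (hIH T (subtype_mem le_rfl)).2.1
  -- every map of `C` extends to `P R`, fixing `R ⊓ U` and trivial on `R` modulo it
  have hψ : ∀ {P : Subgroup Ω} {φ : P →* Ω}, φ ∈ C.Hom P → ∃ ψ ∈ F.Hom (P ⊔ R),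
      (∀ x : P, ψ (Subgroup.inclusion le_sup_left x) = φ x) ∧
      (∀ r : R, (r : Ω)⁻¹ * ψ (Subgroup.inclusion le_sup_right r) ∈ R ⊓ U) ∧
      ∀ r : R, (r : Ω) ∈ R ⊓ U → ψ (Subgroup.inclusion le_sup_right r) = r := by
    intro P φ hφ
    obtain ⟨-, -, -, ψ₀, hψ₀, he₀, hf₀⟩ := hIH P hφ
    obtain ⟨ψ, hψ, he, ht⟩ := trivMod_of_normal p hS hD hR hψ₀
    have hle : P ⊔ R ≤ (P ⊔ (R ⊓ U)) ⊔ R := sup_le_sup_right le_sup_left R
    refine ⟨ψ.comp (Subgroup.inclusion hle), restrict_mem hψ hle, fun x => ?_, fun r => ht r,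
      fun r hr => ?_⟩
    · exact ((apply_congr ψ rfl).trans (he (Subgroup.inclusion le_sup_left x))).trans (he₀ x)
    · exact ((apply_congr ψ rfl).trans (he (Subgroup.inclusion le_sup_right ⟨r, hr⟩))).trans
        (hf₀ ⟨r, hr⟩)
  -- `T` centralizes `R`
  have hTC : T ≤ centralizerIn S R := by
    rw [← hyp, FusionSystem.hyperfocalSubgroup, Subgroup.closure_le]
    rintro _ ⟨P, ⟨α, hα⟩, x, hPT, -, rfl⟩
    obtain ⟨ψ, hψF, he, ht, hf⟩ := hψ ((autGroup_carrier hPT).1 hα)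
    refine mem_centralizerIn.2 ⟨mul_mem (inv_mem (hTS (hPT x.2))) (hTS (hPT (α x).2)),
      fun r hr => ?_⟩
    set y : Ω := ((α x : P) : Ω) with hy
    have hxU := hTU (hPT x.2)
    have hz : (x : Ω) * r * (x : Ω)⁻¹ * r⁻¹ ∈ R ⊓ U := by
      refine Subgroup.mem_inf.2 ⟨mul_mem ((Subgroup.mem_normalizer_iff.1 (hRn (hUS hxU)) r).1 hr)
        (inv_mem hr), ?_⟩
      have h1 := (Subgroup.mem_normalizer_iff.1 (hUn (hR.1 hr)) _).1 (inv_mem hxU)
      simpa [mul_assoc] using mul_mem hxU h1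
    set a : Ω := r⁻¹ * ψ (Subgroup.inclusion le_sup_right ⟨r, hr⟩) with ha
    have haU : a ∈ R ⊓ U := ht ⟨r, hr⟩
    have hay : a * y = y * a := (hTR₀ (hPT (α x).2)).2 a haU
    set X : ↥(P ⊔ R) := Subgroup.inclusion le_sup_left x with hX
    set Rr : ↥(P ⊔ R) := Subgroup.inclusion le_sup_right ⟨r, hr⟩ with hRr
    have h1 : ψ (X * Rr * X⁻¹ * Rr⁻¹) = (x : Ω) * r * (x : Ω)⁻¹ * r⁻¹ := by
      refine (apply_congr ψ (y := Subgroup.inclusion le_sup_right ⟨_, (Subgroup.mem_inf.1 hz).1⟩)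
        ?_).trans (hf ⟨_, (Subgroup.mem_inf.1 hz).1⟩ hz)
      simp [hX, hRr]
    have hψX : ψ X = y := he x
    have hψR : ψ Rr = r * a := by rw [ha, mul_inv_cancel_left]
    rw [map_mul, map_mul, map_mul, map_inv, map_inv, hψX, hψR] at h1
    have h2 : y * r * y⁻¹ = (x : Ω) * r * (x : Ω)⁻¹ := by
      have e : a * y⁻¹ = y⁻¹ * a := by
        calc a * y⁻¹ = y⁻¹ * (y * a) * y⁻¹ := by group
          _ = y⁻¹ * (a * y) * y⁻¹ := by rw [hay]
          _ = y⁻¹ * a := by group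
      calc y * r * y⁻¹ = y * r * (a * y⁻¹) * a⁻¹ := by rw [e]; group
        _ = y * (r * a) * y⁻¹ * (r * a)⁻¹ * r := by group
        _ = (x : Ω) * r * (x : Ω)⁻¹ := by rw [h1]; group
    show r * ((x : Ω)⁻¹ * y) = (x : Ω)⁻¹ * y * r
    calc r * ((x : Ω)⁻¹ * y) = (x : Ω)⁻¹ * ((x : Ω) * r * (x : Ω)⁻¹) * y := by group
      _ = (x : Ω)⁻¹ * (y * r * y⁻¹) * y := by rw [h2]
      _ = (x : Ω)⁻¹ * y * r := by group
  -- every map of `C` fixes `R`
  have hRS := hR.1
  let C₂ := fixSystem C F R hRS hTC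
  suffices h : C ≤ C₂ from fun φ hφ => (h P₀ hφ).2
  have hT : IsPGroup p T := isPGroup_of_le hS hTS
  refine alperin_saturated p hT hCs C₂ fun P hP => ?_
  have hPn : C.IsFullyNormalized P := by
    rcases hP with rfl | hP
    exacts [isFullyNormalized_S, hP.2.1]
  have hPT := hPn.1
  have hPS := hPT.trans hTS
  have := finite_of_le hPS
  have : Finite (MulAut P) := finite_mulAut
  obtain ⟨⟨-, Sy, hSy⟩, -⟩ := good_of_fullyNormalized p hT hCs hPn
  intro α hα
  suffices h : (⊤ : Subgroup (C.autGroup P)) ≤ (C₂.autGroup P).subgroupOf (C.autGroup P) from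
    Subgroup.mem_subgroupOf.1 (h (Subgroup.mem_top ⟨α, hα⟩))
  refine le_of_sylow_coprime p Sy le_top (fun a ha => ?_) fun a _ hco => ?_
  · rw [hSy] at ha
    exact Subgroup.mem_subgroupOf.2
      (autInducedBy_le_autGroup hPT (Subgroup.mem_subgroupOf.1 ha))
  have hco' : (orderOf (a : MulAut P)).Coprime p := by rwa [Subgroup.orderOf_coe]
  obtain ⟨ψ, hψF, he, ht, hf⟩ := hψ ((autGroup_carrier hPT).1 a.2)
  have hVS : P ⊔ R ≤ S := sup_le hPS hRS
  have := finite_of_le hVS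
  have : Finite (MulAut ↥(P ⊔ R)) := finite_mulAut
  have hψr : ψ.range = P ⊔ R := by
    refine eq_of_le_of_card_le hVS ?_ (card_range hψF).ge
    rw [range_eq_sup]
    refine sup_le ?_ ?_
    · rintro _ ⟨⟨y, hy⟩, hyP, rfl⟩
      exact Subgroup.mem_sup_left (Set.mem_of_eq_of_mem (he ⟨y, hyP⟩) ((a : MulAut P) ⟨y, hyP⟩).2)
    · rintro _ ⟨⟨y, hy⟩, hyR, rfl⟩
      exact Subgroup.mem_sup_right (trivMod_map_mem inf_le_left ht ⟨y, hyR⟩)
  let Γ₀ := autOfRange ψ (F.injective_of_mem hψF) hψr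
  have hΓ₀a : Agree le_sup_left Γ₀ (a : MulAut P) := fun x => he x
  obtain ⟨e, he1, he2⟩ := CfsgLib.Fusion.ConstrainedNormal.exists_pow_coprime p Γ₀
  have hae : (a : MulAut P) ^ e = a := he2 _ hco'
    (orderOf_dvd_of_pow_eq_one ((hΓ₀a.pow _).eq_one (pow_orderOf_eq_one Γ₀)))
  have hΓa : Agree le_sup_left (Γ₀ ^ e) (a : MulAut P) := hae ▸ hΓ₀a.pow e
  have hfix₀ : ∀ (n : ℕ) (y : ↥(P ⊔ R)), (y : Ω) ∈ R ⊓ U → (Γ₀ ^ n) y = y := by
    intro n
    induction n with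
    | zero => intro y _; rfl
    | succ n ih =>
      intro y hy
      rw [pow_succ', MulAut.mul_apply, ih y hy]
      exact Subtype.ext (hf ⟨y, (Subgroup.mem_inf.1 hy).1⟩ hy)
  have hdisp : ∀ (n : ℕ) (r : R),
      (r : Ω)⁻¹ * (((Γ₀ ^ n) (Subgroup.inclusion le_sup_right r) : ↥(P ⊔ R)) : Ω) ∈ R ⊓ U := by
    intro n
    induction n with
    | zero => intro r; simp
    | succ n ih =>
      intro r
      let r₁ : R := ⟨_, (Subgroup.mem_inf.1 (ih r)).1⟩
      have h1 : (Γ₀ ^ n) (Subgroup.inclusion le_sup_right r) =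
          Subgroup.inclusion le_sup_right r * Subgroup.inclusion le_sup_right r₁ :=
        Subtype.ext (by simp [r₁])
      rw [pow_succ', MulAut.mul_apply, h1, map_mul, Subgroup.coe_mul]
      have h2 : Γ₀ (Subgroup.inclusion le_sup_right r₁) = Subgroup.inclusion le_sup_right r₁ := by
        simpa using hfix₀ 1 (Subgroup.inclusion le_sup_right r₁) (ih r)
      rw [h2, ← mul_assoc]
      exact mul_mem (ht r) (ih r)
  refine Subgroup.mem_subgroupOf.2 ((autGroup_carrier hPT).2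
    ⟨(autGroup_carrier hPT).1 a.2, (autGroup_carrier hPS).1
      (hΓa.mem hVS (pow_mem (autOfRange_mem hψF hψr) e)), hPT.trans hTC,
      fun x => hTC (hPT ((a : MulAut P) x).2), _,
      (autGroup_carrier hVS).1 (pow_mem (autOfRange_mem hψF hψr) e), hΓa, fun r => ?_⟩)
  have hq := aut_eq_one_of_displacement (isPGroup_of_le hS hVS) he1
    (x := Subgroup.inclusion le_sup_right r) (hfix₀ e _ (by simpa using hdisp e r))
  exact congrArg Subtype.val hq

omit [Finite S] in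
theorem quasisimple_centralizes_aux {p : ℕ} {T' S' : Subgroup Ω} {C' : FusionSystem T'}
    {F' : FusionSystem S'} (h : C'.IsSubnormalIn F' p) :
    ∀ [Fact p.Prime] [Finite S'], IsPGroup p S' → C'.Quasisimple p → ∀ (R : Subgroup Ω),
      F'.IsNormal R → ∀ P, C'.Hom P ⊆ F'.centralizerHom R P := by
  induction h with
  | refl =>
    intro _ _ hS hq R hR P
    exact hom_le_centralizerHom_of_central (le_center_of_quasisimple _ hS hq hR) P
  | step hsub hD ih =>
    intro _ _ hS hq R hR P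
    have hUS := hD.1.2.2.2.1.1
    have := finite_of_le hUS
    exact centralizes_step _ hS hD hq.1 hq.2.1 (CfsgLib.FusionImage.subsystem_of_subnormal hsub) hR
      (fun Q => ih (isPGroup_of_le hS hUS) hq _ (isNormal_inf _ hS hD hR) Q) P

include hS in
/-- **Subnormal quasisimple subsystems centralize the normal subgroups.** -/
theorem quasisimple_centralizes (h : C.IsSubnormalIn F p) (hq : C.Quasisimple p) {R : Subgroup Ω}
    (hR : F.IsNormal R) (P : Subgroup Ω) : C.Hom P ⊆ F.centralizerHom R P :=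
  quasisimple_centralizes_aux h hS hq R hR P

/-! ### The centralizer system of a normal subgroup -/

include hS in
theorem centSystem_normal (hF : F.IsSaturated p) {R : Subgroup Ω} (hR : F.IsNormal R) :
    (centSystem F R hR.1).IsNormalIn F p := by
  set W := centralizerIn S R with hW
  have hWS : W ≤ S := centralizerIn_le_S R
  haveI : Finite W := finite_of_le hWS
  have hRn := normal_S_le_normalizer hR
  have hRsc := stronglyClosed_of_isNormal hR
  have hRf : F.IsFullyNormalized R := ⟨hR.1, fun Q _ =>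
    card_le_of_le (normalizerIn_le_S R) ((normalizerIn_le_S Q).trans fun x hx => ⟨hx, hRn hx⟩)⟩
  have hRc := fullyCentralized_of_fullyNormalized p hS hF hRf
  have hWsc : F.StronglyClosed W := by
    refine ⟨hWS, fun P hP φ hφ x => ?_⟩
    obtain ⟨ψ, hψ, he, hm⟩ := hR.2 P φ hφ
    have h1 := map_mem_centralizerIn hψ (le_sup_right : R ≤ P ⊔ R) (hP x.2)
      (Subgroup.mem_sup_left x.2)
    rw [hm] at h1
    exact Set.mem_of_eq_of_mem (he x).symm h1
  have hWn := stronglyClosed_normal_in_S hWsc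
  have hWR : W ⊔ R ≤ S := sup_le hWS hR.1
  -- automorphisms of `R` extend to `W`
  have hextR : ∀ a ∈ F.autGroup R, ∃ A ∈ F.autGroup (W ⊔ R), Agree le_sup_right A a := by
    intro a ha
    have hah := (autGroup_carrier hR.1).1 ha
    obtain ⟨ψ, hψ, he⟩ := saturated_extend p hS hF hah (by rw [range_subtype_comp]; exact hRc)
      (sup_le (centralizerIn_le_extender R (R.subtype.comp a.toMonoidHom)) (le_extender hah) :
        W ⊔ R ≤ extender S R (R.subtype.comp a.toMonoidHom))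
    have hrW : ψ.range = W ⊔ R := by
      refine eq_of_le_of_card_le hWR ?_ (card_range hψ).ge
      rw [range_eq_sup]
      refine sup_le_sup ?_ ?_
      · rintro _ ⟨⟨y, hy⟩, hyW, rfl⟩
        exact map_mem_of_stronglyClosed hWsc hψ (x := ⟨y, hy⟩) hyW
      · rintro _ ⟨⟨y, hy⟩, hyR, rfl⟩
        exact map_mem_of_stronglyClosed hRsc hψ (x := ⟨y, hy⟩) hyR
    exact ⟨_, autOfRange_mem hψ hrW, fun x => he x x.2 _⟩
  refine ⟨⟨centralizerSystem_saturated p hS hF hRc (centSystem_spec F R hR.1), hF,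
    fun P φ hφ => hφ.1, hWsc, ?_, ?_⟩, ?_⟩
  · -- invariance
    rintro P hPW φ ⟨hφ, -, hval, ψ, hψ, hψe, hψf⟩ α hα
    obtain ⟨χ₀, hχ₀, hχe, hχm⟩ := hR.2 W _ ((autGroup_carrier hWS).1 hα)
    have hrW : χ₀.range = W ⊔ R := by
      rw [range_eq_sup, hχm]
      congr 1
      exact ((map_subgroupOf_congr le_sup_left le_rfl fun x hx => hχe ⟨x, hx⟩).trans
        (map_subgroupOf_self _)).trans (range_subtype_comp α)
    let A := autOfRange χ₀ (F.injective_of_mem hχ₀) hrW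
    have hA : A ∈ F.autGroup (W ⊔ R) := autOfRange_mem hχ₀ hrW
    have hAW : Agree le_sup_left A α := fun x => hχe x
    set P' := (P.subgroupOf W).map (W.subtype.comp α.toMonoidHom) with hP'
    have hP'W : P' ≤ W := by rintro _ ⟨x, -, rfl⟩; exact (α x).2
    have hle : P' ⊔ R ≤ W ⊔ R := sup_le_sup_right hP'W R
    have hAi := (autGroup_carrier hWR).1 (inv_mem hA)
    have hAF := (autGroup_carrier hWR).1 hA
    let A' := ((W ⊔ R).subtype.comp (A⁻¹).toMonoidHom).comp (Subgroup.inclusion hle)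
    have hA' : A' ∈ F.Hom (P' ⊔ R) := restrict_mem hAi hle
    have hA'm : ∀ z, A' z ∈ P ⊔ R := fun z => by
      refine (show A'.range ≤ P ⊔ R from ?_) ⟨z, rfl⟩
      rw [range_eq_sup]
      refine sup_le ?_ ?_
      · rintro _ ⟨⟨y, hy⟩, hyP, rfl⟩
        obtain ⟨v, hv, rfl⟩ := (Subgroup.mem_subgroupOf.1 hyP : y ∈ P')
        refine Subgroup.mem_sup_left (Set.mem_of_eq_of_mem ?_ (Subgroup.mem_subgroupOf.1 hv))
        have h1 := hAW.inv (α v)
        rw [MulAut.inv_apply_self] at h1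
        exact h1
      · rintro _ ⟨⟨y, hy⟩, hyR, rfl⟩
        exact Subgroup.mem_sup_right (map_mem_of_stronglyClosed hRsc hA' (x := ⟨y, hy⟩) hyR)
    have hψm : ∀ z, ψ z ∈ W ⊔ R := fun z => by
      refine (show ψ.range ≤ W ⊔ R from ?_) ⟨z, rfl⟩
      rw [range_eq_sup]
      refine sup_le ?_ ?_
      · rintro _ ⟨⟨y, hy⟩, hyP, rfl⟩
        exact Subgroup.mem_sup_left (Set.mem_of_eq_of_mem (hψe ⟨y, hyP⟩) (hval _))
      · rintro _ ⟨⟨y, hy⟩, hyR, rfl⟩
        exact Subgroup.mem_sup_right (Set.mem_of_eq_of_mem (hψf ⟨y, hyR⟩) hyR)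
    have hΨ := F.comp_mem hA' (F.comp_mem hψ hAF hψm) hA'm
    let Ψ := (((W ⊔ R).subtype.comp A.toMonoidHom).comp (ψ.codRestrict _ hψm)).comp
      (A'.codRestrict _ hA'm)
    have hval' : ∀ (v : W) (hv : (v : Ω) ∈ P) (hm : ((α v : W) : Ω) ∈ P' ⊔ R),
        Ψ ⟨_, hm⟩ = ((α ⟨φ ⟨v, hv⟩, hval _⟩ : W) : Ω) := by
      intro v hv hm
      have h1 : A' ⟨_, hm⟩ = (v : Ω) := by
        have h1 := hAW.inv (α v)
        rw [MulAut.inv_apply_self] at h1
        exact h1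
      show ((A ⟨ψ ⟨A' ⟨_, hm⟩, hA'm _⟩, hψm _⟩ : ↥(W ⊔ R)) : Ω) = _
      refine Eq.trans ?_ (hAW ⟨φ ⟨v, hv⟩, hval _⟩)
      refine congrArg (fun z : ↥(W ⊔ R) => ((A z : ↥(W ⊔ R)) : Ω)) (Subtype.ext ?_)
      exact (apply_congr ψ h1).trans (hψe ⟨v, hv⟩)
    refine ⟨Ψ.comp (Subgroup.inclusion le_sup_left), ⟨restrict_mem hΨ le_sup_left, hP'W,
      fun z => ?_, Ψ, hΨ, fun z => rfl, fun r => ?_⟩, fun x hφx hαx => ?_⟩
    · obtain ⟨v, hv, hvz⟩ := z.2
      have : z = ⟨_, ⟨v, hv, rfl⟩⟩ := Subtype.ext hvz.symm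
      rw [this]
      exact Set.mem_of_eq_of_mem (hval' v hv _) (α _).2
    · have hr' : A' (Subgroup.inclusion le_sup_right r) ∈ R :=
        map_mem_of_stronglyClosed hRsc hA' (x := Subgroup.inclusion le_sup_right r) r.2
      have h1 : ψ ⟨A' (Subgroup.inclusion le_sup_right r), hA'm _⟩ =
          A' (Subgroup.inclusion le_sup_right r) := (apply_congr ψ rfl).trans (hψf ⟨_, hr'⟩)
      show ((A ⟨ψ ⟨A' (Subgroup.inclusion le_sup_right r), hA'm _⟩, hψm _⟩ : ↥(W ⊔ R)) : Ω) = r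
      rw [show (⟨ψ ⟨A' (Subgroup.inclusion le_sup_right r), hA'm _⟩, hψm _⟩ : ↥(W ⊔ R)) =
        A⁻¹ (Subgroup.inclusion hle (Subgroup.inclusion le_sup_right r)) from Subtype.ext h1,
        MulAut.apply_inv_self]
      rfl
    · exact hval' ⟨x, hPW x.2⟩ x.2 _
  · -- Frattini
    intro P hPW φ hφ
    obtain ⟨ψ, hψ, he, hm⟩ := hR.2 P φ hφ
    have hrR : (ψ.comp (Subgroup.inclusion (le_sup_right : R ≤ P ⊔ R))).range = R :=
      (range_restrict ψ le_sup_right).trans hm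
    obtain ⟨A, hA, hAa⟩ := hextR _ (autOfRange_mem (restrict_mem hψ le_sup_right) hrR)
    have hAF := (autGroup_carrier hWR).1 hA
    obtain ⟨α, hα⟩ := exists_agree (h := (le_sup_left : W ≤ W ⊔ R)) (P := W) (A := A) fun x hx =>
      map_mem_of_stronglyClosed hWsc hAF hx
    have hψm : ∀ z, ψ z ∈ W ⊔ R := fun z => by
      refine (show ψ.range ≤ W ⊔ R from ?_) ⟨z, rfl⟩
      rw [range_eq_sup, hm]
      refine sup_le_sup_right ?_ R
      rintro _ ⟨⟨y, hy⟩, hyP, rfl⟩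
      exact Set.mem_of_eq_of_mem (he ⟨y, hyP⟩) (hWsc.2 P hPW φ hφ _)
    have hΨ := F.comp_mem hψ ((autGroup_carrier hWR).1 (inv_mem hA)) hψm
    let Ψ := ((W ⊔ R).subtype.comp (A⁻¹).toMonoidHom).comp (ψ.codRestrict _ hψm)
    have hφW : ∀ x : P, φ x ∈ W := hWsc.2 P hPW φ hφ
    have hΨe : ∀ x : P, Ψ (Subgroup.inclusion le_sup_left x) = ((α⁻¹ ⟨φ x, hφW x⟩ : W) : Ω) := fun x => by
      refine Eq.trans ?_ (hα.inv ⟨φ x, hφW x⟩)
      exact congrArg (fun z : ↥(W ⊔ R) => ((A⁻¹ z : ↥(W ⊔ R)) : Ω)) (Subtype.ext (he x))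
    refine ⟨α, hα.mem hWR hA, Ψ.comp (Subgroup.inclusion le_sup_left),
      ⟨restrict_mem hΨ le_sup_left, hPW, fun x => Set.mem_of_eq_of_mem (hΨe x) (SetLike.coe_mem _),
        Ψ, hΨ, fun x => rfl, fun r => ?_⟩, fun x hx => ?_⟩
    · show ((A⁻¹ ⟨ψ (Subgroup.inclusion le_sup_right r), hψm _⟩ : ↥(W ⊔ R)) : Ω) = r
      rw [show (⟨ψ (Subgroup.inclusion le_sup_right r), hψm _⟩ : ↥(W ⊔ R)) =
        A (Subgroup.inclusion le_sup_right r) from Subtype.ext (hAa r).symm, MulAut.inv_apply_self]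
      rfl
    · rw [show (⟨_, hx⟩ : W) = α⁻¹ ⟨φ x, hφW x⟩ from Subtype.ext (hΨe x), MulAut.apply_inv_self]
  · -- extension
    intro α hα
    obtain ⟨-, -, -, ψ, hψ, he, hf⟩ := (autGroup_carrier (S := W) le_rfl).1 hα
    have hrW : ψ.range = W ⊔ R := by
      rw [range_eq_sup]
      congr 1
      · exact ((map_subgroupOf_congr le_sup_left le_rfl fun x hx => he ⟨x, hx⟩).trans
          (map_subgroupOf_self _)).trans (range_subtype_comp α)
      · refine (map_subgroupOf_congr (χ := R.subtype) le_sup_right le_rfl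
          fun y hy => hf ⟨y, hy⟩).trans ?_
        rw [map_subgroupOf_self, R.range_subtype]
    let A := autOfRange ψ (F.injective_of_mem hψ) hrW
    have hAF := (autGroup_carrier hWR).1 (autOfRange_mem hψ hrW)
    have hWRn : F.IsFullyNormalized (W ⊔ R) := ⟨hWR, fun Q _ =>
      card_le_of_le (normalizerIn_le_S _) ((normalizerIn_le_S Q).trans fun x hx =>
        ⟨hx, mem_normalizer_sup hWS hR.1 (hWn hx) (hRn hx)⟩)⟩
    have hV : W ⊔ centralizerIn S W ≤
        extender S (W ⊔ R) ((W ⊔ R).subtype.comp A.toMonoidHom) := by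
      refine sup_le ((le_sup_left : W ≤ W ⊔ R).trans (le_extender hAF)) fun c hc => ?_
      refine mem_extender_of ⟨hc.1, mem_normalizer_sup hWS hR.1 (hWn hc.1) (hRn hc.1)⟩ hc.1
        fun x hx => ?_
      -- `A` commutes with conjugation by `c`
      have hcN := mem_normalizer_sup hWS hR.1 (hWn hc.1) (hRn hc.1)
      let cc := conjAut S (W ⊔ R) ⟨c, hc.1, hcN⟩
      have hgen : ∀ z : ↥(W ⊔ R), A (cc z) = cc (A z) := by
        suffices h : ⊤ ≤ MonoidHom.eqLocus (A.toMonoidHom.comp cc.toMonoidHom)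
            (cc.toMonoidHom.comp A.toMonoidHom) from fun z => h (Subgroup.mem_top z)
        rw [← Subgroup.subgroupOf_self (W ⊔ R), Subgroup.subgroupOf_sup le_sup_left le_sup_right]
        refine sup_le ?_ ?_
        · intro z hz
          have h1 : ∀ w ∈ W, c * w * c⁻¹ = w := fun w hw => by
            rw [← hc.2 w hw, mul_inv_cancel_right]
          have h2 : cc z = z := Subtype.ext (h1 _ hz)
          show A (cc z) = cc (A z)
          rw [h2]
          refine (Subtype.ext (h1 _ ?_)).symm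
          exact Set.mem_of_eq_of_mem (he ⟨z, hz⟩) (α _).2
        · intro z hz
          have h2 : ∀ w : ↥(W ⊔ R), (w : Ω) ∈ R → A w = w := fun w hw =>
            Subtype.ext ((apply_congr ψ rfl).trans (hf ⟨w, hw⟩))
          show A (cc z) = cc (A z)
          rw [h2 z hz, h2 (cc z) ((Subgroup.mem_normalizer_iff.1 (hRn hc.1) _).1 hz)]
      exact congrArg Subtype.val (hgen x)
    obtain ⟨Γ₁, hΓ₁, hΓ₁e⟩ := receptive_extend (good_of_fullyNormalized p hS hF hWRn).2 hAF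
      (range_subtype_comp A) (sup_le hV (le_extender hAF))
    set Γ := Γ₁.comp (Subgroup.inclusion (le_sup_left :
      W ⊔ centralizerIn S W ≤ (W ⊔ centralizerIn S W) ⊔ (W ⊔ R))) with hΓdef
    have hΓ : Γ ∈ F.Hom (W ⊔ centralizerIn S W) := restrict_mem hΓ₁ le_sup_left
    have hVS : W ⊔ centralizerIn S W ≤ S := sup_le hWS (centralizerIn_le_S W)
    have hΓW : ∀ w : W, Γ (Subgroup.inclusion le_sup_left w) = α w := fun w =>
      ((hΓ₁e w (Subgroup.mem_sup_left w.2) _).trans (apply_congr ψ rfl)).trans (he w)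
    have hWm : (W.subgroupOf (W ⊔ centralizerIn S W)).map Γ = W :=
      ((map_subgroupOf_congr le_sup_left le_rfl fun x hx => hΓW ⟨x, hx⟩).trans
        (map_subgroupOf_self _)).trans (range_subtype_comp α)
    have hΓr : Γ.range = W ⊔ centralizerIn S W := by
      refine eq_of_le_of_card_le hVS ?_ (card_range hΓ).ge
      rw [range_eq_sup, hWm]
      refine sup_le_sup_left ?_ W
      rintro _ ⟨⟨y, hy⟩, hyC, rfl⟩
      have h1 := map_mem_centralizerIn hΓ (le_sup_left : W ≤ W ⊔ centralizerIn S W) hyC hy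
      rwa [hWm] at h1
    refine ⟨_, autOfRange_mem hΓ hΓr, hΓW, fun c hc => ?_⟩
    show (c : Ω)⁻¹ * Γ c ∈ W ⊓ Subgroup.centralizer (W : Set Ω)
    have hΓc : Γ c ∈ centralizerIn S W := by
      have h1 := map_mem_centralizerIn hΓ (le_sup_left : W ≤ W ⊔ centralizerIn S W) hc c.2
      rwa [hWm] at h1
    refine Subgroup.mem_inf.2 ⟨mem_centralizerIn.2 ⟨mul_mem (inv_mem hc.1) (apply_mem_S hΓ c),
      fun r hr => ?_⟩, (mul_mem (inv_mem hc) hΓc).2⟩
    -- both `c` and `Γ c` act on `R` in the same way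
    have hcr : (c : Ω) * r * (c : Ω)⁻¹ ∈ R := (Subgroup.mem_normalizer_iff.1 (hRn hc.1) r).1 hr
    have hfixR : ∀ y (hy : y ∈ R),
        Γ₁ ⟨y, Subgroup.mem_sup_right (Subgroup.mem_sup_right hy)⟩ = y := fun y hy =>
      ((hΓ₁e y (Subgroup.mem_sup_right hy) _).trans (apply_congr ψ rfl)).trans (hf ⟨y, hy⟩)
    have h1 := congrArg Γ₁ (show (⟨(c : Ω) * r * (c : Ω)⁻¹,
        Subgroup.mem_sup_right (Subgroup.mem_sup_right hcr)⟩ :
          ↥((W ⊔ centralizerIn S W) ⊔ (W ⊔ R))) =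
      Subgroup.inclusion le_sup_left c * ⟨r, Subgroup.mem_sup_right (Subgroup.mem_sup_right hr)⟩ *
        (Subgroup.inclusion le_sup_left c)⁻¹ from Subtype.ext rfl)
    rw [map_mul, map_mul, map_inv, hfixR _ hcr, hfixR _ hr] at h1
    show r * ((c : Ω)⁻¹ * Γ c) = (c : Ω)⁻¹ * Γ c * r
    have h2 : (c : Ω) * r * (c : Ω)⁻¹ = Γ c * r * (Γ c)⁻¹ := h1
    calc r * ((c : Ω)⁻¹ * Γ c) = (c : Ω)⁻¹ * ((c : Ω) * r * (c : Ω)⁻¹) * Γ c := by group
      _ = (c : Ω)⁻¹ * (Γ c * r * (Γ c)⁻¹) * Γ c := by rw [h2]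
      _ = (c : Ω)⁻¹ * Γ c * r := by group

end CfsgLib.CoreComp
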