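import Mathlib.GroupTheory.SemidirectProduct
import Cfsg.Prelude.Def_FusionReduction
import Cfsg.Agent.Fusion.LocalModels
import Cfsg.Agent.LocalB.CharP
import Cfsg.Agent.ZJ.Involve

/-!
Freeness of a section passes to centric radical subgroups and to normalizer systems.
-/

set_option autoImplicit false

open Cfsg Cfsg.FusionSystem

namespace CfsgLib.Fusion

universe u

variable {Ω : Type u} [Group Ω] {S : Subgroup Ω} {F : FusionSystem S}

/-- Images of a subgroup under a map and under a restriction agree. -/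
theorem map_subgroupOf_restrict {X N N' : Subgroup Ω} (ψ : N →* Ω) (h : N' ≤ N) (hX : X ≤ N') :
    (X.subgroupOf N').map (ψ.comp (Subgroup.inclusion h)) = (X.subgroupOf N).map ψ :=
  map_subgroupOf_congr (ψ := ψ.comp (Subgroup.inclusion h)) (χ := ψ) hX (hX.trans h)
    fun _ _ => rfl

variable [Finite S]

/-- In the model of `N_F(Q)`, if the largest normal `p`-subgroup is the image of `Q` then `Q` is
radical. -/
theorem isRadical_of_model (p : ℕ) [Fact p.Prime] (hS : IsPGroup p S) {Q : Subgroup Ω}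
    (hfn : F.IsFullyNormalized Q) (hc : F.IsCentric Q) {N : FusionSystem (normalizerIn S Q)}
    (hN : F.IsNormalizerSystem Q N) {L : Type u} [Group L] {ι : ↥(normalizerIn S Q) →* L}
    (hι : N.IsModel p L ι) (he : pCore p L ≤ img ι Q) : F.IsRadical p Q := by
  have := finite_of_le (normalizerIn_le_S (S := S) Q)
  have hUp := isPGroup_of_le hS (normalizerIn_le_S (S := S) Q)
  have hQn := isNormal_normalizerSystem hfn.1 hN
  have hQc := isCentric_normalizerSystem hc hN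
  have : Finite L := hι.1
  have := finite_of_le hfn.1
  have : Finite (MulAut Q) := finite_mulAut
  refine ⟨hfn.1, le_antisymm ?_ fun a ha => ?_⟩
  · rw [← autGroup_normalizerSystem hfn.1 hN]
    rintro _ ⟨a, ha, rfl⟩
    obtain ⟨α, hαs, hα⟩ := exists_modelAct p hι hQn
    have hk : IsPGroup p α.ker := by
      refine IsPGroup.to_le (((hUp.of_surjective ι.rangeRestrict
        ι.rangeRestrict_surjective).to_le (img_le_range Q))) fun g hg => ?_
      refine centralizer_img_le p hUp hι hQn hQc (Subgroup.mem_centralizer_iff.2 ?_)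
      rintro _ ⟨x, hx, rfl⟩
      have h1 := hα g ⟨x, hx⟩
      rw [MonoidHom.mem_ker.1 hg] at h1
      calc ι x * g = g * ι ⟨x, le_normalizerIn hfn.1 hx⟩ * g⁻¹ * g := by rw [← h1]; rfl
        _ = g * ι x := by rw [inv_mul_cancel_right]
    have hle2 : (pCore p (N.autGroup Q)).comap α ≤ pCore p L :=
      CfsgLib.Solvable.le_pCore p
        ((CfsgLib.Solvable.pCore_spec (G := N.autGroup Q) p).1.comap α)
        ((CfsgLib.Solvable.isPGroup_pCore (G := N.autGroup Q) p).comap_of_ker_isPGroup α hk)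
    obtain ⟨g, rfl⟩ := hαs a
    obtain ⟨q, hqQ, hq⟩ := he (hle2 (Subgroup.mem_comap.2 ha))
    rw [inn_eq_autInducedBy]
    refine mem_autInducedBy.2 ⟨q, hqQ, fun x => ?_⟩
    refine congrArg (fun s : ↥(normalizerIn S Q) => (s : Ω)) (hι.2.1.1
      (a₁ := ⟨_, le_normalizerIn hfn.1 ((α g : MulAut Q) x).2⟩)
      (a₂ := q * ⟨x, le_normalizerIn hfn.1 x.2⟩ * q⁻¹) ?_)
    rw [hα, map_mul, map_mul, map_inv, hq]
  · have hle := inn_le_autGroup (F := F) hfn.1
    refine ⟨⟨a, hle ha⟩, ?_, rfl⟩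
    have hn : ((Inn Q).subgroupOf (F.autGroup Q)).Normal := inn_subgroupOf_normal (F := F) Q
    exact CfsgLib.Solvable.le_pCore p hn
      (((isPGroup_autInducedBy hS Q).to_le (inn_le_autInducedBy hfn.1)).of_equiv
        (Subgroup.subgroupOfEquivOfLe hle).symm) (Subgroup.mem_subgroupOf.2 ha)

/-- The maps of `N_F(Q)`, when `R₀` is normal in it. -/
theorem normalizerSystem_hom_iff {Q R₀ : Subgroup Ω} {N : FusionSystem (normalizerIn S Q)}
    (hN : F.IsNormalizerSystem Q N) (hR0 : N.IsNormal R₀) (hQR : Q ≤ R₀) (P : Subgroup Ω)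
    (φ : P →* Ω) : φ ∈ N.Hom P ↔ P ≤ normalizerIn S Q ∧ (∀ x, φ x ∈ normalizerIn S Q) ∧
      ∃ ψ ∈ F.Hom (P ⊔ R₀), (∀ x : P, ψ (Subgroup.inclusion le_sup_left x) = φ x) ∧
        (R₀.subgroupOf (P ⊔ R₀)).map ψ = R₀ ∧ (Q.subgroupOf (P ⊔ R₀)).map ψ = Q ∧
        (Q.subgroupOf (P ⊔ R₀)).map ψ = Q := by
  constructor
  · intro hφ
    obtain ⟨ψ, hψ, he, hm⟩ := hR0.2 P φ hφ
    rw [hN] at hψ hφ
    obtain ⟨hψF, -, -, χ, -, hχe, hχm⟩ := hψ
    have hQ' : (Q.subgroupOf (P ⊔ R₀)).map ψ = Q := by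
      refine (map_subgroupOf_congr (ψ := ψ) (χ := χ) (hQR.trans le_sup_right) le_sup_right
        fun x hx => ?_).trans hχm
      exact (hχe ⟨x, Subgroup.mem_sup_right (hQR hx)⟩).symm
    exact ⟨hφ.2.1, hφ.2.2.1, ψ, hψF, he, hm, hQ', hQ'⟩
  · rintro ⟨hP, hφU, ψ, hψ, he, -, hmQ, -⟩
    have hle : P ⊔ Q ≤ P ⊔ R₀ := sup_le_sup_left hQR P
    rw [hN]
    refine ⟨restrict_mem_of_eq hψ le_sup_left fun x => (he x).symm, hP, hφU,
      ψ.comp (Subgroup.inclusion hle), restrict_mem hψ hle, fun x => he x, ?_⟩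
    exact (map_subgroupOf_restrict ψ hle le_sup_right).trans hmQ

/-! ### Freeness passes from centric radical subgroups to centric subgroups -/

/-- A section absent from the models at the fully normalized centric radical subgroups is absent
from every local model. -/
theorem sectionFree_of_radical (p : ℕ) [Fact p.Prime] (hS : IsPGroup p S) (hF : F.IsSaturated p)
    {X : Type*} [Group X]
    (h : ∀ Q : Subgroup Ω, F.IsFullyNormalized Q → F.IsCentric Q → F.IsRadical p Q →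
      ∀ N : FusionSystem (normalizerIn S Q), F.IsNormalizerSystem Q N →
        ∀ (L : Type u) [Group L] (ι : ↥(normalizerIn S Q) →* L),
          N.IsModel p L ι → ¬ Involves X L) : F.IsSectionFree p X := by
  suffices H : ∀ (n : ℕ) (Q : Subgroup Ω), Nat.card S - Nat.card Q = n →
      F.IsFullyNormalized Q → F.IsCentric Q →
      ∀ N : FusionSystem (normalizerIn S Q), F.IsNormalizerSystem Q N →
        ∀ (L : Type u) [Group L] (ι : ↥(normalizerIn S Q) →* L),
          N.IsModel p L ι → ¬ Involves X L from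
    fun Q hn hc N hN L _ ι hι => H _ Q rfl hn hc N hN L ι hι
  intro n
  induction n using Nat.strong_induction_on with
  | _ n ih =>
    intro Q hn hfn hc N hN L _ ι hι hX
    by_cases hrad : F.IsRadical p Q
    · exact h Q hfn hc hrad N hN L ι hι hX
    have := finite_of_le (normalizerIn_le_S (S := S) Q)
    have hUp := isPGroup_of_le hS (normalizerIn_le_S (S := S) Q)
    have hQn := isNormal_normalizerSystem hfn.1 hN
    have hQc := isCentric_normalizerSystem hc hN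
    have : Finite L := hι.1
    obtain ⟨Tι, hTι⟩ := hι.2.2.1
    have hRr : pCore p L ≤ ι.range := pCore_le_range p Tι hTι
    have hR0 : N.IsNormal (preimg ι (pCore p L)) :=
      isNormal_preimg_of_normal hι.2.1 (CfsgLib.Solvable.pCore_spec (G := L) p).1 hRr
    set R₀ := preimg ι (pCore p L)
    have hQimg : img ι Q ≤ pCore p L := CfsgLib.Solvable.le_pCore p
      (normal_img_of_isNormal p hι hQn)
      ((hUp.of_surjective ι.rangeRestrict ι.rangeRestrict_surjective).to_le (img_le_range Q))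
    have hQR : Q ≤ R₀ := fun x hx =>
      mem_preimg.2 ⟨le_normalizerIn hfn.1 hx, hQimg (apply_mem_img hx)⟩
    have hR₀U : R₀ ≤ normalizerIn S Q := preimg_le _
    have hR₀S : R₀ ≤ S := hR₀U.trans (normalizerIn_le_S Q)
    have hT : F.IsCentric R₀ := isCentric_mono hc hQR hR₀S
    have hU : normalizerIn S Q ≤ normalizerIn S R₀ := fun g hg =>
      ⟨hg.1, normal_S_le_normalizer hR0 hg⟩
    have hUN : normalizerIn S Q ≤ Subgroup.normalizer (Q : Set Ω) := fun g hg => hg.2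
    have hlt : Nat.card Q < Nat.card R₀ := by
      by_contra hle
      have he : Q = R₀ := eq_of_le_of_card_le hR₀S hQR (not_lt.1 hle)
      refine hrad (isRadical_of_model p hS hfn hc hN hι fun g hg => ?_)
      obtain ⟨q, rfl⟩ := hRr hg
      exact apply_mem_img (le_of_eq he.symm (mem_preimg.2 ⟨q.2, hg⟩))
    obtain ⟨T', N', L', _, ι', H, hfn', hc', hcard, hN', hι', ⟨e⟩⟩ :=
      exists_model_embedding p hS hF hT hQR hQR hU hUN hUN (le_normalizerIn hfn.1)
        (normalizerSystem_hom_iff hN hR0 hQR)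
        (normalizerSystem_saturated p hS hF hfn hN) hQn hQc
        (fun g hg => centralizerIn_le_self hc ⟨hg.1, Subgroup.centralizer_le hQR hg.2⟩)
        (fun γ hγ _ hfix => by
          obtain ⟨z, hzQ, -, hz⟩ := centric_uniqueness p hS hF hQR hc (subtype_mem hR₀S)
            ((autGroup_carrier hR₀S).1 hγ) fun x hx => congrArg Subtype.val (hfix x hx).symm
          exact ⟨z, hzQ, fun x => hz x⟩)
        hι
    refine ih (Nat.card S - Nat.card T') ?_ T' rfl hfn' hc' N' hN' L' ι' hι' ?_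
    · have := card_le_of_le le_rfl hR₀S
      omega
    · refine ZJ.involves_of_hom H e.symm.toMonoidHom e.symm.surjective hX

/-! ### Freeness passes to normalizer systems -/

/-- An automorphism of `R Q` fixing `R` and stabilizing `Q`, of order prime to `p`, is trivial when
`C_Q(R) ≤ R`. -/
theorem eq_one_of_fix_pxq (p : ℕ) [Fact p.Prime] {R Q : Subgroup Ω} (hR : IsPGroup p R)
    (hQ : IsPGroup p Q) [Finite ↥(R ⊔ Q)] (hRQ : R ≤ Subgroup.normalizer (Q : Set Ω))
    (hfix : ∀ q ∈ Q, (∀ r ∈ R, r * q = q * r) → q ∈ R) {γ : MulAut ↥(R ⊔ Q)}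
    (hγp : (orderOf γ).Coprime p) (hγQ : γ ∈ stabX (R ⊔ Q) Q)
    (hγR : ∀ x : ↥(R ⊔ Q), (x : Ω) ∈ R → γ x = x) : γ = 1 := by
  have : Finite (MulAut ↥(R ⊔ Q)) := finite_mulAut
  let G := ↥(R ⊔ Q) ⋊[MonoidHom.id (MulAut ↥(R ⊔ Q))] MulAut ↥(R ⊔ Q)
  haveI : Finite G := Finite.of_equiv _ SemidirectProduct.equivProd.symm
  let i : ↥(R ⊔ Q) →* G := SemidirectProduct.inl
  let w : G := SemidirectProduct.inr γ
  have hw : ∀ x, w * i x = i (γ x) * w := fun x => by
    show SemidirectProduct.inr γ * SemidirectProduct.inl x = _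
    rw [show (i (γ x) : G) = w * i x * w⁻¹ from
      (SemidirectProduct.inl_aut (φ := MonoidHom.id _) γ x).trans (by rw [map_inv])]
    rw [inv_mul_cancel_right]
  let P' : Subgroup G := (R.subgroupOf (R ⊔ Q)).map i
  let R' : Subgroup G := (Q.subgroupOf (R ⊔ Q)).map i
  have hiinj : Function.Injective i := SemidirectProduct.inl_injective
  have hRn : ∀ g : G, (∀ x : ↥(R ⊔ Q), (x : Ω) ∈ Q → g * i x * g⁻¹ ∈ R') →
      g ∈ Subgroup.normalizer (R' : Set G) := fun g hg =>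
    mem_normalizer_of_conj_mem (S := R') le_rfl (by rintro _ ⟨x, hx, rfl⟩; exact hg x hx)
  have hcomm := CfsgLib.LocalB.commute_of_pxq (P := P') (R := R') (p := p)
    ((hR.of_equiv (Subgroup.subgroupOfEquivOfLe le_sup_left).symm).map i)
    ((hQ.of_equiv (Subgroup.subgroupOfEquivOfLe le_sup_right).symm).map i)
    (by
      rintro _ ⟨r, hr, rfl⟩
      refine hRn _ fun x hx => ?_
      rw [← map_inv, ← map_mul, ← map_mul]
      exact ⟨_, (Subgroup.mem_normalizer_iff.1 (hRQ hr) x).1 hx, rfl⟩)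
    (w := w)
    (by rwa [orderOf_injective (SemidirectProduct.inr (φ := MonoidHom.id _))
      SemidirectProduct.inr_injective])
    (hRn w fun x hx => ⟨γ x, (hγQ x).2 hx, by rw [hw, mul_inv_cancel_right]⟩)
    (by
      rintro _ ⟨r, hr, rfl⟩
      show i r * w = w * i r
      rw [hw, hγR r hr])
    (by
      rintro _ ⟨q, hq, rfl⟩ hc
      show w * i q = i q * w
      rw [hw, hγR q (hfix q hq fun r hr => ?_)]
      exact congrArg Subtype.val (hiinj (a₁ := (⟨r, Subgroup.mem_sup_left hr⟩ : ↥(R ⊔ Q)) * q)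
        (a₂ := q * (⟨r, Subgroup.mem_sup_left hr⟩ : ↥(R ⊔ Q))) (by
          rw [map_mul, map_mul]; exact hc _ ⟨_, hr, rfl⟩)))
  refine MulEquiv.ext fun x => ?_
  have hle : R ⊔ Q ≤ ((MonoidHom.eqLocus γ.toMonoidHom (MonoidHom.id _))).map (R ⊔ Q).subtype := by
    refine sup_le (fun r hr => ⟨⟨r, Subgroup.mem_sup_left hr⟩, hγR _ hr, rfl⟩) fun q hq => ?_
    refine ⟨⟨q, Subgroup.mem_sup_right hq⟩, hiinj ?_, rfl⟩
    exact mul_right_cancel ((hw _).symm.trans (hcomm _ ⟨_, hq, rfl⟩))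
  obtain ⟨y, hy, hyx⟩ := hle x.2
  rw [← show y = x from Subtype.ext hyx]
  exact hy

/-- The normalizer system of a fully normalized subgroup inherits freeness. -/
theorem sectionFree_normalizerSystem (p : ℕ) [Fact p.Prime] (hS : IsPGroup p S)
    (hF : F.IsSaturated p) {X : Type*} [Group X] (hfree : F.IsSectionFree p X) {Q : Subgroup Ω}
    (hQ : F.IsFullyNormalized Q) {N : FusionSystem (normalizerIn S Q)}
    (hN : F.IsNormalizerSystem Q N) : N.IsSectionFree p X := by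
  intro R hRfn hRc M hM L _ ι hι hX
  have hU₀ := finite_of_le (normalizerIn_le_S (S := S) Q)
  have hsatN := normalizerSystem_saturated p hS hF hQ hN
  have hUp := isPGroup_of_le hS (normalizerIn_le_S (S := S) Q)
  obtain ⟨hfa, hrec⟩ := good_of_fullyNormalized p hS hF hQ
  have hk := isKNorm_normalizer hQ.1 hN
  have hQs : SylowIn p (autInducedBy S Q ⊓ ⊤) (F.autGroup Q ⊓ ⊤) := by
    rw [inf_top_eq, inf_top_eq]
    exact ⟨autInducedBy_le_autGroup hQ.1, hfa.2⟩
  obtain ⟨hfc, hsyl⟩ := hk.key p hS hF hrec hQs hRfn.1 hRfn.2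
  have hCle : centralizerIn S (R ⊔ Q) ≤ R := fun g hg => centralizerIn_le_self hRc
    (mem_centralizerIn.2 ⟨(hk.centralizerIn_le R hg).1,
      fun x hx => (mem_centralizerIn.1 hg).2 x (Subgroup.mem_sup_left hx)⟩)
  have hT := isCentric_of_fullyCentralized hfc (hCle.trans le_sup_left)
  have hTS := hT.1
  have hU : normalizerIn (normalizerIn S Q) R ≤ normalizerIn S (R ⊔ Q) := fun g hg =>
    ⟨hg.1.1, (hk.normalizerIn_le hRfn.1 hg).2⟩
  have hRU : R ≤ normalizerIn (normalizerIn S Q) R := le_normalizerIn hRfn.1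
  have hE : ∀ (P : Subgroup Ω) (φ : P →* Ω), φ ∈ M.Hom P ↔
      P ≤ normalizerIn (normalizerIn S Q) R ∧ (∀ x, φ x ∈ normalizerIn (normalizerIn S Q) R) ∧
      ∃ ψ ∈ F.Hom (P ⊔ (R ⊔ Q)), (∀ x : P, ψ (Subgroup.inclusion le_sup_left x) = φ x) ∧
        ((R ⊔ Q).subgroupOf (P ⊔ (R ⊔ Q))).map ψ = R ⊔ Q ∧
        (R.subgroupOf (P ⊔ (R ⊔ Q))).map ψ = R ∧ (Q.subgroupOf (P ⊔ (R ⊔ Q))).map ψ = Q := by
    intro P φ
    rw [hM P]
    constructor
    · rintro ⟨-, hP, hφU, ψ₁, hψ₁, he₁, hm₁⟩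
      rw [hN] at hψ₁
      obtain ⟨-, -, -, ψ₂, hψ₂, he₂, hm₂⟩ := hψ₁
      have hle : P ⊔ (R ⊔ Q) ≤ (P ⊔ R) ⊔ Q := le_of_eq (sup_assoc P R Q).symm
      set ψ := ψ₂.comp (Subgroup.inclusion hle) with hψdef
      have hmR : (R.subgroupOf (P ⊔ (R ⊔ Q))).map ψ = R := by
        refine (map_subgroupOf_restrict ψ₂ hle (le_sup_left.trans le_sup_right)).trans ?_
        exact (map_subgroupOf_congr (ψ := ψ₂) (χ := ψ₁) (le_sup_right.trans le_sup_left)
          le_sup_right fun x hx => he₂ ⟨x, Subgroup.mem_sup_right hx⟩).trans hm₁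
      have hmQ : (Q.subgroupOf (P ⊔ (R ⊔ Q))).map ψ = Q :=
        (map_subgroupOf_restrict ψ₂ hle (le_sup_right.trans le_sup_right)).trans hm₂
      refine ⟨hP, hφU, ψ, restrict_mem hψ₂ hle,
        fun x => ((apply_congr ψ₂ rfl).trans (he₂ (Subgroup.inclusion le_sup_left x))).trans
          (he₁ x), ?_, hmR, hmQ⟩
      rw [Subgroup.subgroupOf_sup (le_sup_left.trans le_sup_right)
        (le_sup_right.trans le_sup_right), Subgroup.map_sup, hmR, hmQ]
    · rintro ⟨hP, hφU, ψ, hψ, he, -, hmR, hmQ⟩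
      have hle : (P ⊔ R) ⊔ Q ≤ P ⊔ (R ⊔ Q) := le_of_eq (sup_assoc P R Q)
      have hle1 : P ⊔ R ≤ P ⊔ (R ⊔ Q) := sup_le_sup_left le_sup_left P
      have hPR : P ⊔ R ≤ normalizerIn S Q :=
        sup_le (hP.trans (normalizerIn_le_S (S := normalizerIn S Q) R)) hRfn.1
      have hψN : ψ.comp (Subgroup.inclusion hle1) ∈ N.Hom (P ⊔ R) := by
        rw [hN]
        refine ⟨restrict_mem hψ hle1, hPR, fun x => ?_, ψ.comp (Subgroup.inclusion hle),
          restrict_mem hψ hle, fun x => rfl,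
          (map_subgroupOf_restrict ψ hle le_sup_right).trans hmQ⟩
        have hP' : P ⊔ R ≤ ((normalizerIn S Q).comap ψ).map (P ⊔ (R ⊔ Q)).subtype := by
          refine sup_le (fun y hy => ⟨⟨y, Subgroup.mem_sup_left hy⟩, ?_, rfl⟩)
            fun y hy => ⟨⟨y, Subgroup.mem_sup_right (Subgroup.mem_sup_left hy)⟩, ?_, rfl⟩
          · show ψ ⟨y, _⟩ ∈ normalizerIn S Q
            exact Set.mem_of_eq_of_mem ((apply_congr ψ rfl).trans (he ⟨y, hy⟩))
              (normalizerIn_le_S (S := normalizerIn S Q) R (hφU _))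
          · exact hRfn.1 (hmR.le (apply_mem_map_subgroupOf ψ hy))
        obtain ⟨z, hz, hzx⟩ := hP' x.2
        exact Set.mem_of_eq_of_mem (apply_congr ψ hzx.symm) hz
      exact ⟨restrict_mem_of_eq hψN le_sup_left fun x => (he x).symm, hP, hφU,
        ψ.comp (Subgroup.inclusion hle1), hψN, fun x => he x,
        (map_subgroupOf_restrict ψ hle1 le_sup_right).trans hmR⟩
  have hsatM := normalizerSystem_saturated p hUp hsatN hRfn hM
  have := finite_of_le hTS
  have hker : ∀ γ ∈ F.autGroup (R ⊔ Q), γ ∈ stabX (R ⊔ Q) Q →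
      (∀ x : ↥(R ⊔ Q), (x : Ω) ∈ R → γ x = x) →
      ∃ z ∈ R, ∀ x : ↥(R ⊔ Q), ((γ x : ↥(R ⊔ Q)) : Ω) = z * x * z⁻¹ := by
    have hf : Finite (MulAut ↥(R ⊔ Q)) := finite_mulAut
    let K : Subgroup (MulAut ↥(R ⊔ Q)) :=
      { carrier := {γ | γ ∈ F.autGroup (R ⊔ Q) ∧ γ ∈ stabX (R ⊔ Q) Q ∧
          ∀ x : ↥(R ⊔ Q), (x : Ω) ∈ R → γ x = x}
        one_mem' := ⟨one_mem _, one_mem _, fun x _ => rfl⟩
        mul_mem' := fun {a b} ha hb => ⟨mul_mem ha.1 hb.1, mul_mem ha.2.1 hb.2.1, fun x hx => by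
          show a (b x) = x
          rw [hb.2.2 x hx, ha.2.2 x hx]⟩
        inv_mem' := fun {a} ha => ⟨inv_mem ha.1, inv_mem ha.2.1, fun x hx => by
          conv_lhs => rw [← ha.2.2 x hx, MulAut.inv_apply_self]⟩ }
    have hKA : K ≤ autR F Q ⊤ R := fun γ hγ => mem_autR.2 ⟨hγ.1, fun x => ⟨fun hx => by
        rw [← γ.injective (hγ.2.2 (γ x) hx)]
        exact hx, fun hx => by rw [hγ.2.2 x hx]; exact hx⟩,
      resHom le_sup_right ⟨γ, hγ.2.1⟩, trivial, fun q => rfl⟩
    have hKp : IsPGroup p K := by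
      intro γ
      obtain ⟨k, m, hm, hkm⟩ := Nat.exists_eq_pow_mul_and_not_dvd (orderOf_pos γ).ne' p
        (Fact.out : p.Prime).ne_one
      refine ⟨k, Subtype.ext ?_⟩
      have h1 : ((γ ^ p ^ k : K) : MulAut ↥(R ⊔ Q)) ^ m = 1 := by
        rw [← Subgroup.coe_pow, ← pow_mul, ← hkm, pow_orderOf_eq_one]; rfl
      refine eq_one_of_fix_pxq p (isPGroup_of_le hS (le_sup_left.trans hTS))
        (isPGroup_of_le hS (le_sup_right.trans hTS))
        (fun r hr => (hRfn.1 hr).2) ?_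
        ((Nat.Coprime.coprime_dvd_left (orderOf_dvd_of_pow_eq_one h1)
          ((Fact.out : p.Prime).coprime_iff_not_dvd.2 hm).symm))
        (γ ^ p ^ k).2.2.1 (γ ^ p ^ k).2.2.2
      exact fun q hq hc => centralizerIn_le_self hRc
        (mem_centralizerIn.2 ⟨le_normalizerIn hQ.1 hq, hc⟩)
    have hnorm : autR F Q ⊤ R ≤ Subgroup.normalizer (K : Set (MulAut ↥(R ⊔ Q))) := by
      intro a ha
      refine mem_normalizer_of_conj_mem (S := K) le_rfl fun γ hγ => ?_
      obtain ⟨ha1, ha2, k, -, hk⟩ := mem_autR.1 ha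
      obtain ⟨_, ⟨a', ha'⟩, hb, hbe⟩ := ha
      refine ⟨mul_mem (mul_mem ha1 hγ.1) (inv_mem ha1),
        mul_mem (mul_mem (hbe ▸ ha') hγ.2.1) (inv_mem (hbe ▸ ha')), fun x hx => ?_⟩
      show a (γ (a⁻¹ x)) = x
      rw [hγ.2.2 _ ((inv_mem ha2 x).2 hx), MulAut.apply_inv_self]
    have hKind : K ≤ indR S Q (T := normalizerIn S Q) R := by
      obtain ⟨m, hm, hmK⟩ := hsyl.exists_conj_le hKp hKA
      intro γ hγ
      have h1 := (Subgroup.mem_normalizer_iff''.1 (hnorm hm) γ).1 hγ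
      have h2 := hmK _ h1
      rwa [show m * (m⁻¹ * γ * m) * m⁻¹ = γ by group] at h2
    intro γ h1 h2 h3
    obtain ⟨g, hg, hgγ⟩ := hKind (⟨h1, h2, h3⟩ : γ ∈ K)
    refine ⟨g, centralizerIn_le_self hRc (mem_centralizerIn.2 ⟨hg.1, fun x hx => ?_⟩),
      fun x => ?_⟩
    · have h4 := congrArg (fun b : MulAut ↥(R ⊔ Q) =>
        ((b ⟨x, Subgroup.mem_sup_left hx⟩ : ↥(R ⊔ Q)) : Ω)) hgγ
      simp only [coe_conjAut, h3 ⟨x, Subgroup.mem_sup_left hx⟩ hx] at h4
      exact (mul_inv_eq_iff_eq_mul.1 h4).symm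
    · rw [← hgγ]; rfl
  obtain ⟨T', N', L', _, ι', H, hfn', hc', -, hN', hι', ⟨e⟩⟩ :=
    exists_model_embedding p hS hF hT (le_sup_left : R ≤ R ⊔ Q) le_sup_right hU
      (fun g hg => hg.2) (fun g hg => hg.1.2) hRU hE hsatM
      (isNormal_normalizerSystem hRfn.1 hM) (isCentric_normalizerSystem hRc hM) hCle hker hι
  exact hfree T' hfn' hc' N' hN' L' ι' hι' (ZJ.involves_of_hom H e.symm.toMonoidHom
    e.symm.surjective hX)

end CfsgLib.Fusion
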