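import Cfsg.Agent.Fusion.InnerZJ
import Cfsg.Agent.Fusion.Quotient
import Cfsg.Agent.Fusion.SectionFree

/-!
Thompson's criterion for inner fusion systems.
-/

set_option autoImplicit false

open Cfsg Cfsg.FusionSystem

namespace CfsgLib.Fusion

universe u

variable {Ω : Type u} [Group Ω] {S : Subgroup Ω} {F : FusionSystem S}

/-- All maps of `C_F(Z)` are conjugations by elements of `C_S(Z)`. -/
def CentInner (F : FusionSystem S) (Z : Subgroup Ω) : Prop :=
  ∀ (P : Subgroup Ω) (φ : P →* Ω), φ ∈ F.centralizerHom Z P →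
    ∃ g ∈ centralizerIn S Z, ∀ x : P, φ x = g * x * g⁻¹

theorem centInner_iff {Z : Subgroup Ω} (hZ : Z ≤ S) :
    CentInner F Z ↔ ∀ C : FusionSystem (centralizerIn S Z), F.IsCentralizerSystem Z C →
      ∀ P : Subgroup Ω, C.Hom P = (innerFusionSystem (centralizerIn S Z)).Hom P := by
  constructor
  · intro h C hC P
    refine (isInner_iff.1 (fun R φ hφ => ?_)) P
    rw [hC] at hφ
    exact h R φ hφ
  · intro h P φ hφ
    exact (isInner_iff.2 (h _ (centSystem_spec F Z hZ))) P φ hφ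

theorem CentInner.of_le {E : FusionSystem S} (hle : ∀ P, E.Hom P ⊆ F.Hom P) {Z : Subgroup Ω}
    (h : CentInner F Z) : CentInner E Z := by
  rintro P φ ⟨hφ, hP, hN, ψ, hψ, he, hm⟩
  exact h P φ ⟨hle _ hφ, hP, hN, ψ, hle _ hψ, he, hm⟩

/-- The centre of `S`, inside the ambient group. -/
theorem isCharIn_center : IsCharIn S (S ⊓ Subgroup.centralizer (S : Set Ω)) := by
  refine ⟨inf_le_left, fun a x => ?_⟩
  have h : ∀ y : S, ((y : Ω) ∈ S ⊓ Subgroup.centralizer (S : Set Ω)) ↔ y ∈ Subgroup.center S :=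
    fun y => ⟨fun hy => Subgroup.mem_center_iff.2 fun z =>
        Subtype.ext (Subgroup.mem_centralizer_iff.1 hy.2 z z.2),
      fun hy => ⟨y.2, Subgroup.mem_centralizer_iff.2 fun z hz =>
        congrArg Subtype.val (Subgroup.mem_center_iff.1 hy ⟨z, hz⟩)⟩⟩
  rw [h, h]
  constructor
  · intro hax
    refine Subgroup.mem_center_iff.2 fun z => a.injective ?_
    rw [map_mul, map_mul]
    exact Subgroup.mem_center_iff.1 hax (a z)
  · intro hx
    refine Subgroup.mem_center_iff.2 fun z => ?_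
    obtain ⟨w, rfl⟩ := a.surjective z
    rw [← map_mul, ← map_mul, Subgroup.mem_center_iff.1 hx w]

theorem centerAmbient_eq :
    S ⊓ Subgroup.centralizer (S : Set Ω) = (Subgroup.center S).map S.subtype := by
  ext x
  constructor
  · rintro ⟨hx, hc⟩
    exact ⟨⟨x, hx⟩, Subgroup.mem_center_iff.2 fun z =>
      Subtype.ext (Subgroup.mem_centralizer_iff.1 hc z z.2), rfl⟩
  · rintro ⟨⟨x, hx⟩, hc, rfl⟩
    exact ⟨hx, Subgroup.mem_centralizer_iff.2 fun z hz =>
      congrArg Subtype.val (Subgroup.mem_center_iff.1 hc ⟨z, hz⟩)⟩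

theorem centerAmbient_ne_bot [Finite S] {p : ℕ} [Fact p.Prime] (hS : IsPGroup p S) (h : S ≠ ⊥) :
    S ⊓ Subgroup.centralizer (S : Set Ω) ≠ ⊥ := by
  rw [centerAmbient_eq]
  exact fun hb => center_ne_bot hS h
    ((Subgroup.map_eq_bot_iff_of_injective _ S.subtype_injective).1 hb)

variable [Finite S]

theorem centInner_of_innerAt {Z : Subgroup Ω} (hc : S ≤ Subgroup.centralizer (Z : Set Ω))
    (h : InnerAt F Z) : CentInner F Z := by
  rintro P φ ⟨hφ, hP, hN, ψ, hψ, he, hm⟩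
  have hcn : centralizerIn S Z ≤ normalizerIn S Z :=
    fun x hx => ⟨hx.1, Subgroup.centralizer_le_normalizer _ hx.2⟩
  have hm' : (Z.subgroupOf (P ⊔ Z)).map ψ = Z := by
    ext y
    rw [mem_map_subgroupOf]
    constructor
    · rintro ⟨x, hx, hxZ, rfl⟩
      exact Set.mem_of_eq_of_mem (hm ⟨x, hxZ⟩) hxZ
    · exact fun hy => ⟨y, Subgroup.mem_sup_right hy, hy, hm ⟨y, hy⟩⟩
  obtain ⟨g, hg, hgx⟩ := h P φ ⟨hφ, hP.trans hcn, fun x => hcn (hN x), ψ, hψ, he, hm'⟩
  exact ⟨g, mem_centralizerIn.2 ⟨hg.1, fun z hz =>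
    Subgroup.mem_centralizer_iff.1 (hc hg.1) z hz⟩, hgx⟩

/-- In a model, the centralizer of `Z ≤ Z(S)` is inside the image of `S` when `C_F(Z)` is inner. -/
theorem centralizer_img_le_range (p : ℕ) [Fact p.Prime] (hS : IsPGroup p S) {G : Type*} [Group G]
    {ι : S →* G} (h : F.IsModel p G ι) {Q : Subgroup Ω} (hQ : F.IsNormal Q) (hQc : F.IsCentric Q)
    {Z : Subgroup Ω} (hZS : Z ≤ S) (hZ : S ≤ Subgroup.centralizer (Z : Set Ω))
    (hinn : CentInner F Z) :
    Subgroup.centralizer (img ι Z : Set G) ≤ ι.range := by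
  intro g hg
  have hn := normal_img_of_isNormal p h hQ
  have hcle := centralizer_img_le p hS h hQ hQc
  obtain ⟨-, hr, -, -⟩ := h
  have hCS : S ≤ centralizerIn S Z := fun x hx => ⟨hx, hZ hx⟩
  have hP : Q ⊔ Z ≤ S := sup_le hQ.1 hZS
  have hfix : ∀ x : S, (x : Ω) ∈ Z → g * ι x * g⁻¹ = ι x := fun x hx => by
    rw [← Subgroup.mem_centralizer_iff.1 hg _ (apply_mem_img hx), mul_inv_cancel_right]
  have hle : Q ⊔ Z ≤
      (ι.range.comap ((MulAut.conj g).toMonoidHom.comp ι)).map S.subtype := by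
    refine sup_le (fun x hx => ⟨⟨x, hQ.1 hx⟩, ?_, rfl⟩) fun x hx => ⟨⟨x, hZS hx⟩, ?_, rfl⟩
    · exact img_le_range Q (hn.conj_mem _ (apply_mem_img (ι := ι) (x := ⟨x, hQ.1 hx⟩) hx) g)
    · exact ⟨_, (hfix ⟨x, hZS hx⟩ hx).symm⟩
  obtain ⟨φ, hφ, hφι⟩ := exists_realized_hom hr hP (g := g) fun x => by
    obtain ⟨y, hy, hyx⟩ := hle x.2
    rw [← show y = ⟨x, hP x.2⟩ from Subtype.ext hyx]
    exact hy
  have hsub : (Q ⊔ Z) ⊔ Z ≤ Q ⊔ Z := sup_le le_rfl le_sup_right
  obtain ⟨s, hs, hsx⟩ := hinn (Q ⊔ Z) φ ⟨hφ, hP.trans hCS, fun x => hCS (apply_mem_S hφ x),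
    φ.comp (Subgroup.inclusion hsub), restrict_mem hφ hsub, fun x => rfl, fun x =>
      congrArg Subtype.val (hr.1 (a₁ := ⟨_, apply_mem_S hφ _⟩) (a₂ := ⟨x, hZS x.2⟩)
        ((hφι _).trans (hfix ⟨x, hZS x.2⟩ x.2)))⟩
  let s' : S := ⟨s, hs.1⟩
  have hc : (ι s')⁻¹ * g ∈ Subgroup.centralizer (img ι Q : Set G) := by
    refine Subgroup.mem_centralizer_iff.2 ?_
    rintro _ ⟨x, hx, rfl⟩
    have h1 := hφι ⟨x, Subgroup.mem_sup_left hx⟩
    rw [show (⟨φ ⟨x, Subgroup.mem_sup_left hx⟩, apply_mem_S hφ _⟩ : S) = s' * x * s'⁻¹ from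
      Subtype.ext (hsx ⟨x, Subgroup.mem_sup_left hx⟩), map_mul, map_mul, map_inv] at h1
    calc ι x * ((ι s')⁻¹ * g) = (ι s')⁻¹ * (ι s' * ι x * (ι s')⁻¹) * g := by group
      _ = (ι s')⁻¹ * (g * ι x * g⁻¹) * g := by rw [h1]
      _ = (ι s')⁻¹ * g * ι x := by group
  rw [show g = ι s' * ((ι s')⁻¹ * g) by group]
  exact mul_mem ⟨_, rfl⟩ (img_le_range Q (hcle hc))

/-- A section absent from the local models is absent from the model. -/
theorem not_involves_model (p : ℕ) [Fact p.Prime] {X : Type*} [Group X]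
    (hfree : F.IsSectionFree p X) {G : Type u} [Group G] {ι : S →* G}
    (h : F.IsModel p G ι) {Q : Subgroup Ω} (hQ : F.IsNormal Q) (hQc : F.IsCentric Q) :
    ¬ Involves X G := by
  have hNS : normalizerIn S Q = S :=
    le_antisymm (normalizerIn_le_S Q) fun x hx => ⟨hx, normal_S_le_normalizer hQ hx⟩
  have hfn : F.IsFullyNormalized Q := ⟨hQ.1, fun R _ => by
    rw [hNS]; exact card_le_of_le le_rfl (normalizerIn_le_S R)⟩
  have hspec := normSystem_spec F Q hQ.1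
  obtain ⟨hfin, hr, ⟨T, hT⟩, hC⟩ := h
  refine hfree Q hfn hQc _ hspec G (ι.comp (Subgroup.inclusion (normalizerIn_le_S Q)))
    ⟨hfin, ⟨hr.1.comp (Subgroup.inclusion_injective _), fun P hP φ hφ => ?_⟩, ⟨T, ?_⟩, hC⟩
  · refine Iff.trans ?_ (hr.2 P (hP.trans (normalizerIn_le_S Q)) φ
      (fun x => normalizerIn_le_S Q (hφ x)))
    rw [hspec]
    refine ⟨fun hmem => hmem.1, fun hmem => ⟨hmem, hP, hφ, ?_⟩⟩
    obtain ⟨ψ, hψ, he, hm⟩ := hQ.2 P φ hmem
    exact ⟨ψ, hψ, he, hm⟩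
  · rw [hT]
    ext y
    constructor
    · rintro ⟨s, rfl⟩
      exact ⟨⟨s, hNS.ge s.2⟩, rfl⟩
    · rintro ⟨s, rfl⟩
      exact ⟨_, rfl⟩

/-- Thompson's criterion for constrained systems. -/
theorem isInner_of_constrained_thompson (p : ℕ) [Fact p.Prime] (hS : IsPGroup p S)
    (hF : F.IsConstrained p) (hp : p ≠ 2 ∨ F.IsSectionFree p (Equiv.Perm (Fin 4)))
    (hC : CentInner F (S ⊓ Subgroup.centralizer (S : Set Ω)))
    (hJ : InnerAt F (thompsonSubgroupAOf S)) : IsInner F := by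
  obtain ⟨hFs, Q, hQ, hQc⟩ := hF
  obtain ⟨G, hG, ι, hm⟩ := exists_model p hS hFs hQ hQc
  have hch := isCharIn_thompsonAOf (S := S)
  have hNle := normalizer_img_le p hS hm hQ hQc hch.1 hch.le_normalizer hJ
  have hCle := centralizer_img_le_range p hS hm hQ hQc inf_le_left
    (fun x hx => Subgroup.mem_centralizer_iff.2 fun z hz =>
      (Subgroup.mem_centralizer_iff.1 hz.2 x hx).symm) hC
  have hfree : p ≠ 2 ∨ ¬ Involves (Equiv.Perm (Fin 4)) G :=
    hp.imp id fun h => not_involves_model p h hm hQ hQc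
  have := hm.1
  obtain ⟨T, hT⟩ := hm.2.2.1
  have hinj := hm.2.1.1
  refine isInner_of_range_top hm.2.1 (range_eq_top_of_hasNormalPComplement hm ?_)
  refine CfsgLib.ZJ.hasNormalPComplement_thompsonA G T hfree ?_ ?_
  · refine hasNormalPComplement_of_isPGroup (T.2.to_le ?_)
    rw [hT]
    refine le_trans (Subgroup.centralizer_le ?_) hCle
    rintro _ ⟨x, hx, rfl⟩
    exact ⟨⟨x, rfl⟩, Subgroup.mem_centralizer_iff.2 fun _ ⟨z, hz⟩ => by
      rw [← hz, ← map_mul, ← map_mul,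
        show z * x = x * z from Subtype.ext (Subgroup.mem_centralizer_iff.1 hx.2 z z.2)]⟩
  · refine hasNormalPComplement_of_isPGroup (T.2.to_le ?_)
    rw [hT, thompsonAOf_range ι hinj]
    rw [thompsonAOf_eq, img_map_subtype] at hNle
    exact hNle

theorem thompsonLoc_of_char (p : ℕ) [Fact p.Prime] (hS : IsPGroup p S) (hne : S ≠ ⊥)
    (h : ∀ C, IsCharIn S C → C ≠ ⊥ → InnerAt F C) :
    CentInner F (S ⊓ Subgroup.centralizer (S : Set Ω)) ∧ InnerAt F (thompsonSubgroupAOf S) := by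
  refine ⟨centInner_of_innerAt ?_ (h _ isCharIn_center (centerAmbient_ne_bot hS hne)),
    h _ isCharIn_thompsonAOf (thompsonAOf_ne_bot hS hne)⟩
  exact fun x hx => Subgroup.mem_centralizer_iff.2 fun z hz =>
    (Subgroup.mem_centralizer_iff.1 hz.2 x hx).symm

/-- The data of Thompson's criterion. -/
def criterionThompson (p : ℕ) [Fact p.Prime] : InnerCriterion.{u} p where
  Free := fun {_} _ {_} F => p ≠ 2 ∨ F.IsSectionFree p (Equiv.Perm (Fin 4))
  Loc := fun {Ω'} _ {S'} F =>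
    CentInner F (S' ⊓ Subgroup.centralizer (S' : Set Ω')) ∧ InnerAt F (thompsonSubgroupAOf S')
  free_norm := fun _ _ _ hfin hS hF hfn hE h =>
    haveI := hfin
    h.imp id fun h => sectionFree_normalizerSystem p hS hF h hfn hE
  free_factor := by
    intro _ _ _ F Q _ _ _ θ E hfin hS hF hQ hE h
    haveI := hfin
    exact h.imp id fun h => sectionFree_factor p hS hF (stronglyClosed_of_isNormal hQ) h hE
  loc_of_char := fun _ hfin hS hne _ h =>
    haveI := hfin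
    thompsonLoc_of_char p hS hne h
  loc_mono := fun _ _ hle h => ⟨h.1.of_le hle, h.2.of_le hle⟩
  group := fun _ hfin hS hF hfree hL =>
    haveI := hfin
    isInner_of_constrained_thompson p hS hF hfree hL.1 hL.2

/-- `F` is inner as soon as `C_F(Z(S))` and `N_F(J(S))` are. -/
theorem isInner_of_thompson (p : ℕ) [Fact p.Prime] (hS : IsPGroup p S) (hF : F.IsSaturated p)
    (hp : p ≠ 2 ∨ F.IsSectionFree p (Equiv.Perm (Fin 4)))
    (hC : CentInner F (S ⊓ Subgroup.centralizer (S : Set Ω)))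
    (hJ : InnerAt F (thompsonSubgroupAOf S)) : IsInner F :=
  isInner_of_criterion p (criterionThompson p) (Nat.card S) S F inferInstance hS rfl hF hp ⟨hC, hJ⟩

end CfsgLib.Fusion
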