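import Cfsg.Agent.Fusion.InnerAction
import Cfsg.Agent.Fusion.InnerThompson
import Cfsg.Agent.Fusion.Quotient

/-!
A Glauberman functor gives a normal subgroup of every saturated system free of the section.
-/

set_option autoImplicit false
set_option linter.style.haveILetI false

open Cfsg Cfsg.FusionSystem

namespace CfsgLib.Fusion

universe u w

/-! ### Counting maps -/

/-- The maps of a system, as a set. -/
def homSet {Ω : Type u} [Group Ω] {S : Subgroup Ω} (F : FusionSystem S) :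
    Set (Σ P : {P : Subgroup Ω // P ≤ S}, ((P : Subgroup Ω) →* S)) :=
  {x | S.subtype.comp x.2 ∈ F.Hom (x.1 : Subgroup Ω)}

/-- The number of maps of a system. -/
noncomputable def homCount {Ω : Type u} [Group Ω] {S : Subgroup Ω} (F : FusionSystem S) : ℕ :=
  (homSet F).ncard

theorem finite_homSet {Ω : Type u} [Group Ω] {S : Subgroup Ω} [Finite S] (F : FusionSystem S) :
    (homSet F).Finite := by
  have : Finite {P : Subgroup Ω // P ≤ S} := (finite_setOf_le S le_rfl).to_subtype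
  have : ∀ P : {P : Subgroup Ω // P ≤ S}, Finite ((P : Subgroup Ω) →* S) := fun P => by
    have := finite_of_le P.2
    exact Finite.of_injective (fun (f : (P : Subgroup Ω) →* S) => ⇑f) DFunLike.coe_injective
  exact Set.toFinite _

theorem homCount_lt {Ω : Type u} [Group Ω] {S : Subgroup Ω} [Finite S] {E F : FusionSystem S}
    (hle : ∀ P, E.Hom P ⊆ F.Hom P) (hne : ∃ P, ¬ F.Hom P ⊆ E.Hom P) :
    homCount E < homCount F := by
  refine Set.ncard_lt_ncard ⟨fun x hx => hle _ hx, fun h => ?_⟩ (finite_homSet F)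
  obtain ⟨P, hP⟩ := hne
  obtain ⟨φ, hφ, hφE⟩ := Set.not_subset.1 hP
  exact hφE (h (a := ⟨⟨P, le_of_mem_hom hφ⟩, φ.codRestrict S (apply_mem_S hφ)⟩) hφ)

/-! ### The functor -/

/-- The value of the functor at a subgroup, inside the ambient group. -/
def wOf (W : ∀ (Q : Type u) [Group Q], Subgroup Q) {Ω : Type u} [Group Ω] (V : Subgroup Ω) :
    Subgroup Ω :=
  (W ↥V).map V.subtype

section

variable (p : ℕ) (W : ∀ (Q : Type u) [Group Q], Subgroup Q)

/-- The hypotheses on the functor: positive, characteristic, and normal in the free groups with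
`C(O_p) ≤ O_p`. -/
structure IsFunctorFor (X : Type w) [Group X] : Prop where
  ne_bot : ∀ (Q : Type u) [Group Q] [Finite Q], IsPGroup p Q → Nontrivial Q → W Q ≠ ⊥
  map : ∀ (Q R : Type u) [Group Q] [Group R] [Finite Q], IsPGroup p Q → ∀ φ : Q ≃* R,
    (W Q).map φ.toMonoidHom = W R
  normal : ∀ (L : Type u) [Group L] [Finite L] (P : Sylow p L),
    Subgroup.centralizer ((pCore p L : Subgroup L) : Set L) ≤ pCore p L → ¬ Involves X L →
      ((W ↥(P : Subgroup L)).map (P : Subgroup L).subtype).Normal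

variable {p W} {X : Type w} [Group X] (hW : IsFunctorFor p W X)
variable {Ω : Type u} [Group Ω] {S : Subgroup Ω} {F : FusionSystem S} [Finite S]

include hW

theorem IsFunctorFor.isCharIn {V : Subgroup Ω} [Finite V] (hV : IsPGroup p V) :
    IsCharIn V (wOf W V) :=
  isCharIn_map fun a => hW.map _ _ hV a

theorem IsFunctorFor.wOf_ne_bot {V : Subgroup Ω} [Finite V] (hV : IsPGroup p V) (h : V ≠ ⊥) :
    wOf W V ≠ ⊥ := by
  haveI := (Subgroup.nontrivial_iff_ne_bot V).2 h
  intro hb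
  exact hW.ne_bot V hV inferInstance
    ((Subgroup.map_eq_bot_iff_of_injective _ V.subtype_injective).1 hb)

/-- The constrained case. -/
theorem IsFunctorFor.isNormal_of_constrained [Fact p.Prime] (hS : IsPGroup p S)
    (hF : F.IsSaturated p) (hfree : F.IsSectionFree p X) {Q : Subgroup Ω} (hQ : F.IsNormal Q)
    (hQc : F.IsCentric Q) : F.IsNormal (wOf W S) := by
  obtain ⟨G, hG, ι, hm⟩ := exists_model p hS hF hQ hQc
  have := hm.1
  obtain ⟨T, hT⟩ := hm.2.2.1
  have hn := hW.normal G T hm.2.2.2 (not_involves_model p hfree hm hQ hQc)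
  let e : S ≃* (T : Subgroup G) :=
    (MonoidHom.ofInjective hm.2.1.1).trans (MulEquiv.subgroupCongr hT.symm)
  have he : (W ↥(T : Subgroup G)).map (T : Subgroup G).subtype = (W ↥S).map ι := by
    rw [← hW.map S _ hS e, Subgroup.map_map]
    rfl
  rw [he] at hn
  have h1 := isNormal_preimg_of_normal hm.2.1 hn (Subgroup.map_le_range ι _)
  rwa [show preimg ι ((W ↥S).map ι) = wOf W S by
    unfold preimg wOf
    rw [Subgroup.comap_map_eq_self_of_injective hm.2.1.1]] at h1

omit hW in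
/-- Transport of maps through a map between normalizers. -/
theorem mem_of_transport {E₀ : FusionSystem S} {D D' V : Subgroup Ω} (hVD : V ≤ normalizerIn S D)
    {χ : ↥(normalizerIn S D) →* Ω} (hχ : χ ∈ E₀.Hom (normalizerIn S D))
    (hχF : χ ∈ F.Hom (normalizerIn S D)) (hχN : ∀ x, χ x ∈ normalizerIn S D')
    (hχD : (D.subgroupOf (normalizerIn S D)).map χ = D')
    (hD' : ∀ P : Subgroup Ω, F.normalizerHom D' P ⊆ E₀.Hom P)
    {P : Subgroup Ω} (hPV : P ≤ V) (hDP : D ≤ P) {ψ : P →* Ω} (hψ : ψ ∈ F.Hom P)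
    (hψV : ∀ x, ψ x ∈ V) (hm : (D.subgroupOf P).map ψ = D) : ψ ∈ E₀.Hom P := by
  have hPN : P ≤ normalizerIn S D := hPV.trans hVD
  let P' : Subgroup Ω := (P.subgroupOf (normalizerIn S D)).map χ
  have hP'r : P' ≤ χ.range := Subgroup.map_le_range _ _
  have hP'N : P' ≤ normalizerIn S D' := by rintro _ ⟨x, -, rfl⟩; exact hχN x
  obtain ⟨χi, hχi, -, hχi1, -⟩ := exists_inv hχF (rfl : χ.range = χ.range)
  obtain ⟨χj, hχj, -, hχj1, -⟩ := exists_inv hχ (rfl : χ.range = χ.range)
  have hmem : ∀ y : P', χi (Subgroup.inclusion hP'r y) ∈ P := by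
    rintro ⟨_, z, hz, rfl⟩
    exact Set.mem_of_eq_of_mem (hχi1 z (hP'r ⟨z, hz, rfl⟩)) hz
  let ψ' : P' →* Ω := χ.comp ((ψ.comp ((χi.comp (Subgroup.inclusion hP'r)).codRestrict P
    hmem)).codRestrict _ fun y => hVD (hψV _))
  have hψ' : ψ' ∈ F.Hom P' :=
    F.comp_mem (F.comp_mem (restrict_mem hχi hP'r) hψ hmem) hχF _
  have hval : ∀ (x : P) (hx : χ (Subgroup.inclusion hPN x) ∈ P'),
      ψ' ⟨_, hx⟩ = χ ⟨ψ x, hVD (hψV x)⟩ := fun x hx =>
    apply_congr χ (apply_congr ψ (hχi1 _ (hP'r hx)))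
  have hD'P : D' ≤ P' := fun y hy => by
    obtain ⟨z, hz, hzD, rfl⟩ := mem_map_subgroupOf.1 (hχD.ge hy)
    exact ⟨⟨z, hz⟩, hDP hzD, rfl⟩
  have hmD' : (D'.subgroupOf P').map ψ' = D' := by
    ext y
    rw [mem_map_subgroupOf]
    constructor
    · rintro ⟨w, hw, hwD, rfl⟩
      obtain ⟨z, hz, hzD, rfl⟩ := mem_map_subgroupOf.1 (hχD.ge hwD)
      refine Set.mem_of_eq_of_mem ((apply_congr ψ' rfl).trans (hval ⟨z, hDP hzD⟩ hw))
        (hχD.le (apply_mem_map_subgroupOf χ ?_))
      exact hm.le (apply_mem_map_subgroupOf ψ (x := ⟨z, hDP hzD⟩) hzD)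
    · intro hy
      obtain ⟨z, hz, hzD, rfl⟩ := mem_map_subgroupOf.1 (hχD.ge hy)
      obtain ⟨w, hw, hwD, rfl⟩ := mem_map_subgroupOf.1 (hm.ge hzD)
      exact ⟨_, ⟨⟨w, hPN hw⟩, hw, rfl⟩, hχD.le (apply_mem_map_subgroupOf χ hwD),
        hval ⟨w, hw⟩ ⟨⟨w, hPN hw⟩, hw, rfl⟩⟩
  have hsub : P' ⊔ D' ≤ P' := sup_le le_rfl hD'P
  have hψ'E : ψ' ∈ E₀.Hom P' := hD' P' ⟨hψ', hP'N, fun y => hχN _,
    ψ'.comp (Subgroup.inclusion hsub), restrict_mem hψ' hsub, fun y => rfl, by
      rw [map_subgroupOf_congr (ψ := ψ'.comp (Subgroup.inclusion hsub)) (χ := ψ') le_sup_right hD'P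
        fun _ _ => rfl, hmD']⟩
  have hin : ∀ x : P, χ (Subgroup.inclusion hPN x) ∈ P' := fun x => ⟨_, x.2, rfl⟩
  have hr : ∀ x : P, (ψ'.comp ((χ.comp (Subgroup.inclusion hPN)).codRestrict P' hin)) x ∈
      χ.range := fun x => ⟨_, rfl⟩
  refine comp_mem_of_eq (E₀.comp_mem (restrict_mem hχ hPN) hψ'E hin) hχj hr fun x => ?_
  exact ((apply_congr χj (hval x (hin x))).trans (hχj1 ⟨ψ x, hVD (hψV x)⟩ ⟨_, rfl⟩)).symm

/-- **The theorem**: the value of the functor at `S` is normal in every free saturated system. -/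
theorem IsFunctorFor.isNormal [Fact p.Prime] :
    ∀ (n : ℕ) {Ω : Type u} [Group Ω] (S : Subgroup Ω) (F : FusionSystem S), Finite S →
      IsPGroup p S → Nat.card S = n → F.IsSaturated p → F.IsSectionFree p X →
      F.IsNormal (wOf W S) := by
  intro n
  induction n using Nat.strong_induction_on with
  | _ n ihn =>
  intro Ω _ S F hfin hS hn hF hfree
  obtain ⟨m, hmF⟩ : ∃ m, homCount F = m := ⟨_, rfl⟩
  induction m using Nat.strong_induction_on generalizing F with
  | _ m ihm =>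
  by_cases hS1 : S = ⊥
  · have hw : wOf W S = ⊥ := eq_bot_iff.2 ((Subgroup.map_subtype_le _).trans hS1.le)
    rw [hw]
    exact isNormal_bot
  have hch := hW.isCharIn hS (V := S)
  have hWn : normalizerIn S (wOf W S) = S := hch.normalizerIn_eq
  obtain ⟨E₀, hE₀⟩ := exists_congr_system (normSystem F (wOf W S) hch.1) hWn
  suffices hgoal : ∀ P, F.Hom P ⊆ E₀.Hom P by
    refine ⟨hch.1, fun P φ hφ => ?_⟩
    have h1 := hgoal P hφ
    rw [hE₀] at h1
    exact h1.2.2.2
  -- proper subsystems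
  have sub : ∀ E : FusionSystem S, (∀ P, E.Hom P ⊆ F.Hom P) → (∃ P, ¬ F.Hom P ⊆ E.Hom P) →
      E.IsSaturated p → E.IsSectionFree p X → ∀ P, E.Hom P ⊆ E₀.Hom P := by
    intro E hle hne hEs hEfree P φ hφ
    have hEn := ihm _ (hmF ▸ homCount_lt hle hne) E hEs hEfree rfl
    obtain ⟨ψ, hψ, he, hm⟩ := hEn.2 P φ hφ
    rw [hE₀]
    exact ⟨hle _ hφ, (le_of_mem_hom hφ).trans hWn.ge, fun x => hWn.ge (apply_mem_S hφ x),
      ψ, hle _ hψ, he, hm⟩
  -- normal subgroups of `S` that are not normal in the system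
  have hnonnormal : ∀ U : Subgroup Ω, U ≤ S → S ≤ Subgroup.normalizer (U : Set Ω) →
      ¬ F.IsNormal U → ∀ P, F.normalizerHom U P ⊆ E₀.Hom P := by
    intro U hU hUn hnn
    have hNS : normalizerIn S U = S :=
      le_antisymm (normalizerIn_le_S U) fun x hx => ⟨hx, hUn hx⟩
    have hfn : F.IsFullyNormalized U := ⟨hU, fun R _ => by
      rw [hNS]; exact card_le_of_le le_rfl (normalizerIn_le_S R)⟩
    obtain ⟨E, hE, hEs, hEfree, -, hEF, -⟩ :=
      exists_normSystem_eq p hS hF (fun {_} E => E.IsSectionFree p X) hU hUn fun E hE =>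
        sectionFree_normalizerSystem p hS hF hfree hfn hE
    intro P φ hφ
    refine sub E hEF ?_ hEs hEfree P (hE P ▸ hφ)
    by_contra hcon
    push Not at hcon
    refine hnn ⟨hU, fun R χ hχ => ?_⟩
    have h1 := hcon R hχ
    rw [hE] at h1
    exact h1.2.2.2
  by_cases hphase : ∀ U : Subgroup Ω, U ≠ ⊥ → ¬ F.IsNormal U
  · -- no normal subgroup
    have hall : ∀ (k : ℕ) (U : Subgroup Ω), Nat.card S - Nat.card (normalizerIn S U) = k →
        U ≠ ⊥ → F.IsFullyNormalized U → ∀ P, F.normalizerHom U P ⊆ E₀.Hom P := by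
      intro k
      induction k using Nat.strong_induction_on with
      | _ k ihk =>
      intro U hk hU1 hfn
      set V := normalizerIn S U with hV
      by_cases hVS : S ≤ V
      · exact hnonnormal U hfn.1 (fun g hg => (hVS hg).2) (hphase U hU1)
      have hVS' : V ≤ S := normalizerIn_le_S U
      have := finite_of_le hVS'
      have hVp := isPGroup_of_le hS hVS'
      have hspec := normSystem_spec F U hfn.1
      have hVlt : Nat.card V < Nat.card S :=
        lt_of_le_of_ne (card_le_of_le le_rfl hVS') fun he =>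
          hVS (eq_of_le_of_card_le le_rfl hVS' he.ge).ge
      have hUV : U ≤ V := le_normalizerIn hfn.1
      have hV1 : V ≠ ⊥ := fun h => hU1 (eq_bot_iff.2 (h ▸ hUV))
      have hDnorm := ihn _ (hn ▸ hVlt) V (normSystem F U hfn.1) inferInstance hVp rfl
        (normalizerSystem_saturated p hS hF hfn hspec)
        (sectionFree_normalizerSystem p hS hF hfree hfn hspec)
      have hDch := hW.isCharIn hVp (V := V)
      have hD1 := hW.wOf_ne_bot hVp hV1
      set D := wOf W V
      have hDS : D ≤ S := hDch.1.trans hVS'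
      obtain ⟨D', hD', hD'fn⟩ := exists_fullyNormalized F hDS
      obtain ⟨hfa, hrec⟩ := good_of_fullyNormalized p hS hF hD'fn
      obtain ⟨χ, hχ, hχN, hχD⟩ := exists_map_normalizer p hS hfa hrec hD'
      have hVN : V ≤ normalizerIn S D := fun g hg => ⟨hVS' hg, hDch.le_normalizer hg⟩
      have hVV : V < normalizerIn S D := by
        refine lt_of_le_of_ne hVN fun he => ?_
        obtain ⟨g, hg, hgV⟩ := SetLike.exists_of_lt (lt_normalizerIn p hS le_rfl
          (lt_of_le_not_ge hVS' hVS))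
        refine hgV (he.ge ⟨hg.1, mem_normalizer_of_conj_mem hDS fun x hx => ?_⟩)
        have hst : conjAut S V ⟨g, hg⟩ ∈ stabX V D := hDch.2 _
        exact (hst ⟨x, hDch.1 hx⟩).2 hx
      have hcard1 : Nat.card V < Nat.card (normalizerIn S D) :=
        lt_of_le_of_ne (card_le_of_le (normalizerIn_le_S D) hVN) fun he =>
          hVV.ne (eq_of_le_of_card_le (normalizerIn_le_S D) hVN he.ge)
      have hgood : ∀ Y : Subgroup Ω, (Y = S ∨ F.IsEssential p Y) →
          Nat.card (normalizerIn S D) ≤ Nat.card Y → F.autGroup Y ≤ E₀.autGroup Y := by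
        intro Y hY hcY α hα
        have hYS : Y ≤ S := by
          rcases hY with rfl | h
          exacts [le_rfl, h.1.1]
        have hYfn : F.IsFullyNormalized Y := by
          rcases hY with rfl | h
          exacts [isFullyNormalized_S, h.2.1]
        have h2 : Nat.card Y ≤ Nat.card (normalizerIn S Y) :=
          card_le_of_le (normalizerIn_le_S Y) (le_normalizerIn hYS)
        have hY1 : Y ≠ ⊥ := by
          rintro rfl
          rw [Subgroup.card_bot] at hcY
          have := Nat.card_pos (α := V)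
          omega
        have h3 := card_le_of_le le_rfl (normalizerIn_le_S (S := S) Y)
        have hsub : Y ⊔ Y ≤ Y := sup_le le_rfl le_rfl
        refine (autGroup_carrier hYS).2 (ihk _ (by omega) Y rfl hY1 hYfn Y
          ⟨(autGroup_carrier hYS).1 hα, le_normalizerIn hYS,
            fun x => le_normalizerIn hYS (α x).2,
            (Y.subtype.comp α.toMonoidHom).comp (Subgroup.inclusion hsub),
            restrict_mem ((autGroup_carrier hYS).1 hα) hsub, fun x => rfl, ?_⟩)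
        rw [map_subgroupOf_congr (ψ := (Y.subtype.comp α.toMonoidHom).comp
          (Subgroup.inclusion hsub)) (χ := Y.subtype.comp α.toMonoidHom) le_sup_right
          le_rfl fun _ _ => rfl, map_subgroupOf_self, range_subtype_comp]
      have hχ₀ := alperin_above p hS hF E₀ _ hgood _ le_rfl hχ
      have hD'1 : D' ≠ ⊥ := by
        intro h
        have := IsConj.card_eq hD'
        rw [h, Subgroup.card_bot] at this
        exact hD1 (Subgroup.eq_bot_of_card_eq D this.symm)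
      have hcardN : Nat.card V < Nat.card (normalizerIn S D') := by
        have := finite_of_le (normalizerIn_le_S (S := S) D')
        have h1 : Nat.card (normalizerIn S D) ≤ Nat.card (normalizerIn S D') :=
          Nat.card_le_card_of_injective (fun x => ⟨_, hχN x⟩) fun a b hab =>
            F.injective_of_mem hχ (congrArg Subtype.val hab :)
        omega
      have hD'inn := ihk _ (by
        have := card_le_of_le le_rfl (normalizerIn_le_S (S := S) D')
        omega) D' rfl hD'1 hD'fn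
      intro P φ hφ
      obtain ⟨ψ, hψ, he, hm⟩ := hDnorm.2 P φ (show φ ∈ (normSystem F U hfn.1).Hom P from hφ)
      obtain ⟨hψF, hψV, hψvals, -⟩ := hψ
      refine restrict_mem_of_eq ?_ le_sup_left fun x => (he x).symm
      exact mem_of_transport hVN hχ₀ hχ hχN hχD hD'inn hψV le_sup_right hψF hψvals hm
    have hgood0 : ∀ Y : Subgroup Ω, (Y = S ∨ F.IsEssential p Y) →
        F.autGroup Y ≤ E₀.autGroup Y := by
      intro Y hY α hα
      have hYS : Y ≤ S := by
        rcases hY with rfl | h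
        exacts [le_rfl, h.1.1]
      have hYfn : F.IsFullyNormalized Y := by
        rcases hY with rfl | h
        exacts [isFullyNormalized_S, h.2.1]
      have hY1 : Y ≠ ⊥ := by
        rintro rfl
        rcases hY with h | h
        · exact hS1 h.symm
        · refine hS1 (eq_bot_iff.2 fun g hg => h.1.2 ⊥ (isConj_refl bot_le)
            (mem_centralizerIn.2 ⟨hg, fun y hy => ?_⟩))
          rw [Subgroup.mem_bot.1 hy]; group
      have hsub : Y ⊔ Y ≤ Y := sup_le le_rfl le_rfl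
      refine (autGroup_carrier hYS).2 (hall _ Y rfl hY1 hYfn Y
        ⟨(autGroup_carrier hYS).1 hα, le_normalizerIn hYS, fun x => le_normalizerIn hYS (α x).2,
          (Y.subtype.comp α.toMonoidHom).comp (Subgroup.inclusion hsub),
          restrict_mem ((autGroup_carrier hYS).1 hα) hsub, fun x => rfl, ?_⟩)
      rw [map_subgroupOf_congr (ψ := (Y.subtype.comp α.toMonoidHom).comp
        (Subgroup.inclusion hsub)) (χ := Y.subtype.comp α.toMonoidHom) le_sup_right
        le_rfl fun _ _ => rfl, map_subgroupOf_self, range_subtype_comp]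
    exact fun P => alperin_saturated p hS hF E₀ hgood0 P
  -- there is a normal subgroup
  push Not at hphase
  obtain ⟨U₀, hU₀1, hU₀n⟩ := hphase
  have hQn : F.IsNormal F.core := isNormal_core
  set Q := F.core with hQdef
  have hQmax : ∀ U, F.IsNormal U → U ≤ Q := fun U hU => le_sSup hU
  have hQ1 : Q ≠ ⊥ := fun h => hU₀1 (eq_bot_iff.2 ((hQmax U₀ hU₀n).trans h.le))
  have hQS := normal_S_le_normalizer hQn
  have hNQ : normalizerIn S Q = S :=
    le_antisymm (normalizerIn_le_S Q) fun x hx => ⟨hx, hQS hx⟩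
  have hQfn : F.IsFullyNormalized Q := ⟨hQn.1, fun R _ => by
    rw [hNQ]; exact card_le_of_le le_rfl (normalizerIn_le_S R)⟩
  by_cases hc : centralizerIn S Q ≤ Q
  · have hQc := isCentric_of_fullyCentralized
      (fullyCentralized_of_fullyNormalized p hS hF hQfn) hc
    intro P φ hφ
    obtain ⟨ψ, hψ, he, hm⟩ := (hW.isNormal_of_constrained hS hF hfree hQn hQc).2 P φ hφ
    rw [hE₀]
    exact ⟨hφ, (le_of_mem_hom hφ).trans hWn.ge, fun x => hWn.ge (apply_mem_S hφ x),
      ψ, hψ, he, hm⟩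
  set R := Q ⊔ centralizerIn S Q
  have hQR : Q < R := lt_of_le_not_ge le_sup_left fun h => hc (le_sup_right.trans h)
  have hRS : R ≤ S := sup_le hQn.1 (centralizerIn_le_S Q)
  have hRn : S ≤ Subgroup.normalizer (R : Set Ω) := fun g hg => by
    refine mem_normalizer_sup hQn.1 (centralizerIn_le_S Q) (hQS hg) ?_
    refine mem_normalizer_of_conj_mem (centralizerIn_le_S Q) fun x hx => ?_
    obtain ⟨hxS, hxc⟩ := mem_centralizerIn.1 hx
    refine mem_centralizerIn.2 ⟨mul_mem (mul_mem hg hxS) (inv_mem hg), fun z hz => ?_⟩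
    have h1 := hxc _ ((Subgroup.mem_normalizer_iff''.1 (hQS hg) z).1 hz)
    calc z * (g * x * g⁻¹) = g * ((g⁻¹ * z * g) * x) * g⁻¹ := by group
      _ = g * x * g⁻¹ * z := by rw [h1]; group
  have hRnn : ¬ F.IsNormal R := fun h => hQR.not_ge (hQmax R h)
  have hER := hnonnormal R hRS hRn hRnn
  set EK := innerActSystem F Q hQn.1 hQS
  by_cases hEK : ∃ P, ¬ F.Hom P ⊆ EK.Hom P
  · have hEKE := sub EK (fun P φ h => mem_hom_of_actsInner h) hEK
      (innerActSystem_saturated p hS hF hQn) (sectionFree_innerActSystem p hS hF hfree hQn)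
    intro P φ hφ
    obtain ⟨ψ, hψ, he, hm⟩ := hQn.2 P φ hφ
    refine restrict_mem_of_eq ?_ le_sup_left fun x => (he x).symm
    obtain ⟨ψi, hψi, -, hψi1, -⟩ := exists_inv hψ (rfl : ψ.range = ψ.range)
    have hQr : Q ≤ ψ.range := hm.ge.trans (Subgroup.map_le_range _ _)
    let a : Q →* Ω := ψi.comp (Subgroup.inclusion hQr)
    have ha : a ∈ F.Hom Q := restrict_mem hψi hQr
    have har : a.range = Q :=
      (weaklyClosed_of_stronglyClosed (stronglyClosed_of_isNormal hQn)).2 a ha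
    have hN : ψ.range ⊔ R ≤ extender S Q a := by
      refine sup_le ?_ (sup_le (le_extender ha) (centralizerIn_le_extender Q a))
      rintro _ ⟨y, rfl⟩
      refine mem_extender.2 ⟨apply_mem_S hψ y, hQS (apply_mem_S hψ y), y,
        le_of_mem_hom hψ y.2, fun q hq => ?_⟩
      have h1 : ψi ⟨ψ y, ⟨y, rfl⟩⟩ = y := hψi1 y _
      refine (apply_congr ψi (y := ⟨ψ y, ⟨y, rfl⟩⟩ * ⟨q, hQr q.2⟩ *
        (⟨ψ y, ⟨y, rfl⟩⟩ : ψ.range)⁻¹) rfl).trans ?_
      rw [map_mul, map_mul, map_inv, h1]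
      rfl
    obtain ⟨χ, hχ, hχe⟩ := receptive_extend (good_of_fullyNormalized p hS hF hQfn).2 ha har hN
    have hχQ : (Q.subgroupOf (ψ.range ⊔ R)).map χ = Q :=
      (map_eq_range_of_eq (hQr.trans le_sup_left) hχe).trans har
    have hχR : (R.subgroupOf (ψ.range ⊔ R)).map χ = R := by
      refine eq_of_le_of_card_le hRS ?_
        (card_map_subgroupOf (F.injective_of_mem hχ) le_sup_right).ge
      have hCR : centralizerIn S Q ≤ ψ.range ⊔ R := le_sup_right.trans le_sup_right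
      rw [Subgroup.subgroupOf_sup (hQr.trans le_sup_left) hCR, Subgroup.map_sup, hχQ]
      refine sup_le le_sup_left fun y hy => ?_
      obtain ⟨x, hx, hxC, rfl⟩ := mem_map_subgroupOf.1 hy
      have := map_mem_centralizerIn hχ (hQr.trans le_sup_left) hxC hx
      rw [hχQ] at this
      exact Subgroup.mem_sup_right this
    have hsubR : (ψ.range ⊔ R) ⊔ R ≤ ψ.range ⊔ R := sup_le le_rfl le_sup_right
    have hχE : χ ∈ E₀.Hom (ψ.range ⊔ R) := hER _ ⟨hχ,
      le_inf (sup_le (range_le_S hψ) hRS) ((sup_le (range_le_S hψ) hRS).trans hRn),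
      fun x => ⟨apply_mem_S hχ x, hRn (apply_mem_S hχ x)⟩,
      χ.comp (Subgroup.inclusion hsubR), restrict_mem hχ hsubR, fun x => rfl, by
        rw [map_subgroupOf_congr (ψ := χ.comp (Subgroup.inclusion hsubR)) (χ := χ) le_sup_right
          le_sup_right fun _ _ => rfl, hχR]⟩
    let e : ↥(P ⊔ Q) →* Ω := (χ.comp (Subgroup.inclusion le_sup_left)).comp ψ.rangeRestrict
    have he' : e ∈ F.Hom (P ⊔ Q) :=
      comp_mem_of_eq hψ hχ (fun x => Subgroup.mem_sup_left ⟨x, rfl⟩) fun x => rfl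
    have heE : e ∈ EK.Hom (P ⊔ Q) := by
      have hsub : (P ⊔ Q) ⊔ Q ≤ P ⊔ Q := sup_le le_rfl le_sup_right
      refine ⟨e.comp (Subgroup.inclusion hsub), restrict_mem he' hsub, fun x => rfl, 1, one_mem _,
        fun q => ?_⟩
      have hq' : ψ ⟨q, Subgroup.mem_sup_right q.2⟩ ∈ Q :=
        hm.le (apply_mem_map_subgroupOf ψ (x := ⟨q, Subgroup.mem_sup_right q.2⟩) q.2)
      refine (hχe _ hq' (Subgroup.mem_sup_left ⟨_, rfl⟩)).trans ?_
      refine (hψi1 ⟨q, Subgroup.mem_sup_right q.2⟩ (hQr hq')).trans ?_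
      show (q : Ω) = 1 * q * 1⁻¹
      group
    obtain ⟨χi, hχi, -, hχi1, -⟩ := exists_inv hχE (rfl : χ.range = χ.range)
    refine comp_mem_of_eq (hEKE _ heE) hχi (fun x => ⟨_, rfl⟩) fun x => ?_
    exact (hχi1 ⟨ψ x, Subgroup.mem_sup_left ⟨x, rfl⟩⟩ ⟨_, rfl⟩).symm
  -- every map acts on `Q` like an element of `S`
  push Not at hEK
  exfalso
  have hQsc := stronglyClosed_of_isNormal hQn
  have hTn : (Q.subgroupOf S).Normal := ⟨fun x hx g =>
    (Subgroup.mem_normalizer_iff.1 (hQS g.2) x).1 hx⟩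
  let θ : S →* S ⧸ Q.subgroupOf S := QuotientGroup.mk' _
  have hk : ∀ s : S, θ s = 1 ↔ (s : Ω) ∈ Q := fun s => QuotientGroup.eq_one_iff s
  have hr : θ.range = ⊤ := MonoidHom.range_eq_top.2 (QuotientGroup.mk'_surjective _)
  let Ē := factorSystem hQsc hk hr
  have hĒ : F.IsFactorSystem Q θ Ē := factorSystem_spec hQsc hk hr
  have hpT : IsPGroup p (⊤ : Subgroup (S ⧸ Q.subgroupOf S)) :=
    (hS.of_surjective θ (QuotientGroup.mk'_surjective _)).to_subgroup ⊤
  have hcard : Nat.card (⊤ : Subgroup (S ⧸ Q.subgroupOf S)) < Nat.card S := by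
    rw [Subgroup.card_top, Subgroup.card_eq_card_quotient_mul_card_subgroup (Q.subgroupOf S),
      Nat.card_congr (Subgroup.subgroupOfEquivOfLe hQn.1).toEquiv]
    have := finite_of_le hQn.1
    exact lt_mul_of_one_lt_right Nat.card_pos ((Subgroup.one_lt_card_iff_ne_bot Q).2 hQ1)
  have hne : (⊤ : Subgroup (S ⧸ Q.subgroupOf S)) ≠ ⊥ := by
    intro h
    refine hc fun x hx => (hk ⟨x, hx.1⟩).1 ?_
    exact Subgroup.mem_bot.1 (h ▸ Subgroup.mem_top (θ ⟨x, hx.1⟩))
  have hWb := ihn _ (hn ▸ hcard) _ Ē inferInstance hpT rfl (factor_saturated hQsc hĒ p hS hF)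
    (sectionFree_factor p hS hF hQsc hfree hĒ)
  have hW1 := hW.wOf_ne_bot hpT hne
  set Wb := wOf W (⊤ : Subgroup (S ⧸ Q.subgroupOf S))
  set P0 := preimg θ Wb with hP0
  have hQP : Q < P0 := by
    refine lt_of_le_not_ge (ker_le_preimg hQn.1 hk Wb) fun hle => hW1 (eq_bot_iff.2 fun y hy => ?_)
    obtain ⟨x, rfl⟩ := QuotientGroup.mk'_surjective _ y
    exact (hk x).2 (hle (mem_preimg.2 ⟨x.2, hy⟩))
  have hWbsc := stronglyClosed_of_isNormal hWb
  have hP0sc : F.StronglyClosed P0 := by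
    refine ⟨preimg_le Wb, fun A hA φ hφ x => ?_⟩
    obtain ⟨ψ, hψ, he, -⟩ := hQn.2 A φ hφ
    obtain ⟨φ', hφ', hi⟩ := exists_factor_hom hQsc hĒ hψ le_sup_right (P' := img θ (A ⊔ Q)) rfl
    have hle : img θ (A ⊔ Q) ≤ Wb := by
      rintro _ ⟨s, hs, rfl⟩
      exact (mem_preimg.1 (sup_le hA hQP.le hs)).2
    refine mem_preimg.2 ⟨apply_mem_S hφ x, ?_⟩
    have h1 := induced_apply hi (Subgroup.inclusion le_sup_left x)
      (hP := le_of_mem_hom hφ x.2) (hφ := apply_mem_S hψ _)
      (hP' := apply_mem_img (ι := θ) (x := ⟨x, le_of_mem_hom hφ x.2⟩) (Subgroup.mem_sup_left x.2))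
    rw [show (⟨φ x, apply_mem_S hφ x⟩ : S) = ⟨ψ (Subgroup.inclusion le_sup_left x),
      apply_mem_S hψ _⟩ from Subtype.ext (he x).symm, ← h1]
    exact hWbsc.2 _ hle φ' hφ' _
  refine hQP.not_ge (hQmax P0 (isNormal_of_stronglyClosed p hS hF hP0sc fun Y hY => ?_))
  have hYc := hY.1
  have hYr := isRadical_of_essential p hS hY
  have hQY : Q ≤ Y := le_essential p hS hQn hY
  refine le_of_normalizer_le p hS hYc.1 hP0sc.1
    (hYc.1.trans (stronglyClosed_normal_in_S hP0sc)) fun g hgP hgN => ?_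
  have hYS := hYc.1
  let θY : Y →* S ⧸ Q.subgroupOf S := θ.comp (Subgroup.inclusion hYS)
  let M : Subgroup (MulAut Y) :=
    { carrier := {γ | γ ∈ F.autGroup Y ∧ ∃ t ∈ Wb, ∀ x : Y, θY (γ x) = t * θY x * t⁻¹}
      one_mem' := ⟨one_mem _, 1, one_mem _, fun x => by simp⟩
      mul_mem' := by
        rintro γ δ ⟨hγA, t, ht, hγ⟩ ⟨hδA, t', ht', hδ⟩
        refine ⟨mul_mem hγA hδA, t * t', mul_mem ht ht', fun x => ?_⟩
        rw [MulAut.mul_apply, hγ, hδ]
        group
      inv_mem' := by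
        rintro γ ⟨hγA, t, ht, hγ⟩
        refine ⟨inv_mem hγA, t⁻¹, inv_mem ht, fun x => ?_⟩
        have h1 := hγ (γ⁻¹ x)
        rw [MulAut.apply_inv_self] at h1
        rw [h1]
        group }
  refine mem_of_chain p hS hYc hYr (m := 0) ![⊤] rfl (fun _ _ i _ _ => ?_) M ?_ ?_
    (⟨hP0sc.1 hgP, hgN⟩ : g ∈ normalizerIn S Y) (fun i => i.elim0) ?_
  · fin_cases i
    trivial
  · rintro α hα γ hγA ⟨-, t, ht, hγ⟩
    refine ⟨mul_mem (mul_mem hα hγA) (inv_mem hα), ?_⟩
    have hφ := (autGroup_carrier hYS).1 hα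
    obtain ⟨a', ha', hi⟩ := exists_factor_hom hQsc hĒ hφ hQY (P' := img θ Y) rfl
    obtain ⟨a'', ha'', he'', hm''⟩ := hWb.2 _ a' ha'
    have htm : t ∈ img θ Y ⊔ Wb := Subgroup.mem_sup_right ht
    refine ⟨a'' ⟨t, htm⟩, hm''.le (apply_mem_map_subgroupOf a'' (x := ⟨t, htm⟩) ht), fun x => ?_⟩
    have key : ∀ y : Y, θY (α y) = a'' ⟨θY y, Subgroup.mem_sup_left
        (apply_mem_img (ι := θ) (x := ⟨y, hYS y.2⟩) y.2)⟩ := by
      intro y
      refine ((induced_apply hi y (hP := hYS y.2) (hP' := apply_mem_img (ι := θ)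
        (x := ⟨y, hYS y.2⟩) y.2) (hφ := apply_mem_S hφ y)).symm.trans ?_)
      exact (he'' ⟨_, apply_mem_img (ι := θ) (x := ⟨y, hYS y.2⟩) y.2⟩).symm
    obtain ⟨z, rfl⟩ := α.surjective x
    simp only [MulAut.mul_apply, MulAut.inv_apply_self]
    rw [key, key z, ← map_inv, ← map_mul, ← map_mul]
    exact apply_congr a'' (hγ z)
  · rintro γ hγA ⟨-, t, ht, hγ⟩
    obtain ⟨ψ, hψ, he, s, hs, hq⟩ := hEK Y ((autGroup_carrier hYS).1 hγA)
    obtain ⟨k₁, hk₁⟩ := hS ⟨s, hs⟩
    obtain ⟨k₂, hk₂⟩ := (hS.of_surjective θ (QuotientGroup.mk'_surjective _)) t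
    have := finite_of_le hYS
    have keyQ : ∀ (j : ℕ) (x : Y), (x : Ω) ∈ Q →
        (((γ ^ j) x : Y) : Ω) = s ^ j * x * (s ^ j)⁻¹ ∧ (((γ ^ j) x : Y) : Ω) ∈ Q := by
      intro j x hx
      induction j with
      | zero => exact ⟨by simp, hx⟩
      | succ j ih =>
        have h1 : (((γ ((γ ^ j) x)) : Y) : Ω) =
            s * (((γ ^ j) x : Y) : Ω) * s⁻¹ :=
          ((he ((γ ^ j) x)).symm.trans (apply_congr ψ rfl)).trans (hq ⟨_, ih.2⟩)
        rw [pow_succ', MulAut.mul_apply]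
        refine ⟨?_, le_of_stronglyClosed_aut hQsc hYS hγA _ ih.2⟩
        rw [h1, ih.1, pow_succ']
        group
    have keyY : ∀ (j : ℕ) (x : Y), θY ((γ ^ j) x) = t ^ j * θY x * (t ^ j)⁻¹ := by
      intro j x
      induction j with
      | zero => simp
      | succ j ih =>
        rw [pow_succ', MulAut.mul_apply, hγ, ih, pow_succ']
        group
    have hsk : s ^ p ^ (k₁ + k₂) = 1 := by
      rw [pow_add, pow_mul, show s ^ p ^ k₁ = 1 from congrArg Subtype.val hk₁, one_pow]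
    have htk : t ^ p ^ (k₁ + k₂) = 1 := by
      rw [pow_add, mul_comm (p ^ k₁), pow_mul, hk₂, one_pow]
    obtain ⟨k, hk3⟩ := exists_pow_fix (isPGroup_of_le hS hYS) (γ ^ p ^ (k₁ + k₂))
      ![Q.subgroupOf Y, ⊤]
      (fun i x hx => by
        fin_cases i
        · exact (keyQ _ x hx).2
        · trivial)
      (fun i x _ => by
        fin_cases i
        show (((x⁻¹ * (γ ^ p ^ (k₁ + k₂)) x : Y)) : Ω) ∈ Q
        refine (hk ⟨_, hYS (x⁻¹ * (γ ^ p ^ (k₁ + k₂)) x).2⟩).1 ?_
        show θY (x⁻¹ * (γ ^ p ^ (k₁ + k₂)) x) = 1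
        rw [map_mul, map_inv, keyY, htk]
        group)
      ⟨0, fun x hx => by
        refine Subtype.ext ?_
        rw [pow_zero, pow_one, (keyQ _ x hx).1, hsk]
        simp⟩ (Fin.last 1)
    refine ⟨k₁ + k₂ + k, fun x _ => ?_⟩
    rw [pow_add, pow_mul]
    exact hk3 x trivial
  · exact ⟨autInducedBy_le_autGroup hYS
      (mem_autInducedBy.2 ⟨g, hP0sc.1 hgP, fun _ => rfl⟩), θ ⟨g, hP0sc.1 hgP⟩,
      (mem_preimg.1 hgP).2, fun x => by
        show θ _ = θ _ * θ _ * (θ _)⁻¹
        rw [← map_inv, ← map_mul, ← map_mul]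
        exact congrArg θ (Subtype.ext rfl)⟩

end

end CfsgLib.Fusion
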