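import Cfsg.Agent.Fusion.PrimeCharacter

/-!
Existence of the `p'`-residual subsystem.
-/

set_option autoImplicit false

open Cfsg Cfsg.FusionSystem

namespace CfsgLib.Fusion

variable {Ω : Type*} [Group Ω] {S : Subgroup Ω}

/-- `E` contains the `p`-automorphisms of the centric subgroups of `F`. -/
def ContainsPParts (F E : FusionSystem S) (p : ℕ) : Prop :=
  ∀ P : Subgroup Ω, F.IsCentric P → (Subgroup.closure {α : ↥(F.autGroup P) |
    ∃ k : ℕ, orderOf α = p ^ k}).map (F.autGroup P).subtype ≤ E.autGroup P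

/-- The least subsystem containing the `p`-automorphisms of the centric subgroups. -/
def pPartSystem (F : FusionSystem S) (p : ℕ) : FusionSystem S where
  Hom P := {φ | φ ∈ F.Hom P ∧
    ∀ E : FusionSystem S, E.IsSubsystemOf F → ContainsPParts F E p → φ ∈ E.Hom P}
  le_of_mem h := F.le_of_mem h.1
  injective_of_mem h := F.injective_of_mem h.1
  conj_mem hP hg := ⟨F.conj_mem hP hg, fun E _ _ => E.conj_mem hP hg⟩
  comp_mem hφ hψ h := ⟨F.comp_mem hφ.1 hψ.1 h, fun E h1 h2 =>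
    E.comp_mem (hφ.2 E h1 h2) (hψ.2 E h1 h2) h⟩
  inv_mem {P φ} hφ := by
    obtain ⟨ψ, hψ, h⟩ := F.inv_mem hφ.1
    refine ⟨ψ, ⟨hψ, fun E h1 h2 => ?_⟩, h⟩
    obtain ⟨ψ', hψ', h'⟩ := E.inv_mem (hφ.2 E h1 h2)
    have e : ψ' = ψ := MonoidHom.ext fun ⟨y, hy⟩ => by
      obtain ⟨x, rfl⟩ := hy
      exact (h' x).trans (h x).symm
    exact e ▸ hψ'

variable {F : FusionSystem S} {p : ℕ}

theorem pPartSystem_sub : (pPartSystem F p).IsSubsystemOf F := fun _ _ h => h.1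

theorem containsPParts_pPartSystem : ContainsPParts F (pPartSystem F p) p := by
  intro P hP α hα
  refine (autGroup_carrier hP.1).2 ⟨?_, fun E h1 h2 => (autGroup_carrier hP.1).1 (h2 P hP hα)⟩
  obtain ⟨a, -, rfl⟩ := hα
  exact (autGroup_carrier hP.1).1 a.2

/-- The least such subsystem is invariant under `Aut_F(S)`. -/
theorem pPartSystem_twist {P : Subgroup Ω} {φ : P →* Ω} (hφ : φ ∈ (pPartSystem F p).Hom P)
    {α : MulAut S} (hα : α ∈ F.autGroup S) :
    ∃ χ ∈ (pPartSystem F p).Hom (autImage α P),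
      ∀ (x : P) (hx : (x : Ω) ∈ S) (hφx : φ x ∈ S) (hm : ((α ⟨x, hx⟩ : S) : Ω) ∈ autImage α P),
        χ ⟨_, hm⟩ = ((α ⟨φ x, hφx⟩ : S) : Ω) := by
  have h1 : φ ∈ (invPart F (pPartSystem F p)).Hom P := by
    refine hφ.2 _ (fun Q ψ h => h.1.1) fun Q hQ => ?_
    rw [MonoidHom.map_closure, Subgroup.closure_le]
    rintro _ ⟨a, ⟨k, hk⟩, rfl⟩
    exact pPart_le_invPart pPartSystem_sub containsPParts_pPartSystem hQ a.2
      (by rw [← hk]; exact Subgroup.orderOf_coe a)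
  obtain ⟨χ, hχ, h⟩ := invPart_twist h1 hα
  exact ⟨χ, hχ.1, h⟩

variable (F p) in
/-- The automorphisms of `S` that are maps of the least system on some centric subgroup. -/
def residualAut : Subgroup ↥(F.autGroup S) :=
  Subgroup.closure {α | ∃ (P : Subgroup Ω) (hP : F.IsCentric P),
    (S.subtype.comp (α : MulAut S).toMonoidHom).comp (Subgroup.inclusion hP.1) ∈
      (pPartSystem F p).Hom P}

instance residualAut_normal : (residualAut F p).Normal := by
  refine ⟨fun y hy g => ?_⟩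
  have hmap : (residualAut F p).map (MulAut.conj g).toMonoidHom ≤ residualAut F p := by
    rw [residualAut, MonoidHom.map_closure, Subgroup.closure_le]
    rintro _ ⟨a, ⟨P, hP, ha⟩, rfl⟩
    refine Subgroup.subset_closure ?_
    have hgm := restrict_mem ((autGroup_carrier le_rfl).1 g.2) hP.1
    have hQ : F.IsCentric (autImage (g : MulAut S) P) :=
      isCentric_of_isConj hP ⟨_, hgm, range_restrict _ hP.1⟩
    obtain ⟨χ, hχ, h⟩ := pPartSystem_twist ha g.2
    refine ⟨_, hQ, restrict_mem_of_eq hχ le_rfl fun x => ?_⟩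
    obtain ⟨_, z, hz, rfl⟩ := x
    refine Eq.trans ?_ (h ⟨z, hz⟩ z.2 ((a : MulAut S) ⟨z, hP.1 hz⟩).2 ⟨z, hz, rfl⟩).symm
    show ((((g : MulAut S) * (a : MulAut S) * (g : MulAut S)⁻¹) ((g : MulAut S) z) : S) : Ω) = _
    rw [MulAut.mul_apply, MulAut.mul_apply, MulAut.inv_apply_self]
    rfl
  exact hmap ⟨y, hy, rfl⟩

variable (F p) in
/-- `d` is the class of an automorphism of `S` that `φ` is, after a map of the least system. -/
def ResidualRel (P : Subgroup Ω) (φ : P →* Ω) (d : ↥(F.autGroup S) ⧸ residualAut F p) : Prop :=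
  ∃ (α : F.autGroup S) (e : P →* Ω), e ∈ (pPartSystem F p).Hom P ∧ QuotientGroup.mk α = d ∧
    ∀ (x : P) (hx : e x ∈ S), φ x = (((α : MulAut S) ⟨e x, hx⟩ : S) : Ω)

theorem residualRel_comp {P Q : Subgroup Ω} {φ : P →* Ω} {ψ : Q →* Ω} {ω : P →* Ω}
    {d d' : ↥(F.autGroup S) ⧸ residualAut F p} (h : ∀ x, φ x ∈ Q)
    (hω : ∀ x, ω x = ψ ⟨φ x, h x⟩) (h₁ : ResidualRel F p P φ d) (h₂ : ResidualRel F p Q ψ d') :
    ResidualRel F p P ω (d' * d) := by
  obtain ⟨α, e, he, rfl, heq⟩ := h₁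
  obtain ⟨β, f, hf, rfl, hfeq⟩ := h₂
  obtain ⟨g, hg, hge⟩ := pPartSystem_twist hf (inv_mem α.2)
  have heS : ∀ x, e x ∈ S := fun x => apply_mem_S he x
  have hφS : ∀ x, φ x ∈ S := fun x => le_of_mem_hom hf (h x)
  have hval : ∀ x, ((((α : MulAut S)⁻¹) ⟨φ x, hφS x⟩ : S) : Ω) = e x := fun x => by
    rw [show (⟨φ x, hφS x⟩ : S) = (α : MulAut S) ⟨e x, heS x⟩ from Subtype.ext (heq x _),
      MulAut.inv_apply_self]
  have hem : ∀ x, e x ∈ autImage ((α : MulAut S)⁻¹) Q := fun x =>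
    Set.mem_of_eq_of_mem (hval x).symm (apply_mem_autImage (x := ⟨φ x, hφS x⟩) (h x))
  refine ⟨β * α, g.comp (e.codRestrict _ hem), (pPartSystem F p).comp_mem he hg hem,
    rfl, fun x hx => ?_⟩
  have hfS : f ⟨φ x, h x⟩ ∈ S := apply_mem_S hf _
  have h3 := hge ⟨φ x, h x⟩ (hφS x) hfS (apply_mem_autImage (x := ⟨φ x, hφS x⟩) (h x))
  have h4 : g ⟨e x, hem x⟩ = ((((α : MulAut S)⁻¹) ⟨_, hfS⟩ : S) : Ω) :=
    (apply_congr g (hval x).symm).trans h3
  refine ((hω x).trans (hfeq ⟨φ x, h x⟩ hfS)).trans ?_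
  refine congrArg (fun z : S => (((β : MulAut S) z : S) : Ω)) ?_
  rw [show (⟨_, hx⟩ : S) = (α : MulAut S)⁻¹ ⟨_, hfS⟩ from Subtype.ext h4]
  exact (MulAut.apply_inv_self S _ _).symm

theorem residualRel_unique {P : Subgroup Ω} (hP : F.IsCentric P) {φ : P →* Ω}
    {d d' : ↥(F.autGroup S) ⧸ residualAut F p} (h : ResidualRel F p P φ d)
    (h' : ResidualRel F p P φ d') : d = d' := by
  obtain ⟨α₁, e₁, he₁, rfl, h₁⟩ := h
  obtain ⟨α₂, e₂, he₂, rfl, h₂⟩ := h'
  obtain ⟨ei, hei, heir, hei1, -⟩ := exists_inv he₁ rfl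
  refine (QuotientGroup.eq.2 ?_).symm
  refine Subgroup.subset_closure ⟨_, isCentric_of_isConj hP ⟨e₁, he₁.1, rfl⟩, ?_⟩
  refine comp_mem_of_eq hei he₂ (fun y => heir.le ⟨y, rfl⟩) ?_
  rintro ⟨_, x, rfl⟩
  refine Eq.trans ?_ (apply_congr e₂ (hei1 x _)).symm
  show ((((α₂ : MulAut S)⁻¹) ((α₁ : MulAut S) ⟨e₁ x, _⟩) : S) : Ω) = e₂ x
  rw [show (α₁ : MulAut S) ⟨e₁ x, apply_mem_S he₁ x⟩ =
    (α₂ : MulAut S) ⟨e₂ x, apply_mem_S he₂ x⟩
    from Subtype.ext ((h₁ x _).symm.trans (h₂ x _)), MulAut.inv_apply_self]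

variable (F p) in
/-- The class attached to a map. -/
noncomputable def residualVal (P : Subgroup Ω) (φ : P →* Ω) : ↥(F.autGroup S) ⧸ residualAut F p :=
  Classical.epsilon (ResidualRel F p P φ)

theorem residualVal_eq {P : Subgroup Ω} (hP : F.IsCentric P) {φ : P →* Ω}
    {d : ↥(F.autGroup S) ⧸ residualAut F p} (h : ResidualRel F p P φ d) :
    residualVal F p P φ = d :=
  residualRel_unique hP (Classical.epsilon_spec ⟨d, h⟩) h

variable [Finite S] [Fact p.Prime] (hS : IsPGroup p S) (hF : F.IsSaturated p)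

include hS hF in
theorem exists_residualRel {P : Subgroup Ω} {φ : P →* Ω} (hφ : φ ∈ F.Hom P) :
    ∃ d, ResidualRel F p P φ d := by
  obtain ⟨α, hα, e, he, h⟩ := (primeToP_of_centric p hS hF pPartSystem_sub
    containsPParts_pPartSystem).2.1 P φ hφ
  exact ⟨_, ⟨α, hα⟩, e, he, rfl, h⟩

include hS hF in
theorem isVal_residualVal : IsVal F F.IsCentric (residualVal F p) := by
  refine ⟨fun h => h.1, isCentric_S, isCentric_of_isConj, isCentric_mono, ?_, ?_⟩
  · intro P Q φ ψ ω hP hφ hψ h hω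
    have hQ : F.IsCentric Q := isCentric_mono (isCentric_of_isConj hP ⟨φ, hφ, rfl⟩)
      (by rintro _ ⟨x, rfl⟩; exact h x) (le_of_mem_hom hψ)
    obtain ⟨d, hd⟩ := exists_residualRel hS hF hφ
    obtain ⟨d', hd'⟩ := exists_residualRel hS hF hψ
    rw [residualVal_eq hP hd, residualVal_eq hQ hd',
      residualVal_eq hP (residualRel_comp h hω hd hd')]
  · intro s hs
    refine residualVal_eq isCentric_S ⟨1, conjHom S s, (pPartSystem F p).conj_mem le_rfl hs,
      rfl, fun x hx => rfl⟩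

variable (p) in
include hS hF in
/-- **The `p'`-residual subsystem exists.** -/
theorem exists_pPrimeResidual : ∃ E : FusionSystem S, F.IsPPrimeResidual p E := by
  have hv := isVal_residualVal hS hF
  have hsat := valKernel_saturated p hS hF hv
  obtain ⟨hidx, -, hcent⟩ := valKernel_primeToP p hS hF hv
  refine ⟨valKernel hv, hsat, hidx, fun D hD hDi => ?_⟩
  have hD₀ : ∀ (P : Subgroup Ω) (φ : P →* Ω), φ ∈ (pPartSystem F p).Hom P → φ ∈ D.Hom P :=
    fun P φ hφ => hφ.2 D hDi.1 fun Q hQ => hDi.2 Q hQ.1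
  have hA : ∀ a ∈ residualAut F p, (a : MulAut S) ∈ D.autGroup S := by
    intro a ha
    induction ha using Subgroup.closure_induction with
    | mem a ha =>
      obtain ⟨P, hP, ha⟩ := ha
      exact (autGroup_carrier le_rfl).2 (mem_of_restrict_centric p hS hF hD hDi.1
        ((autGroup_carrier le_rfl).1 a.2) hP.1 hP (hD₀ _ _ ha))
    | one => exact one_mem _
    | mul _ _ _ _ h h' => exact mul_mem h h'
    | inv _ _ h => exact inv_mem h
  intro P φ hφ
  obtain ⟨-, hfr, -⟩ := primeToP_of_centric p hS hsat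
    (E := interSystem D (valKernel hv) le_rfl) (fun Q ψ h => h.2) fun Q hQ => by
      rw [MonoidHom.map_closure, Subgroup.closure_le]
      rintro _ ⟨a, ⟨k, hk⟩, rfl⟩
      have haF : (a : MulAut Q) ∈ F.autGroup Q := autGroup_mono' (valKernel_sub hv) Q a.2
      refine (autGroup_carrier hQ.1).2 ⟨?_, (autGroup_carrier hQ.1).1 a.2⟩
      refine (autGroup_carrier hQ.1).1 (hDi.2 Q hQ.1 ⟨⟨a, haF⟩, Subgroup.subset_closure ⟨k, ?_⟩,
        rfl⟩)
      rw [← hk, ← Subgroup.orderOf_coe a]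
      exact (Subgroup.orderOf_coe (⟨(a : MulAut Q), haF⟩ : F.autGroup Q)).symm
  obtain ⟨α, hα, φ₀, ⟨hφ₀, -⟩, he⟩ := hfr P φ hφ
  have hαF : α ∈ F.autGroup S := autGroup_mono' (valKernel_sub hv) S hα
  obtain ⟨-, hv1⟩ := (mem_valKernel_iff hv isCentric_S).1 ((autGroup_carrier le_rfl).1 hα)
  have h1 : ResidualRel F p S (S.subtype.comp α.toMonoidHom) (QuotientGroup.mk ⟨α, hαF⟩) :=
    ⟨⟨α, hαF⟩, S.subtype, subtype_mem le_rfl, rfl, fun x hx => rfl⟩
  rw [residualVal_eq isCentric_S h1, QuotientGroup.eq_one_iff] at hv1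
  exact comp_mem_of_eq hφ₀ ((autGroup_carrier le_rfl).1 (hA _ hv1)) (fun x => apply_mem_S hφ₀ x)
    fun x => he x _

end CfsgLib.Fusion
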