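import Cfsg.Agent.Fusion.CentralLift.WeaklyNormal
import Cfsg.Agent.Fusion.CoreCentralizesComponents
import Cfsg.Agent.Fusion.PIndex.Main
import Cfsg.Agent.Fusion.PIndex.Normal
import Cfsg.Agent.Fusion.PPrime.Residual
import Cfsg.Agent.Fusion.PrimeResidual
import Cfsg.Agent.Fusion.GlaubermanFunctor
import Cfsg.Agent.Fusion.Tate

/-!
A saturated fusion system that is not constrained has a component.
-/

set_option autoImplicit false
set_option linter.style.haveILetI false
set_option linter.unusedSectionVars false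

open Cfsg Cfsg.FusionSystem CfsgLib.Fusion CfsgLib.FocCent
open scoped commutatorElement

namespace CfsgLib.CompExists

universe u

variable {Ω : Type u} [Group Ω] {S T : Subgroup Ω} {F : FusionSystem S} {E : FusionSystem T}
  {p : ℕ}

/-- A normal self-centralizing subgroup makes the system constrained. -/
theorem constrained_of_normal [Finite S] (hF : F.IsSaturated p) {Q : Subgroup Ω} (hQ : F.IsNormal Q)
    (hc : centralizerIn S Q ≤ Q) : F.IsConstrained p := by
  refine ⟨hF, Q, hQ, hQ.1, fun Q' hQ' => ?_⟩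
  obtain ⟨φ, hφ, rfl⟩ := hQ'
  rw [(weaklyClosed_of_stronglyClosed (stronglyClosed_of_isNormal hQ)).2 φ hφ]
  exact hc

/-- In a constrained system the core is self-centralizing. -/
theorem centralizer_core_le [Finite S] (hF : F.IsConstrained p) :
    centralizerIn S F.core ≤ F.core := by
  obtain ⟨-, Q, hQ, hQc⟩ := hF
  exact (NormCent.centralizerIn_anti (le_core hQ)).trans
    ((hQc.2 Q (isConj_refl hQ.1)).trans (le_core hQ))

/-- A system is invariant in itself. -/
theorem isWeaklyNormal_self [Finite S] (hF : F.IsSaturated p) : F.IsWeaklyNormalIn F p := by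
  refine ⟨hF, hF, fun _ => subset_rfl, stronglyClosed_self, fun P hP φ hφ α hα => ?_,
    fun P hP φ hφ => ⟨1, one_mem _, φ, hφ, fun x hx => rfl⟩⟩
  obtain ⟨f, hf, hfe⟩ := Mor.of_mem hφ
  have hA : Mor F S (extAut α) := mor_extAut le_rfl hα
  have hA' : Mor F S (extAut α⁻¹) := mor_extAut le_rfl (Subgroup.inv_mem _ hα)
  have hi : Im (extAut α) P ((P.subgroupOf S).map (S.subtype.comp α.toMonoidHom)) :=
    NormExt.mor_map (fun x => (extAut_of_mem α x.2).symm) hP
  have hP' : (P.subgroupOf S).map (S.subtype.comp α.toMonoidHom) ≤ S := hA.im_le_S hP hi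
  obtain ⟨χ, hχ, hχe⟩ := ((hA'.mono hP').comp hf fun y hy => by
    obtain ⟨x, hx, rfl⟩ := hi.surj hy
    rw [extAut_inv_apply]; exact hx).comp hA fun y hy => by
      obtain ⟨x, hx, rfl⟩ := hi.surj hy
      show f (extAut α⁻¹ (extAut α x)) ∈ S
      rw [extAut_inv_apply]
      exact hf.mem_S hx
  refine ⟨χ, hχ, fun x hφx hαx => ?_⟩
  rw [hχe ⟨_, hαx⟩]
  show extAut α (f (extAut α⁻¹ ((α ⟨x, hP x.2⟩ : S) : Ω))) = _
  rw [← extAut_of_mem α (hP x.2), extAut_inv_apply, hfe x, extAut_of_mem]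

/-- The automorphisms of `T` fix the subgroups normal in an invariant subsystem, as a set. -/
theorem isNormal_twist [Finite S] (hinv : E.IsInvariantIn F) {α : MulAut T}
    (hα : α ∈ F.autGroup T) {R R' : Subgroup Ω} (hR : E.IsNormal R) (hi : Im (extAut α) R R') :
    E.IsNormal R' := by
  have hTS : T ≤ S := hinv.2.1.1
  have hA : Mor F T (extAut α) := mor_extAut hTS hα
  have hA' : Mor F T (extAut α⁻¹) := mor_extAut hTS (Subgroup.inv_mem _ hα)
  refine ⟨fun y hy => ?_, fun P φ hφ => ?_⟩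
  · obtain ⟨x, hx, rfl⟩ := hi.surj hy
    exact extAut_mem α (hR.1 hx)
  obtain ⟨f, hf, hfe⟩ := Mor.of_mem hφ
  have hPT := le_of_mem_hom hφ
  obtain ⟨P₀, hP₀⟩ := hA'.exists_im hPT
  obtain ⟨φ₀, hφ₀, hφ₀e⟩ := mor_twist hinv (Subgroup.inv_mem _ hα) hf hP₀
  obtain ⟨ψ₀, hψ₀, he₀, hm₀⟩ := hR.2 P₀ φ₀ hφ₀
  obtain ⟨g₀, hg₀, hg₀e⟩ := Mor.of_mem hψ₀
  obtain ⟨W, hW⟩ := hA.exists_im hg₀.le_S
  have hPW : P ≤ W := fun y hy => by
    rw [← extAut_apply_inv α y]
    exact hW.mem (Subgroup.mem_sup_left (hP₀.mem hy))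
  have hR'W : R' ≤ W := fun y hy => by
    obtain ⟨x, hx, rfl⟩ := hi.surj hy
    exact hW.mem (Subgroup.mem_sup_right hx)
  obtain ⟨ψ, hψ, hψe⟩ := (mor_twist hinv hα hg₀ hW).mono (sup_le hPW hR'W)
  refine ⟨ψ, hψ, fun x => ?_, ?_⟩
  · rw [hψe]
    show extAut α (g₀ (extAut α⁻¹ (x : Ω))) = φ x
    have hx0 := hP₀.mem x.2
    rw [show g₀ (extAut α⁻¹ (x : Ω)) = extAut α⁻¹ (f (extAut α⁻¹⁻¹ (extAut α⁻¹ (x : Ω)))) from
      (hg₀e ⟨_, Subgroup.mem_sup_left hx0⟩).trans ((he₀ ⟨_, hx0⟩).trans (hφ₀e ⟨_, hx0⟩)),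
      inv_inv, extAut_apply_inv, extAut_apply_inv, hfe]
  · ext y
    constructor
    · rintro ⟨x, hx, rfl⟩
      obtain ⟨r, hr, hre⟩ := hi.surj hx
      rw [hψe, show (x : Ω) = extAut α r from hre.symm]
      show extAut α (g₀ (extAut α⁻¹ (extAut α r))) ∈ R'
      rw [extAut_inv_apply, hg₀e ⟨r, Subgroup.mem_sup_right hr⟩]
      exact hi.mem (hm₀.le ⟨⟨r, Subgroup.mem_sup_right hr⟩, hr, rfl⟩)
    · intro hy
      obtain ⟨r, hr, rfl⟩ := hi.surj hy
      obtain ⟨⟨r₀, hr₀m⟩, hr₀, hr₀e⟩ := hm₀.ge hr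
      refine ⟨⟨extAut α r₀, Subgroup.mem_sup_right (hi.mem hr₀)⟩, hi.mem hr₀, ?_⟩
      rw [hψe]
      show extAut α (g₀ (extAut α⁻¹ (extAut α r₀))) = extAut α r
      rw [extAut_inv_apply, hg₀e ⟨r₀, hr₀m⟩, hr₀e]

/-- The core of an invariant subsystem is normal in the system. -/
theorem core_isNormal [Finite S] [Fact p.Prime] (hS : IsPGroup p S) (hF : F.IsSaturated p)
    (hinv : E.IsInvariantIn F) : F.IsNormal E.core := by
  have hTS : T ≤ S := hinv.2.1.1
  haveI : Finite T := finite_of_le hTS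
  have hR : E.IsNormal E.core := isNormal_core
  have hRT : E.core ≤ T := hR.1
  haveI : Finite E.core := finite_of_le hRT
  -- the automorphisms of `T` stabilize the core
  have hstab : ∀ α ∈ F.autGroup T, Im (extAut α) E.core E.core := by
    intro α hα
    obtain ⟨R', hR'⟩ := (mor_extAut hTS hα).exists_im hRT
    have hle : R' ≤ E.core := le_core (isNormal_twist hinv hα hR hR')
    rwa [eq_of_le_of_card_le (hRT.trans hTS) hle ((mor_extAut hTS hα).card_im hRT hR').ge] at hR'
  -- characteristic subgroups of the core are weakly closed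
  have hchar : ∀ U : Subgroup Ω, U ≤ E.core → (U.subgroupOf E.core).Characteristic →
      F.WeaklyClosed U := by
    intro U hU hUc
    have hUn : E.IsNormal U := isNormal_of_characteristic hR hU hUc
    refine ⟨hU.trans (hRT.trans hTS), fun φ hφ => ?_⟩
    obtain ⟨α, hα, φ₀, hφ₀, he⟩ := hinv.2.2.2 U (hU.trans hRT) φ hφ
    have hr₀ : φ₀.range = U := (weaklyClosed_of_stronglyClosed (stronglyClosed_of_isNormal hUn)).2 φ₀ hφ₀
    obtain ⟨a, -, hae⟩ := (mor_extAut hTS hα).exists_aut hRT (hstab α hα)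
    refine eq_of_le_of_card_le (hU.trans (hRT.trans hTS)) ?_ (card_range hφ).ge
    rintro _ ⟨x, rfl⟩
    have hx₀ : φ₀ x ∈ U := hr₀.le ⟨x, rfl⟩
    rw [he x (hRT (hU hx₀)), ← extAut_of_mem α, ← hae ⟨φ₀ x, hU hx₀⟩]
    exact (Subgroup.characteristic_iff_map_eq.1 hUc a).le ⟨⟨φ₀ x, hU hx₀⟩, hx₀, rfl⟩
  have hsc : F.StronglyClosed E.core := by
    refine ⟨hRT.trans hTS, fun P hP φ hφ x => ?_⟩
    obtain ⟨α, hα, φ₀, hφ₀, he⟩ := hinv.2.2.2 P (hP.trans hRT) φ hφ
    have hx₀ := (stronglyClosed_of_isNormal hR).2 P hP φ₀ hφ₀ x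
    rw [he x (hRT hx₀), ← extAut_of_mem α]
    exact (hstab α hα).mem hx₀
  obtain ⟨c, hc⟩ := E.core.isNilpotent_iff_lowerCentralSeries.1
    (isNilpotent_of_le p hS (hRT.trans hTS))
  refine isNormal_of_series p hS hF hsc (n := c) (fun i => E.core.lowerCentralSeries (c - i.1))
    (by simpa using hc) (by simp) (fun i => ?_) (fun i j hij => ?_) fun i => ?_
  · have hi := i.2
    have e : c - i.castSucc.1 = (c - i.succ.1) + 1 := by
      simp only [Fin.val_castSucc, Fin.val_succ]; omega
    show ⁅E.core.lowerCentralSeries (c - i.succ.1), E.core⁆ ≤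
      E.core.lowerCentralSeries (c - i.castSucc.1)
    rw [e, Subgroup.lowerCentralSeries_succ]
  · exact E.core.lowerCentralSeries_antitone (Nat.sub_le_sub_left (Fin.le_def.1 hij) c)
  · refine hchar _ (E.core.lowerCentralSeries_le_self _) ?_
    have e : (E.core.lowerCentralSeries (c - (i.castSucc : Fin (c + 1)).1)).subgroupOf E.core =
        (⊤ : Subgroup E.core).lowerCentralSeries (c - (i.castSucc : Fin (c + 1)).1) := by
      rw [← E.core.top_subtype_lowerCentralSeries]
      exact Subgroup.comap_map_eq_self_of_injective E.core.subtype_injective _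
    rw [e]
    infer_instance

variable [Finite S] [Fact p.Prime]

/-- A system whose automorphism groups are `p`-groups is constrained. -/
theorem constrained_of_pAut (hS : IsPGroup p S) (hF : F.IsSaturated p)
    (h : ∀ P, P ≤ S → IsPGroup p (F.autGroup P)) : F.IsConstrained p := by
  have hle : F ≤ innerFusionSystem S := by
    refine alperin_saturated p hS hF _ fun P hP => ?_
    have hPfn : F.IsFullyNormalized P :=
      hP.elim (fun e => by rw [e]; exact isFullyNormalized_S) fun e => e.2.1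
    obtain ⟨⟨-, R, hR⟩, -⟩ := good_of_fullyNormalized p hS hF hPfn
    have htop : (⊤ : Subgroup (F.autGroup P)) = R :=
      R.3 ((h P hPfn.1).to_subgroup ⊤) le_top
    intro a ha
    have hm : (⟨a, ha⟩ : F.autGroup P) ∈ (R : Subgroup (F.autGroup P)) := htop ▸ Subgroup.mem_top _
    rw [hR, Subgroup.mem_subgroupOf] at hm
    exact autInducedBy_le_autGroup hPfn.1 hm
  refine constrained_of_normal hF (Q := S) ⟨le_rfl, fun P φ hφ => ?_⟩ inf_le_left
  obtain ⟨hP, g, hg, he⟩ := hle P hφ
  refine ⟨conjHom _ g, F.conj_mem (sup_le hP le_rfl) hg, fun x => (he x).symm, ?_⟩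
  refine eq_of_le_of_card_le le_rfl ?_
    (card_map_subgroupOf (F.injective_of_mem (F.conj_mem (sup_le hP le_rfl) hg)) le_sup_right).ge
  rintro _ ⟨x, hx, rfl⟩
  exact mul_mem (mul_mem hg hx) (inv_mem hg)

/-- The minimal case: a nonconstrained system all whose proper normal subsystems are constrained is
quasisimple. -/
theorem quasisimple_of_minimal (hS : IsPGroup p S) (hF : F.IsSaturated p)
    (hnc : ¬ F.IsConstrained p)
    (hmin : ∀ (U : Subgroup Ω) (D : FusionSystem U), D.IsNormalIn F p →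
      ¬ (U = S ∧ ∀ P, D.Hom P = F.Hom P) → D.IsConstrained p) :
    F.Quasisimple p := by
  -- `C_F(O_p(F))` is everything
  have hQ : F.IsNormal F.core := isNormal_core
  have hcore : centralizerIn S F.core = S ∧ ∀ P, (centSystem F F.core hQ.1).Hom P = F.Hom P := by
    by_contra hne
    have hn := CoreComp.centSystem_normal p hS hF hQ
    have hcon := hmin _ _ hn hne
    haveI : Finite (centralizerIn S F.core) := finite_of_le (centralizerIn_le_S _)
    have hR := core_isNormal hS hF hn.1.2.2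
    have hRQ := le_core hR
    have hWR : centralizerIn S F.core ≤ (centSystem F F.core hQ.1).core := fun x hx =>
      centralizer_core_le hcon (mem_centralizerIn.2 ⟨hx, fun y hy => hx.2 y (hRQ hy)⟩)
    exact hnc (constrained_of_normal hF hQ (hWR.trans hRQ))
  have hcen : F.core ≤ F.center := by
    refine le_center ⟨hQ.1, fun P φ hφ => ?_⟩
    rw [← hcore.2 P, centSystem_spec F F.core hQ.1 P] at hφ
    obtain ⟨-, -, -, ψ, hψ, he, hf⟩ := hφ
    exact ⟨ψ, hψ, he, hf⟩
  have hZcomm : ∀ z ∈ F.center, ∀ s ∈ S, s * z = z * s := fun z hz s hs =>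
    F.center_le_centralizer hz s hs
  have hZne : ¬ S ≤ F.center := fun hle => hnc (constrained_of_normal hF
    (isNormal_of_isCentral isCentral_center) fun x hx => hle hx.1)
  -- a normal subsystem is everything or lives on the centre
  have hfull : ∀ (U : Subgroup Ω) (D : FusionSystem U), D.IsNormalIn F p →
      (U = S ∧ ∀ P, D.Hom P = F.Hom P) ∨ U ≤ F.center := by
    intro U D hD
    by_cases h : U = S ∧ ∀ P, D.Hom P = F.Hom P
    · exact Or.inl h
    have hUS : U ≤ S := hD.1.2.2.2.1.1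
    haveI : Finite U := finite_of_le hUS
    have hR := (le_core (core_isNormal hS hF hD.1.2.2)).trans hcen
    exact Or.inr fun x hx => hR (centralizer_core_le (hmin U D hD h)
      (mem_centralizerIn.2 ⟨hx, fun y hy => (hZcomm y (hR hy) x (hUS hx)).symm⟩))
  refine ⟨hF, ?_, ?_⟩
  · -- the hyperfocal subgroup
    have hTS : F.hyperfocalSubgroup p ≤ S := hyperfocalSubgroup_le_S p
    obtain ⟨D, hD, hDi⟩ := exists_pPowerIndex_subsystem p hS F hF _ hTS le_rfl
    have hn := pPowerIndex_normal p hS hF hTS (le_normalizer_hyperfocal p) le_rfl hD hDi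
    rcases hfull _ D hn with ⟨h, -⟩ | hle
    · exact h
    refine absurd (constrained_of_pAut hS hF fun P hP => ?_) hnc
    haveI : Finite P := finite_of_le hP
    haveI : Finite F.center := finite_of_le (center_le_S)
    obtain ⟨j, hj⟩ := IsPGroup.iff_card.1 (isPGroup_of_le hS (center_le_S : F.center ≤ S))
    haveI : Finite (MulAut P) := finite_mulAut
    refine IsPGroup.iff_orderOf.2 fun α => ?_
    obtain ⟨i, m, hm, he⟩ := Nat.exists_eq_pow_mul_and_not_dvd (orderOf_pos α).ne' p
      (Fact.out : p.Prime).ne_one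
    refine ⟨i, ?_⟩
    suffices h : α ^ p ^ i = 1 by
      refine Nat.dvd_antisymm (orderOf_dvd_of_pow_eq_one h) ?_
      rw [he]; exact dvd_mul_right _ _
    have hco : (orderOf (α ^ p ^ i)).Coprime p := by
      refine Nat.Coprime.coprime_dvd_left (orderOf_dvd_of_pow_eq_one ?_)
        ((Fact.out : p.Prime).coprime_iff_not_dvd.2 hm).symm
      rw [← pow_mul, ← he, pow_orderOf_eq_one]
    set β := α ^ p ^ i with hβ
    have hfix : ∀ x : P, ∃ z ∈ F.center, (((β : MulAut P) x : P) : Ω) = (x : Ω) * z := fun x =>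
      ⟨_, hle (Subgroup.subset_closure ⟨P, β, x, hP, CfsgLib.PResidual.mem_pResidual p hco, rfl⟩),
        (mul_inv_cancel_left _ _).symm⟩
    have hpow : (β : MulAut P) ^ p ^ j = 1 := by
      refine MulEquiv.ext fun x => Subtype.ext ?_
      obtain ⟨z, hz, hxe⟩ := hfix x
      obtain ⟨g, hg, -, hge⟩ := exists_mor_of_aut hP β.2
      have key : ∀ n : ℕ, ((((β : MulAut P) ^ n) x : P) : Ω) = (x : Ω) * z ^ n := by
        intro n
        induction n with
        | zero => simp
        | succ n ih =>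
          have hzn : z ^ n ∈ P := by
            rw [show z ^ n = (x : Ω)⁻¹ * ((((β : MulAut P) ^ n) x : P) : Ω) by
              rw [ih, inv_mul_cancel_left]]
            exact mul_mem (inv_mem x.2) (SetLike.coe_mem _)
          have hfz : g (z ^ n) = z ^ n := by
            obtain ⟨φ, hφ, hφe⟩ := hg
            rw [← hφe ⟨z ^ n, hzn⟩]
            exact isCentral_fix isCentral_center hφ _ (pow_mem hz n)
          rw [pow_succ' (β : MulAut P), MulAut.mul_apply, ← hge, ih, hg.map_mul x.2 hzn, hfz,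
            hge, hxe, pow_succ', mul_assoc]
      show ((((β : MulAut P) ^ p ^ j) x : P) : Ω) = x
      rw [key, ← hj, show z ^ Nat.card F.center = 1 from
        congrArg Subtype.val (pow_card_eq_one' (x := (⟨z, hz⟩ : F.center))), mul_one]
    have h1 : orderOf β ∣ p ^ j := orderOf_dvd_of_pow_eq_one (Subtype.ext hpow)
    exact orderOf_eq_one_iff.1 (Nat.eq_one_of_dvd_coprimes (hco.pow_right j) dvd_rfl h1)
  · -- the factor system is simple
    intro Fb hFb
    have hZ : F.StronglyClosed F.center :=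
      stronglyClosed_of_isNormal (isNormal_of_isCentral isCentral_center)
    refine ⟨factor_saturated hZ hFb p hS hF, fun e => hZne fun x hx => ?_, fun T' E' hE' => ?_⟩
    · refine (hFb.2.1 ⟨x, hx⟩).1 (Subgroup.mem_bot.1 ?_)
      rw [← e]
      trivial
    have hset : CentLift.Setup p F F.center _ Fb E' := ⟨hS, hF, isCentral_center, hFb, hE'⟩
    have hRS : preimg (QuotientGroup.mk' ((F.center).subgroupOf S)) T' ≤ S := preimg_le T'
    haveI := finite_of_le hRS
    obtain ⟨D, hD⟩ := exists_pPrimeResidual p (isPGroup_of_le hS hRS) hset.liftSystem_saturated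
    have hn := pPrimeResidual_normal hS hset.liftSystem_weaklyNormal hD
    rcases hfull _ D hn with ⟨hRe, hhom⟩ | hle
    · have hT' : T' = ⊤ := by
        refine top_le_iff.1 fun y _ => ?_
        obtain ⟨s, rfl⟩ := QuotientGroup.mk'_surjective _ y
        obtain ⟨_, hs⟩ := mem_preimg.1 (hRe.ge s.2)
        exact hs
      refine Or.inr ⟨hT', fun P' => Set.Subset.antisymm (hset.inv.1 P') fun φ' hφ' => ?_⟩
      obtain ⟨f', hf', hf'e⟩ := Mor.of_mem hφ'
      obtain ⟨f, ⟨φ, hφ, hφf⟩, hfr⟩ := hset.lift hf'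
      rw [← hhom] at hφ
      have hgen := hset.mor_iff.1 ⟨φ, hD.2.1.1 _ hφ, hφf⟩
      obtain ⟨g', hg', hgr⟩ := hset.gen_rel hgen
      rw [hset.img_preimg' (le_of_mem_hom hφ')] at hg'
      obtain ⟨ψ', hψ', hψ'e⟩ := hg'
      refine restrict_mem_of_eq hψ' le_rfl fun y => ?_
      obtain ⟨x, hx, hxy⟩ := hset.surj (le_of_mem_hom hφ' y.2)
      have hxP : x ∈ preimg _ P' := CentLift.mem_preimg_q.2 ⟨hx, hxy ▸ y.2⟩
      refine ((hf'e y).symm.trans ?_).trans (hψ'e _).symm
      show f' (y : S ⧸ (F.center).subgroupOf S) = g' (y : S ⧸ (F.center).subgroupOf S)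
      rw [← hxy, ← hfr x hxP, hgr x hxP]
    · refine Or.inl ((Subgroup.eq_bot_iff_forall _).2 fun y hy => ?_)
      obtain ⟨x, hx, hxy⟩ := hset.surj (hset.TS' hy)
      rw [← hxy]
      exact (hset.q_eq_one hx).2 (hle (CentLift.mem_preimg_q.2 ⟨hx, hxy ▸ hy⟩))

/-- **A saturated system that is not constrained has a component.** -/
theorem exists_component (hS : IsPGroup p S) (hF : F.IsSaturated p) (hnc : ¬ F.IsConstrained p) :
    ∃ (T : Subgroup Ω) (C : FusionSystem T), C.IsComponentIn F p := by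
  induction hn : Nat.card S using Nat.strong_induction_on generalizing S with
  | _ n IH =>
  subst hn
  induction hm : homCount F using Nat.strong_induction_on generalizing F with
  | _ m IHm =>
  subst hm
  by_cases hq : ∀ (U : Subgroup Ω) (D : FusionSystem U), D.IsNormalIn F p →
      ¬ (U = S ∧ ∀ P, D.Hom P = F.Hom P) → D.IsConstrained p
  · exact ⟨S, F, IsSubnormalIn.refl F p, quasisimple_of_minimal hS hF hnc hq⟩
  push Not at hq
  obtain ⟨U, D, hD, hne, hDnc⟩ := hq
  have hUS : U ≤ S := hD.1.2.2.2.1.1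
  obtain ⟨T, C, hC, hCq⟩ : ∃ (T : Subgroup Ω) (C : FusionSystem T), C.IsComponentIn D p := by
    haveI : Finite U := finite_of_le hUS
    rcases hUS.eq_or_lt with rfl | hlt
    · refine IHm _ (homCount_lt (fun P => hD.1.2.2.1 P) ?_) hD.1.1 hDnc rfl
      by_contra hcon
      push Not at hcon
      obtain ⟨P, hP⟩ := hne rfl
      exact hP (Set.Subset.antisymm (hD.1.2.2.1 P) (hcon P))
    · refine IH _ ?_ (isPGroup_of_le hS hUS) hD.1.1 hDnc rfl
      exact lt_of_not_ge fun hge => hlt.ne (eq_of_le_of_card_le le_rfl hUS hge)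
  exact ⟨T, C, IsSubnormalIn.step hC hD, hCq⟩

/-- A constrained system has no component. -/
theorem no_component_of_constrained (hS : IsPGroup p S) (hF : F.IsConstrained p)
    {T : Subgroup Ω} {C : FusionSystem T} (hC : C.IsComponentIn F p) : False := by
  obtain ⟨hsub, hq⟩ := hC
  have hTS : T ≤ S := le_of_mem_hom (CfsgLib.FusionImage.subsystem_of_subnormal hsub T (subtype_mem le_rfl))
  haveI : Finite T := finite_of_le hTS
  have hTC : T ≤ centralizerIn S F.core :=
    (CoreComp.quasisimple_centralizes p hS hsub hq isNormal_core T (subtype_mem le_rfl)).2.1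
  have hTQ : T ≤ F.core := hTC.trans (centralizer_core_le hF)
  refine not_abelian_of_quasisimple p (isPGroup_of_le hS hTS) hq ⟨⟨fun a b => Subtype.ext ?_⟩⟩
  exact ((hTC a.2).2 b (hTQ b.2)).symm

end CfsgLib.CompExists
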