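import Cfsg.Agent.Fusion.Saturation
import Cfsg.Prelude.Def_FusionComponents

/-!
Direct products of fusion systems: existence and saturation.
-/

set_option autoImplicit false
set_option linter.style.haveILetI false

open Cfsg Cfsg.FusionSystem

namespace CfsgLib.Fusion

universe u v

variable {Ω₁ : Type u} {Ω₂ : Type v} [Group Ω₁] [Group Ω₂] {S₁ : Subgroup Ω₁} {S₂ : Subgroup Ω₂}

theorem fst_mem_map {P : Subgroup (Ω₁ × Ω₂)} {x : Ω₁ × Ω₂} (h : x ∈ P) :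
    x.1 ∈ P.map (MonoidHom.fst Ω₁ Ω₂) :=
  Subgroup.mem_map_of_mem _ h

theorem snd_mem_map {P : Subgroup (Ω₁ × Ω₂)} {x : Ω₁ × Ω₂} (h : x ∈ P) :
    x.2 ∈ P.map (MonoidHom.snd Ω₁ Ω₂) :=
  Subgroup.mem_map_of_mem _ h

theorem map_fst_le {P : Subgroup (Ω₁ × Ω₂)} {A : Subgroup Ω₁} {B : Subgroup Ω₂} (h : P ≤ A.prod B) :
    P.map (MonoidHom.fst Ω₁ Ω₂) ≤ A :=
  Subgroup.map_le_iff_le_comap.2 fun _ hx => (h hx).1

theorem map_snd_le {P : Subgroup (Ω₁ × Ω₂)} {A : Subgroup Ω₁} {B : Subgroup Ω₂} (h : P ≤ A.prod B) :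
    P.map (MonoidHom.snd Ω₁ Ω₂) ≤ B :=
  Subgroup.map_le_iff_le_comap.2 fun _ hx => (h hx).2

/-- `φ` acts on `P` coordinatewise through `φ₁` and `φ₂`. -/
def IsPairOf {P : Subgroup (Ω₁ × Ω₂)} {A : Subgroup Ω₁} {B : Subgroup Ω₂} (φ : P →* Ω₁ × Ω₂)
    (φ₁ : A →* Ω₁) (φ₂ : B →* Ω₂) : Prop :=
  ∀ (x : P) (h₁ : (x : Ω₁ × Ω₂).1 ∈ A) (h₂ : (x : Ω₁ × Ω₂).2 ∈ B),
    φ x = (φ₁ ⟨(x : Ω₁ × Ω₂).1, h₁⟩, φ₂ ⟨(x : Ω₁ × Ω₂).2, h₂⟩)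

/-- The maps of the product system. -/
def prodHom (F₁ : FusionSystem S₁) (F₂ : FusionSystem S₂) (P : Subgroup (Ω₁ × Ω₂)) :
    Set (P →* Ω₁ × Ω₂) :=
  {φ | P ≤ S₁.prod S₂ ∧ ∃ φ₁ ∈ F₁.Hom (P.map (MonoidHom.fst Ω₁ Ω₂)),
    ∃ φ₂ ∈ F₂.Hom (P.map (MonoidHom.snd Ω₁ Ω₂)), IsPairOf φ φ₁ φ₂}

variable {F₁ : FusionSystem S₁} {F₂ : FusionSystem S₂}

theorem prodHom_of_pair {P : Subgroup (Ω₁ × Ω₂)} {A : Subgroup Ω₁} {B : Subgroup Ω₂}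
    (hP : P ≤ A.prod B) {φ₁ : A →* Ω₁} {φ₂ : B →* Ω₂} (h₁ : φ₁ ∈ F₁.Hom A) (h₂ : φ₂ ∈ F₂.Hom B)
    {φ : P →* Ω₁ × Ω₂} (h : IsPairOf φ φ₁ φ₂) : φ ∈ prodHom F₁ F₂ P :=
  ⟨hP.trans (Subgroup.prod_mono (le_of_mem_hom h₁) (le_of_mem_hom h₂)),
    _, restrict_mem h₁ (map_fst_le hP), _, restrict_mem h₂ (map_snd_le hP),
    fun x _ _ => h x (hP x.2).1 (hP x.2).2⟩

theorem prodHom_mem_S {P : Subgroup (Ω₁ × Ω₂)} {φ : P →* Ω₁ × Ω₂} (hφ : φ ∈ prodHom F₁ F₂ P)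
    (x : P) : φ x ∈ S₁.prod S₂ := by
  obtain ⟨-, φ₁, h₁, φ₂, h₂, h⟩ := hφ
  rw [h x (fst_mem_map x.2) (snd_mem_map x.2)]
  exact ⟨apply_mem_S h₁ _, apply_mem_S h₂ _⟩

/-- The product system. -/
def prodSystem (F₁ : FusionSystem S₁) (F₂ : FusionSystem S₂) : FusionSystem (S₁.prod S₂) where
  Hom := prodHom F₁ F₂
  le_of_mem hφ := ⟨hφ.1, prodHom_mem_S hφ⟩
  injective_of_mem := by
    rintro P φ ⟨hP, φ₁, h₁, φ₂, h₂, h⟩ a b hab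
    rw [h a (fst_mem_map a.2) (snd_mem_map a.2), h b (fst_mem_map b.2) (snd_mem_map b.2),
      Prod.mk.injEq] at hab
    exact Subtype.ext (Prod.ext (congrArg Subtype.val (F₁.injective_of_mem h₁ hab.1))
      (congrArg Subtype.val (F₂.injective_of_mem h₂ hab.2)))
  conj_mem {P g} hP hg :=
    prodHom_of_pair hP (F₁.conj_mem le_rfl hg.1) (F₂.conj_mem le_rfl hg.2) fun _ _ _ => rfl
  comp_mem := by
    rintro P Q φ ψ ⟨hP, φ₁, h₁, φ₂, h₂, h⟩ ⟨hQ, ψ₁, k₁, ψ₂, k₂, k⟩ hPQ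
    have m₁ : ∀ a : P.map (MonoidHom.fst Ω₁ Ω₂), φ₁ a ∈ Q.map (MonoidHom.fst Ω₁ Ω₂) := by
      rintro ⟨_, x, hx, rfl⟩
      have := fst_mem_map (hPQ ⟨x, hx⟩)
      rw [h ⟨x, hx⟩ (fst_mem_map hx) (snd_mem_map hx)] at this
      exact this
    have m₂ : ∀ a : P.map (MonoidHom.snd Ω₁ Ω₂), φ₂ a ∈ Q.map (MonoidHom.snd Ω₁ Ω₂) := by
      rintro ⟨_, x, hx, rfl⟩
      have := snd_mem_map (hPQ ⟨x, hx⟩)
      rw [h ⟨x, hx⟩ (fst_mem_map hx) (snd_mem_map hx)] at this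
      exact this
    refine ⟨hP, _, F₁.comp_mem h₁ k₁ m₁, _, F₂.comp_mem h₂ k₂ m₂, fun x a b => ?_⟩
    show ψ ⟨φ x, hPQ x⟩ = _
    refine (k ⟨φ x, hPQ x⟩ (fst_mem_map (hPQ x)) (snd_mem_map (hPQ x))).trans ?_
    refine Prod.ext (apply_congr ψ₁ ?_) (apply_congr ψ₂ ?_)
    · exact congrArg Prod.fst (h x a b)
    · exact congrArg Prod.snd (h x a b)
  inv_mem := by
    rintro P φ ⟨hP, φ₁, h₁, φ₂, h₂, h⟩
    obtain ⟨ψ₁, k₁, e₁⟩ := F₁.inv_mem h₁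
    obtain ⟨ψ₂, k₂, e₂⟩ := F₂.inv_mem h₂
    have hle : φ.range ≤ φ₁.range.prod φ₂.range := by
      rintro _ ⟨x, rfl⟩
      rw [h x (fst_mem_map x.2) (snd_mem_map x.2)]
      exact ⟨⟨_, rfl⟩, ⟨_, rfl⟩⟩
    let ψ : φ.range →* Ω₁ × Ω₂ :=
      { toFun := fun y => (ψ₁ ⟨(y : Ω₁ × Ω₂).1, (hle y.2).1⟩, ψ₂ ⟨(y : Ω₁ × Ω₂).2, (hle y.2).2⟩)
        map_one' := Prod.ext (map_one ψ₁) (map_one ψ₂)
        map_mul' := fun y z => Prod.ext (map_mul ψ₁ ⟨_, (hle y.2).1⟩ ⟨_, (hle z.2).1⟩)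
          (map_mul ψ₂ ⟨_, (hle y.2).2⟩ ⟨_, (hle z.2).2⟩) }
    refine ⟨ψ, prodHom_of_pair hle k₁ k₂ (fun _ _ _ => rfl), fun x => ?_⟩
    have hx := h x (fst_mem_map x.2) (snd_mem_map x.2)
    refine Prod.ext ?_ ?_
    · exact (apply_congr ψ₁ (y := ⟨φ₁ ⟨_, fst_mem_map x.2⟩, ⟨_, rfl⟩⟩) (congrArg Prod.fst hx)).trans
        (e₁ ⟨_, fst_mem_map x.2⟩)
    · exact (apply_congr ψ₂ (y := ⟨φ₂ ⟨_, snd_mem_map x.2⟩, ⟨_, rfl⟩⟩) (congrArg Prod.snd hx)).trans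
        (e₂ ⟨_, snd_mem_map x.2⟩)

theorem prodSystem_spec (F₁ : FusionSystem S₁) (F₂ : FusionSystem S₂) :
    IsProductSystem F₁ F₂ (prodSystem F₁ F₂) := fun _ _ => Iff.rfl

/-! ### Saturation -/

/-- The inclusion of `Q₁ × Q₂`. -/
def inclProd (Q₁ : Subgroup Ω₁) (Q₂ : Subgroup Ω₂) : ↥Q₁ × ↥Q₂ →* Ω₁ × Ω₂ :=
  Q₁.subtype.prodMap Q₂.subtype

theorem inclProd_injective (Q₁ : Subgroup Ω₁) (Q₂ : Subgroup Ω₂) :
    Function.Injective (inclProd Q₁ Q₂) :=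
  Prod.map_injective.2 ⟨Q₁.subtype_injective, Q₂.subtype_injective⟩

variable {Q₁ : Subgroup Ω₁} {Q₂ : Subgroup Ω₂}

/-- The action of a pair of automorphisms. -/
def prodAct (A₁ : Subgroup (MulAut Q₁)) (A₂ : Subgroup (MulAut Q₂)) :
    ↥A₁ × ↥A₂ →* MulAut (↥Q₁ × ↥Q₂) where
  toFun a := MulEquiv.prodCongr (a.1 : MulAut Q₁) (a.2 : MulAut Q₂)
  map_one' := MulEquiv.ext fun _ => rfl
  map_mul' _ _ := MulEquiv.ext fun _ => rfl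

/-- The pairs stabilizing `U`. -/
def prodStab (A₁ : Subgroup (MulAut Q₁)) (A₂ : Subgroup (MulAut Q₂)) (U : Subgroup (↥Q₁ × ↥Q₂)) :
    Subgroup (↥A₁ × ↥A₂) where
  carrier := {a | ∀ x, prodAct A₁ A₂ a x ∈ U ↔ x ∈ U}
  one_mem' x := by rw [map_one, MulAut.one_apply]
  mul_mem' {a b} ha hb x := by rw [map_mul, MulAut.mul_apply, ha, hb]
  inv_mem' {a} ha x := by
    rw [← ha ((prodAct A₁ A₂ a⁻¹) x), ← MulAut.mul_apply, ← map_mul, mul_inv_cancel, map_one,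
      MulAut.one_apply]

theorem map_fst_incl {U : Subgroup (↥Q₁ × ↥Q₂)} (hU : ∀ q : Q₁, ∃ u ∈ U, u.1 = q) :
    (U.map (inclProd Q₁ Q₂)).map (MonoidHom.fst Ω₁ Ω₂) = Q₁ := by
  refine le_antisymm ?_ fun q hq => ?_
  · rintro _ ⟨_, ⟨u, -, rfl⟩, rfl⟩
    exact u.1.2
  · obtain ⟨u, hu, he⟩ := hU ⟨q, hq⟩
    exact ⟨_, ⟨u, hu, rfl⟩, congrArg Subtype.val he⟩

theorem map_snd_incl {U : Subgroup (↥Q₁ × ↥Q₂)} (hU : ∀ q : Q₂, ∃ u ∈ U, u.2 = q) :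
    (U.map (inclProd Q₁ Q₂)).map (MonoidHom.snd Ω₁ Ω₂) = Q₂ := by
  refine le_antisymm ?_ fun q hq => ?_
  · rintro _ ⟨_, ⟨u, -, rfl⟩, rfl⟩
    exact u.2.2
  · obtain ⟨u, hu, he⟩ := hU ⟨q, hq⟩
    exact ⟨_, ⟨u, hu, rfl⟩, congrArg Subtype.val he⟩

variable [Finite S₁] [Finite S₂]

/-- A subgroup of the product with coordinates `Q₁`, `Q₂` whose stabilizer meets the standard Sylow
subgroup in a Sylow subgroup is fully automized. -/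
theorem fullyAutomized_prod (p : ℕ) [Fact p.Prime] {E : FusionSystem (S₁.prod S₂)}
    (hE : IsProductSystem F₁ F₂ E) (hQ₁ : Q₁ ≤ S₁) (hQ₂ : Q₂ ≤ S₂) (U : Subgroup (↥Q₁ × ↥Q₂))
    (h1 : ∀ q : Q₁, ∃ u ∈ U, u.1 = q) (h2 : ∀ q : Q₂, ∃ u ∈ U, u.2 = q)
    (R' : Sylow p (prodStab (F₁.autGroup Q₁) (F₂.autGroup Q₂) U))
    (hR' : (R' : Subgroup (prodStab (F₁.autGroup Q₁) (F₂.autGroup Q₂) U)) =
      (((autInducedBy S₁ Q₁).subgroupOf (F₁.autGroup Q₁)).prod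
        ((autInducedBy S₂ Q₂).subgroupOf (F₂.autGroup Q₂))).subgroupOf
          (prodStab (F₁.autGroup Q₁) (F₂.autGroup Q₂) U)) :
    E.IsFullyAutomized p (U.map (inclProd Q₁ Q₂)) := by
  let A₁ := F₁.autGroup Q₁
  let A₂ := F₂.autGroup Q₂
  set Q := U.map (inclProd Q₁ Q₂) with hQdef
  have hQle : Q ≤ S₁.prod S₂ := by
    rintro _ ⟨u, -, rfl⟩
    exact ⟨hQ₁ u.1.2, hQ₂ u.2.2⟩
  haveI : Finite Q₁ := finite_of_le hQ₁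
  haveI : Finite Q₂ := finite_of_le hQ₂
  have hf : Q.map (MonoidHom.fst Ω₁ Ω₂) = Q₁ := map_fst_incl h1
  have hs : Q.map (MonoidHom.snd Ω₁ Ω₂) = Q₂ := map_snd_incl h2
  let e : U ≃* Q := U.equivMapOfInjective _ (inclProd_injective Q₁ Q₂)
  let res : prodStab A₁ A₂ U →* MulAut U :=
    { toFun := fun a =>
        { toFun := fun x => ⟨prodAct A₁ A₂ a x, (a.2 x).2 x.2⟩
          invFun := fun x => ⟨prodAct A₁ A₂ (a⁻¹ : prodStab A₁ A₂ U) x, ((a⁻¹).2 x).2 x.2⟩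
          left_inv := fun x => Subtype.ext (by
            simp only [Subgroup.coe_inv, map_inv, MulAut.inv_apply_self])
          right_inv := fun x => Subtype.ext (by
            simp only [Subgroup.coe_inv, map_inv, MulAut.apply_inv_self])
          map_mul' := fun x y => Subtype.ext (map_mul _ _ _) }
      map_one' := MulEquiv.ext fun x => Subtype.ext rfl
      map_mul' := fun a b => MulEquiv.ext fun x => Subtype.ext rfl }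
  let ρ : prodStab A₁ A₂ U →* MulAut Q := (MulAut.congr e).toMonoidHom.comp res
  have hρ : ∀ (a : prodStab A₁ A₂ U) (u : U),
      ((ρ a (e u) : Q) : Ω₁ × Ω₂) = inclProd Q₁ Q₂ (prodAct A₁ A₂ a (u : ↥Q₁ × ↥Q₂)) := fun a u => by
    show ((e (res a (e.symm (e u))) : Q) : Ω₁ × Ω₂) = _
    rw [e.symm_apply_apply]
    rfl
  have hρinj : Function.Injective ρ := by
    intro a b hab
    have key : ∀ u : U, prodAct A₁ A₂ a (u : ↥Q₁ × ↥Q₂) = prodAct A₁ A₂ b u := fun u =>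
      inclProd_injective Q₁ Q₂ (by rw [← hρ, ← hρ, hab])
    refine Subtype.ext (Prod.ext (Subtype.ext (MulEquiv.ext fun q => ?_)) (Subtype.ext (MulEquiv.ext fun q => ?_)))
    · obtain ⟨u, hu, rfl⟩ := h1 q
      exact congrArg Prod.fst (key ⟨u, hu⟩)
    · obtain ⟨u, hu, rfl⟩ := h2 q
      exact congrArg Prod.snd (key ⟨u, hu⟩)
  -- an automorphism of `Q` acting coordinatewise
  have build : ∀ (β : MulAut Q) (c₁ : A₁) (c₂ : A₂),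
      (∀ u : U, ((β (e u) : Q) : Ω₁ × Ω₂) = inclProd Q₁ Q₂ (prodAct A₁ A₂ (c₁, c₂) (u : ↥Q₁ × ↥Q₂))) →
      ∃ a : prodStab A₁ A₂ U, (a : ↥A₁ × ↥A₂) = (c₁, c₂) ∧ ρ a = β := by
    intro β c₁ c₂ h
    have hmem : (c₁, c₂) ∈ prodStab A₁ A₂ U := fun x => by
      constructor
      · intro hx
        obtain ⟨u, hu⟩ := e.surjective (β⁻¹ (e ⟨_, hx⟩))
        have h3 := h u
        rw [hu, MulAut.apply_inv_self] at h3
        have h4 := inclProd_injective Q₁ Q₂ h3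
        rw [(prodAct A₁ A₂ (c₁, c₂)).injective h4]
        exact u.2
      · intro hx
        obtain ⟨v, hv⟩ := e.surjective (β (e ⟨x, hx⟩))
        have h3 := h ⟨x, hx⟩
        rw [← hv] at h3
        exact (inclProd_injective Q₁ Q₂ h3) ▸ v.2
    refine ⟨⟨_, hmem⟩, rfl, MulEquiv.ext fun y => Subtype.ext ?_⟩
    obtain ⟨u, rfl⟩ := e.surjective y
    rw [hρ, h]
  have aut_iff : ∀ β : MulAut Q, β ∈ E.autGroup Q ↔ ∃ a, ρ a = β := by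
    intro β
    rw [autGroup_carrier hQle, hE]
    constructor
    · rintro ⟨-, φ₁, hφ₁, φ₂, hφ₂, h⟩
      rw [hQdef] at hf hs
      have a₁ : ∀ q : Q₁, (q : Ω₁) ∈ Q.map (MonoidHom.fst Ω₁ Ω₂) := fun q => hf.ge q.2
      have a₂ : ∀ q : Q₂, (q : Ω₂) ∈ Q.map (MonoidHom.snd Ω₁ Ω₂) := fun q => hs.ge q.2
      have m₁ := restrict_mem hφ₁ (R := Q₁) hf.ge
      have m₂ := restrict_mem hφ₂ (R := Q₂) hs.ge
      have r₁ : (φ₁.comp (Subgroup.inclusion hf.ge)).range = Q₁ := by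
        refine eq_of_le_of_card_le hQ₁ ?_ (card_range m₁).ge
        rintro _ ⟨q, rfl⟩
        obtain ⟨u, hu, rfl⟩ := h1 q
        have h3 := congrArg Prod.fst (h (e ⟨u, hu⟩) (a₁ u.1) (a₂ u.2))
        exact (Eq.symm h3 : φ₁ ⟨(u.1 : Ω₁), a₁ u.1⟩ = _) ▸ hf.le (fst_mem_map (β (e ⟨u, hu⟩)).2)
      have r₂ : (φ₂.comp (Subgroup.inclusion hs.ge)).range = Q₂ := by
        refine eq_of_le_of_card_le hQ₂ ?_ (card_range m₂).ge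
        rintro _ ⟨q, rfl⟩
        obtain ⟨u, hu, rfl⟩ := h2 q
        have h3 := congrArg Prod.snd (h (e ⟨u, hu⟩) (a₁ u.1) (a₂ u.2))
        exact (Eq.symm h3 : φ₂ ⟨(u.2 : Ω₂), a₂ u.2⟩ = _) ▸ hs.le (snd_mem_map (β (e ⟨u, hu⟩)).2)
      obtain ⟨a, -, ha⟩ := build β ⟨_, autOfRange_mem m₁ r₁⟩ ⟨_, autOfRange_mem m₂ r₂⟩
        fun u => h (e u) (a₁ (u : ↥Q₁ × ↥Q₂).1) (a₂ (u : ↥Q₁ × ↥Q₂).2)
      exact ⟨a, ha⟩
    · rintro ⟨a, rfl⟩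
      have c₁ := (autGroup_carrier hQ₁).1 (a : ↥A₁ × ↥A₂).1.2
      have c₂ := (autGroup_carrier hQ₂).1 (a : ↥A₁ × ↥A₂).2.2
      refine prodHom_of_pair (fun x hx => ⟨hf.le (fst_mem_map hx), hs.le (snd_mem_map hx)⟩) c₁ c₂ ?_
      intro y a₁ a₂
      obtain ⟨u, rfl⟩ := e.surjective y
      exact hρ a u
  let toA : prodStab A₁ A₂ U →* E.autGroup Q := ρ.codRestrict _ fun a => (aut_iff _).2 ⟨a, rfl⟩
  have hsur : Function.Surjective toA := fun β => by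
    obtain ⟨a, ha⟩ := (aut_iff β).1 β.2
    exact ⟨a, Subtype.ext ha⟩
  refine ⟨hQle, R'.mapSurjective hsur, ?_⟩
  show (R' : Subgroup (prodStab A₁ A₂ U)).map toA = (autInducedBy (S₁.prod S₂) Q).subgroupOf _
  rw [hR']
  ext β
  rw [Subgroup.mem_subgroupOf, mem_autInducedBy]
  constructor
  · rintro ⟨a, ha, rfl⟩
    obtain ⟨ha₁, ha₂⟩ := ha
    obtain ⟨g₁, hg₁, e₁⟩ := mem_autInducedBy.1 ha₁
    obtain ⟨g₂, hg₂, e₂⟩ := mem_autInducedBy.1 ha₂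
    refine ⟨(g₁, g₂), ⟨hg₁, hg₂⟩, fun y => ?_⟩
    obtain ⟨u, rfl⟩ := e.surjective y
    exact (hρ a u).trans (Prod.ext (e₁ _) (e₂ _))
  · rintro ⟨g, hg, he⟩
    have n₁ : g.1 ∈ Subgroup.normalizer (Q₁ : Set Ω₁) := mem_normalizer_of_conj_mem hQ₁ fun x hx => by
      obtain ⟨u, hu, hux⟩ := h1 ⟨x, hx⟩
      have := hf.le (fst_mem_map ((β : MulAut Q) (e ⟨u, hu⟩)).2)
      rw [he] at this
      rw [show x = ((u.1 : Q₁) : Ω₁) by rw [hux]]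
      exact this
    have n₂ : g.2 ∈ Subgroup.normalizer (Q₂ : Set Ω₂) := mem_normalizer_of_conj_mem hQ₂ fun x hx => by
      obtain ⟨u, hu, hux⟩ := h2 ⟨x, hx⟩
      have := hs.le (snd_mem_map ((β : MulAut Q) (e ⟨u, hu⟩)).2)
      rw [he] at this
      rw [show x = ((u.2 : Q₂) : Ω₂) by rw [hux]]
      exact this
    have i₁ : conjAut S₁ Q₁ ⟨g.1, hg.1, n₁⟩ ∈ autInducedBy S₁ Q₁ :=
      mem_autInducedBy.2 ⟨g.1, hg.1, fun _ => rfl⟩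
    have i₂ : conjAut S₂ Q₂ ⟨g.2, hg.2, n₂⟩ ∈ autInducedBy S₂ Q₂ :=
      mem_autInducedBy.2 ⟨g.2, hg.2, fun _ => rfl⟩
    obtain ⟨a, hac, ha⟩ := build β ⟨_, autInducedBy_le_autGroup hQ₁ i₁⟩
      ⟨_, autInducedBy_le_autGroup hQ₂ i₂⟩ fun u => he (e u)
    refine ⟨a, ?_, Subtype.ext ha⟩
    refine Subgroup.mem_subgroupOf.2 ?_
    rw [hac]
    exact ⟨i₁, i₂⟩

/-- Every subgroup with receptive coordinates is receptive. -/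
theorem receptive_prod {E : FusionSystem (S₁.prod S₂)} (hE : IsProductSystem F₁ F₂ E)
    {Q : Subgroup (Ω₁ × Ω₂)} (hQ : Q ≤ S₁.prod S₂) (h₁ : F₁.IsReceptive (Q.map (MonoidHom.fst Ω₁ Ω₂)))
    (h₂ : F₂.IsReceptive (Q.map (MonoidHom.snd Ω₁ Ω₂))) : E.IsReceptive Q := by
  refine ⟨hQ, fun P φ hφ hr => ?_⟩
  obtain ⟨hP, φ₁, k₁, φ₂, k₂, k⟩ := (hE P φ).1 hφ
  have kk : ∀ x : P, φ x = (φ₁ ⟨_, fst_mem_map x.2⟩, φ₂ ⟨_, snd_mem_map x.2⟩) := fun x => k x _ _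
  have hr₁ : φ₁.range = Q.map (MonoidHom.fst Ω₁ Ω₂) := by
    apply le_antisymm
    · rintro _ ⟨⟨_, x, hx, rfl⟩, rfl⟩
      exact ⟨φ ⟨x, hx⟩, hr.le ⟨_, rfl⟩, congrArg Prod.fst (kk ⟨x, hx⟩)⟩
    · rintro _ ⟨y, hy, rfl⟩
      obtain ⟨x, rfl⟩ := hr.ge hy
      exact ⟨_, (congrArg Prod.fst (kk x)).symm⟩
  have hr₂ : φ₂.range = Q.map (MonoidHom.snd Ω₁ Ω₂) := by
    apply le_antisymm
    · rintro _ ⟨⟨_, x, hx, rfl⟩, rfl⟩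
      exact ⟨φ ⟨x, hx⟩, hr.le ⟨_, rfl⟩, congrArg Prod.snd (kk ⟨x, hx⟩)⟩
    · rintro _ ⟨y, hy, rfl⟩
      obtain ⟨x, rfl⟩ := hr.ge hy
      exact ⟨_, (congrArg Prod.snd (kk x)).symm⟩
  set N := extender (S₁.prod S₂) P φ
  have hle : N ≤ (extender S₁ _ φ₁).prod (extender S₂ _ φ₂) := by
    intro g hg
    obtain ⟨hgS, hgN, w, hw, hgw⟩ := mem_extender.1 hg
    have cg : ∀ x ∈ P, g * x * g⁻¹ ∈ P := fun x hx => (Subgroup.mem_normalizer_iff.1 hgN x).1 hx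
    constructor
    · refine mem_extender_of ⟨hgS.1, mem_normalizer_of_conj_mem (map_fst_le hP) ?_⟩ hw.1 ?_
      · rintro _ ⟨x, hx, rfl⟩
        exact fst_mem_map (cg x hx)
      · rintro ⟨_, x, hx, rfl⟩ hx'
        have h := congrArg Prod.fst (hgw ⟨x, hx⟩ (cg x hx))
        rw [kk, kk] at h
        exact h
    · refine mem_extender_of ⟨hgS.2, mem_normalizer_of_conj_mem (map_snd_le hP) ?_⟩ hw.2 ?_
      · rintro _ ⟨x, hx, rfl⟩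
        exact snd_mem_map (cg x hx)
      · rintro ⟨_, x, hx, rfl⟩ hx'
        have h := congrArg Prod.snd (hgw ⟨x, hx⟩ (cg x hx))
        rw [kk, kk] at h
        exact h
  obtain ⟨χ₁, hχ₁, hχe₁⟩ := h₁.2 _ φ₁ k₁ hr₁
  obtain ⟨χ₂, hχ₂, hχe₂⟩ := h₂.2 _ φ₂ k₂ hr₂
  let χ : N →* Ω₁ × Ω₂ :=
    { toFun := fun y => (χ₁ ⟨_, (hle y.2).1⟩, χ₂ ⟨_, (hle y.2).2⟩)
      map_one' := Prod.ext (map_one χ₁) (map_one χ₂)
      map_mul' := fun y z => Prod.ext (map_mul χ₁ ⟨_, (hle y.2).1⟩ ⟨_, (hle z.2).1⟩)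
        (map_mul χ₂ ⟨_, (hle y.2).2⟩ ⟨_, (hle z.2).2⟩) }
  refine ⟨χ, (hE N χ).2 (prodHom_of_pair hle hχ₁ hχ₂ fun _ _ _ => rfl), fun x hx hN => ?_⟩
  rw [kk ⟨x, hx⟩]
  exact Prod.ext (hχe₁ _ (fst_mem_map hx) (hle hN).1) (hχe₂ _ (snd_mem_map hx) (hle hN).2)

/-- The product of saturated systems is saturated. -/
theorem product_saturated (p : ℕ) [Fact p.Prime] {E : FusionSystem (S₁.prod S₂)}
    (hE : IsProductSystem F₁ F₂ E) (hF₁ : F₁.IsSaturated p) (hF₂ : F₂.IsSaturated p) :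
    E.IsSaturated p := by
  intro P hP
  obtain ⟨Q₁, ⟨ψ₁, hψ₁, rfl⟩, ⟨hQ₁, R₁, hR₁⟩, hrec₁⟩ := hF₁ _ (map_fst_le hP)
  obtain ⟨Q₂, ⟨ψ₂, hψ₂, rfl⟩, ⟨hQ₂, R₂, hR₂⟩, hrec₂⟩ := hF₂ _ (map_snd_le hP)
  haveI : Finite ψ₁.range := finite_of_le hQ₁
  haveI : Finite ψ₂.range := finite_of_le hQ₂
  haveI : Finite (MulAut ψ₁.range) := finite_mulAut
  haveI : Finite (MulAut ψ₂.range) := finite_mulAut
  let A₁ := F₁.autGroup ψ₁.range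
  let A₂ := F₂.autGroup ψ₂.range
  let f : P →* ↥ψ₁.range × ↥ψ₂.range :=
    (ψ₁.rangeRestrict.comp (((MonoidHom.fst Ω₁ Ω₂).comp P.subtype).codRestrict _ fun x => fst_mem_map x.2)).prod
      (ψ₂.rangeRestrict.comp (((MonoidHom.snd Ω₁ Ω₂).comp P.subtype).codRestrict _ fun x => snd_mem_map x.2))
  let RA : Subgroup (↥A₁ × ↥A₂) := (R₁ : Subgroup A₁).prod (R₂ : Subgroup A₂)
  have hRA : IsPGroup p RA := by
    obtain ⟨a, ha⟩ := IsPGroup.iff_card.1 R₁.2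
    obtain ⟨b, hb⟩ := IsPGroup.iff_card.1 R₂.2
    refine IsPGroup.of_card (n := a + b) ?_
    rw [Nat.card_congr (Subgroup.prodEquiv (R₁ : Subgroup A₁) (R₂ : Subgroup A₂)).toEquiv,
      Nat.card_prod, ha, hb, pow_add]
  have hRi : ¬ p ∣ RA.index := by
    rw [Subgroup.index_prod]
    exact Fact.out (p := p.Prime) |>.not_dvd_mul R₁.not_dvd_index R₂.not_dvd_index
  let RS : Sylow p (↥A₁ × ↥A₂) := hRA.toSylow hRi
  set U₀ := f.range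
  obtain ⟨T⟩ : Nonempty (Sylow p (prodStab A₁ A₂ U₀)) := inferInstance
  obtain ⟨W, hW⟩ := (T.2.map (prodStab A₁ A₂ U₀).subtype).exists_le_sylow
  obtain ⟨a, ha⟩ := MulAction.exists_smul_eq (↥A₁ × ↥A₂) W RS
  let g : P →* ↥ψ₁.range × ↥ψ₂.range := (prodAct A₁ A₂ a).toMonoidHom.comp f
  set U := g.range
  have hU : ∀ x, prodAct A₁ A₂ a x ∈ U ↔ x ∈ U₀ := fun x =>
    ⟨fun ⟨y, hy⟩ => ⟨y, (prodAct A₁ A₂ a).injective hy⟩, fun ⟨y, hy⟩ => ⟨y, congrArg (prodAct A₁ A₂ a) hy⟩⟩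
  have hstab : ∀ t ∈ prodStab A₁ A₂ U₀, a * t * a⁻¹ ∈ prodStab A₁ A₂ U := by
    intro t ht x
    obtain ⟨z, rfl⟩ := (prodAct A₁ A₂ a).surjective x
    rw [← MulAut.mul_apply, ← map_mul, inv_mul_cancel_right, map_mul, MulAut.mul_apply, hU, hU, ht]
  have hRle : IsPGroup p (RA.subgroupOf (prodStab A₁ A₂ U)) :=
    hRA.comap_of_injective _ (Subgroup.subtype_injective _)
  obtain ⟨R', hR'⟩ := hRle.exists_le_sylow
  have hR'eq : (R' : Subgroup (prodStab A₁ A₂ U)) = RA.subgroupOf (prodStab A₁ A₂ U) := by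
    refine (Subgroup.eq_of_le_of_card_ge hR' ?_).symm
    have hinv : ∀ s ∈ prodStab A₁ A₂ U, a⁻¹ * s * a ∈ prodStab A₁ A₂ U₀ := by
      intro s hs x
      rw [← hU, ← MulAut.mul_apply, ← map_mul, ← mul_assoc, ← mul_assoc, mul_inv_cancel, one_mul,
        map_mul, MulAut.mul_apply, hs, hU]
    let c : prodStab A₁ A₂ U₀ ≃* prodStab A₁ A₂ U :=
      { toFun := fun t => ⟨a * t * a⁻¹, hstab t t.2⟩
        invFun := fun s => ⟨a⁻¹ * s * a, hinv s s.2⟩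
        left_inv := fun t => Subtype.ext (by simp [mul_assoc])
        right_inv := fun s => Subtype.ext (by simp [mul_assoc])
        map_mul' := fun t t' => Subtype.ext (by simp [mul_assoc]) }
    rw [Sylow.card_eq_multiplicity R', ← Nat.card_congr c.toEquiv, ← Sylow.card_eq_multiplicity T]
    refine Nat.card_le_card_of_injective (fun t : (T : Subgroup (prodStab A₁ A₂ U₀)) =>
      (⟨c t, ?_⟩ : RA.subgroupOf (prodStab A₁ A₂ U))) fun x y hxy =>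
        Subtype.ext (c.injective (congrArg Subtype.val hxy))
    show a * (t : prodStab A₁ A₂ U₀) * a⁻¹ ∈ RA
    have h3 : MulAut.conj a • ((t : prodStab A₁ A₂ U₀) : ↥A₁ × ↥A₂) ∈ (a • W : Sylow p _).toSubgroup :=
      Subgroup.smul_mem_pointwise_smul _ _ _ (hW ⟨_, t.2, rfl⟩)
    rw [ha] at h3
    exact h3
  have e1 : ∀ q : ψ₁.range, ∃ u ∈ U, u.1 = q := by
    intro q
    obtain ⟨⟨_, x, hx, rfl⟩, hq⟩ := ((a.1 : MulAut ψ₁.range)⁻¹ q).2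
    refine ⟨g ⟨x, hx⟩, ⟨_, rfl⟩, ?_⟩
    show (a.1 : MulAut ψ₁.range) (f ⟨x, hx⟩).1 = q
    rw [show (f ⟨x, hx⟩).1 = (a.1 : MulAut ψ₁.range)⁻¹ q from Subtype.ext hq, MulAut.apply_inv_self]
  have e2 : ∀ q : ψ₂.range, ∃ u ∈ U, u.2 = q := by
    intro q
    obtain ⟨⟨_, x, hx, rfl⟩, hq⟩ := ((a.2 : MulAut ψ₂.range)⁻¹ q).2
    refine ⟨g ⟨x, hx⟩, ⟨_, rfl⟩, ?_⟩
    show (a.2 : MulAut ψ₂.range) (f ⟨x, hx⟩).2 = q
    rw [show (f ⟨x, hx⟩).2 = (a.2 : MulAut ψ₂.range)⁻¹ q from Subtype.ext hq, MulAut.apply_inv_self]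
  have hfa := fullyAutomized_prod p hE hQ₁ hQ₂ U e1 e2 R' (by rw [hR'eq, ← hR₁, ← hR₂])
  refine ⟨_, ?_, hfa, receptive_prod hE hfa.1 ?_ ?_⟩
  · refine ⟨(inclProd ψ₁.range ψ₂.range).comp g, (hE P _).2 ?_, MonoidHom.range_comp _ _⟩
    exact ⟨hP,
      _, F₁.comp_mem hψ₁ ((autGroup_carrier hQ₁).1 a.1.2) (fun x => ⟨x, rfl⟩),
      _, F₂.comp_mem hψ₂ ((autGroup_carrier hQ₂).1 a.2.2) (fun x => ⟨x, rfl⟩), fun _ _ _ => rfl⟩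
  · rw [map_fst_incl e1]; exact hrec₁
  · rw [map_snd_incl e2]; exact hrec₂

end CfsgLib.Fusion
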