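import Cfsg.Prelude.Def_FusionFitting
import Cfsg.Agent.Fusion.ComponentExists
import Cfsg.Agent.Fusion.CentralizerSystem
import Cfsg.Agent.Fusion.Factor
import Cfsg.Agent.Fusion.Product

/-!
A generalized Fitting subsystem contains its centralizer.
-/

set_option autoImplicit false
set_option linter.style.haveILetI false
set_option linter.unusedSectionVars false

open Cfsg Cfsg.FusionSystem CfsgLib.Fusion

namespace CfsgLib.GenFitting

universe u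

variable {Ω : Type u} [Group Ω] {S Q T U : Subgroup Ω} {F : FusionSystem S} {E : FusionSystem T}
  {D : FusionSystem U} {D₀ : FusionSystem (Q.prod T)} {Z : Subgroup (Ω × Ω)}
  {θ : ↥(Q.prod T) →* Ω}

variable (hprod : IsProductSystem (innerFusionSystem Q) E D₀)
  (hθ₁ : ∀ (x : Ω) (hx : ((x, 1) : Ω × Ω) ∈ Q.prod T), θ ⟨(x, 1), hx⟩ = x)
  (hθ₂ : ∀ (y : Ω) (hy : ((1, y) : Ω × Ω) ∈ Q.prod T), θ ⟨(1, y), hy⟩ = y)
  (hZ : Z ≤ D₀.center) (hfac : D₀.IsFactorSystem Z θ D)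

include hθ₁ hθ₂ in
/-- The multiplication map. -/
theorem theta_apply (x : ↥(Q.prod T)) : θ x = (x : Ω × Ω).1 * (x : Ω × Ω).2 := by
  obtain ⟨⟨a, b⟩, ha, hb⟩ := x
  have e : (⟨(a, b), ha, hb⟩ : ↥(Q.prod T)) = ⟨(a, 1), ha, one_mem _⟩ * ⟨(1, b), one_mem _, hb⟩ :=
    Subtype.ext (Prod.ext (mul_one a).symm (one_mul b).symm)
  exact (congrArg θ e).trans
    ((map_mul θ _ _).trans (congrArg₂ (· * ·) (hθ₁ a _) (hθ₂ b _)))

include hθ₁ hfac in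
theorem core_le : Q ≤ U := fun x hx => hfac.2.2.1.le ⟨_, hθ₁ x ⟨hx, one_mem _⟩⟩

include hθ₂ hfac in
theorem layer_le : T ≤ U := fun y hy => hfac.2.2.1.le ⟨_, hθ₂ y ⟨one_mem _, hy⟩⟩

include hθ₁ hθ₂ hfac in
theorem le_of_both {X : Subgroup Ω} (hQ : Q ≤ X) (hT : T ≤ X) : U ≤ X := fun u hu => by
  obtain ⟨w, rfl⟩ := hfac.2.2.1.ge hu
  rw [theta_apply hθ₁ hθ₂ w]
  exact mul_mem (hQ w.2.1) (hT w.2.2)

include hprod hθ₁ hθ₂ hfac in
/-- The maps of the central product are products. -/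
theorem hom_cases {P' : Subgroup Ω} {φ' : P' →* Ω} (hφ' : φ' ∈ D.Hom P') :
    P' ≤ U ∧ ∃ φ ∈ D₀.Hom (preimg θ P'), InducedAlong θ φ φ' ∧
      ∃ q ∈ Q, ∃ φ₂ ∈ E.Hom ((preimg θ P').map (MonoidHom.snd Ω Ω)),
        ∀ (w : preimg θ P'), (φ w).1 = q * (w : Ω × Ω).1 * q⁻¹ ∧
          (φ w).2 = φ₂ ⟨(w : Ω × Ω).2, snd_mem_map w.2⟩ := by
  obtain ⟨hP', φ, hφ, hi⟩ := (hfac.2.2.2 P' φ').1 hφ'
  obtain ⟨-, φ₁, ⟨-, q, hq, hqe⟩, φ₂, hφ₂, hpair⟩ := (hprod _ φ).1 hφ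
  refine ⟨hP', φ, hφ, hi, q, hq, φ₂, hφ₂, fun w => ?_⟩
  have h := hpair w (fst_mem_map w.2) (snd_mem_map w.2)
  exact ⟨(congrArg Prod.fst h).trans (hqe _), congrArg Prod.snd h⟩

include hprod in
/-- Membership of coordinatewise maps. -/
theorem pair_mem {P : Subgroup (Ω × Ω)} {B : Subgroup Ω} (hP : P ≤ Q.prod B) {q : Ω} (hq : q ∈ Q)
    {φ₂ : B →* Ω} (hφ₂ : φ₂ ∈ E.Hom B) :
    ∃ φ ∈ D₀.Hom P, ∀ w : P, φ w = (q * (w : Ω × Ω).1 * q⁻¹, φ₂ ⟨(w : Ω × Ω).2, (hP w.2).2⟩) := by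
  let f₁ : P →* Q := ((MonoidHom.fst Ω Ω).comp P.subtype).codRestrict Q fun w => (hP w.2).1
  let f₂ : P →* B := ((MonoidHom.snd Ω Ω).comp P.subtype).codRestrict B fun w => (hP w.2).2
  let φ : P →* Ω × Ω := ((conjHom Q q).comp f₁).prod (φ₂.comp f₂)
  exact ⟨φ, (hprod P φ).2 (prodHom_of_pair hP ((innerFusionSystem Q).conj_mem le_rfl hq) hφ₂
    fun _ _ _ => rfl), fun w => rfl⟩

variable [Finite S]

include hprod hθ₂ hZ hfac in
/-- The layer lies in the central product. -/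
theorem layer_hom_le [Finite (Q.prod T)] (P₂ : Subgroup Ω) : E.Hom P₂ ⊆ D.Hom P₂ := by
  intro ε hε
  have hP₂ : P₂ ≤ T := le_of_mem_hom hε
  have hZc : D₀.IsCentral Z := isCentral_mono isCentral_center hZ
  have hZsc := stronglyClosed_of_isNormal (isNormal_of_isCentral hZc)
  let P₀ : Subgroup (Ω × Ω) := (⊥ : Subgroup Ω).prod P₂
  obtain ⟨ξ, hξ, hξe⟩ := pair_mem hprod (P := P₀) (B := P₂) (Subgroup.prod_mono bot_le le_rfl)
    (one_mem Q) hε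
  obtain ⟨ψ, hψ, hψe, -⟩ := hZc.2 P₀ ξ hξ
  have hP₂r : P₂ ≤ θ.range := hP₂.trans ((layer_le hθ₂ hfac).trans hfac.2.2.1.ge)
  have himg : img θ (P₀ ⊔ Z) = P₂ := by
    refine le_antisymm ?_ fun y hy => ?_
    · have hle : P₀ ⊔ Z ≤ preimg θ P₂ := by
        refine sup_le ?_ (ker_le_preimg hfac.1 hfac.2.1 P₂)
        rintro ⟨a, b⟩ ⟨ha, hb⟩
        obtain rfl : a = 1 := Subgroup.mem_bot.1 ha
        exact mem_preimg.2 ⟨⟨one_mem _, hP₂ hb⟩, (hθ₂ b _).symm ▸ hb⟩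
      exact (Subgroup.map_mono (Subgroup.subgroupOf_mono _ hle)).trans (img_preimg hP₂r).le
    · exact Set.mem_of_eq_of_mem (hθ₂ y ⟨one_mem _, hP₂ hy⟩).symm (apply_mem_img (ι := θ)
        (x := ⟨((1 : Ω), y), one_mem _, hP₂ hy⟩)
        (Subgroup.mem_sup_left (show ((1 : Ω), y) ∈ P₀ from ⟨one_mem _, hy⟩)))
  obtain ⟨φ', hφ', hi⟩ := exists_factor_hom hZsc hfac hψ le_sup_right himg
  refine restrict_mem_of_eq hφ' le_rfl fun y => ?_
  have hy0 : ((1 : Ω), (y : Ω)) ∈ P₀ := ⟨one_mem _, y.2⟩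
  let w : ↥(P₀ ⊔ Z) := Subgroup.inclusion le_sup_left ⟨_, hy0⟩
  have e := induced_apply hi w (hP := ⟨one_mem _, hP₂ y.2⟩) (hφ := apply_mem_S hψ _)
    (hP' := (hθ₂ (y : Ω) _).symm ▸ y.2)
  have e2 : ψ w = (1, ε y) := by
    rw [hψe, hξe]
    simp
  refine Eq.trans ?_ ((apply_congr φ' (hθ₂ (y : Ω) _).symm).trans e).symm
  refine ((hθ₂ (ε y) ⟨one_mem _, apply_mem_S hε y⟩).symm.trans ?_)
  exact congrArg θ (Subtype.ext e2.symm)

include hprod hθ₁ hθ₂ hfac in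
/-- The central product lies in `F`. -/
theorem hom_le (hQS : Q ≤ S) (hEQ : ∀ P : Subgroup Ω, E.Hom P ⊆ F.centralizerHom Q P)
    (P' : Subgroup Ω) : D.Hom P' ⊆ F.Hom P' := by
  intro φ' hφ'
  obtain ⟨hP', φ, hφ, hi, q, hq, φ₂, hφ₂, hw⟩ := hom_cases hprod hθ₁ hθ₂ hfac hφ'
  let B := (preimg θ P').map (MonoidHom.snd Ω Ω)
  obtain ⟨-, -, hval, ψ, hψ, hψe, hψf⟩ := hEQ B hφ₂
  have hψ' := F.comp_mem hψ (F.conj_mem (P := S) le_rfl (hQS hq)) (apply_mem_S hψ)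
  have hle : P' ≤ B ⊔ Q := fun z hz => by
    obtain ⟨w, hwz⟩ := hfac.2.2.1.ge (hP' hz)
    have hwP : (w : Ω × Ω) ∈ preimg θ P' := mem_preimg.2 ⟨w.2, hwz ▸ hz⟩
    rw [← hwz, theta_apply hθ₁ hθ₂ w]
    exact mul_mem (Subgroup.mem_sup_right w.2.1) (Subgroup.mem_sup_left (snd_mem_map hwP))
  refine restrict_mem_of_eq hψ' hle fun z => ?_
  obtain ⟨w, hwz⟩ := hfac.2.2.1.ge (hP' z.2)
  have hwP : (w : Ω × Ω) ∈ preimg θ P' := mem_preimg.2 ⟨w.2, hwz ▸ z.2⟩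
  have e := induced_apply hi ⟨_, hwP⟩ (hP := w.2) (hφ := apply_mem_S hφ _) (hP' := hwz ▸ z.2)
  rw [show z = ⟨θ w, hwz ▸ z.2⟩ from Subtype.ext hwz.symm]
  refine e.trans ?_
  rw [theta_apply hθ₁ hθ₂, (hw _).1, (hw _).2]
  show q * (w : Ω × Ω).1 * q⁻¹ * φ₂ ⟨_, _⟩ = q * ψ _ * q⁻¹
  let x : Q := ⟨(w : Ω × Ω).1, w.2.1⟩
  let y : B := ⟨(w : Ω × Ω).2, snd_mem_map hwP⟩
  have h1 : ψ (Subgroup.inclusion hle ⟨θ w, hwz ▸ z.2⟩) = (x : Ω) * φ₂ y := by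
    rw [show Subgroup.inclusion hle ⟨θ w, hwz ▸ z.2⟩ =
      Subgroup.inclusion le_sup_right x * Subgroup.inclusion le_sup_left y from
      Subtype.ext (theta_apply hθ₁ hθ₂ w), map_mul, hψf, hψe]
  refine Eq.trans ?_ (congrArg (fun z => q * z * q⁻¹) h1).symm
  show q * (x : Ω) * q⁻¹ * φ₂ y = q * ((x : Ω) * φ₂ y) * q⁻¹
  have hc : q * φ₂ y = φ₂ y * q := (hval y).2 q hq
  calc q * (x : Ω) * q⁻¹ * φ₂ y = q * (x : Ω) * (φ₂ y * q⁻¹) := by
        rw [mul_assoc]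
        congr 1
        calc q⁻¹ * φ₂ y = q⁻¹ * (φ₂ y * q) * q⁻¹ := by group
          _ = φ₂ y * q⁻¹ := by rw [← hc]; group
    _ = _ := by group

include hprod hθ₁ hθ₂ hZ hfac in
/-- Subgroups of `Q` centralizing `U` are central in the central product. -/
theorem le_center_of_le [Finite (Q.prod T)] {Y : Subgroup Ω} (hYQ : Y ≤ Q)
    (hYU : ∀ y ∈ Y, ∀ u ∈ U, u * y = y * u) : Y ≤ D.center := by
  have hZc : D₀.IsCentral Z := isCentral_mono isCentral_center hZ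
  have hZsc := stronglyClosed_of_isNormal (isNormal_of_isCentral hZc)
  refine le_center ⟨hYQ.trans (core_le hθ₁ hfac), fun P' φ' hφ' => ?_⟩
  obtain ⟨hP', φ, hφ, hi, q, hq, φ₂, hφ₂, hw⟩ := hom_cases hprod hθ₁ hθ₂ hfac hφ'
  have hPS : preimg θ P' ≤ Q.prod T := preimg_le P'
  let P₁ : Subgroup (Ω × Ω) := preimg θ P' ⊔ Y.prod ⊥
  have hP₁ : P₁ ≤ Q.prod ((preimg θ P').map (MonoidHom.snd Ω Ω)) :=
    sup_le (fun w hw' => ⟨(hPS hw').1, snd_mem_map hw'⟩) (Subgroup.prod_mono hYQ bot_le)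
  obtain ⟨χ, hχ, hχe⟩ := pair_mem hprod hP₁ hq hφ₂
  have hP₁S : P₁ ≤ Q.prod T := hP₁.trans (Subgroup.prod_mono le_rfl (le_of_mem_hom hφ₂))
  have hYr : P' ⊔ Y ≤ θ.range :=
    (sup_le hP' (hYQ.trans (core_le hθ₁ hfac))).trans hfac.2.2.1.ge
  have himg : img θ P₁ = P' ⊔ Y := by
    refine le_antisymm ?_ (sup_le ?_ fun y hy => ?_)
    · have hle : P₁ ≤ preimg θ (P' ⊔ Y) := by
        refine sup_le (preimg_mono le_sup_left) ?_
        rintro ⟨a, b⟩ ⟨ha, hb⟩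
        obtain rfl : b = 1 := Subgroup.mem_bot.1 hb
        exact mem_preimg.2 ⟨⟨hYQ ha, one_mem _⟩, (hθ₁ a _).symm ▸ Subgroup.mem_sup_right ha⟩
      exact (Subgroup.map_mono (Subgroup.subgroupOf_mono _ hle)).trans (img_preimg hYr).le
    · conv_lhs => rw [← img_preimg (ι := θ) (le_sup_left.trans hYr)]
      exact Subgroup.map_mono (Subgroup.subgroupOf_mono _ le_sup_left)
    · exact Set.mem_of_eq_of_mem (hθ₁ y ⟨hYQ hy, one_mem _⟩).symm (apply_mem_img (ι := θ)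
        (x := ⟨(y, (1 : Ω)), hYQ hy, one_mem _⟩)
        (Subgroup.mem_sup_right (show (y, (1 : Ω)) ∈ Y.prod (⊥ : Subgroup Ω) from ⟨hy, one_mem _⟩)))
  obtain ⟨ψ', hψ', hi'⟩ := exists_factor_hom hZsc hfac hχ
    ((factor_preimg_le hfac P').trans le_sup_left) himg
  refine ⟨ψ', hψ', fun z => ?_, fun y => ?_⟩
  · obtain ⟨w, hwz⟩ := hfac.2.2.1.ge (hP' z.2)
    have hwP : (w : Ω × Ω) ∈ preimg θ P' := mem_preimg.2 ⟨w.2, hwz ▸ z.2⟩
    have e := induced_apply hi ⟨_, hwP⟩ (hP := w.2) (hφ := apply_mem_S hφ _) (hP' := hwz ▸ z.2)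
    have e' := induced_apply hi' ⟨(w : Ω × Ω), Subgroup.mem_sup_left hwP⟩ (hP := w.2)
      (hφ := apply_mem_S hχ _) (hP' := hwz ▸ Subgroup.mem_sup_left z.2)
    refine ((apply_congr ψ' hwz.symm).trans e').trans (Eq.trans ?_ (e.symm.trans (apply_congr φ' hwz)))
    refine congrArg θ (Subtype.ext ?_)
    show χ _ = φ _
    rw [hχe]
    exact Prod.ext (hw ⟨_, hwP⟩).1.symm (hw ⟨_, hwP⟩).2.symm
  · have hyP : ((y : Ω), (1 : Ω)) ∈ P₁ :=
      Subgroup.mem_sup_right (show ((y : Ω), (1 : Ω)) ∈ Y.prod (⊥ : Subgroup Ω) from ⟨y.2, one_mem _⟩)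
    have e' := induced_apply hi' ⟨_, hyP⟩ (hP := hP₁S hyP) (hφ := apply_mem_S hχ _)
      (hP' := (hθ₁ (y : Ω) (hP₁S hyP)).symm ▸ Subgroup.mem_sup_right y.2)
    refine ((apply_congr ψ' (hθ₁ (y : Ω) _).symm).trans e').trans ?_
    refine Eq.trans (congrArg θ (Subtype.ext ?_)) (hθ₁ (y : Ω) ⟨hYQ y.2, one_mem _⟩)
    show χ _ = _
    rw [hχe]
    refine Prod.ext ?_ ?_
    · show q * (y : Ω) * q⁻¹ = y
      rw [hYU y y.2 q (core_le hθ₁ hfac hq), mul_inv_cancel_right]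
    · exact map_one φ₂

/-- A subgroup centralizing a layer and the core lies in the core. -/
theorem le_core_of_centralizes (p : ℕ) [Fact p.Prime] (hS : IsPGroup p S)
    (hF : F.IsSaturated p) (hE : E.IsLayerOf F p) {Y : Subgroup Ω}
    (hYT : Y ≤ centralizerIn S T) (hYQ : ∀ y ∈ Y, ∀ x ∈ F.core, x * y = y * x)
    (hEY : ∀ P : Subgroup Ω, E.Hom P ⊆ F.centralizerHom Y P) : Y ≤ F.core := by
  have hEn := hE.1
  have hT : F.StronglyClosed T := hEn.1.2.2.2.1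
  set Y' := NormCent.centSub F E with hY'
  have hY'T : Y' ≤ centralizerIn S T := NormCent.centSub_le
  have hY'sc : F.StronglyClosed Y' := NormCent.stronglyClosed_centSub p hS hEn
  have hYY' : Y ≤ Y' := fun y hy => Subgroup.subset_closure ⟨hYT hy, fun P =>
    (hEY P).trans (NormCent.centralizerHom_mono (Subgroup.zpowers_le.2 hy))⟩
  have hfoc : (centSystem F T hT.1).focalSubgroup ≤ Y' := by
    have hle : (centSystem F T hT.1).focalSubgroup ≤ centralizerIn S T := by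
      refine (Subgroup.closure_le _).2 ?_
      rintro _ ⟨V, φ₀, v, hφ₀, rfl⟩
      exact mul_mem (inv_mem (hφ₀.2.1 v.2)) (hφ₀.2.2.1 v)
    exact fun y hy => Subgroup.subset_closure ⟨hle hy, fun P =>
      (FocCent.hom_le_centralizerHom p hS hEn hT.1 P).trans
        (NormCent.centralizerHom_mono (Subgroup.zpowers_le.2 hy))⟩
  obtain ⟨D', hD', -⟩ := CentSys.exists_normal p hS hF hT hY'sc hY'T hfoc
  haveI : Finite Y' := finite_of_le hY'sc.1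
  have hY'p : IsPGroup p Y' := isPGroup_of_le hS hY'sc.1
  have hcon : D'.IsConstrained p := by
    by_contra hnc
    obtain ⟨R, C, hC⟩ := CompExists.exists_component hY'p hD'.1.1 hnc
    have hCF : C.IsComponentIn F p := ⟨IsSubnormalIn.step hC.1 hD', hC.2⟩
    have hRT : R ≤ T := le_of_mem_hom (hE.2.1 R C hCF R (subtype_mem le_rfl))
    have hRY : R ≤ Y' :=
      le_of_mem_hom (CfsgLib.FusionImage.subsystem_of_subnormal hC.1 R (subtype_mem le_rfl))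
    haveI : Finite R := finite_of_le hRY
    refine not_abelian_of_quasisimple p (isPGroup_of_le hY'p hRY) hC.2
      ⟨⟨fun a b => Subtype.ext ?_⟩⟩
    exact ((hY'T (hRY a.2)).2 b (hRT b.2)).symm
  have hR := le_core (CompExists.core_isNormal hS hF hD'.1.2.2)
  exact fun y hy => hR (CompExists.centralizer_core_le hcon
    (mem_centralizerIn.2 ⟨hYY' hy, fun x hx => hYQ y hy x (hR hx)⟩))

end CfsgLib.GenFitting
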