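import Mathlib.GroupTheory.Sylow
import Mathlib.SetTheory.Cardinal.Finite
import Cfsg.Prelude.Def_FusionSystem

/-!
Elementary lemmas about fusion systems: restriction, composition, inverses, conjugacy of subgroups,
the automorphism groups `F.autGroup P` and `autInducedBy K P`, extenders, centralizers and normalizers in `S`.
-/

set_option autoImplicit false

open Cfsg Cfsg.FusionSystem

namespace CfsgLib.Fusion

variable {Ω : Type*} [Group Ω] {S : Subgroup Ω} {F : FusionSystem S}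

/-! ### Maps -/

@[simp] theorem conjHom_apply (P : Subgroup Ω) (g : Ω) (x : P) :
    conjHom P g x = g * (x : Ω) * g⁻¹ := rfl

theorem le_of_mem_hom {P : Subgroup Ω} {φ : P →* Ω} (h : φ ∈ F.Hom P) : P ≤ S :=
  (F.le_of_mem h).1

theorem apply_mem_S {P : Subgroup Ω} {φ : P →* Ω} (h : φ ∈ F.Hom P) (x : P) : φ x ∈ S :=
  (F.le_of_mem h).2 x

theorem range_le_S {P : Subgroup Ω} {φ : P →* Ω} (h : φ ∈ F.Hom P) : φ.range ≤ S := by
  rintro _ ⟨x, rfl⟩
  exact apply_mem_S h x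

theorem apply_congr {P : Subgroup Ω} (φ : P →* Ω) {x y : P} (h : (x : Ω) = y) : φ x = φ y :=
  congrArg φ (Subtype.ext h)

/-- The composite of two maps, given pointwise. -/
theorem comp_mem_of_eq {P Q : Subgroup Ω} {φ : P →* Ω} {ψ : Q →* Ω} (hφ : φ ∈ F.Hom P)
    (hψ : ψ ∈ F.Hom Q) (h : ∀ x : P, φ x ∈ Q) {χ : P →* Ω}
    (hχ : ∀ x : P, χ x = ψ ⟨φ x, h x⟩) : χ ∈ F.Hom P := by
  have : χ = ψ.comp (φ.codRestrict Q h) := MonoidHom.ext fun x => hχ x
  rw [this]
  exact F.comp_mem hφ hψ h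

theorem subtype_mem {P : Subgroup Ω} (hP : P ≤ S) : P.subtype ∈ F.Hom P := by
  have h := F.conj_mem hP (one_mem S)
  have e : conjHom P (1 : Ω) = P.subtype := MonoidHom.ext fun x => by simp
  rwa [e] at h

/-- A homomorphism that is conjugation by an element of `S` is a map of every system over `S`. -/
theorem conj_mem_of_eq {P : Subgroup Ω} (hP : P ≤ S) {g : Ω} (hg : g ∈ S) {χ : P →* Ω}
    (h : ∀ x : P, χ x = g * (x : Ω) * g⁻¹) : χ ∈ F.Hom P := by
  have e : χ = conjHom P g := MonoidHom.ext fun x => h x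
  rw [e]
  exact F.conj_mem hP hg

theorem inner_le (F : FusionSystem S) : innerFusionSystem S ≤ F := by
  rintro P φ ⟨hP, g, hg, h⟩
  exact conj_mem_of_eq hP hg h

theorem restrict_mem {P R : Subgroup Ω} {φ : P →* Ω} (hφ : φ ∈ F.Hom P) (h : R ≤ P) :
    φ.comp (Subgroup.inclusion h) ∈ F.Hom R :=
  comp_mem_of_eq (φ := R.subtype) (subtype_mem (h.trans (le_of_mem_hom hφ))) hφ
    (fun x => h x.2) fun _ => rfl

theorem restrict_mem_of_eq {P R : Subgroup Ω} {φ : P →* Ω} (hφ : φ ∈ F.Hom P) (h : R ≤ P)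
    {χ : R →* Ω} (hχ : ∀ x : R, χ x = φ ⟨x, h x.2⟩) : χ ∈ F.Hom R := by
  have e : χ = φ.comp (Subgroup.inclusion h) := MonoidHom.ext fun x => hχ x
  rw [e]
  exact restrict_mem hφ h

/-- Two maps with equal sources and equal values are the same map. -/
theorem mem_of_eq {P R : Subgroup Ω} (e : R = P) {φ : P →* Ω} (hφ : φ ∈ F.Hom P)
    {χ : R →* Ω} (hχ : ∀ x : R, χ x = φ ⟨x, e ▸ x.2⟩) : χ ∈ F.Hom R :=
  restrict_mem_of_eq hφ e.le hχ

theorem range_restrict {P R : Subgroup Ω} (φ : P →* Ω) (h : R ≤ P) :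
    (φ.comp (Subgroup.inclusion h)).range = (R.subgroupOf P).map φ := by
  ext y
  constructor
  · rintro ⟨x, rfl⟩
    exact ⟨⟨x, h x.2⟩, x.2, rfl⟩
  · rintro ⟨x, hx, rfl⟩
    exact ⟨⟨x, hx⟩, rfl⟩

theorem mem_map_subgroupOf {P R : Subgroup Ω} {φ : P →* Ω} {y : Ω} :
    y ∈ (R.subgroupOf P).map φ ↔ ∃ (x : Ω) (hx : x ∈ P), x ∈ R ∧ φ ⟨x, hx⟩ = y := by
  constructor
  · rintro ⟨⟨x, hx⟩, hxR, rfl⟩
    exact ⟨x, hx, hxR, rfl⟩
  · rintro ⟨x, hx, hxR, rfl⟩
    exact ⟨⟨x, hx⟩, hxR, rfl⟩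

theorem apply_mem_map_subgroupOf {P R : Subgroup Ω} (φ : P →* Ω) {x : P} (hx : (x : Ω) ∈ R) :
    φ x ∈ (R.subgroupOf P).map φ :=
  ⟨x, hx, rfl⟩

theorem map_subgroupOf_self {P : Subgroup Ω} (φ : P →* Ω) : (P.subgroupOf P).map φ = φ.range := by
  rw [Subgroup.subgroupOf_self, MonoidHom.range_eq_map]

/-- The inverse of a map of the system, on its range. -/
theorem exists_inv {P Q : Subgroup Ω} {φ : P →* Ω} (hφ : φ ∈ F.Hom P) (hQ : φ.range = Q) :
    ∃ ψ : Q →* Ω, ψ ∈ F.Hom Q ∧ ψ.range = P ∧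
      (∀ (x : P) (hx : φ x ∈ Q), ψ ⟨φ x, hx⟩ = x) ∧
      ∀ (y : Q) (hy : ψ y ∈ P), φ ⟨ψ y, hy⟩ = (y : Ω) := by
  subst hQ
  obtain ⟨ψ, hψ, h⟩ := F.inv_mem hφ
  have key : ∀ (x : P) (hx : φ x ∈ φ.range), ψ ⟨φ x, hx⟩ = x := fun x _ => h x
  refine ⟨ψ, hψ, le_antisymm ?_ ?_, key, ?_⟩
  · rintro _ ⟨⟨_, x, rfl⟩, rfl⟩
    exact Set.mem_of_eq_of_mem (key x ⟨x, rfl⟩) x.2
  · intro x hx
    exact ⟨⟨φ ⟨x, hx⟩, ⟨x, hx⟩, rfl⟩, key _ _⟩
  · rintro ⟨_, x, rfl⟩ hy
    exact apply_congr φ (key x _)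

theorem card_range {P : Subgroup Ω} {φ : P →* Ω} (hφ : φ ∈ F.Hom P) :
    Nat.card φ.range = Nat.card P :=
  Nat.card_congr (Equiv.ofBijective φ.rangeRestrict
    ⟨MonoidHom.rangeRestrict_injective_iff.2 (F.injective_of_mem hφ),
      MonoidHom.rangeRestrict_surjective φ⟩).symm

theorem card_map_subgroupOf {P R : Subgroup Ω} {φ : P →* Ω} (hφ : Function.Injective φ)
    (h : R ≤ P) : Nat.card ((R.subgroupOf P).map φ) = Nat.card R := by
  rw [← Nat.card_congr (Subgroup.equivMapOfInjective _ φ hφ).toEquiv]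
  exact Nat.card_congr (Subgroup.subgroupOfEquivOfLe h).toEquiv

/-! ### Conjugacy of subgroups -/

theorem isConj_refl {P : Subgroup Ω} (hP : P ≤ S) : F.IsConj P P :=
  ⟨P.subtype, subtype_mem hP, P.range_subtype⟩

theorem IsConj.le_left {P Q : Subgroup Ω} (h : F.IsConj P Q) : P ≤ S := by
  obtain ⟨φ, hφ, -⟩ := h
  exact le_of_mem_hom hφ

theorem IsConj.le_right {P Q : Subgroup Ω} (h : F.IsConj P Q) : Q ≤ S := by
  obtain ⟨φ, hφ, rfl⟩ := h
  exact range_le_S hφ

theorem isConj_symm {P Q : Subgroup Ω} (h : F.IsConj P Q) : F.IsConj Q P := by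
  obtain ⟨φ, hφ, hr⟩ := h
  obtain ⟨ψ, hψ, hψr, -, -⟩ := exists_inv hφ hr
  exact ⟨ψ, hψ, hψr⟩

theorem isConj_trans {P Q R : Subgroup Ω} (h₁ : F.IsConj P Q) (h₂ : F.IsConj Q R) :
    F.IsConj P R := by
  obtain ⟨φ, hφ, rfl⟩ := h₁
  obtain ⟨ψ, hψ, rfl⟩ := h₂
  refine ⟨ψ.comp φ.rangeRestrict, comp_mem_of_eq hφ hψ (fun x => ⟨x, rfl⟩) fun _ => rfl, ?_⟩
  rw [MonoidHom.range_comp, MonoidHom.range_eq_top.2 (MonoidHom.rangeRestrict_surjective φ),
    ← MonoidHom.range_eq_map]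

theorem isConj_map {P R : Subgroup Ω} {φ : P →* Ω} (hφ : φ ∈ F.Hom P) (h : R ≤ P) :
    F.IsConj R ((R.subgroupOf P).map φ) :=
  ⟨_, restrict_mem hφ h, range_restrict φ h⟩

theorem IsConj.card_eq {P Q : Subgroup Ω} (h : F.IsConj P Q) : Nat.card Q = Nat.card P := by
  obtain ⟨φ, hφ, rfl⟩ := h
  exact card_range hφ

/-! ### Finiteness -/

theorem finite_of_le [Finite S] {P : Subgroup Ω} (h : P ≤ S) : Finite P :=
  Finite.of_injective _ (Subgroup.inclusion_injective h)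

theorem finite_mulAut {P : Subgroup Ω} [Finite P] : Finite (MulAut P) :=
  Finite.of_injective (fun α : MulAut P => (α : P → P)) fun _ _ h => DFunLike.coe_injective h

theorem isPGroup_of_le {p : ℕ} (hS : IsPGroup p S) {P : Subgroup Ω} (h : P ≤ S) : IsPGroup p P :=
  hS.to_le h

theorem eq_of_le_of_card_le [Finite S] {P Q : Subgroup Ω} (hQ : Q ≤ S) (h : P ≤ Q)
    (hc : Nat.card Q ≤ Nat.card P) : P = Q := by
  have := finite_of_le hQ
  exact Subgroup.eq_of_le_of_card_ge h hc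

theorem card_le_of_le [Finite S] {P Q : Subgroup Ω} (hQ : Q ≤ S) (h : P ≤ Q) :
    Nat.card P ≤ Nat.card Q := by
  have := finite_of_le hQ
  exact Nat.card_le_card_of_injective _ (Subgroup.inclusion_injective h)

theorem finite_setOf_le [Finite S] (S' : Subgroup Ω) (h : S' ≤ S) :
    {R : Subgroup Ω | R ≤ S'}.Finite := by
  have := finite_of_le h
  have : {R : Subgroup Ω | R ≤ S'} ⊆ Set.range fun A : Subgroup S' => A.map S'.subtype := by
    intro R hR
    exact ⟨R.subgroupOf S', Subgroup.map_subgroupOf_eq_of_le hR⟩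
  exact (Set.finite_range _).subset this

/-! ### `C_S(P)` and `N_S(P)` -/

theorem mem_centralizerIn {P : Subgroup Ω} {g : Ω} :
    g ∈ centralizerIn S P ↔ g ∈ S ∧ ∀ x ∈ P, x * g = g * x := Iff.rfl

theorem mem_normalizerIn {P : Subgroup Ω} {g : Ω} :
    g ∈ normalizerIn S P ↔ g ∈ S ∧ ∀ x, x ∈ P ↔ g * x * g⁻¹ ∈ P := Iff.rfl

theorem centralizerIn_le_S (P : Subgroup Ω) : centralizerIn S P ≤ S := inf_le_left

theorem normalizerIn_le_S (P : Subgroup Ω) : normalizerIn S P ≤ S := inf_le_left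

theorem conj_eq_of_mem_centralizerIn {P : Subgroup Ω} {g : Ω} (hg : g ∈ centralizerIn S P)
    {x : Ω} (hx : x ∈ P) : g * x * g⁻¹ = x := by
  rw [← hg.2 x hx]; group

theorem centralizer_le_normalizer' (P : Subgroup Ω) :
    Subgroup.centralizer (P : Set Ω) ≤ Subgroup.normalizer (P : Set Ω) := by
  intro g hg
  rw [Subgroup.mem_normalizer_iff]
  intro x
  constructor
  · intro hx
    have : g * x * g⁻¹ = x := by rw [← hg x hx]; group
    rwa [this]
  · intro hx
    have h1 := hg _ hx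
    have : g * x * g⁻¹ = x := by
      have h2 : g * x * g⁻¹ * g = g * x := by group
      rw [h2] at h1
      exact (mul_left_cancel h1).symm
    rwa [this] at hx

theorem centralizerIn_le_normalizerIn (P : Subgroup Ω) :
    centralizerIn S P ≤ normalizerIn S P :=
  inf_le_inf_left S (centralizer_le_normalizer' P)

theorem le_normalizerIn {P : Subgroup Ω} (h : P ≤ S) : P ≤ normalizerIn S P :=
  le_inf h Subgroup.le_normalizer

theorem center_le_centralizerIn {P : Subgroup Ω} (h : P ≤ S) :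
    P ⊓ Subgroup.centralizer (P : Set Ω) ≤ centralizerIn S P :=
  inf_le_inf_right _ h

theorem mem_normalizer_of_conj_mem [Finite S] {P : Subgroup Ω} (hP : P ≤ S) {g : Ω}
    (h : ∀ x ∈ P, g * x * g⁻¹ ∈ P) : g ∈ Subgroup.normalizer (P : Set Ω) := by
  have := finite_of_le hP
  let f : P → P := fun x => ⟨g * x * g⁻¹, h x x.2⟩
  have hf : Function.Surjective f := by
    refine Finite.surjective_of_injective fun a b hab => ?_
    have : g * (a : Ω) * g⁻¹ = g * (b : Ω) * g⁻¹ := congrArg Subtype.val hab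
    exact Subtype.ext (mul_left_cancel (mul_right_cancel this))
  rw [Subgroup.mem_normalizer_iff]
  refine fun x => ⟨h x, fun hx => ?_⟩
  obtain ⟨y, hy⟩ := hf ⟨_, hx⟩
  have : g * (y : Ω) * g⁻¹ = g * x * g⁻¹ := congrArg Subtype.val hy
  rw [← mul_left_cancel (mul_right_cancel this)]
  exact y.2

/-! ### Automorphism groups -/

theorem autGroup_carrier {P : Subgroup Ω} (hP : P ≤ S) {α : MulAut P} :
    α ∈ F.autGroup P ↔ P.subtype.comp α.toMonoidHom ∈ F.Hom P := by
  constructor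
  · intro h
    induction h using Subgroup.closure_induction with
    | mem β hβ => exact hβ
    | one =>
      exact restrict_mem_of_eq (subtype_mem hP) le_rfl fun x => rfl
    | mul β γ _ _ hβ hγ =>
      refine comp_mem_of_eq hγ hβ (fun x => (γ x).2) fun x => ?_
      rfl
    | inv β _ hβ =>
      obtain ⟨ψ, hψ, -, h1, -⟩ := exists_inv hβ (Q := P) (by
        rw [MonoidHom.range_comp, MonoidHom.range_eq_top.2 β.surjective, ← MonoidHom.range_eq_map,
          P.range_subtype])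
      refine restrict_mem_of_eq hψ le_rfl fun x => ?_
      have := h1 (β⁻¹ x) (β (β⁻¹ x)).2
      refine this.symm.trans (apply_congr ψ ?_)
      show ((β (β⁻¹ x) : P) : Ω) = x
      simp
  · exact fun h => Subgroup.subset_closure h

theorem autGroup_eq_bot {P : Subgroup Ω} (hP : ¬ P ≤ S) : F.autGroup P = ⊥ := by
  rw [eq_bot_iff, FusionSystem.autGroup, Subgroup.closure_le]
  intro α hα
  exact absurd (le_of_mem_hom hα) hP

theorem autGroup_mono {E : FusionSystem S} (h : E ≤ F) (P : Subgroup Ω) :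
    E.autGroup P ≤ F.autGroup P :=
  Subgroup.closure_mono fun _ hα => h P hα

theorem autGroup_mono' {T : Subgroup Ω} {E : FusionSystem T} (h : E.IsSubsystemOf F)
    (P : Subgroup Ω) : E.autGroup P ≤ F.autGroup P :=
  Subgroup.closure_mono fun _ hα => h P hα

theorem range_subtype_comp {P : Subgroup Ω} (α : MulAut P) :
    (P.subtype.comp α.toMonoidHom).range = P := by
  rw [MonoidHom.range_comp, MonoidHom.range_eq_top.2 α.surjective, ← MonoidHom.range_eq_map,
    P.range_subtype]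

/-- A map of the system with source and range `P`, as an element of `Aut_F(P)`. -/
noncomputable def autOfRange {P : Subgroup Ω} (φ : P →* Ω) (hinj : Function.Injective φ)
    (hr : φ.range = P) : MulAut P :=
  MulEquiv.ofBijective (φ.codRestrict P fun x => hr.le ⟨x, rfl⟩)
    ⟨fun _ _ h => hinj (congrArg Subtype.val h), fun y => by
      obtain ⟨x, hx⟩ := hr.ge y.2
      exact ⟨x, Subtype.ext hx⟩⟩

@[simp] theorem coe_autOfRange {P : Subgroup Ω} (φ : P →* Ω) (hinj : Function.Injective φ)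
    (hr : φ.range = P) (x : P) : ((autOfRange φ hinj hr x : P) : Ω) = φ x := rfl

theorem autOfRange_mem {P : Subgroup Ω} {φ : P →* Ω} (hφ : φ ∈ F.Hom P) (hr : φ.range = P) :
    autOfRange φ (F.injective_of_mem hφ) hr ∈ F.autGroup P :=
  Subgroup.subset_closure (restrict_mem_of_eq hφ le_rfl fun _ => rfl)

/-- The conjugation homomorphism from `N_K(P)` to `Aut(P)`. -/
def conjAut (K P : Subgroup Ω) : ↥(K ⊓ Subgroup.normalizer (P : Set Ω)) →* MulAut P where
  toFun g :=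
    { toFun := fun x => ⟨g * x * (g : Ω)⁻¹, (Subgroup.mem_normalizer_iff.1 g.2.2 x).1 x.2⟩
      invFun := fun x => ⟨(g : Ω)⁻¹ * x * g, (Subgroup.mem_normalizer_iff''.1 g.2.2 x).1 x.2⟩
      left_inv := fun x => Subtype.ext (by simp [mul_assoc])
      right_inv := fun x => Subtype.ext (by simp [mul_assoc])
      map_mul' := fun x y => Subtype.ext (by simp [mul_assoc]) }
  map_one' := MulEquiv.ext fun x => Subtype.ext (by simp)
  map_mul' g h := MulEquiv.ext fun x => Subtype.ext (by simp [mul_assoc])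

@[simp] theorem coe_conjAut (K P : Subgroup Ω) (g : ↥(K ⊓ Subgroup.normalizer (P : Set Ω)))
    (x : P) : ((conjAut K P g x : P) : Ω) = g * x * (g : Ω)⁻¹ := rfl

theorem mem_normalizer_of_aut {P : Subgroup Ω} {α : MulAut P} {g : Ω}
    (h : ∀ x : P, ((α x : P) : Ω) = g * x * g⁻¹) : g ∈ Subgroup.normalizer (P : Set Ω) := by
  rw [Subgroup.mem_normalizer_iff]
  intro x
  constructor
  · intro hx
    rw [← h ⟨x, hx⟩]
    exact (α _).2
  · intro hx
    have h1 := h (α⁻¹ ⟨_, hx⟩)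
    simp only [MulAut.apply_inv_self] at h1
    rw [mul_left_cancel (mul_right_cancel h1)]
    exact (α⁻¹ _).2

theorem autInducedBy_eq_range (K P : Subgroup Ω) : autInducedBy K P = (conjAut K P).range := by
  refine le_antisymm ((Subgroup.closure_le _).2 ?_) ?_
  · rintro α ⟨g, hg, h⟩
    exact ⟨⟨g, hg, mem_normalizer_of_aut h⟩, MulEquiv.ext fun x => Subtype.ext (h x).symm⟩
  · rintro _ ⟨g, rfl⟩
    exact Subgroup.subset_closure ⟨g, g.2.1, fun _ => rfl⟩

theorem mem_autInducedBy {K P : Subgroup Ω} {α : MulAut P} :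
    α ∈ autInducedBy K P ↔ ∃ g ∈ K, ∀ x : P, ((α x : P) : Ω) = g * x * g⁻¹ := by
  refine ⟨fun h => ?_, fun ⟨g, hg, h⟩ => Subgroup.subset_closure ⟨g, hg, h⟩⟩
  rw [autInducedBy_eq_range] at h
  obtain ⟨g, rfl⟩ := h
  exact ⟨g, g.2.1, fun _ => rfl⟩

theorem mem_ker_conjAut {K P : Subgroup Ω} {g : ↥(K ⊓ Subgroup.normalizer (P : Set Ω))} :
    g ∈ (conjAut K P).ker ↔ (g : Ω) ∈ Subgroup.centralizer (P : Set Ω) := by
  rw [MonoidHom.mem_ker]
  constructor
  · intro h x hx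
    have := congrArg (fun α : MulAut P => ((α ⟨x, hx⟩ : P) : Ω)) h
    simp only [coe_conjAut, MulAut.one_apply] at this
    rw [← mul_inv_eq_iff_eq_mul.1 this]
  · intro h
    refine MulEquiv.ext fun x => Subtype.ext ?_
    simp only [coe_conjAut, MulAut.one_apply]
    rw [← h x x.2]; group

theorem card_normalizerIn (S P : Subgroup Ω) :
    Nat.card (normalizerIn S P) = Nat.card (autInducedBy S P) * Nat.card (centralizerIn S P) := by
  have hk : Nat.card (conjAut S P).ker = Nat.card (centralizerIn S P) := by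
    refine Nat.card_congr
      { toFun := fun g => ⟨g.1.1, g.1.2.1, mem_ker_conjAut.1 g.2⟩
        invFun := fun g => ⟨⟨g.1, g.2.1, centralizer_le_normalizer' P g.2.2⟩,
          mem_ker_conjAut.2 g.2.2⟩
        left_inv := fun g => rfl
        right_inv := fun g => rfl }
  rw [autInducedBy_eq_range, ← hk]
  exact (Subgroup.card_eq_card_quotient_mul_card_subgroup (conjAut S P).ker).trans
    (congrArg (· * _) (Nat.card_congr (QuotientGroup.quotientKerEquivRange _).toEquiv))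

theorem autInducedBy_le_autGroup {P : Subgroup Ω} (hP : P ≤ S) :
    autInducedBy S P ≤ F.autGroup P := by
  intro α hα
  obtain ⟨g, hg, h⟩ := mem_autInducedBy.1 hα
  exact (autGroup_carrier hP).2 (conj_mem_of_eq hP hg fun x => h x)

theorem inn_eq_autInducedBy (P : Subgroup Ω) : Inn P = autInducedBy P P := by
  ext α
  rw [mem_autInducedBy]
  constructor
  · rintro ⟨g, rfl⟩
    exact ⟨g, g.2, fun x => rfl⟩
  · rintro ⟨g, hg, h⟩
    exact ⟨⟨g, hg⟩, MulEquiv.ext fun x => Subtype.ext (h x).symm⟩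

theorem autInducedBy_mono {K L : Subgroup Ω} (h : K ≤ L) (P : Subgroup Ω) :
    autInducedBy K P ≤ autInducedBy L P :=
  Subgroup.closure_mono fun _ ⟨g, hg, hh⟩ => ⟨g, h hg, hh⟩

theorem inn_le_autInducedBy {P : Subgroup Ω} (hP : P ≤ S) : Inn P ≤ autInducedBy S P := by
  rw [inn_eq_autInducedBy]
  exact autInducedBy_mono hP P

theorem inn_le_autGroup {P : Subgroup Ω} (hP : P ≤ S) : Inn P ≤ F.autGroup P :=
  (inn_le_autInducedBy hP).trans (autInducedBy_le_autGroup hP)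

theorem isPGroup_autInducedBy {p : ℕ} (hS : IsPGroup p S) (P : Subgroup Ω) :
    IsPGroup p (autInducedBy S P) := by
  rw [autInducedBy_eq_range]
  exact (hS.to_le (normalizerIn_le_S P)).of_surjective _ (conjAut S P).rangeRestrict_surjective

/-! ### Extenders -/

theorem mem_extender {P : Subgroup Ω} {φ : P →* Ω} {g : Ω} :
    g ∈ extender S P φ ↔ g ∈ S ∧ g ∈ Subgroup.normalizer (P : Set Ω) ∧
      ∃ h ∈ S, ∀ (x : P) (hx : g * (x : Ω) * g⁻¹ ∈ P),
        φ ⟨g * x * g⁻¹, hx⟩ = h * φ x * h⁻¹ := by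
  refine ⟨fun hg => ?_, fun hg => Subgroup.subset_closure hg⟩
  induction hg using Subgroup.closure_induction with
  | mem a ha => exact ha
  | one => exact ⟨one_mem _, one_mem _, 1, one_mem _, fun x hx =>
      (apply_congr φ (y := x) (by simp)).trans (by simp)⟩
  | mul a b _ _ ha hb =>
    obtain ⟨haS, haN, s, hsS, hs⟩ := ha
    obtain ⟨hbS, hbN, t, htS, ht⟩ := hb
    refine ⟨mul_mem haS hbS, mul_mem haN hbN, s * t, mul_mem hsS htS, fun x hx => ?_⟩
    have hbx : b * (x : Ω) * b⁻¹ ∈ P := (Subgroup.mem_normalizer_iff.1 hbN x).1 x.2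
    have h1 := hs ⟨_, hbx⟩ ((Subgroup.mem_normalizer_iff.1 haN _).1 hbx)
    rw [ht x hbx] at h1
    refine (apply_congr φ (by simp [mul_assoc])).trans (h1.trans ?_)
    simp [mul_assoc]
  | inv a _ ha =>
    obtain ⟨haS, haN, s, hsS, hs⟩ := ha
    refine ⟨inv_mem haS, inv_mem haN, s⁻¹, inv_mem hsS, fun x hx => ?_⟩
    have h2 : a * (a⁻¹ * (x : Ω) * a⁻¹⁻¹) * a⁻¹ = x := by simp [mul_assoc]
    have h1 := hs ⟨_, hx⟩ (by rw [h2]; exact x.2)
    have h3 : φ x = s * φ ⟨a⁻¹ * (x : Ω) * a⁻¹⁻¹, hx⟩ * s⁻¹ :=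
      (apply_congr φ h2.symm).trans h1
    rw [h3]
    simp [mul_assoc]

theorem extender_le_normalizerIn (P : Subgroup Ω) (φ : P →* Ω) :
    extender S P φ ≤ normalizerIn S P := fun _ hg =>
  ⟨(mem_extender.1 hg).1, (mem_extender.1 hg).2.1⟩

theorem extender_le_S (P : Subgroup Ω) (φ : P →* Ω) : extender S P φ ≤ S :=
  (extender_le_normalizerIn P φ).trans (normalizerIn_le_S P)

theorem le_extender {P : Subgroup Ω} {φ : P →* Ω} (hφ : φ ∈ F.Hom P) : P ≤ extender S P φ := by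
  intro g hg
  refine mem_extender.2 ⟨le_of_mem_hom hφ hg, Subgroup.le_normalizer hg,
    φ ⟨g, hg⟩, apply_mem_S hφ _, fun x hx => ?_⟩
  have : (⟨g * x * g⁻¹, hx⟩ : P) = ⟨g, hg⟩ * x * ⟨g, hg⟩⁻¹ := Subtype.ext (by simp)
  rw [this, map_mul, map_mul, map_inv]

theorem centralizerIn_le_extender (P : Subgroup Ω) (φ : P →* Ω) :
    centralizerIn S P ≤ extender S P φ := by
  intro g hg
  refine mem_extender.2 ⟨hg.1, centralizer_le_normalizer' P hg.2, 1, one_mem _, fun x hx => ?_⟩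
  rw [one_mul, inv_one, mul_one]
  exact apply_congr φ (conj_eq_of_mem_centralizerIn hg x.2)

/-- If conjugation by `g` on `P` is turned by `φ` into conjugation by some element of `S`
on `φ(P)`, then `g` is in the extender. -/
theorem mem_extender_of {P : Subgroup Ω} {φ : P →* Ω} {g h : Ω} (hg : g ∈ normalizerIn S P)
    (hh : h ∈ S) (hyp : ∀ (x : P) (hx : g * (x : Ω) * g⁻¹ ∈ P),
      φ ⟨g * x * g⁻¹, hx⟩ = h * φ x * h⁻¹) : g ∈ extender S P φ :=
  mem_extender.2 ⟨hg.1, hg.2, h, hh, hyp⟩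

/-! ### Existence of fully normalized and fully centralized conjugates -/

theorem exists_conj_max [Finite S] (f : Subgroup Ω → ℕ) {P : Subgroup Ω} (hP : P ≤ S) :
    ∃ Q : Subgroup Ω, F.IsConj P Q ∧ ∀ R : Subgroup Ω, F.IsConj Q R → f R ≤ f Q := by
  have hfin : {Q : Subgroup Ω | F.IsConj P Q}.Finite :=
    (finite_setOf_le S le_rfl).subset fun Q hQ => IsConj.le_right hQ
  obtain ⟨Q, hQ, hmax⟩ := Set.exists_max_image _ f hfin ⟨P, isConj_refl hP⟩
  exact ⟨Q, hQ, fun R hR => hmax R (isConj_trans hQ hR)⟩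

theorem exists_fullyNormalized [Finite S] (F : FusionSystem S) {P : Subgroup Ω} (hP : P ≤ S) :
    ∃ Q : Subgroup Ω, F.IsConj P Q ∧ F.IsFullyNormalized Q := by
  obtain ⟨Q, hQ, h⟩ := exists_conj_max (F := F) (fun R => Nat.card (normalizerIn S R)) hP
  exact ⟨Q, hQ, IsConj.le_right hQ, h⟩

theorem exists_fullyCentralized [Finite S] (F : FusionSystem S) {P : Subgroup Ω} (hP : P ≤ S) :
    ∃ Q : Subgroup Ω, F.IsConj P Q ∧ F.IsFullyCentralized Q := by
  obtain ⟨Q, hQ, h⟩ := exists_conj_max (F := F) (fun R => Nat.card (centralizerIn S R)) hP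
  exact ⟨Q, hQ, IsConj.le_right hQ, h⟩

/-! ### Equality of systems -/

theorem ext_hom {E E' : FusionSystem S} (h : ∀ P, E.Hom P = E'.Hom P) : E = E' := by
  cases E; cases E'
  congr
  exact funext h

theorem le_antisymm' {E E' : FusionSystem S} (h₁ : E ≤ E') (h₂ : E' ≤ E) : E = E' :=
  ext_hom fun P => Set.Subset.antisymm (h₁ P) (h₂ P)

end CfsgLib.Fusion
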