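import Cfsg.Agent.Fusion.NormalCriteria

/-!
The centre of a fusion system as a direct factor of the centre of the Sylow group.
-/

set_option autoImplicit false

open Cfsg Cfsg.FusionSystem

namespace CfsgLib.Fusion

universe u

/-- The subgroup of points fixed by a group of automorphisms. -/
def autFixed {G : Type*} [Group G] {A : Type*} [CommGroup A] (a : G →* MulAut A) (P : Subgroup G) :
    Subgroup A where
  carrier := {x | ∀ g ∈ P, a g x = x}
  one_mem' := fun g _ => map_one _
  mul_mem' := fun hx hy g hg => by rw [map_mul, hx g hg, hy g hg]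
  inv_mem' := fun hx g hg => by rw [map_inv, hx g hg]

/-- Averaging over cosets of a subgroup of index prime to the order splits off the fixed points. -/
theorem exists_autFixed_compl {G : Type*} [Group G] [Finite G] {A : Type*} [CommGroup A] [Finite A]
    (a : G →* MulAut A) (P : Subgroup G) (hco : (Nat.card A).Coprime P.index) :
    ∃ K : Subgroup A, K ≤ autFixed a P ∧ autFixed a ⊤ ⊓ K = ⊥ ∧ autFixed a ⊤ ⊔ K = autFixed a P := by
  classical
  haveI : Fintype (G ⧸ P) := Fintype.ofFinite _
  let t : A →* A :=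
    { toFun := fun x => ∏ c : G ⧸ P, a c.out x
      map_one' := Finset.prod_eq_one fun c _ => map_one _
      map_mul' := fun x y => by
        rw [← Finset.prod_mul_distrib]
        exact Finset.prod_congr rfl fun c _ => map_mul _ _ _ }
  have htfix : ∀ x ∈ autFixed a P, t x ∈ autFixed a ⊤ := by
    intro x hx g _
    show a g (∏ c : G ⧸ P, a c.out x) = ∏ c : G ⧸ P, a c.out x
    rw [map_prod]
    refine Fintype.prod_equiv (MulAction.toPerm g) _ _ fun c => ?_
    obtain ⟨h, hh⟩ := QuotientGroup.mk_out_eq_mul P (g * c.out)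
    have e : (MulAction.toPerm g c : G ⧸ P) = QuotientGroup.mk (g * c.out) := by
      conv_lhs => rw [← QuotientGroup.out_eq' c]
      rfl
    rw [e, hh, map_mul a (g * c.out), map_mul a g, MulAut.mul_apply, MulAut.mul_apply, hx h h.2]
  have htpow : ∀ x ∈ autFixed a ⊤, t x = x ^ P.index := by
    intro x hx
    show ∏ c : G ⧸ P, a c.out x = x ^ P.index
    rw [Finset.prod_congr rfl (fun c _ => hx c.out (Subgroup.mem_top _)), Finset.prod_const,
      Finset.card_univ, Subgroup.index, Nat.card_eq_fintype_card]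
  have hinj : ∀ x : A, x ^ P.index = 1 → x = 1 := fun x h =>
    (powCoprime hco).injective (h.trans (one_pow _).symm)
  refine ⟨t.ker ⊓ autFixed a P, inf_le_right, ?_, le_antisymm ?_ ?_⟩
  · rw [eq_bot_iff]
    rintro x ⟨hx, hxt, -⟩
    exact hinj x (by rw [← htpow x hx]; exact hxt)
  · exact sup_le (fun x hx g _ => hx g (Subgroup.mem_top g)) inf_le_right
  · intro x hx
    obtain ⟨y, hy⟩ : ∃ y, y = (powCoprime hco).symm (t x) := ⟨_, rfl⟩
    have hy' : y ^ P.index = t x := by
      rw [hy]; exact (powCoprime hco).apply_symm_apply _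
    have hyfix : y ∈ autFixed a ⊤ := fun g hg =>
      (powCoprime hco).injective (show (a g y) ^ P.index = y ^ P.index by
        rw [← map_pow, hy']; exact htfix x hx g hg)
    refine Subgroup.mem_sup.2 ⟨y, hyfix, y⁻¹ * x, ⟨?_, ?_⟩, mul_inv_cancel_left y x⟩
    · show t (y⁻¹ * x) = 1
      rw [map_mul, map_inv, htpow y hyfix, hy', inv_mul_cancel]
    · exact Subgroup.mul_mem _ (Subgroup.inv_mem _ fun g _ => hyfix g (Subgroup.mem_top g)) hx

variable {Ω : Type u} [Group Ω] {S : Subgroup Ω} [Finite S] {F : FusionSystem S}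

/-- When the centre of the Sylow group lies in a normal subgroup, the centre of the system is a
direct factor of it. -/
theorem exists_center_compl (p : ℕ) [Fact p.Prime] (hS : IsPGroup p S) (hF : F.IsSaturated p)
    {Q : Subgroup Ω} (hQ : F.IsNormal Q) (hZ : S ⊓ Subgroup.centralizer (S : Set Ω) ≤ Q) :
    ∃ K : Subgroup Ω, K ≤ S ⊓ Subgroup.centralizer (S : Set Ω) ∧ F.center ⊓ K = ⊥ ∧
      F.center ⊔ K = S ⊓ Subgroup.centralizer (S : Set Ω) := by
  classical
  set Z := S ⊓ Subgroup.centralizer (S : Set Ω) with hZd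
  have hQS := normal_S_le_normalizer hQ
  have hQfn : F.IsFullyNormalized Q := ⟨hQ.1, fun U _ => by
    have e : normalizerIn S Q = S := le_antisymm (normalizerIn_le_S Q) fun y hy => ⟨hy, hQS hy⟩
    rw [e]
    exact card_le_of_le le_rfl (normalizerIn_le_S U)⟩
  obtain ⟨⟨-, R, hR⟩, -⟩ := good_of_fullyNormalized p hS hF hQfn
  haveI : Finite Q := finite_of_le hQ.1
  letI : CommGroup (Subgroup.center Q) :=
    { (inferInstance : Group (Subgroup.center Q)) with
      mul_comm := fun x y => Subtype.ext (Subgroup.mem_center_iff.1 y.2 x) }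
  let a : F.autGroup Q →* MulAut (Subgroup.center Q) :=
    { toFun := fun β => Subgroup.centerCongr (β : MulAut Q)
      map_one' := MulEquiv.ext fun _ => Subtype.ext rfl
      map_mul' := fun _ _ => MulEquiv.ext fun _ => Subtype.ext rfl }
  haveI : Finite (MulAut Q) := Finite.of_injective _ DFunLike.coe_injective
  obtain ⟨m, hm⟩ := IsPGroup.iff_card.1
    (((isPGroup_of_le hS hQ.1).to_subgroup (Subgroup.center Q)))
  have hco : (Nat.card (Subgroup.center Q)).Coprime (R : Subgroup (F.autGroup Q)).index := by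
    rw [hm]
    exact ((Nat.Prime.coprime_iff_not_dvd Fact.out).2 R.not_dvd_index).pow_left m
  obtain ⟨K, hKle, hKi, hKs⟩ := exists_autFixed_compl a (R : Subgroup (F.autGroup Q)) hco
  let j : Subgroup.center Q →* Ω := Q.subtype.comp (Subgroup.center Q).subtype
  have hj : Function.Injective j := Q.subtype_injective.comp (Subgroup.center Q).subtype_injective
  have hRfix : (autFixed a (R : Subgroup (F.autGroup Q))).map j = Z := by
    apply le_antisymm
    · rintro _ ⟨x, hx, rfl⟩
      refine ⟨hQ.1 (x : Q).2, Subgroup.mem_centralizer_iff.2 fun s hs => ?_⟩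
      let β := conjAut S Q ⟨s, hs, hQS hs⟩
      have hβ : β ∈ autInducedBy S Q := mem_autInducedBy.2 ⟨s, hs, fun _ => rfl⟩
      have h1 := hx ⟨β, autInducedBy_le_autGroup hQ.1 hβ⟩ (by rw [hR]; exact hβ)
      have h2 : s * j x * s⁻¹ = j x := congrArg (fun w : Subgroup.center Q => ((w : Q) : Ω)) h1
      calc s * j x = s * j x * s⁻¹ * s := by group
        _ = j x * s := by rw [h2]
    · intro z hz
      have hzc : (⟨z, hZ hz⟩ : Q) ∈ Subgroup.center Q := Subgroup.mem_center_iff.2 fun q =>
        Subtype.ext (Subgroup.mem_centralizer_iff.1 hz.2 q (hQ.1 q.2))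
      refine ⟨⟨⟨z, hZ hz⟩, hzc⟩, fun β hβ => ?_, rfl⟩
      rw [hR] at hβ
      obtain ⟨s, hs, he⟩ := mem_autInducedBy.1 hβ
      refine Subtype.ext (Subtype.ext ?_)
      show (((β : MulAut Q) ⟨z, hZ hz⟩ : Q) : Ω) = z
      refine (he ⟨z, hZ hz⟩).trans ?_
      show s * z * s⁻¹ = z
      rw [Subgroup.mem_centralizer_iff.1 hz.2 s hs, mul_inv_cancel_right]
  have hTfix : (autFixed a ⊤).map j = F.center := by
    apply le_antisymm
    · have hle : (autFixed a ⊤).map j ≤ Q := by
        rintro _ ⟨x, -, rfl⟩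
        exact (x : Q).2
      refine le_center (isCentral_of_fixed p hS hF (hle.trans hQ.1) ?_)
      rintro _ ⟨x, hx, rfl⟩ y ⟨φ, hφ, rfl⟩
      obtain ⟨ψ, hψ, he, hmap⟩ := hQ.2 _ φ hφ
      have hr : (ψ.comp (Subgroup.inclusion (le_sup_right : Q ≤ Subgroup.zpowers (j x) ⊔ Q))).range = Q := by
        rw [← MonoidHom.map_range, Subgroup.inclusion_range]
        exact hmap
      have hm' := restrict_mem hψ (le_sup_right : Q ≤ Subgroup.zpowers (j x) ⊔ Q)
      have h1 : ψ (Subgroup.inclusion le_sup_right (x : Q)) = j x :=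
        congrArg (fun w : Subgroup.center Q => ((w : Q) : Ω))
          (hx ⟨_, autOfRange_mem hm' hr⟩ (Subgroup.mem_top _))
      rw [← he]
      exact (apply_congr ψ rfl).trans h1
    · intro z hz
      have hzZ : z ∈ Z := ⟨center_le_S hz, Subgroup.mem_centralizer_iff.2 fun s hs => by
        have h1 := isCentral_fix isCentral_center (F.conj_mem le_rfl hs) ⟨z, center_le_S hz⟩ hz
        calc s * z = s * z * s⁻¹ * s := by group
          _ = z * s := by rw [show s * z * s⁻¹ = z from h1]⟩
      have hzc : (⟨z, hZ hzZ⟩ : Q) ∈ Subgroup.center Q := Subgroup.mem_center_iff.2 fun q =>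
        Subtype.ext (Subgroup.mem_centralizer_iff.1 hzZ.2 q (hQ.1 q.2))
      refine ⟨⟨⟨z, hZ hzZ⟩, hzc⟩, fun β _ => Subtype.ext (Subtype.ext ?_), rfl⟩
      exact isCentral_fix isCentral_center ((autGroup_carrier hQ.1).1 β.2) ⟨z, hZ hzZ⟩ hz
  refine ⟨K.map j, (Subgroup.map_mono hKle).trans hRfix.le, ?_, ?_⟩
  · rw [← hTfix, ← Subgroup.map_inf _ _ _ hj, hKi, Subgroup.map_bot]
  · rw [← hTfix, ← Subgroup.map_sup, hKs, hRfix]

end CfsgLib.Fusion
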