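import Cfsg.Agent.Fusion.GlaubermanFunctor

/-!
Control of central elements by a functor: an element fixed by the normalizer system of the value of
the functor at `S` is central in the system, given the same statement for models.
-/

set_option autoImplicit false
set_option linter.style.haveILetI false

open Cfsg Cfsg.FusionSystem

namespace CfsgLib.Fusion

universe u

section

variable {Ω : Type*} [Group Ω] {S : Subgroup Ω} {F : FusionSystem S} {z : Ω}

/-- A map that extends to a map fixing `z` is a map of `C_F(z)`. -/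
theorem mem_centralizerHom_zpowers (hC : centralizerIn S (Subgroup.zpowers z) = S)
    {P : Subgroup Ω} {φ : P →* Ω} (hφ : φ ∈ F.Hom P) {R : Subgroup Ω} (hPR : P ≤ R) (hzR : z ∈ R)
    {ψ : R →* Ω} (hψ : ψ ∈ F.Hom R) (he : ∀ x : P, ψ (Subgroup.inclusion hPR x) = φ x)
    (hf : ψ ⟨z, hzR⟩ = z) : φ ∈ F.centralizerHom (Subgroup.zpowers z) P := by
  refine ⟨hφ, (le_of_mem_hom hφ).trans hC.ge, fun x => hC.ge (apply_mem_S hφ x),
    ψ.comp (Subgroup.inclusion (sup_le hPR (Subgroup.zpowers_le.2 hzR))), restrict_mem hψ _,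
    fun x => he x, fun x => ?_⟩
  obtain ⟨k, hk⟩ := Subgroup.mem_zpowers_iff.1 x.2
  refine (apply_congr ψ (y := ⟨z, hzR⟩ ^ k) ?_).trans ?_
  · push_cast
    exact hk.symm
  · rw [map_zpow, hf, hk]

theorem apply_eq_of_mem_centralizerHom {P : Subgroup Ω} {φ : P →* Ω}
    (hφ : φ ∈ F.centralizerHom (Subgroup.zpowers z) P) (x : P) (hx : (x : Ω) = z) : φ x = z := by
  obtain ⟨-, -, -, ψ, -, he, hf⟩ := hφ
  exact ((apply_congr ψ hx).trans (hf ⟨z, Subgroup.mem_zpowers z⟩)).symm.trans (he x) |>.symm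

theorem mem_normalizerHom_self {R : Subgroup Ω} (hR : R ≤ S) {ψ : R →* Ω} (hψ : ψ ∈ F.Hom R)
    (hr : ψ.range = R) : ψ ∈ F.normalizerHom R R := by
  refine ⟨hψ, le_normalizerIn hR, fun x => le_normalizerIn hR (hr.le ⟨x, rfl⟩),
    ψ.comp (Subgroup.inclusion (sup_le le_rfl le_rfl)), restrict_mem hψ _, fun x => rfl, ?_⟩
  rw [map_subgroupOf_congr (ψ := ψ.comp (Subgroup.inclusion (sup_le le_rfl le_rfl))) (χ := ψ)
    le_sup_right le_rfl fun _ _ => rfl, map_subgroupOf_self, hr]

end

/-- The data: a functor containing the centre, a class of admissible central elements, a class of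
systems closed under normalizer systems, and the statement for models. -/
structure CentralControl (p : ℕ) where
  /-- the functor -/
  W : ∀ (Q : Type u) [Group Q], Subgroup Q
  map : ∀ (Q R : Type u) [Group Q] [Group R] [Finite Q], IsPGroup p Q → ∀ φ : Q ≃* R,
    (W Q).map φ.toMonoidHom = W R
  center_le : ∀ (Q : Type u) [Group Q] [Finite Q], IsPGroup p Q → Subgroup.center Q ≤ W Q
  /-- admissible elements -/
  Adm : ∀ {Ω : Type u} [Group Ω], Subgroup Ω → Ω → Prop
  /-- admissible systems -/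
  Good : ∀ {Ω : Type u} [Group Ω] {S : Subgroup Ω}, FusionSystem S → Prop
  adm_mem : ∀ {Ω : Type u} [Group Ω] {S : Subgroup Ω} {z : Ω}, Adm S z →
    z ∈ S ⊓ Subgroup.centralizer (S : Set Ω)
  adm_mono : ∀ {Ω : Type u} [Group Ω] {S V : Subgroup Ω} {z : Ω}, Adm S z → V ≤ S →
    S ⊓ Subgroup.centralizer (S : Set Ω) ≤ V → Adm V z
  good_normalizer : ∀ {Ω : Type u} [Group Ω] {S : Subgroup Ω} [Finite S] (F : FusionSystem S),
    IsPGroup p S → F.IsSaturated p → Good F → ∀ Q, F.IsFullyNormalized Q →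
      ∀ E : FusionSystem (normalizerIn S Q), F.IsNormalizerSystem Q E → Good E
  grp : ∀ {Ω : Type u} [Group Ω] {S : Subgroup Ω} [Finite S] (F : FusionSystem S)
    (G : Type u) [Group G] (ι : S →* G) (Q : Subgroup Ω) (z : S), IsPGroup p S → Good F →
    Adm S (z : Ω) → F.IsNormal Q → F.IsCentric Q → F.IsModel p G ι →
    ∀ T : Sylow p G, (T : Subgroup G) = ι.range →
      (∀ n ∈ Subgroup.normalizer
          (((W ↥(T : Subgroup G)).map (T : Subgroup G).subtype : Subgroup G) : Set G),
        n * ι z = ι z * n) →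
      ∀ g : G, g * ι z = ι z * g

variable {p : ℕ} [Fact p.Prime] (C : CentralControl.{u} p)

/-- The constrained case. -/
theorem CentralControl.fix_of_constrained {Ω : Type u} [Group Ω] {S : Subgroup Ω} [Finite S]
    (hS : IsPGroup p S) {F : FusionSystem S} (hF : F.IsSaturated p) (hg : C.Good F) {z : Ω}
    (hz : C.Adm S z)
    (hfix : ∀ P φ, φ ∈ F.normalizerHom (wOf C.W S) P → ∀ x : P, (x : Ω) = z → φ x = z)
    {Q : Subgroup Ω} (hQ : F.IsNormal Q) (hQc : F.IsCentric Q) {P : Subgroup Ω} {φ : P →* Ω}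
    (hφ : φ ∈ F.Hom P) (x : P) (hx : (x : Ω) = z) : φ x = z := by
  obtain ⟨G, hG, ι, hm⟩ := exists_model p hS hF hQ hQc
  have := hm.1
  obtain ⟨T, hT⟩ := hm.2.2.1
  have hzS := (C.adm_mem hz).1
  set e : S ≃* (T : Subgroup G) :=
    (MonoidHom.ofInjective hm.2.1.1).trans (MulEquiv.subgroupCongr hT.symm)
  have he : (C.W ↥(T : Subgroup G)).map (T : Subgroup G).subtype = (C.W ↥S).map ι := by
    rw [← C.map S _ hS e, Subgroup.map_map]
    rfl
  have hzW : z ∈ wOf C.W S := ⟨⟨z, hzS⟩, C.center_le S hS (Subgroup.mem_center_iff.2 fun s =>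
    Subtype.ext ((C.adm_mem hz).2 s s.2)), rfl⟩
  have hWS : wOf C.W S ≤ S := Subgroup.map_subtype_le _
  have key : ∀ g : G, g * ι ⟨z, hzS⟩ = ι ⟨z, hzS⟩ * g := by
    refine C.grp F G ι Q ⟨z, hzS⟩ hS hg hz hQ hQc hm T hT fun n hn => ?_
    rw [he] at hn
    have hmem : ∀ y : wOf C.W S, n * ι ⟨y, hWS y.2⟩ * n⁻¹ ∈ (C.W ↥S).map ι := by
      rintro ⟨_, w, hw, rfl⟩
      exact (Subgroup.mem_normalizer_iff.1 hn (ι w)).1 ⟨w, hw, rfl⟩
    obtain ⟨ψ, hψ, hψe⟩ := exists_realized_hom hm.2.1 hWS fun y => Subgroup.map_le_range _ _ (hmem y)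
    have hr : ψ.range = wOf C.W S := by
      refine eq_of_le_of_card_le hWS ?_ (card_range hψ).ge
      rintro _ ⟨y, rfl⟩
      obtain ⟨w, hw, hwe⟩ := hmem y
      exact ⟨w, hw, congrArg Subtype.val (hm.2.1.1 (hwe.trans (hψe y).symm))⟩
    have h1 : n * ι ⟨z, hzS⟩ * n⁻¹ = ι ⟨z, hzS⟩ := (hψe ⟨z, hzW⟩).symm.trans
      (congrArg ι (Subtype.ext (hfix _ ψ (mem_normalizerHom_self hWS hψ hr) ⟨z, hzW⟩ rfl)))
    exact mul_inv_eq_iff_eq_mul.1 h1
  obtain ⟨g, hgx⟩ := realized_hom hm.2.1 hφ
  subst hx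
  have h1 := hgx x
  rw [key g, mul_inv_cancel_right] at h1
  exact congrArg Subtype.val (hm.2.1.1 h1)

/-- **Control of central elements**. -/
theorem CentralControl.isCentral :
    ∀ (n : ℕ) {Ω : Type u} [Group Ω] (S : Subgroup Ω) (F : FusionSystem S) (z : Ω), Finite S →
      IsPGroup p S → Nat.card S = n → F.IsSaturated p → C.Good F → C.Adm S z →
      (∀ P φ, φ ∈ F.normalizerHom (wOf C.W S) P → ∀ x : P, (x : Ω) = z → φ x = z) →
      F.IsCentral (Subgroup.zpowers z) := by
  intro n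
  induction n using Nat.strong_induction_on with
  | _ n ihn =>
  intro Ω _ S F z hfin hS hn hF hgd hz hfix
  obtain ⟨m, hmF⟩ : ∃ m, homCount F = m := ⟨_, rfl⟩
  induction m using Nat.strong_induction_on generalizing F with
  | _ m ihm =>
  have hzS := (C.adm_mem hz).1
  have hzc := (C.adm_mem hz).2
  have hzle : Subgroup.zpowers z ≤ S := Subgroup.zpowers_le.2 hzS
  have hC : centralizerIn S (Subgroup.zpowers z) = S := by
    refine le_antisymm (centralizerIn_le_S _) (le_inf le_rfl ?_)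
    exact Subgroup.le_centralizer_iff.1 (Subgroup.zpowers_le.2 hzc)
  obtain ⟨E₀, hE₀⟩ := exists_congr_system (centSystem F _ hzle) hC
  suffices hgoal : ∀ P, F.Hom P ⊆ E₀.Hom P by
    refine ⟨hzle, fun P φ hφ => ?_⟩
    have h1 := hgoal P hφ
    rw [hE₀] at h1
    exact h1.2.2.2
  -- normal subgroups of `S` that are not normal in the system
  have hnonnormal : ∀ U : Subgroup Ω, U ≤ S → S ≤ Subgroup.normalizer (U : Set Ω) →
      ¬ F.IsNormal U → ∀ P, F.normalizerHom U P ⊆ E₀.Hom P := by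
    intro U hU hUn hnn
    have hNS : normalizerIn S U = S :=
      le_antisymm (normalizerIn_le_S U) fun x hx => ⟨hx, hUn hx⟩
    have hfn : F.IsFullyNormalized U := ⟨hU, fun R _ => by
      rw [hNS]; exact card_le_of_le le_rfl (normalizerIn_le_S R)⟩
    obtain ⟨E, hE, hEs, hEg, -, hEF, -⟩ :=
      exists_normSystem_eq p hS hF (fun {_} E => C.Good E) hU hUn fun E hE =>
        C.good_normalizer F hS hF hgd U hfn E hE
    intro P φ hφ
    have hne : ∃ P, ¬ F.Hom P ⊆ E.Hom P := by
      by_contra hcon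
      push Not at hcon
      refine hnn ⟨hU, fun R χ hχ => ?_⟩
      have h1 := hcon R hχ
      rw [hE] at h1
      exact h1.2.2.2
    have hcent := ihm _ (hmF ▸ homCount_lt hEF hne) E hEs hEg (fun R χ hχ => by
      obtain ⟨hχE, h1, h2, ψ, hψ, he, hm⟩ := hχ
      exact hfix R χ ⟨hEF _ hχE, h1, h2, ψ, hEF _ hψ, he, hm⟩) rfl
    obtain ⟨ψ, hψ, he, hf⟩ := hcent.2 P φ (show φ ∈ E.Hom P from (hE P).symm ▸ hφ)
    rw [hE₀]
    exact mem_centralizerHom_zpowers hC hφ.1 le_sup_left
      (Subgroup.mem_sup_right (Subgroup.mem_zpowers z)) (hEF _ hψ) he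
      (hf ⟨z, Subgroup.mem_zpowers z⟩)
  have hQn : F.IsNormal F.core := isNormal_core
  set Q := F.core with hQdef
  have hQmax : ∀ U, F.IsNormal U → U ≤ Q := fun U hU => le_sSup hU
  have hQS := normal_S_le_normalizer hQn
  by_cases hzQ : z ∈ Q
  · -- `z` lies in the largest normal subgroup
    suffices hfixQ : ∀ (P : Subgroup Ω) (ψ : P →* Ω), ψ ∈ F.Hom P → Q ≤ P → ∀ x : P,
        (x : Ω) = z → ψ x = z by
      intro P φ hφ
      obtain ⟨ψ, hψ, he, -⟩ := hQn.2 P φ hφ
      rw [hE₀]
      exact mem_centralizerHom_zpowers hC hφ le_sup_left (Subgroup.mem_sup_right hzQ) hψ he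
        (hfixQ _ ψ hψ le_sup_right _ rfl)
    intro P ψ hψ hQP x hx
    have hNQ : normalizerIn S Q = S :=
      le_antisymm (normalizerIn_le_S Q) fun y hy => ⟨hy, hQS hy⟩
    have hQfn : F.IsFullyNormalized Q := ⟨hQn.1, fun R _ => by
      rw [hNQ]; exact card_le_of_le le_rfl (normalizerIn_le_S R)⟩
    by_cases hc : centralizerIn S Q ≤ Q
    · exact C.fix_of_constrained hS hF hgd hz hfix hQn (isCentric_of_fullyCentralized
        (fullyCentralized_of_fullyNormalized p hS hF hQfn) hc) hψ x hx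
    set R := Q ⊔ centralizerIn S Q with hR
    have hRS : R ≤ S := sup_le hQn.1 (centralizerIn_le_S Q)
    have hRn : S ≤ Subgroup.normalizer (R : Set Ω) := fun g hg => by
      refine mem_normalizer_sup hQn.1 (centralizerIn_le_S Q) (hQS hg) ?_
      refine mem_normalizer_of_conj_mem (centralizerIn_le_S Q) fun x hx => ?_
      obtain ⟨hxS, hxc⟩ := mem_centralizerIn.1 hx
      refine mem_centralizerIn.2 ⟨mul_mem (mul_mem hg hxS) (inv_mem hg), fun y hy => ?_⟩
      have h1 := hxc _ ((Subgroup.mem_normalizer_iff''.1 (hQS hg) y).1 hy)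
      calc y * (g * x * g⁻¹) = g * ((g⁻¹ * y * g) * x) * g⁻¹ := by group
        _ = g * x * g⁻¹ * y := by rw [h1]; group
    have hRnn : ¬ F.IsNormal R := fun h => hc (le_sup_right.trans (hQmax R h))
    let a : Q →* Ω := ψ.comp (Subgroup.inclusion hQP)
    have ha : a ∈ F.Hom Q := restrict_mem hψ hQP
    have har : a.range = Q :=
      (weaklyClosed_of_stronglyClosed (stronglyClosed_of_isNormal hQn)).2 a ha
    obtain ⟨χ, hχ, hχe⟩ := receptive_extend (good_of_fullyNormalized p hS hF hQfn).2 ha har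
      (sup_le (le_extender ha) (centralizerIn_le_extender Q a) : R ≤ _)
    have hχQ : (Q.subgroupOf R).map χ = Q := (map_eq_range_of_eq le_sup_left hχe).trans har
    have hχr : χ.range = R := by
      refine eq_of_le_of_card_le hRS ?_ (card_range hχ).ge
      rw [← map_subgroupOf_self χ, Subgroup.subgroupOf_sup le_sup_left le_sup_right,
        Subgroup.map_sup, hχQ]
      refine sup_le le_sup_left fun y hy => ?_
      obtain ⟨w, hw, hwC, rfl⟩ := mem_map_subgroupOf.1 hy
      have := map_mem_centralizerIn hχ le_sup_left hwC hw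
      rw [hχQ] at this
      exact Subgroup.mem_sup_right this
    have h1 := hnonnormal R hRS hRn hRnn R (mem_normalizerHom_self hRS hχ hχr)
    rw [hE₀] at h1
    subst hx
    refine (apply_congr ψ rfl).trans ((hχe x hzQ (Subgroup.mem_sup_left hzQ)).symm.trans ?_)
    exact apply_eq_of_mem_centralizerHom h1 _ rfl
  -- `z` lies in no normal subgroup
  have hnn : ∀ U : Subgroup Ω, z ∈ U → ¬ F.IsNormal U := fun U hU h => hzQ (hQmax U h hU)
  have hall : ∀ (k : ℕ) (U : Subgroup Ω), Nat.card S - Nat.card (normalizerIn S U) = k →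
      z ∈ U → F.IsFullyNormalized U → ∀ P, F.normalizerHom U P ⊆ E₀.Hom P := by
    intro k
    induction k using Nat.strong_induction_on with
    | _ k ihk =>
    intro U hk hzU hfn
    set V := normalizerIn S U with hV
    by_cases hVS : S ≤ V
    · exact hnonnormal U hfn.1 (fun g hg => (hVS hg).2) (hnn U hzU)
    have hVS' : V ≤ S := normalizerIn_le_S U
    have := finite_of_le hVS'
    have hVp := isPGroup_of_le hS hVS'
    have hspec := normSystem_spec F U hfn.1
    have hVlt : Nat.card V < Nat.card S :=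
      lt_of_le_of_ne (card_le_of_le le_rfl hVS') fun he =>
        hVS (eq_of_le_of_card_le le_rfl hVS' he.ge).ge
    have hUV : U ≤ V := le_normalizerIn hfn.1
    have hzV : z ∈ V := hUV hzU
    have hZV : S ⊓ Subgroup.centralizer (S : Set Ω) ≤ V :=
      fun x hx => centralizerIn_le_normalizerIn U ⟨hx.1, Subgroup.centralizer_le hfn.1 hx.2⟩
    have hDch : IsCharIn V (wOf C.W V) := isCharIn_map fun a => C.map _ _ hVp a
    set D := wOf C.W V with hD
    have hzD : z ∈ D := ⟨⟨z, hzV⟩, C.center_le V hVp (Subgroup.mem_center_iff.2 fun s =>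
      Subtype.ext (hzc s (hVS' s.2))), rfl⟩
    have hDS : D ≤ S := hDch.1.trans hVS'
    obtain ⟨D', hD', hD'fn⟩ := exists_fullyNormalized F hDS
    obtain ⟨hfa, hrec⟩ := good_of_fullyNormalized p hS hF hD'fn
    obtain ⟨χ, hχ, hχN, hχD⟩ := exists_map_normalizer p hS hfa hrec hD'
    have hVN : V ≤ normalizerIn S D := fun g hg => ⟨hVS' hg, hDch.le_normalizer hg⟩
    have hVV : V < normalizerIn S D := by
      refine lt_of_le_of_ne hVN fun he => ?_
      obtain ⟨g, hg, hgV⟩ := SetLike.exists_of_lt (lt_normalizerIn p hS le_rfl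
        (lt_of_le_not_ge hVS' hVS))
      refine hgV (he.ge ⟨hg.1, mem_normalizer_of_conj_mem hDS fun x hx => ?_⟩)
      have hst : conjAut S V ⟨g, hg⟩ ∈ stabX V D := hDch.2 _
      exact (hst ⟨x, hDch.1 hx⟩).2 hx
    have hcard1 : Nat.card V < Nat.card (normalizerIn S D) :=
      lt_of_le_of_ne (card_le_of_le (normalizerIn_le_S D) hVN) fun he =>
        hVV.ne (eq_of_le_of_card_le (normalizerIn_le_S D) hVN he.ge)
    have hgood : ∀ Y : Subgroup Ω, (Y = S ∨ F.IsEssential p Y) →
        Nat.card (normalizerIn S D) ≤ Nat.card Y → F.autGroup Y ≤ E₀.autGroup Y := by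
      intro Y hY hcY α hα
      have hYS : Y ≤ S := by
        rcases hY with rfl | h
        exacts [le_rfl, h.1.1]
      have hYfn : F.IsFullyNormalized Y := by
        rcases hY with rfl | h
        exacts [isFullyNormalized_S, h.2.1]
      have hzY : z ∈ Y := by
        rcases hY with rfl | h
        exacts [hzS, centralizer_mem_of_centric h.1 hzS fun y hy => hzc y (hYS hy)]
      have h2 : Nat.card Y ≤ Nat.card (normalizerIn S Y) :=
        card_le_of_le (normalizerIn_le_S Y) (le_normalizerIn hYS)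
      have h3 : Nat.card (normalizerIn S Y) ≤ Nat.card S :=
        card_le_of_le le_rfl (normalizerIn_le_S Y)
      exact (autGroup_carrier hYS).2 (ihk _ (by omega) Y rfl hzY hYfn Y
        (mem_normalizerHom_self hYS ((autGroup_carrier hYS).1 hα) (range_subtype_comp α)))
    have hχ₀ := alperin_above p hS hF E₀ _ hgood _ le_rfl hχ
    have hcardN : Nat.card V < Nat.card (normalizerIn S D') := by
      have := finite_of_le (normalizerIn_le_S (S := S) D')
      have h1 : Nat.card (normalizerIn S D) ≤ Nat.card (normalizerIn S D') :=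
        Nat.card_le_card_of_injective (fun x => ⟨_, hχN x⟩) fun a b hab =>
          F.injective_of_mem hχ (congrArg Subtype.val hab :)
      omega
    have hzD' : z ∈ D' := by
      have h0 := hχ₀
      rw [hE₀] at h0
      have h1 : χ ⟨z, hVN hzV⟩ = z := apply_eq_of_mem_centralizerHom h0 _ rfl
      exact Set.mem_of_eq_of_mem h1.symm (hχD.le (apply_mem_map_subgroupOf χ hzD))
    have hD'E := ihk _ (by
      have := card_le_of_le le_rfl (normalizerIn_le_S (S := S) D')
      omega) D' rfl hzD' hD'fn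
    have hcent := ihn _ (hn ▸ hVlt) V (normSystem F U hfn.1) z inferInstance hVp rfl
      (normalizerSystem_saturated p hS hF hfn hspec)
      (C.good_normalizer F hS hF hgd U hfn _ hspec) (C.adm_mono hz hVS' hZV) ?_
    · intro P φ hφ
      obtain ⟨ψ, hψ, he, hf⟩ := hcent.2 P φ (show φ ∈ (normSystem F U hfn.1).Hom P from hφ)
      rw [hE₀]
      exact mem_centralizerHom_zpowers hC hφ.1 le_sup_left
        (Subgroup.mem_sup_right (Subgroup.mem_zpowers z)) hψ.1 he (hf ⟨z, Subgroup.mem_zpowers z⟩)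
    rintro P φ ⟨-, -, -, ψ, hψ, he, hm⟩ x hx
    obtain ⟨hψF, hψV, hψvals, -⟩ := hψ
    have h1 := mem_of_transport hVN hχ₀ hχ hχN hχD hD'E hψV le_sup_right hψF hψvals hm
    rw [hE₀] at h1
    exact (he x).symm.trans (apply_eq_of_mem_centralizerHom h1 _ hx)
  intro P
  refine alperin_saturated p hS hF E₀ (fun Y hY α hα => ?_) P
  have hYS : Y ≤ S := by
    rcases hY with rfl | h
    exacts [le_rfl, h.1.1]
  have hYfn : F.IsFullyNormalized Y := by
    rcases hY with rfl | h
    exacts [isFullyNormalized_S, h.2.1]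
  have hzY : z ∈ Y := by
    rcases hY with rfl | h
    exacts [hzS, centralizer_mem_of_centric h.1 hzS fun y hy => hzc y (hYS hy)]
  exact (autGroup_carrier hYS).2 (hall _ Y rfl hzY hYfn Y
    (mem_normalizerHom_self hYS ((autGroup_carrier hYS).1 hα) (range_subtype_comp α)))

end CfsgLib.Fusion
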