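import Cfsg.Agent.Fusion.CentralControl
import Cfsg.Agent.Fusion.InnerZJ
import Cfsg.Agent.Kinf.GlobalSteps
import Cfsg.Agent.ZJ.WeakClosure

/-!
The groups behind control of central elements, and the comparison of centres.
-/

set_option autoImplicit false
set_option linter.style.haveILetI false

open Cfsg Cfsg.FusionSystem CfsgLib.Functor
open scoped CfsgLib.Functor

namespace CfsgLib.Fusion

universe u

/-- The subgroup of `p`th powers of central elements. -/
def powCenter (p : ℕ) {Ω : Type*} [Group Ω] (S : Subgroup Ω) : Subgroup Ω :=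
  Subgroup.closure ((fun z : Ω => z ^ p) '' ((S ⊓ Subgroup.centralizer (S : Set Ω) : Subgroup Ω) : Set Ω))

theorem powCenter_le (p : ℕ) {Ω : Type*} [Group Ω] (S : Subgroup Ω) :
    powCenter p S ≤ S ⊓ Subgroup.centralizer (S : Set Ω) := by
  refine (Subgroup.closure_le _).2 ?_
  rintro _ ⟨z, hz, rfl⟩
  exact pow_mem hz p

theorem powCenter_mono {p : ℕ} {Ω : Type*} [Group Ω] {S V : Subgroup Ω} (hV : V ≤ S)
    (hZ : S ⊓ Subgroup.centralizer (S : Set Ω) ≤ V) : powCenter p S ≤ powCenter p V :=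
  Subgroup.closure_mono (Set.image_mono fun _ hx => ⟨hZ hx, Subgroup.centralizer_le hV hx.2⟩)

theorem mem_powCenter_range {p : ℕ} {Ω G : Type*} [Group Ω] [Group G] {S : Subgroup Ω} (ι : S →* G)
    {z : S} (hz : (z : Ω) ∈ powCenter p S) : ι z ∈ powCenter p ι.range := by
  suffices h : powCenter p S ≤ ((powCenter p ι.range).comap ι).map S.subtype by
    obtain ⟨w, hw, hwe⟩ := h hz
    rwa [← show w = z from Subtype.ext hwe]
  refine (Subgroup.closure_le _).2 ?_
  rintro _ ⟨y, hy, rfl⟩
  refine ⟨⟨y, hy.1⟩ ^ p, Subgroup.subset_closure ⟨ι ⟨y, hy.1⟩, ⟨⟨_, rfl⟩, ?_⟩, (map_pow ι _ p).symm⟩,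
    rfl⟩
  refine Subgroup.mem_centralizer_iff.2 ?_
  rintro _ ⟨w, rfl⟩
  rw [← map_mul, ← map_mul]
  exact congrArg ι (Subtype.ext (hy.2 w w.2))

theorem exists_pow_of_mem_powCenter {p : ℕ} {G : Type*} [Group G] {T : Subgroup G} {x : G}
    (hx : x ∈ powCenter p T) : ∃ z ∈ T ⊓ Subgroup.centralizer (T : Set G), z ^ p = x := by
  induction hx using Subgroup.closure_induction with
  | mem _ h => obtain ⟨z, hz, rfl⟩ := h; exact ⟨z, hz, rfl⟩
  | one => exact ⟨1, one_mem _, one_pow p⟩
  | mul _ _ _ _ iha ihb =>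
    obtain ⟨a, ha, rfl⟩ := iha
    obtain ⟨b, hb, rfl⟩ := ihb
    exact ⟨a * b, mul_mem ha hb, (show Commute a b from (ha.2 b hb.1).symm).mul_pow p⟩
  | inv _ _ ih =>
    obtain ⟨a, ha, rfl⟩ := ih
    exact ⟨a⁻¹, inv_mem ha, inv_pow a p⟩

/-- Central elements of the Sylow subgroup lie in `O_p` when it contains its centralizer. -/
theorem mem_pCore_of_central {G : Type*} [Group G] [Finite G] {p : ℕ} [Fact p.Prime] (T : Sylow p G)
    (hC : Subgroup.centralizer ((pCore p G : Subgroup G) : Set G) ≤ pCore p G) {x : G}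
    (hx : x ∈ Subgroup.centralizer ((T : Subgroup G) : Set G)) : x ∈ pCore p G :=
  hC (Subgroup.centralizer_le (CfsgLib.Fitting.pCore_le_sylow T) hx)

theorem central_of_model {p : ℕ} [Fact p.Prime] {Ω G : Type*} [Group Ω] [Group G] {S : Subgroup Ω}
    {F : FusionSystem S} {ι : S →* G} (hm : F.IsModel p G ι) (T : Sylow p G)
    (hT : (T : Subgroup G) = ι.range) {z : S}
    (hz : (z : Ω) ∈ Subgroup.centralizer (S : Set Ω)) :
    ι z ∈ (T : Subgroup G) ∧ ι z ∈ Subgroup.centralizer ((T : Subgroup G) : Set G) ∧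
      ι z ∈ pCore p G := by
  have := hm.1
  have h2 : ι z ∈ Subgroup.centralizer ((T : Subgroup G) : Set G) := by
    rw [hT]
    refine Subgroup.mem_centralizer_iff.2 ?_
    rintro _ ⟨w, rfl⟩
    rw [← map_mul, ← map_mul]
    exact congrArg ι (Subtype.ext (hz w w.2))
  exact ⟨hT.ge ⟨z, rfl⟩, h2, mem_pCore_of_central T hm.2.2.2 h2⟩

/-- A weakly closed element of `O_p(G)` is central. -/
theorem commute_of_weaklyClosed {G : Type*} [Group G] [Finite G] {p : ℕ} [Fact p.Prime]
    (T : Sylow p G) {x : G} (hx : x ∈ pCore p G)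
    (h : ∀ g : G, g * x * g⁻¹ ∈ (T : Subgroup G) → g * x * g⁻¹ = x) (g : G) : g * x = x * g :=
  mul_inv_eq_iff_eq_mul.1 (h g (CfsgLib.Fitting.pCore_le_sylow T
    ((inferInstance : (pCore p G).Normal).conj_mem x hx g)))

/-- A central subgroup lies in the centre of the normalizer system of a normal subgroup of `S`. -/
theorem isCentral_normalizerSystem {Ω : Type*} [Group Ω] {S : Subgroup Ω} {F : FusionSystem S}
    {D : Subgroup Ω} {N : FusionSystem (normalizerIn S D)} (hN : F.IsNormalizerSystem D N)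
    (_hD : D ≤ S) {Q : Subgroup Ω} (hQ : F.IsCentral Q) (hQD : Q ≤ normalizerIn S D) :
    N.IsCentral Q := by
  refine ⟨hQD, fun P φ hφ => ?_⟩
  rw [hN] at hφ
  obtain ⟨hφF, hP, hφN, ψ, hψ, he, hm⟩ := hφ
  obtain ⟨χ, hχ, hχe, hχf⟩ := hQ.2 _ ψ hψ
  have hPQ : P ⊔ Q ≤ (P ⊔ D) ⊔ Q := sup_le_sup_right le_sup_left _
  refine ⟨χ.comp (Subgroup.inclusion hPQ), ?_, fun x => (apply_congr χ rfl).trans
    ((hχe (Subgroup.inclusion le_sup_left x)).trans (he x)),
    fun x => (apply_congr χ rfl).trans (hχf x)⟩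
  rw [hN]
  have hsub : (P ⊔ Q) ⊔ D ≤ (P ⊔ D) ⊔ Q := sup_le hPQ (le_sup_right.trans le_sup_left)
  refine ⟨restrict_mem hχ hPQ, sup_le hP hQD, ?_, χ.comp (Subgroup.inclusion hsub),
    restrict_mem hχ hsub, fun x => rfl, ?_⟩
  · intro x
    show χ (Subgroup.inclusion hPQ x) ∈ normalizerIn S D
    have hx : χ (Subgroup.inclusion hPQ x) ∈ χ.range := ⟨_, rfl⟩
    have hle : ((P ⊔ Q).subgroupOf ((P ⊔ D) ⊔ Q)).map χ ≤ normalizerIn S D := by
      rw [Subgroup.subgroupOf_sup (le_sup_left.trans le_sup_left) le_sup_right, Subgroup.map_sup]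
      refine sup_le ?_ ?_
      · intro y hy
        obtain ⟨w, hw, hwP, rfl⟩ := mem_map_subgroupOf.1 hy
        exact Set.mem_of_eq_of_mem ((hχe ⟨w, Subgroup.mem_sup_left hwP⟩).trans (he ⟨w, hwP⟩))
          (hφN _)
      · intro y hy
        obtain ⟨w, hw, hwQ, rfl⟩ := mem_map_subgroupOf.1 hy
        exact Set.mem_of_eq_of_mem (hχf ⟨w, hwQ⟩) (hQD hwQ)
    exact hle (apply_mem_map_subgroupOf χ x.2)
  · rw [map_subgroupOf_congr (ψ := χ.comp (Subgroup.inclusion hsub)) (χ := ψ) le_sup_right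
      le_sup_right fun y hy => hχe ⟨y, Subgroup.mem_sup_right hy⟩, hm]

/-- The centre of the system lies in the centre of the normalizer system of `W(S)`. -/
theorem center_le_normalizer_center {Ω : Type*} [Group Ω] {S : Subgroup Ω} [Finite S]
    {F : FusionSystem S} {D : Subgroup Ω} {N : FusionSystem (normalizerIn S D)}
    (hN : F.IsNormalizerSystem D N) (hD : IsCharIn S D) : F.center ≤ N.center :=
  le_center (isCentral_normalizerSystem hN hD.1 isCentral_center
    (center_le_S.trans hD.normalizerIn_eq.ge))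

/-- Elements of the centre of the normalizer system of `W(S)` commute with `S`. -/
theorem center_commutes {Ω : Type*} [Group Ω] {S : Subgroup Ω} [Finite S] {F : FusionSystem S}
    {D : Subgroup Ω} {N : FusionSystem (normalizerIn S D)} (_hN : F.IsNormalizerSystem D N)
    (hD : IsCharIn S D) {z : Ω} (hz : z ∈ N.center) {s : Ω} (hs : s ∈ S) : s * z = z * s := by
  have := finite_of_le (normalizerIn_le_S (S := S) D)
  have h1 : s * z * s⁻¹ = z := isCentral_fix isCentral_center
    (N.conj_mem (P := Subgroup.zpowers z) (Subgroup.zpowers_le.2 (center_le_S hz))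
      (hD.normalizerIn_eq.ge hs)) ⟨z, Subgroup.mem_zpowers z⟩ hz
  exact mul_inv_eq_iff_eq_mul.1 h1

/-- The application to the centre of a normalizer system. -/
theorem CentralControl.mem_center {p : ℕ} [Fact p.Prime] (C : CentralControl.{u} p) {Ω : Type u}
    [Group Ω] {S : Subgroup Ω} [Finite S] (hS : IsPGroup p S) {F : FusionSystem S}
    (hF : F.IsSaturated p) (hg : C.Good F) {N : FusionSystem (normalizerIn S (wOf C.W S))}
    (hN : F.IsNormalizerSystem (wOf C.W S) N) {z : Ω} (hzN : z ∈ N.center) (hz : C.Adm S z) :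
    z ∈ F.center := by
  have := finite_of_le (normalizerIn_le_S (S := S) (wOf C.W S))
  refine le_center (C.isCentral _ S F z inferInstance hS rfl hF hg hz fun P φ hφ x hx => ?_)
    (Subgroup.mem_zpowers z)
  exact (isCentral_fix isCentral_center (show φ ∈ N.Hom P by rw [hN]; exact hφ) x
    (hx ▸ hzN)).trans hx

/-- The group behind the statement for a quadratic element. -/
theorem commute_of_quadratic {G : Type u} [Group G] [Finite G] {p : ℕ} [Fact p.Prime]
    {W : ∀ (Q : Type u) [Group Q], Subgroup Q} (hW : IsCharPFunctor.{u} p W)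
    (hWZ : ∀ (Q : Type u) [Group Q] [Finite Q], IsPGroup p Q → Subgroup.center Q ≤ W Q)
    (hq : ∀ (G : Type u) [Group G] [Finite G] (P : Sylow p G),
      ¬ (((W ↥(P : Subgroup G)).map (P : Subgroup G).subtype : Subgroup G)).Normal →
        ∃ g : G, g ∈ (P : Subgroup G) ∧ g ∉ pCore p G ∧
          ⁅⁅Subgroup.center ↥(pCore p G) |>.map (pCore p G).subtype, Subgroup.zpowers g⁆,
            Subgroup.zpowers g⁆ = ⊥)
    (T : Sylow p G) (hC : Subgroup.centralizer ((pCore p G : Subgroup G) : Set G) ≤ pCore p G)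
    {x : G} (hx : x ∈ powCenter p (T : Subgroup G))
    (hfix : ∀ n ∈ Subgroup.normalizer
      (((W ↥(T : Subgroup G)).map (T : Subgroup G).subtype : Subgroup G) : Set G), n * x = x * n)
    (g : G) : g * x = x * g := by
  have hxZ := powCenter_le p _ hx
  have hxO := mem_pCore_of_central T hC hxZ.2
  refine commute_of_weaklyClosed T hxO (fun h hh => ?_) g
  set A := Subgroup.zpowers x
  set F := Subgroup.centralizer ({x} : Set G)
  have hW' := isConjugacyFunctor_induced (G := G) hW
  have hWZ' : ∀ P : Subgroup G, IsPGroup p ↥P → P ⊓ Subgroup.centralizer (P : Set G) ≤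
      inducedFunctor W P := fun P hP y hy => ⟨⟨y, hy.1⟩, hWZ P hP (Subgroup.mem_center_iff.2
        fun s => Subtype.ext (hy.2 s s.2)), rfl⟩
  have key := CfsgLib.Kinf.closed_of_global hW' hWZ' A
    (Subgroup.closure ((fun z : G => z ^ p) ''
      (((T : Subgroup G) ⊓ Subgroup.centralizer ((T : Subgroup G) : Set G) : Subgroup G) : Set G)) ⊔
      ((T : Subgroup G) ⊓ Subgroup.centralizer ((T : Subgroup G) : Set G))) F
    ((Subgroup.zpowers_le.2 hx).trans le_sup_left) ?_ ?_ ?_ ⊤ T (isSylowIn_top T) ?_ ?_ h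
    (Subgroup.mem_top h) ?_
  · exact mul_inv_eq_iff_eq_mul.2 (Subgroup.mem_centralizer_singleton_iff.1 key)
  · intro k hk
    refine mem_normalizer_iff_cj.2 ?_
    rw [MonoidHom.map_zpowers]
    show Subgroup.zpowers (k * x * k⁻¹) = _
    rw [Subgroup.mem_centralizer_singleton_iff.1 hk, mul_inv_cancel_right]
  · intro h0
    refine eq_top_iff.2 fun k _ => Subgroup.mem_centralizer_singleton_iff.2 ?_
    rw [Subgroup.zpowers_eq_bot.1 h0, mul_one, one_mul]
  · intro H T' hT' hB hA _ hnn hK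
    have hZT := le_sup_right.trans hB
    obtain ⟨P, hP⟩ := hT'.exists_sylow
    refine CfsgLib.Kinf.power_step hT' (B := (T : Subgroup G) ⊓
      Subgroup.centralizer ((T : Subgroup G) : Set G)) (Subgroup.zpowers_le.2 hx) hA hZT ?_ ?_ hK
    · exact Subgroup.centralizer_le (Set.singleton_subset_iff.2 (Subgroup.mem_zpowers x))
    obtain ⟨g, hgP, hgO, hg⟩ := hq H P fun hn => hnn <| by
      have h1 := restrict_map hW' (H := H) P.2
      rw [hP] at h1
      rw [← h1]
      have h2 : (restrict H (inducedFunctor W) (P : Subgroup H)) = inducedFunctor W (P : Subgroup H) := by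
        refine Subgroup.map_injective H.subtype_injective ?_
        rw [restrict_map hW' P.2]
        exact induced_map hW.2 H.subtype _ P.2 fun y _ hy => Subtype.ext hy
      rw [h2]
      haveI : (inducedFunctor W (P : Subgroup H)).Normal := hn
      exact le_normalizer_map_of_normal _
    refine ⟨g, hP.le (Subgroup.mem_map_of_mem _ hgP), fun hgO' => ?_, ?_⟩
    · obtain ⟨y, hy, hye⟩ := hgO'
      exact hgO (Subtype.ext hye ▸ hy)
    have h3 := congrArg (Subgroup.map H.subtype) hg
    rw [Subgroup.map_commutator, Subgroup.map_commutator, MonoidHom.map_zpowers, Subgroup.map_bot]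
      at h3
    refine le_bot_iff.1 (h3 ▸ Subgroup.commutator_mono (Subgroup.commutator_mono ?_ le_rfl) le_rfl)
    rintro y ⟨⟨y', hy', rfl⟩, hyc⟩
    refine ⟨y', ⟨⟨y', hy'⟩, Subgroup.mem_center_iff.2 fun s => Subtype.ext (Subtype.ext ?_), rfl⟩,
      rfl⟩
    exact hyc s ⟨(s : H), s.2, rfl⟩
  · exact sup_le (powCenter_le p _) le_rfl
  · exact fun k hk => Subgroup.mem_centralizer_singleton_iff.2 (hfix k hk.2)
  · rw [MonoidHom.map_zpowers]
    exact Subgroup.zpowers_le.2 hh

end CfsgLib.Fusion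

namespace CfsgLib.Fusion

universe v

/-- Glauberman's control for `p`th powers of central elements. -/
noncomputable def powControl (p : ℕ) [Fact p.Prime] : CentralControl.{v} p where
  W Q _ := thompsonSubgroupA Q
  map _ _ _ _ _ _ φ := thompsonSubgroupA_map φ
  center_le _ _ _ _ := center_le_thompsonA
  Adm S z := z ∈ powCenter p S
  Good _ := True
  adm_mem h := powCenter_le p _ h
  adm_mono h hV hZ := powCenter_mono hV hZ h
  good_normalizer _ _ _ _ _ _ _ _ := trivial
  grp {Ω} _ {S} _ F G _ ι Q z hS _ hz hQ hQc hm T hT hfix g := by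
    have := hm.1
    obtain ⟨hT1, -, hzO⟩ := central_of_model hm T hT (powCenter_le p S hz).2
    refine commute_of_weaklyClosed T hzO (fun g hg => ?_) g
    exact CfsgLib.ZJ.weaklyClosed_of_central_normalizer T ⟨hT1, hfix,
      Or.inr (Or.inl (exists_pow_of_mem_powCenter (hT ▸ mem_powCenter_range ι hz)))⟩ hg

/-- Glauberman's control for central elements, for `p` odd or no section `S₄`. -/
noncomputable def zControl (p : ℕ) [Fact p.Prime] : CentralControl.{v} p where
  W Q _ := thompsonSubgroupA Q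
  map _ _ _ _ _ _ φ := thompsonSubgroupA_map φ
  center_le _ _ _ _ := center_le_thompsonA
  Adm S z := z ∈ S ⊓ Subgroup.centralizer (S : Set _)
  Good F := p ≠ 2 ∨ F.IsSectionFree p (Equiv.Perm (Fin 4))
  adm_mem h := h
  adm_mono h hV hZ := ⟨hZ h, Subgroup.centralizer_le hV h.2⟩
  good_normalizer F hS hF hg Q hQ E hE :=
    hg.imp id fun h => sectionFree_normalizerSystem p hS hF h hQ hE
  grp {Ω} _ {S} _ F G _ ι Q z hS hg hz hQ hQc hm T hT hfix g := by
    have := hm.1
    obtain ⟨hT1, -, hzO⟩ := central_of_model hm T hT hz.2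
    refine commute_of_weaklyClosed T hzO (fun g hg' => ?_) g
    exact CfsgLib.ZJ.weaklyClosed_of_central_normalizer T ⟨hT1, hfix,
      hg.imp id fun h => Or.inr (not_involves_model p h hm hQ hQc)⟩ hg'

end CfsgLib.Fusion
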