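import Cfsg.Agent.Fusion.ComponentExists
import Cfsg.Agent.Fusion.ModelGroup
import Cfsg.Agent.Fusion.LocalSaturation
import Cfsg.Agent.KGroup.CharP

/-!
Characteristic `p`-type or component type.
-/

set_option autoImplicit false
set_option linter.style.haveILetI false
set_option linter.unusedSectionVars false

open Cfsg Cfsg.FusionSystem CfsgLib.Fusion

namespace CfsgLib.Dichotomy

universe u v

/-- In a group of characteristic `p` the centralizer of a `p`-subgroup has characteristic `p`. -/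
theorem hasCharP_centralizer_of_pGroup {G : Type v} [Group G] [Finite G] {p : ℕ} [Fact p.Prime]
    (hG : CharP.HasCharP p G) {U : Subgroup G} (hU : IsPGroup p U) :
    CharP.HasCharP p (Subgroup.centralizer (U : Set G)) := by
  refine CharP.hasCharP_subgroup_of_forall fun y hy hyC hc =>
    hG.eq_one hy (Subgroup.mem_centralizer_iff.2 fun r hr => ?_)
  haveI := Cfsg.pCore_normal p G
  have hNle : ∀ H : Subgroup G, H ≤ Subgroup.normalizer ((pCore p G : Subgroup G) : Set G) :=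
    fun H => le_top.trans (Subgroup.normalizer_eq_top (H := pCore p G)).ge
  have hfix : pCore p G ⊓ Subgroup.centralizer (U : Set G) ≤ Subgroup.centralizer {y} := by
    have hle : pCore p G ⊓ Subgroup.centralizer (U : Set G) ≤
        CharP.opIn p (Subgroup.centralizer (U : Set G)) :=
      CharP.le_opIn inf_le_right ((Solvable.isPGroup_pCore p).to_le inf_le_left)
        ((le_inf (hNle _) Subgroup.le_normalizer).trans Subgroup.inf_normalizer_le_normalizer_inf)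
    refine hle.trans fun z hz => Subgroup.mem_centralizer_singleton_iff.2 ?_
    exact Subgroup.mem_centralizer_iff.1 hc z hz
  exact (Subgroup.mem_centralizer_singleton_iff.1
    (CharP.centralizes_of_centralizes_fixed hU (Solvable.isPGroup_pCore p) (hNle U)
      (hNle ⊤ trivial) hyC hy hfix hr))

variable {Ω : Type u} [Group Ω] {S : Subgroup Ω} {F : FusionSystem S} {p : ℕ}

theorem centralizerIn_normalizerIn (U : Subgroup Ω) :
    centralizerIn (normalizerIn S U) U = centralizerIn S U :=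
  le_antisymm (fun _ hx => ⟨hx.1.1, hx.2⟩)
    fun x hx => ⟨centralizerIn_le_normalizerIn (S := S) U hx, hx.2⟩

variable [Finite S] [Fact p.Prime]

/-- A system is constrained when the centralizer system of some normal subgroup is. -/
theorem constrained_of_centSystem (hS : IsPGroup p S) (hF : F.IsSaturated p) {U : Subgroup Ω}
    (hU : F.IsNormal U) (hc : (centSystem F U hU.1).IsConstrained p) : F.IsConstrained p := by
  have hn := CoreComp.centSystem_normal p hS hF hU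
  haveI : Finite (centralizerIn S U) := finite_of_le (centralizerIn_le_S _)
  refine CompExists.constrained_of_normal hF
    (isNormal_sup (CompExists.core_isNormal hS hF hn.1.2.2) hU) fun x hx => ?_
  refine Subgroup.mem_sup_left (CompExists.centralizer_core_le hc (mem_centralizerIn.2
    ⟨mem_centralizerIn.2 ⟨hx.1, fun y hy => hx.2 y (Subgroup.mem_sup_right hy)⟩,
      fun y hy => hx.2 y (Subgroup.mem_sup_left hy)⟩))

/-- A map fixing a subgroup carries its normalizer into its normalizer. -/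
theorem fix_normalizer {U N : Subgroup Ω} (hUN : U ≤ N) {χ : N →* Ω}
    (hS' : ∀ x, χ x ∈ S) (hfix : ∀ x : U, χ ⟨x, hUN x.2⟩ = (x : Ω)) {z : N}
    (hz : (z : Ω) ∈ normalizerIn S U) : χ z ∈ normalizerIn S U := by
  have key : ∀ u ∈ U, χ z * u * (χ z)⁻¹ = (z : Ω) * u * (z : Ω)⁻¹ := fun u hu => by
    have hu' : (z : Ω) * u * (z : Ω)⁻¹ ∈ U := (Subgroup.mem_normalizer_iff.1 hz.2 u).1 hu
    calc χ z * u * (χ z)⁻¹ = χ z * χ ⟨u, hUN hu⟩ * (χ z)⁻¹ := by
          rw [show χ ⟨u, hUN hu⟩ = u from hfix ⟨u, hu⟩]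
      _ = χ (z * ⟨u, hUN hu⟩ * z⁻¹) := by rw [map_mul, map_mul, map_inv]
      _ = χ ⟨_, hUN hu'⟩ := apply_congr χ rfl
      _ = _ := hfix ⟨_, hu'⟩
  refine ⟨hS' z, Subgroup.mem_normalizer_iff.2 fun y => ⟨fun hy => ?_, fun hy => ?_⟩⟩
  · rw [key y hy]
    exact (Subgroup.mem_normalizer_iff.1 hz.2 y).1 hy
  · have hv : (z : Ω)⁻¹ * (χ z * y * (χ z)⁻¹) * (z : Ω) ∈ U := by
      simpa using (Subgroup.mem_normalizer_iff.1 (Subgroup.inv_mem _ hz.2) _).1 hy
    have h1 := key _ hv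
    have h2 : y = (z : Ω)⁻¹ * (χ z * y * (χ z)⁻¹) * (z : Ω) := by
      rw [show (z : Ω) * ((z : Ω)⁻¹ * (χ z * y * (χ z)⁻¹) * (z : Ω)) * (z : Ω)⁻¹ =
        χ z * y * (χ z)⁻¹ by group] at h1
      exact (mul_left_cancel (mul_right_cancel h1)).symm
    exact h2 ▸ hv

/-- **A nonconstrained normalizer system gives a nonconstrained centralizer system of a subgroup of
order `p`.** -/
theorem nonconstrained_centralizer (hS : IsPGroup p S) (hF : F.IsSaturated p) {U : Subgroup Ω}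
    (hUn : F.IsFullyNormalized U) (hne : ¬ (normSystem F U hUn.1).IsConstrained p)
    {X : Subgroup Ω} (hXU : X ≤ U) (hXc : ∀ x ∈ X, ∀ u ∈ U, x * u = u * x)
    {X' : Subgroup Ω} (hX' : F.IsFullyNormalized X') (hconj : F.IsConj X X') :
    ¬ (centSystem F X' hX'.1).IsConstrained p := by
  intro hC
  -- the map from `C_S(X)` to `C_S(X')`
  obtain ⟨φ₀, hφ₀, -, hm⟩ := exists_map_normalizer p hS (good_of_fullyNormalized p hS hF hX').1
    (good_of_fullyNormalized p hS hF hX').2 hconj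
  set W := centralizerIn S X with hWdef
  set T' := centralizerIn S X' with hT'def
  have hWN : W ≤ normalizerIn S X := centralizerIn_le_normalizerIn X
  have hWS : W ≤ S := centralizerIn_le_S X
  have hT'S : T' ≤ S := centralizerIn_le_S X'
  have hUW : U ≤ W := fun u hu => mem_centralizerIn.2 ⟨hUn.1 hu, fun x hx => hXc x hx u hu⟩
  have hCW : centralizerIn S U ≤ W := fun y hy => ⟨hy.1, fun x hx => hy.2 x (hXU hx)⟩
  let φ : W →* Ω := φ₀.comp (Subgroup.inclusion hWN)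
  have hφ : φ ∈ F.Hom W := restrict_mem hφ₀ hWN
  have hφi : Function.Injective φ := F.injective_of_mem hφ
  have hφX : ∀ x' ∈ X', ∃ (x : Ω) (hx : x ∈ X), φ ⟨x, hUW (hXU hx)⟩ = x' := by
    intro x' hx'
    obtain ⟨⟨x, hxN⟩, hx, rfl⟩ := hm.ge hx'
    exact ⟨x, hx, rfl⟩
  have hφX' : ∀ (x : Ω) (hx : x ∈ X), φ ⟨x, hUW (hXU hx)⟩ ∈ X' := fun x hx =>
    hm.le ⟨⟨x, hWN (hUW (hXU hx))⟩, hx, rfl⟩
  have hφT : ∀ w, φ w ∈ T' := fun w => by
    refine mem_centralizerIn.2 ⟨apply_mem_S hφ w, fun x' hx' => ?_⟩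
    obtain ⟨x, hx, rfl⟩ := hφX x' hx'
    rw [← map_mul, ← map_mul]
    exact congrArg φ (Subtype.ext ((mem_centralizerIn.1 w.2).2 x hx))
  -- the model
  haveI : Finite T' := finite_of_le hT'S
  haveI : Finite W := finite_of_le hWS
  have hTp : IsPGroup p T' := isPGroup_of_le hS hT'S
  obtain ⟨Q, hQ, hQc⟩ := hC.2
  obtain ⟨G, instG, ι, hfin, hreal, ⟨Syl, hSyl⟩, hchar⟩ := exists_model p hTp hC.1 hQ hQc
  haveI := hfin
  let j : W →* G := ι.comp (φ.codRestrict T' hφT)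
  have hj : Function.Injective j := fun a b h =>
    hφi (congrArg Subtype.val (hreal.1 h))
  -- maps of `F` and conjugation in `G`
  have keyA : ∀ (N : Subgroup Ω) (hN : N ≤ W) (χ : N →* Ω) (hχ : ∀ x, χ x ∈ W) (g : G),
      (∀ x : N, j ⟨χ x, hχ x⟩ = g * j ⟨x, hN x.2⟩ * g⁻¹) → χ ∈ F.Hom N := by
    intro N hN χ hχ g hg
    let φN : N →* Ω := φ.comp (Subgroup.inclusion hN)
    have hφN : φN ∈ F.Hom N := restrict_mem hφ hN
    obtain ⟨ψN, hψN, hψr, hψ, -⟩ := exists_inv hφN rfl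
    let η : N →* Ω := φ.comp (χ.codRestrict W hχ)
    let κ : φN.range →* Ω := η.comp (ψN.codRestrict N fun y => hψr.le ⟨y, rfl⟩)
    have hκe : ∀ (x : N) (hy : φN x ∈ φN.range), κ ⟨φN x, hy⟩ = η x := fun x hy =>
      apply_congr η (hψ x hy)
    have hrT : φN.range ≤ T' := by
      rintro _ ⟨x, rfl⟩
      exact hφT _
    have hκT : ∀ y, κ y ∈ T' := fun y => hφT _
    have hκ : κ ∈ F.Hom φN.range := by
      refine ((hreal.2 _ hrT κ hκT).2 ⟨g, ?_⟩).1
      rintro ⟨_, x, rfl⟩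
      rw [show (⟨κ ⟨φN x, ⟨x, rfl⟩⟩, hκT _⟩ : T') = ⟨φ ⟨χ x, hχ x⟩, hφT _⟩ from
        Subtype.ext (hκe x _)]
      exact hg x
    have hη : η ∈ F.Hom N := comp_mem_of_eq hφN hκ (fun x => ⟨x, rfl⟩) fun x => (hκe x _).symm
    obtain ⟨ψ, hψm, -, hψe, -⟩ := exists_inv hφ rfl
    exact comp_mem_of_eq hη hψm (fun x => ⟨_, rfl⟩) fun x => (hψe ⟨χ x, hχ x⟩ _).symm
  have keyB : ∀ (N : Subgroup Ω) (hN : N ≤ W) (χ : N →* Ω) (hχ : ∀ x, χ x ∈ W), χ ∈ F.Hom N →
      ∀ (hXN : X ≤ N), (∀ x : X, χ ⟨x, hXN x.2⟩ = (x : Ω)) →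
      ∃ g : G, ∀ x : N, j ⟨χ x, hχ x⟩ = g * j ⟨x, hN x.2⟩ * g⁻¹ := by
    intro N hN χ hχ hχm hXN hfix
    let φN : N →* Ω := φ.comp (Subgroup.inclusion hN)
    have hφN : φN ∈ F.Hom N := restrict_mem hφ hN
    obtain ⟨ψN, hψN, hψr, hψ, -⟩ := exists_inv hφN rfl
    let η : N →* Ω := φ.comp (χ.codRestrict W hχ)
    have hη : η ∈ F.Hom N := comp_mem_of_eq hχm hφ hχ fun x => rfl
    let κ : φN.range →* Ω := η.comp (ψN.codRestrict N fun y => hψr.le ⟨y, rfl⟩)
    have hκe : ∀ (x : N) (hy : φN x ∈ φN.range), κ ⟨φN x, hy⟩ = η x := fun x hy =>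
      apply_congr η (hψ x hy)
    have hκ : κ ∈ F.Hom φN.range :=
      comp_mem_of_eq hψN hη (fun y => hψr.le ⟨y, rfl⟩) fun y => rfl
    have hrT : φN.range ≤ T' := by
      rintro _ ⟨x, rfl⟩
      exact hφT _
    have hκT : ∀ y, κ y ∈ T' := fun y => hφT _
    have hXr : X' ≤ φN.range := fun x' hx' => by
      obtain ⟨x, hx, rfl⟩ := hφX x' hx'
      exact ⟨⟨x, hXN hx⟩, rfl⟩
    obtain ⟨g, hg⟩ := (hreal.2 _ hrT κ hκT).1 ⟨hκ, hrT, hκT,
      κ.comp (Subgroup.inclusion (sup_le le_rfl hXr)), restrict_mem hκ (sup_le le_rfl hXr),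
      fun y => rfl, fun x' => by
        obtain ⟨x, hx, hxe⟩ := hφX x' x'.2
        show κ ⟨(x' : Ω), hXr x'.2⟩ = _
        refine (apply_congr κ (y := ⟨φN ⟨x, hXN hx⟩, MonoidHom.mem_range.2 ⟨_, rfl⟩⟩) hxe.symm).trans
          ((hκe _ _).trans (Eq.trans ?_ hxe))
        exact apply_congr φ (hfix ⟨x, hx⟩)⟩
    refine ⟨g, fun x => ?_⟩
    refine Eq.trans ?_ (hg ⟨φN x, ⟨x, rfl⟩⟩)
    exact congrArg ι (Subtype.ext (hκe x ⟨x, rfl⟩).symm)
  -- the subgroups of `G`
  have hjp : ∀ A : Subgroup Ω, IsPGroup p ((A.subgroupOf W).map j) := fun A =>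
    ((isPGroup_of_le hS hWS).to_subgroup _).map j
  set Ug := (U.subgroupOf W).map j with hUg
  set H := Subgroup.centralizer (Ug : Set G) with hH
  set R := CharP.opIn p H with hR
  set M := ((centralizerIn S U).subgroupOf W).map j with hMdef
  have hMH : M ≤ H := by
    rintro _ ⟨c, hc, rfl⟩
    rw [hH, Subgroup.mem_centralizer_iff]
    rintro _ ⟨u, hu, rfl⟩
    rw [← map_mul, ← map_mul]
    exact congrArg j (Subtype.ext (hc.2 u hu))
  have hMR : M ≤ Subgroup.normalizer (R : Set G) := hMH.trans (CharP.le_normalizer_opIn H)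
  -- `R` lies in the image of `C_S(U)`
  have hRM : R ≤ M := by
    set B := M ⊔ R with hB
    have hBH : B ≤ H := sup_le hMH (CharP.opIn_le H)
    have hBU : B ≤ Subgroup.normalizer (Ug : Set G) :=
      hBH.trans (centralizer_le_normalizer' Ug)
    have hBp : IsPGroup p B :=
      IsPGroup.to_sup_of_normal_right' (hjp _) (CharP.isPGroup_opIn H) hMR
    have hB'p : IsPGroup p (B ⊔ Ug : Subgroup G) :=
      IsPGroup.to_sup_of_normal_right' hBp (hjp _) hBU
    obtain ⟨P₁, hP₁⟩ := hB'p.exists_le_sylow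
    obtain ⟨g, hg⟩ := MulAction.exists_smul_eq G P₁ Syl
    have hgr : ∀ b ∈ B ⊔ Ug, g * b * g⁻¹ ∈ ι.range := fun b hb => by
      rw [← hSyl, ← hg]
      exact Subgroup.smul_mem_pointwise_smul b (MulAut.conj g) _ (hP₁ hb)
    let k : ↥(B ⊔ Ug) →* T' := (MonoidHom.ofInjective hreal.1).symm.toMonoidHom.comp
      (((MulAut.conj g).toMonoidHom.comp (B ⊔ Ug).subtype).codRestrict ι.range fun b => hgr b b.2)
    have hk : ∀ b, ι (k b) = g * b * g⁻¹ := fun b =>
      congrArg Subtype.val (MulEquiv.apply_symm_apply (MonoidHom.ofInjective hreal.1) _)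
    -- the conjugate of `U`
    let φU : U →* Ω := φ.comp (Subgroup.inclusion hUW)
    have hφU : φU ∈ F.Hom U := restrict_mem hφ hUW
    let jU : U →* ↥(B ⊔ Ug) := (j.comp (Subgroup.inclusion hUW)).codRestrict _ fun u =>
      Subgroup.mem_sup_right ⟨_, u.2, rfl⟩
    obtain ⟨ψU, -, hψr, hψ, -⟩ := exists_inv hφU rfl
    let η : U →* Ω := T'.subtype.comp (k.comp jU)
    let κ : φU.range →* Ω := η.comp (ψU.codRestrict U fun y => hψr.le ⟨y, rfl⟩)
    have hrT : φU.range ≤ T' := by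
      rintro _ ⟨x, rfl⟩
      exact hφT _
    have hκT : ∀ y, κ y ∈ T' := fun y => (k _).2
    have hκ : κ ∈ F.Hom φU.range := by
      refine ((hreal.2 _ hrT κ hκT).2 ⟨g, ?_⟩).1
      rintro ⟨_, x, rfl⟩
      rw [show (⟨κ ⟨φU x, ⟨x, rfl⟩⟩, hκT _⟩ : T') = k (jU x) from
        Subtype.ext (apply_congr η (hψ x _))]
      exact hk _
    have hη : η ∈ F.Hom U :=
      comp_mem_of_eq hφU hκ (fun x => ⟨x, rfl⟩) fun x => (apply_congr η (hψ x _)).symm
    have hcard : Nat.card B ≤ Nat.card M := by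
      have hfc := (fullyCentralized_of_fullyNormalized p hS hF hUn).2 η.range ⟨η, hη, rfl⟩
      have hM : Nat.card M = Nat.card (centralizerIn S U) :=
        (Nat.card_congr (Subgroup.equivMapOfInjective _ j hj).toEquiv).symm.trans
          (Nat.card_congr (Subgroup.subgroupOfEquivOfLe hCW).toEquiv)
      rw [hM]
      haveI : Finite (centralizerIn S η.range) := finite_of_le (centralizerIn_le_S _)
      refine le_trans ?_ hfc
      refine Nat.card_le_card_of_injective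
        (fun b : B => (⟨(k ⟨b, Subgroup.mem_sup_left b.2⟩ : Ω), mem_centralizerIn.2
          ⟨hT'S (k _).2, ?_⟩⟩ : centralizerIn S η.range)) ?_
      · rintro _ ⟨u, rfl⟩
        show ((k (jU u) : T') : Ω) * _ = _ * ((k (jU u) : T') : Ω)
        rw [← Subgroup.coe_mul, ← Subgroup.coe_mul, ← map_mul, ← map_mul]
        refine congrArg (fun z => ((k z : T') : Ω)) (Subtype.ext ?_)
        exact Subgroup.mem_centralizer_iff.1 (hBH b.2) _ ⟨_, u.2, rfl⟩
      · intro a b h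
        have h' : k ⟨a, Subgroup.mem_sup_left a.2⟩ = k ⟨b, Subgroup.mem_sup_left b.2⟩ :=
          Subtype.ext (congrArg Subtype.val h :)
        have h'' := congrArg ι h'
        rw [hk, hk] at h''
        exact Subtype.ext (mul_left_cancel (mul_right_cancel h''))
    have hMB : M = B :=
      eq_of_le_of_card_le (S := (⊤ : Subgroup G)) le_top le_sup_left hcard
    exact hMB.symm ▸ le_sup_right
  -- the preimage of `R`
  set R₀ := (R.comap j).map W.subtype with hR₀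
  have hR₀C : R₀ ≤ centralizerIn S U := by
    rintro _ ⟨w, hw, rfl⟩
    obtain ⟨c, hc, hce⟩ := hRM hw
    rw [← hj hce]
    exact hc
  have hR₀W : R₀ ≤ W := hR₀C.trans hCW
  -- the centralizer system of `U` in `N_F(U)` is constrained
  set E := normSystem F U hUn.1 with hE
  have hEsat : E.IsSaturated p :=
    normalizerSystem_saturated p hS hF hUn (normSystem_spec F U hUn.1)
  have hEn : E.IsNormal U := isNormal_normalizerSystem hUn.1 (normSystem_spec F U hUn.1)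
  have hNS : normalizerIn S U ≤ S := normalizerIn_le_S U
  haveI : Finite (normalizerIn S U) := finite_of_le hNS
  have hNp : IsPGroup p (normalizerIn S U) := isPGroup_of_le hS hNS
  set D := centralizerIn (normalizerIn S U) U with hD
  have hDC : D = centralizerIn S U := centralizerIn_normalizerIn U
  haveI : Finite D := finite_of_le (centralizerIn_le_S _)
  refine hne (constrained_of_centSystem hNp hEsat hEn
    (CompExists.constrained_of_normal
      (CoreComp.centSystem_normal p hNp hEsat hEn).1.1 (Q := R₀) ?_ ?_))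
  swap
  · -- self-centralizing
    intro x hx
    have hxC : x ∈ centralizerIn S U := hDC.le hx.1
    refine ⟨⟨x, hCW hxC⟩, ?_, rfl⟩
    show j ⟨x, hCW hxC⟩ ∈ R
    refine (CharP.hasCharP_subgroup_iff H).1
      (hasCharP_centralizer_of_pGroup hchar (hjp U)) ⟨hMH ⟨_, hxC, rfl⟩, ?_⟩
    refine Subgroup.mem_centralizer_iff.2 fun r hr => ?_
    obtain ⟨c, hc, rfl⟩ := hRM hr
    rw [← map_mul, ← map_mul]
    exact congrArg j (Subtype.ext (hx.2 c ⟨c, hr, rfl⟩))
  refine ⟨hR₀C.trans hDC.ge, fun P φ' hφ' => ?_⟩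
  obtain ⟨-, hP, -, ψ, hψ, he, hf⟩ := hφ'
  have hPC : P ≤ centralizerIn S U := hP.trans hDC.le
  have hPW : P ≤ W := hPC.trans hCW
  have hPU : P ⊔ U ≤ W := sup_le hPW hUW
  have hφ'T : ∀ x : P, φ' x ∈ centralizerIn S U := fun x => by
    rw [← he x]
    refine mem_centralizerIn.2 ⟨apply_mem_S hψ.1 _, fun u hu => ?_⟩
    have h := congrArg ψ (Subtype.ext ((mem_centralizerIn.1 (hPC x.2)).2 u hu) :
      (⟨u, Subgroup.mem_sup_right hu⟩ : ↥(P ⊔ U)) * ⟨x, Subgroup.mem_sup_left x.2⟩ =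
        ⟨x, Subgroup.mem_sup_left x.2⟩ * ⟨u, Subgroup.mem_sup_right hu⟩)
    rw [map_mul, map_mul, show ψ ⟨u, Subgroup.mem_sup_right hu⟩ = u from hf ⟨u, hu⟩] at h
    exact h
  have hψW : ∀ x, ψ x ∈ W := by
    rintro ⟨x, hx⟩
    obtain ⟨a, ha, hae⟩ := (sup_le
      (fun y hy => ⟨⟨y, Subgroup.mem_sup_left hy⟩,
        Subgroup.mem_comap.2 ((he ⟨y, hy⟩).symm ▸ hCW (hφ'T ⟨y, hy⟩) :), rfl⟩)
      (fun y hy => ⟨⟨y, Subgroup.mem_sup_right hy⟩,
        Subgroup.mem_comap.2 (Set.mem_of_eq_of_mem (hf ⟨y, hy⟩) (hUW hy) :), rfl⟩) :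
      P ⊔ U ≤ (W.comap ψ).map (P ⊔ U).subtype) hx
    exact Set.mem_of_eq_of_mem (apply_congr ψ hae.symm) ha
  obtain ⟨g, hg⟩ := keyB (P ⊔ U) hPU ψ hψW hψ.1 (hXU.trans le_sup_right)
    fun x => hf ⟨x, hXU x.2⟩
  have hgH : g ∈ H := by
    rw [hH, Subgroup.mem_centralizer_iff]
    rintro _ ⟨⟨u, huW⟩, hu, rfl⟩
    have h := hg ⟨u, Subgroup.mem_sup_right hu⟩
    rw [show (⟨ψ ⟨u, Subgroup.mem_sup_right hu⟩, hψW _⟩ : W) = ⟨u, huW⟩ from
      Subtype.ext (hf ⟨u, hu⟩)] at h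
    calc j ⟨u, huW⟩ * g = g * j ⟨u, huW⟩ * g⁻¹ * g :=
          congrArg (· * g) h
      _ = g * j ⟨u, huW⟩ := by group
  -- the extension
  let N : Subgroup Ω := (P ⊔ U) ⊔ R₀
  have hN : N ≤ W := sup_le hPU hR₀W
  have hgj : ∀ x : N, g * j ⟨x, hN x.2⟩ * g⁻¹ ∈ j.range := by
    rintro ⟨x, hx⟩
    obtain ⟨a, ha, hae⟩ := (sup_le
      (fun y hy => ⟨⟨y, hPU hy⟩, ⟨_, hg ⟨y, hy⟩⟩, rfl⟩)
      (fun y hy => by
        obtain ⟨w, hw, rfl⟩ := hy
        obtain ⟨c, -, hc⟩ :=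
          hRM ((Subgroup.mem_normalizer_iff.1 (CharP.le_normalizer_opIn H hgH) _).1 hw)
        exact ⟨w, ⟨c, hc⟩, rfl⟩) :
      N ≤ ((j.range.comap (MulAut.conj g).toMonoidHom).comap j).map W.subtype) hx
    exact Set.mem_of_eq_of_mem
      (congrArg (fun w => g * j w * g⁻¹) (Subtype.ext hae.symm : (⟨x, hN hx⟩ : W) = a)) ha
  let χW : N →* W := (MonoidHom.ofInjective hj).symm.toMonoidHom.comp
    (((MulAut.conj g).toMonoidHom.comp (j.comp (Subgroup.inclusion hN))).codRestrict j.range hgj)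
  have hχj : ∀ x : N, j (χW x) = g * j ⟨x, hN x.2⟩ * g⁻¹ := fun x =>
    congrArg Subtype.val (MulEquiv.apply_symm_apply (MonoidHom.ofInjective hj) _)
  let χ : N →* Ω := W.subtype.comp χW
  have hχ : χ ∈ F.Hom N := keyA N hN χ (fun x => (χW x).2) g hχj
  have hχψ : ∀ (x : Ω) (hx : x ∈ P ⊔ U),
      χ ⟨x, Subgroup.mem_sup_left hx⟩ = ψ ⟨x, hx⟩ := fun x hx =>
    congrArg Subtype.val (hj ((hχj ⟨x, Subgroup.mem_sup_left hx⟩).trans (hg ⟨x, hx⟩).symm) :
      χW ⟨x, Subgroup.mem_sup_left hx⟩ = (⟨ψ ⟨x, hx⟩, hψW _⟩ : W))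
  have hUN : U ≤ N := le_sup_right.trans le_sup_left
  have hχU : ∀ u : U, χ ⟨u, hUN u.2⟩ = (u : Ω) := fun u =>
    (hχψ u (Subgroup.mem_sup_right u.2)).trans (hf u)
  have hχR : ∀ (r : Ω) (hr : r ∈ R₀), χ ⟨r, Subgroup.mem_sup_right hr⟩ ∈ R₀ := fun r hr => by
    refine ⟨χW ⟨r, Subgroup.mem_sup_right hr⟩, ?_, rfl⟩
    show j _ ∈ R
    obtain ⟨w, hw, hwe⟩ := id hr
    rw [hχj, show (⟨r, hN (Subgroup.mem_sup_right hr)⟩ : W) = w from Subtype.ext hwe.symm]
    exact (Subgroup.mem_normalizer_iff.1 (CharP.le_normalizer_opIn H hgH) _).1 hw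
  have hPR : P ⊔ R₀ ≤ centralizerIn S U := sup_le hPC hR₀C
  have hPRN : P ⊔ R₀ ≤ N := sup_le_sup_right le_sup_left _
  have hPRUN : (P ⊔ R₀) ⊔ U ≤ N := sup_le hPRN hUN
  have hN' : N ≤ normalizerIn S U := sup_le
    (sup_le (hPC.trans (centralizerIn_le_normalizerIn U)) (le_normalizerIn hUn.1))
    (hR₀C.trans (centralizerIn_le_normalizerIn U))
  have hχN : ∀ x : N, χ x ∈ normalizerIn S U := fun x =>
    fix_normalizer hUN (apply_mem_S hχ) hχU (hN' x.2)
  have hEm : ∀ (A : Subgroup Ω) (hA : A ≤ N), χ.comp (Subgroup.inclusion hA) ∈ E.Hom A := by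
    intro A hA
    refine ⟨restrict_mem hχ hA, hA.trans hN', fun x => hχN _,
      χ.comp (Subgroup.inclusion (sup_le hA hUN)), restrict_mem hχ _, fun x => rfl, ?_⟩
    ext y
    refine ⟨?_, fun hy => ⟨⟨y, Subgroup.mem_sup_right hy⟩, hy, hχU ⟨y, hy⟩⟩⟩
    rintro ⟨⟨x, hxA⟩, hx, rfl⟩
    exact Set.mem_of_eq_of_mem (hχU ⟨x, hx⟩) hx
  refine ⟨χ.comp (Subgroup.inclusion hPRN), ⟨hEm _ _, hPR.trans hDC.ge, fun x => hDC.ge ?_,
    χ.comp (Subgroup.inclusion hPRUN), hEm _ _, fun x => rfl, fun u => hχU u⟩, fun x => ?_, ?_⟩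
  · refine mem_centralizerIn.2 ⟨apply_mem_S hχ _, fun u hu => ?_⟩
    show u * χ ⟨x, hPRN x.2⟩ = χ ⟨x, hPRN x.2⟩ * u
    have h := congrArg χ (Subtype.ext ((mem_centralizerIn.1 (hPR x.2)).2 u hu) :
      (⟨u, hUN hu⟩ : N) * ⟨x, hPRN x.2⟩ = ⟨x, hPRN x.2⟩ * ⟨u, hUN hu⟩)
    rw [map_mul, map_mul, show χ ⟨u, hUN hu⟩ = u from hχU ⟨u, hu⟩] at h
    exact h
  · exact (hχψ x (Subgroup.mem_sup_left x.2)).trans (he x)
  · refine eq_of_le_of_card_le (hR₀C.trans (centralizerIn_le_S _)) ?_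
      (card_map_subgroupOf (F.injective_of_mem (restrict_mem hχ hPRN)) le_sup_right).ge
    rintro _ ⟨⟨x, hx'⟩, hx, rfl⟩
    exact hχR x hx

/-- **Characteristic `p`-type or component type.** -/
theorem charPType_or_componentType (hS : IsPGroup p S) (hF : F.IsSaturated p) :
    F.IsOfCharacteristicPType p ∨ F.IsOfComponentType p := by
  by_cases h : F.IsOfCharacteristicPType p
  · exact Or.inl h
  refine Or.inr ?_
  simp only [FusionSystem.IsOfCharacteristicPType, not_forall] at h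
  obtain ⟨U, hU, hUn, E₀, hE₀, hne⟩ := h
  have hne' : ¬ (normSystem F U hUn.1).IsConstrained p := by
    have e : E₀ = normSystem F U hUn.1 := ext_hom fun P => (hE₀ P).trans rfl
    exact e ▸ hne
  have hUS : U ≤ S := hUn.1
  haveI : Finite U := finite_of_le hUS
  haveI : Nontrivial U := (Subgroup.nontrivial_iff_ne_bot U).2 hU
  have hUp : IsPGroup p U := isPGroup_of_le hS hUS
  haveI := hUp.center_nontrivial
  obtain ⟨n, hn, hcard⟩ := (hUp.to_subgroup (Subgroup.center U)).nontrivial_iff_card.1 inferInstance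
  obtain ⟨z, hz⟩ := exists_prime_orderOf_dvd_card' (G := Subgroup.center U) p
    (hcard ▸ dvd_pow_self p hn.ne')
  have hzU : ((z : U) : Ω) ∈ U := SetLike.coe_mem _
  set X := Subgroup.zpowers ((z : U) : Ω) with hX
  have hXU : X ≤ U := Subgroup.zpowers_le.2 hzU
  have hXcard : Nat.card X = p := by
    rw [hX, Nat.card_zpowers, Subgroup.orderOf_coe, Subgroup.orderOf_coe, hz]
  have hXc : ∀ x ∈ X, ∀ u ∈ U, x * u = u * x := by
    rintro x hx u hu
    have hzu : Commute u ((z : U) : Ω) :=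
      congrArg Subtype.val (Subgroup.mem_center_iff.1 z.2 ⟨u, hu⟩)
    obtain ⟨k, rfl⟩ := Subgroup.mem_zpowers_iff.1 hx
    exact (hzu.zpow_right k).symm.eq
  obtain ⟨X', hconj, hX'⟩ := exists_fullyNormalized F (hXU.trans hUS)
  have hnc := nonconstrained_centralizer hS hF hUn hne' hXU hXc hX' hconj
  have hTS : centralizerIn S X' ≤ S := centralizerIn_le_S X'
  haveI : Finite (centralizerIn S X') := finite_of_le hTS
  have hsat := centralizerSystem_saturated p hS hF (fullyCentralized_of_fullyNormalized p hS hF hX')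
    (centSystem_spec F X' hX'.1)
  obtain ⟨T, C, hC⟩ := CompExists.exists_component (isPGroup_of_le hS hTS) hsat hnc
  obtain ⟨φ, hφ, hr⟩ := hconj
  exact ⟨X', by rw [← hr, card_range hφ, hXcard], hX', centSystem F X' hX'.1,
    centSystem_spec F X' hX'.1, T, C, hC⟩

end CfsgLib.Dichotomy
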