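import Cfsg.Agent.Fusion.NormalCriteria
import Cfsg.Agent.Fusion.GroupSystem

/-!
The product of a strongly closed subgroup with its centralizer is strongly closed.
-/

set_option autoImplicit false

open Cfsg Cfsg.FusionSystem

namespace CfsgLib.Fusion

universe u

variable {Ω : Type u} [Group Ω] {S : Subgroup Ω} {F : FusionSystem S}

theorem conj_mem_of_stronglyClosed {T : Subgroup Ω} (hT : F.StronglyClosed T) {s t : Ω}
    (hs : s ∈ S) (ht : t ∈ T) : s * t * s⁻¹ ∈ T :=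
  hT.2 T le_rfl _ (F.conj_mem hT.1 hs) ⟨t, ht⟩

theorem le_normalizer_of_stronglyClosed {T : Subgroup Ω} (hT : F.StronglyClosed T) :
    S ≤ Subgroup.normalizer (T : Set Ω) := fun s hs => Subgroup.mem_normalizer_iff.2 fun t =>
  ⟨fun ht => conj_mem_of_stronglyClosed hT hs ht, fun ht => by
    have h := conj_mem_of_stronglyClosed hT (S.inv_mem hs) ht
    rwa [show s⁻¹ * (s * t * s⁻¹) * s⁻¹⁻¹ = t by group] at h⟩

/-- `T C_S(T)` is normal in `S`. -/
theorem conj_mem_sup_centralizer {T : Subgroup Ω} (hT : F.StronglyClosed T) {s r : Ω} (hs : s ∈ S)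
    (hr : r ∈ T ⊔ centralizerIn S T) : s * r * s⁻¹ ∈ T ⊔ centralizerIn S T := by
  revert hr
  intro hr
  rw [← SetLike.mem_coe, Subgroup.coe_mul_of_right_le_normalizer_left] at hr
  · obtain ⟨t, ht, c, hc, rfl⟩ := hr
    rw [show s * (t * c) * s⁻¹ = (s * t * s⁻¹) * (s * c * s⁻¹) by group]
    refine Subgroup.mul_mem _ (le_sup_left (α := Subgroup Ω) (conj_mem_of_stronglyClosed hT hs ht))
      (le_sup_right (α := Subgroup Ω) (mem_centralizerIn.2 ⟨S.mul_mem (S.mul_mem hs hc.1) (S.inv_mem hs),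
        fun y hy => ?_⟩))
    have h1 := conj_mem_of_stronglyClosed hT (S.inv_mem hs) hy
    rw [inv_inv] at h1
    have h2 := (mem_centralizerIn.1 hc).2 _ h1
    calc y * (s * c * s⁻¹) = s * (s⁻¹ * y * s * c) * s⁻¹ := by group
      _ = s * (c * (s⁻¹ * y * s)) * s⁻¹ := by rw [h2]
      _ = s * c * s⁻¹ * y := by group
  · exact (centralizerIn_le_S T).trans (le_normalizer_of_stronglyClosed hT)

variable [Finite S]

theorem apply_mem_sup_centralizer (p : ℕ) [Fact p.Prime] (hS : IsPGroup p S)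
    (hF : F.IsSaturated p) {T : Subgroup Ω} (hT : F.StronglyClosed T) {P : Subgroup Ω}
    {φ : P →* Ω} (hφ : φ ∈ F.Hom P) (x : P) (hx : (x : Ω) ∈ T ⊔ centralizerIn S T) :
    φ x ∈ T ⊔ centralizerIn S T := by
  suffices H : ∀ (n : ℕ) (P : Subgroup Ω), Nat.card S - Nat.card P = n → ∀ φ ∈ F.Hom P, ∀ x : P,
      (x : Ω) ∈ T ⊔ centralizerIn S T → φ x ∈ T ⊔ centralizerIn S T from H _ P rfl φ hφ x hx
  intro n
  induction n using Nat.strong_induction_on with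
  | _ n ih =>
  intro P hn φ hφ x hx
  have hPS := le_of_mem_hom hφ
  -- if `T ≤ P`, the action on `T` is transported
  have easy : ∀ {P : Subgroup Ω} {φ : P →* Ω}, φ ∈ F.Hom P → T ≤ P → ∀ x : P,
      (x : Ω) ∈ T ⊔ centralizerIn S T → φ x ∈ T ⊔ centralizerIn S T := by
    intro P φ hφ hTP x hx
    have hPS := le_of_mem_hom hφ
    rw [← SetLike.mem_coe, Subgroup.coe_mul_of_right_le_normalizer_left _ _
      ((centralizerIn_le_S T).trans (le_normalizer_of_stronglyClosed hT))] at hx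
    obtain ⟨t, ht, c, hc, hxc⟩ := hx
    have hxc' : t * c = (x : Ω) := hxc
    have hcP : c ∈ P := by
      rw [show c = t⁻¹ * (x : Ω) by rw [← hxc', inv_mul_cancel_left]]
      exact P.mul_mem (P.inv_mem (hTP ht)) x.2
    have e : φ x = φ ⟨t, hTP ht⟩ * φ ⟨c, hcP⟩ := by
      rw [← map_mul]; exact apply_congr φ hxc'.symm
    rw [e]
    refine Subgroup.mul_mem _
      (le_sup_left (α := Subgroup Ω) (hT.2 T le_rfl _ (restrict_mem hφ hTP) ⟨t, ht⟩))
      (le_sup_right (α := Subgroup Ω) (mem_centralizerIn.2 ⟨apply_mem_S hφ _, fun y hy => ?_⟩))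
    have hr : (φ.comp (Subgroup.inclusion hTP)).range = T := eq_of_le_of_card_le hT.1
      (fun _ ⟨a, ha⟩ => ha ▸ hT.2 T le_rfl _ (restrict_mem hφ hTP) a)
      (IsConj.card_eq (F := F) ⟨_, restrict_mem hφ hTP, rfl⟩).ge
    obtain ⟨a, rfl⟩ := hr.ge hy
    show φ (Subgroup.inclusion hTP a) * φ ⟨c, hcP⟩ = φ ⟨c, hcP⟩ * φ (Subgroup.inclusion hTP a)
    rw [← map_mul, ← map_mul]
    exact apply_congr φ ((mem_centralizerIn.1 hc).2 a a.2)
  by_cases hTP : T ≤ P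
  · exact easy hφ hTP x hx
  have hlt : P < normalizerIn S P := lt_normalizerIn p hS le_rfl
    (lt_of_le_of_ne hPS fun h => hTP (h ▸ hT.1))
  have hNc : Nat.card P < Nat.card (normalizerIn S P) := by
    have := finite_of_le (normalizerIn_le_S (S := S) P)
    by_contra h
    exact hlt.ne (Subgroup.eq_of_le_of_card_ge hlt.le (not_lt.1 h))
  have big : ∀ {N : Subgroup Ω}, N ≤ S → Nat.card P < Nat.card N → ∀ ψ ∈ F.Hom N, ∀ y : N,
      (y : Ω) ∈ T ⊔ centralizerIn S T → ψ y ∈ T ⊔ centralizerIn S T := fun {N} hN hc ψ hψ =>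
    ih _ (by have := card_le_of_le le_rfl hN; omega) N rfl ψ hψ
  -- move both ends to a good conjugate
  obtain ⟨Q, hPQ, h₁, h₂⟩ := hF P hPS
  obtain ⟨ψ₁, hψ₁, hm₁, hmap₁⟩ := exists_map_normalizer p hS h₁ h₂ hPQ
  have hUQ : F.IsConj φ.range Q := isConj_trans (isConj_symm ⟨φ, hφ, rfl⟩) hPQ
  obtain ⟨ψ₂, hψ₂, hm₂, hmap₂⟩ := exists_map_normalizer p hS h₁ h₂ hUQ
  obtain ⟨ψ₂', hψ₂', hr₂', hl₂, -⟩ := exists_inv hψ₂ (rfl : ψ₂.range = _)
  have hφS : φ.range ≤ S := range_le_S hφ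
  have hy0 : φ x ∈ φ.range := ⟨x, rfl⟩
  have hxQ : ψ₁ ⟨x, le_normalizerIn hPS x.2⟩ ∈ Q :=
    hmap₁.le ⟨⟨x, le_normalizerIn hPS x.2⟩, x.2, rfl⟩
  have hyQ : ψ₂ ⟨φ x, le_normalizerIn hφS hy0⟩ ∈ Q :=
    hmap₂.le ⟨⟨φ x, le_normalizerIn hφS hy0⟩, hy0, rfl⟩
  obtain ⟨ψ₁', hψ₁', hr₁', hl₁, -⟩ := exists_inv hψ₁ (rfl : ψ₁.range = _)
  have hQ1 : Q ≤ ψ₁.range := fun q hq => by
    obtain ⟨a, -, ha⟩ := hmap₁.ge hq
    exact ⟨a, ha⟩
  have hαran : ∀ q : Q, ψ₁' ⟨q, hQ1 q.2⟩ ∈ P := fun q => by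
    obtain ⟨a, haP, ha⟩ := hmap₁.ge q.2
    have : ψ₁' ⟨q, hQ1 q.2⟩ = (a : Ω) :=
      (apply_congr ψ₁' (y := ⟨ψ₁ a, ⟨a, rfl⟩⟩) ha.symm).trans (hl₁ a _)
    rw [this]; exact haP
  have hdom : ∀ q : Q, φ ⟨_, hαran q⟩ ∈ normalizerIn S φ.range := fun q =>
    le_normalizerIn hφS (⟨_, rfl⟩)
  let α₀ : Q →* Ω :=
    { toFun := fun q => ψ₂ ⟨φ ⟨_, hαran q⟩, hdom q⟩
      map_one' := by
        refine (apply_congr ψ₂ ?_).trans (map_one ψ₂)
        exact (apply_congr φ (y := 1) (map_one ψ₁')).trans (map_one φ)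
      map_mul' := fun a b => by
        rw [← map_mul]
        refine apply_congr ψ₂ ?_
        show φ _ = φ _ * φ _
        rw [← map_mul]
        exact apply_congr φ (map_mul ψ₁' ⟨a, hQ1 a.2⟩ ⟨b, hQ1 b.2⟩) }
  have hα₀ : α₀ ∈ F.Hom Q := by
    have h1 : (φ.comp ((ψ₁'.comp (Subgroup.inclusion hQ1)).codRestrict P hαran)) ∈ F.Hom Q :=
      comp_mem_of_eq (restrict_mem hψ₁' hQ1) hφ hαran fun q => rfl
    exact comp_mem_of_eq h1 hψ₂ hdom fun q => rfl
  have hαr : α₀.range = Q := eq_of_le_of_card_le h₁.1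
    (by rintro _ ⟨q, rfl⟩
        exact hmap₂.le ⟨⟨_, hdom q⟩, ⟨_, rfl⟩, rfl⟩)
    (IsConj.card_eq (F := F) ⟨α₀, hα₀, rfl⟩).ge
  let α : F.autGroup Q := ⟨_, autOfRange_mem hα₀ hαr⟩
  have hval : ψ₂ ⟨φ x, le_normalizerIn hφS hy0⟩ =
      (((α : MulAut Q) ⟨ψ₁ ⟨x, le_normalizerIn hPS x.2⟩, hxQ⟩ : Q) : Ω) := by
    refine apply_congr ψ₂ (apply_congr φ ?_)
    exact (hl₁ ⟨x, le_normalizerIn hPS x.2⟩ _).symm
  suffices key : ∀ (α : F.autGroup Q) (q : Q), (q : Ω) ∈ T ⊔ centralizerIn S T →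
      (((α : MulAut Q) q : Q) : Ω) ∈ T ⊔ centralizerIn S T by
    have h1 := key α ⟨_, hxQ⟩ (big (normalizerIn_le_S P) hNc ψ₁ hψ₁ ⟨x, _⟩ hx)
    rw [← hval] at h1
    have hc2 : Nat.card P < Nat.card ψ₂.range := by
      have e1 := IsConj.card_eq (⟨φ, hφ, rfl⟩ : F.IsConj P φ.range)
      have e2 := IsConj.card_eq (⟨ψ₂, hψ₂, rfl⟩ : F.IsConj (normalizerIn S φ.range) ψ₂.range)
      have h3 : φ.range < normalizerIn S φ.range := lt_normalizerIn p hS le_rfl (lt_of_le_of_ne hφS fun h => by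
        have := IsConj.card_eq (⟨φ, hφ, rfl⟩ : F.IsConj P φ.range)
        exact hTP (eq_of_le_of_card_le le_rfl hPS (by rw [← h, this]) ▸ hT.1))
      have h4 : Nat.card φ.range < Nat.card (normalizerIn S φ.range) := by
        have := finite_of_le (normalizerIn_le_S (S := S) φ.range)
        by_contra h
        exact h3.ne (Subgroup.eq_of_le_of_card_ge h3.le (not_lt.1 h))
      omega
    have h2 := big (range_le_S hψ₂) hc2 ψ₂' hψ₂'
      ⟨ψ₂ ⟨φ x, le_normalizerIn hφS hy0⟩, ⟨_, rfl⟩⟩ h1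
    exact (congrArg (· ∈ T ⊔ centralizerIn S T) (hl₂ ⟨φ x, le_normalizerIn hφS hy0⟩ _)).mp h2
  by_cases hTQ : T ≤ Q
  · exact fun α q hq => easy ((autGroup_carrier h₁.1).1 α.2) hTQ q hq
  -- automorphisms trivial modulo `T` and a Frattini argument
  haveI : Finite Q := finite_of_le h₁.1
  haveI : Finite (MulAut Q) := finite_mulAut
  have hU : ∀ (α : F.autGroup Q) (q : Q), (q : Ω) ∈ T → (((α : MulAut Q) q : Q) : Ω) ∈ T :=
    fun α q hq => le_of_stronglyClosed_aut hT h₁.1 α.2 q hq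
  let B : Subgroup (F.autGroup Q) :=
    { carrier := {β | ∀ q : Q, (q : Ω)⁻¹ * (((β : MulAut Q) q : Q) : Ω) ∈ T}
      one_mem' := fun q => by simp [T.one_mem]
      mul_mem' := fun {a b} ha hb q => by
        have := T.mul_mem (hb q) (ha ((b : MulAut Q) q))
        rwa [mul_assoc, mul_inv_cancel_left] at this
      inv_mem' := fun {a} ha q => by
        have h := T.inv_mem (ha ((a : MulAut Q)⁻¹ q))
        rw [MulAut.apply_inv_self, mul_inv_rev, inv_inv] at h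
        exact h }
  haveI hBn : B.Normal := ⟨fun b hb a q => by
    have h := hU a _ (show ((((a : MulAut Q)⁻¹ q)⁻¹ * (b : MulAut Q) ((a : MulAut Q)⁻¹ q) : Q) : Ω) ∈ T
      from hb ((a : MulAut Q)⁻¹ q))
    rw [map_mul, map_inv, MulAut.apply_inv_self] at h
    exact h⟩
  obtain ⟨R, hR⟩ := h₁.2
  obtain ⟨RB, hRB⟩ : ∃ RB : Sylow p B, (RB : Subgroup B) = (R : Subgroup (F.autGroup Q)).subgroupOf B :=
    by
    have h : SylowIn p (R : Subgroup (F.autGroup Q)) ⊤ :=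
      ⟨le_top, R.subtype le_top, rfl⟩
    obtain ⟨-, RB, hRB⟩ := h.inf_normal le_top (Subgroup.normalizer_eq_top (H := B)).ge
    exact ⟨RB, hRB.trans (Subgroup.inf_subgroupOf_right _ _)⟩
  intro α q hq
  have hsup := Sylow.normalizer_sup_eq_top RB
  have hαmem : α ∈ B ⊔ Subgroup.normalizer (((RB : Subgroup B).map B.subtype : Subgroup (F.autGroup Q)) : Set (F.autGroup Q)) := by
    rw [sup_comm, hsup]; exact Subgroup.mem_top α
  obtain ⟨b, hb, γ, hγ, rfl⟩ := Subgroup.mem_sup_of_normal_left.1 hαmem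
  suffices hg : (((γ : MulAut Q) q : Q) : Ω) ∈ T ⊔ centralizerIn S T by
    have := Subgroup.mul_mem _ hg (le_sup_left (α := Subgroup Ω) (hb ((γ : MulAut Q) q)))
    rwa [mul_inv_cancel_left] at this
  have hγm := (autGroup_carrier h₁.1).1 γ.2
  have hext : ∀ g ∈ T, g ∈ Subgroup.normalizer (Q : Set Ω) →
      g ∈ extender S Q (Q.subtype.comp (γ : MulAut Q).toMonoidHom) := by
    intro g hg hgQ
    let c : F.autGroup Q := ⟨conjAut S Q ⟨g, hT.1 hg, hgQ⟩,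
      autInducedBy_le_autGroup h₁.1 (mem_autInducedBy.2 ⟨g, hT.1 hg, fun _ => rfl⟩)⟩
    have hcB : c ∈ B := fun y => by
      show (y : Ω)⁻¹ * (g * y * g⁻¹) ∈ T
      rw [show (y : Ω)⁻¹ * (g * y * g⁻¹) = ((y : Ω)⁻¹ * g * y) * g⁻¹ by group]
      have := conj_mem_of_stronglyClosed hT (S.inv_mem (h₁.1 y.2)) hg
      rw [inv_inv] at this
      exact T.mul_mem this (T.inv_mem hg)
    have hcR : c ∈ (RB : Subgroup B).map B.subtype := ⟨⟨c, hcB⟩, by
      rw [hRB]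
      show c ∈ (R : Subgroup (F.autGroup Q))
      rw [hR]
      exact mem_autInducedBy.2 ⟨g, hT.1 hg, fun _ => rfl⟩, rfl⟩
    obtain ⟨w, hw, hwe⟩ := (Subgroup.mem_normalizer_iff.1 hγ c).1 hcR
    rw [hRB] at hw
    have hw' : (γ * c * γ⁻¹ : F.autGroup Q) ∈ (R : Subgroup (F.autGroup Q)) := hwe ▸ hw
    rw [hR] at hw'
    refine autInducedBy_congr_mem (γ : MulAut Q) (fun _ => rfl) ⟨hT.1 hg, hgQ⟩
      (α := conjAut S Q ⟨g, hT.1 hg, hgQ⟩) (fun _ => rfl) ?_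
    convert Subgroup.mem_subgroupOf.1 hw' using 1
    exact MulEquiv.ext fun y => rfl
  obtain ⟨ψ, hψ, he⟩ := receptive_extend h₂ hγm (range_subtype_comp _) le_rfl
  have hQlt : Nat.card P < Nat.card (extender S Q (Q.subtype.comp (γ : MulAut Q).toMonoidHom)) := by
    rw [← IsConj.card_eq hPQ]
    have hle := le_extender hγm
    have := finite_of_le (extender_le_S (S := S) Q (Q.subtype.comp (γ : MulAut Q).toMonoidHom))
    by_contra hge
    have heq := Subgroup.eq_of_le_of_card_ge hle (not_lt.1 hge)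
    have hn : Q < normalizerIn (T ⊔ Q) Q := lt_normalizerIn p hS (sup_le hT.1 h₁.1)
      (lt_of_le_of_ne le_sup_right fun h => hTQ (h ▸ le_sup_left))
    obtain ⟨g, hg, hgQ⟩ := SetLike.exists_of_lt hn
    have hg1 : g ∈ (T ⊔ Q : Subgroup Ω) := hg.1
    rw [← SetLike.mem_coe, Subgroup.coe_mul_of_right_le_normalizer_left _ _
      (h₁.1.trans (le_normalizer_of_stronglyClosed hT))] at hg1
    obtain ⟨t, ht, z, hz, rfl⟩ := hg1
    have htN : t ∈ Subgroup.normalizer (Q : Set Ω) := by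
      have := Subgroup.mul_mem _ hg.2 (Subgroup.inv_mem _ (Subgroup.le_normalizer hz))
      rwa [mul_inv_cancel_right] at this
    exact hgQ (Q.mul_mem (heq.ge (hext t ht htN)) hz)
  have := big (extender_le_S Q _) hQlt ψ hψ ⟨q, le_extender hγm q.2⟩ hq
  rwa [he (q : Ω) q.2] at this

theorem stronglyClosed_sup_centralizer (p : ℕ) [Fact p.Prime] (hS : IsPGroup p S)
    (hF : F.IsSaturated p) {T : Subgroup Ω} (hT : F.StronglyClosed T) :
    F.StronglyClosed (T ⊔ centralizerIn S T) :=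
  ⟨sup_le hT.1 (centralizerIn_le_S T), fun _ hP _ hφ x =>
    apply_mem_sup_centralizer p hS hF hT hφ x (hP x.2)⟩

end CfsgLib.Fusion
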