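import Cfsg.Agent.Fusion.Realized
import Cfsg.Agent.Fusion.Invariant
import Cfsg.Agent.Fusion.NormalCriteria
import Cfsg.Agent.Fusion.SmallEssential
import Cfsg.Agent.Solvable.Fitting
import Mathlib.GroupTheory.Focal

/-!
Normal subsystems of the fusion system of a finite group of characteristic `p` come from normal
subgroups.
-/

set_option autoImplicit false

open Cfsg Cfsg.FusionSystem
open scoped commutatorElement

namespace CfsgLib.Fusion.ConstrainedNormal

/-! ### Finite groups -/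

/-- A subgroup of a finite group containing all `p`-elements and all `p'`-elements is everything. -/
theorem mem_of_parts {X : Type*} [Group X] [Finite X] (p : ℕ) [Fact p.Prime] (L : Subgroup X)
    (hp' : ∀ x : X, (orderOf x).Coprime p → x ∈ L) (hpe : ∀ x : X, (∃ k : ℕ, x ^ p ^ k = 1) → x ∈ L)
    (x : X) : x ∈ L := by
  obtain ⟨k, m, hm, he⟩ := Nat.exists_eq_pow_mul_and_not_dvd (orderOf_pos x).ne' p
    (Fact.out : p.Prime).ne_one
  have hco : Nat.Coprime p m := ((Fact.out : p.Prime).coprime_iff_not_dvd).2 hm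
  have h1 : x ^ p ^ k ∈ L := by
    refine hp' _ (Nat.Coprime.coprime_dvd_left ?_ hco.symm)
    rw [orderOf_dvd_iff_pow_eq_one, ← pow_mul, ← he, pow_orderOf_eq_one]
  have h2 : x ^ m ∈ L := by
    refine hpe _ ⟨k, ?_⟩
    rw [← pow_mul, mul_comm, ← he, pow_orderOf_eq_one]
  have hbez := Nat.gcd_eq_gcd_ab (p ^ k) m
  rw [(hco.pow_left k).gcd_eq_one] at hbez
  have e : x = (x ^ p ^ k) ^ Nat.gcdA (p ^ k) m * (x ^ m) ^ Nat.gcdB (p ^ k) m := by
    rw [← zpow_natCast x (p ^ k), ← zpow_natCast x m, ← zpow_mul, ← zpow_mul, ← zpow_add, ← hbez]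
    simp
  rw [e]
  exact mul_mem (zpow_mem h1 _) (zpow_mem h2 _)

/-- A power of an element that agrees with it under a homomorphism and has order prime to `p`. -/
theorem exists_pow_coprime {X : Type*} [Group X] [Finite X] (p : ℕ) [Fact p.Prime] (x : X) :
    ∃ e : ℕ, (orderOf (x ^ e)).Coprime p ∧
      ∀ {Y : Type*} [Group Y] (y : Y), (orderOf y).Coprime p → orderOf y ∣ orderOf x → y ^ e = y := by
  obtain ⟨k, m, hm, he⟩ := Nat.exists_eq_pow_mul_and_not_dvd (orderOf_pos x).ne' p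
    (Fact.out : p.Prime).ne_one
  have hco : Nat.Coprime p m := ((Fact.out : p.Prime).coprime_iff_not_dvd).2 hm
  obtain ⟨e, he1, he2⟩ := Nat.chineseRemainder (hco.pow_left k) 0 1
  refine ⟨e, Nat.Coprime.coprime_dvd_left ?_ hco.symm, fun y hy hdvd => ?_⟩
  · obtain ⟨c, hc⟩ := Nat.modEq_zero_iff_dvd.1 he1
    rw [orderOf_dvd_iff_pow_eq_one, hc, ← pow_mul,
      show p ^ k * c * m = p ^ k * m * c by ring, ← he, pow_mul, pow_orderOf_eq_one, one_pow]
  · rw [he] at hdvd
    have hd : orderOf y ∣ m := (hy.pow_right k).dvd_of_dvd_mul_left hdvd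
    have := (he2.of_dvd hd)
    exact (pow_eq_pow_iff_modEq.2 this).trans (pow_one y)

/-- The kernel of the transfer modulo a subgroup containing the focal subgroup. -/
theorem exists_kernel {X : Type*} [Group X] [Finite X] {p : ℕ} [Fact p.Prime] (P : Sylow p X)
    (T : Subgroup X) (hTP : T ≤ P) (hfoc : Subgroup.focalSubgroup (P : Subgroup X) ≤ T) :
    ∃ K : Subgroup X, K.Normal ∧ T ≤ K ∧ (∀ x : X, x ∈ K → x ∈ (P : Subgroup X) → x ∈ T) ∧
      ∀ x : X, (orderOf x).Coprime p → x ∈ K := by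
  have : (P : Subgroup X).FiniteIndex := inferInstance
  let q := QuotientGroup.mk' (Subgroup.focalSubgroupOf (P : Subgroup X))
  let T₁ := (T.subgroupOf P).map q
  have hQ : IsPGroup p ((P : Subgroup X) ⧸ Subgroup.focalSubgroupOf (P : Subgroup X)) :=
    P.2.to_quotient _
  have hT₁ : T₁.Normal := ⟨fun a ha b => by
    rwa [show b * a * b⁻¹ = a by
      rw [IsMulCommutative.is_comm.comm b a, mul_inv_cancel_right]]⟩
  refine ⟨T₁.comap (Subgroup.transferFocal (P : Subgroup X)), inferInstance, fun t ht => ?_,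
    fun x hx hxP => ?_, fun x hx => ?_⟩
  · show Subgroup.transferFocal (P : Subgroup X) t ∈ T₁
    rw [show t = ((⟨t, hTP ht⟩ : (P : Subgroup X)) : X) from rfl, Subgroup.transferFocal_eq_pow]
    exact pow_mem (Subgroup.mem_map_of_mem q (show (⟨t, hTP ht⟩ : (P : Subgroup X)) ∈
      T.subgroupOf P from ht)) _
  · change Subgroup.transferFocal (P : Subgroup X) x ∈ T₁ at hx
    rw [show x = ((⟨x, hxP⟩ : (P : Subgroup X)) : X) from rfl,
      Subgroup.transferFocal_eq_pow] at hx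
    obtain ⟨c, hc⟩ := (hQ.powEquiv' P.not_dvd_index).surjective (q ⟨x, hxP⟩)
    have hco : (orderOf (q ⟨x, hxP⟩)).Coprime P.index := by
      obtain ⟨j, hj⟩ := IsPGroup.iff_orderOf.1 hQ (q ⟨x, hxP⟩)
      rw [hj]
      exact ((Fact.out : p.Prime).coprime_iff_not_dvd.2 P.not_dvd_index).pow_left j
    have hx1 : q ⟨x, hxP⟩ ∈ T₁ := by
      obtain ⟨r, hr⟩ := exists_pow_eq_self_of_coprime hco.symm
      rw [← hr]
      exact pow_mem hx _
    obtain ⟨t, ht, hte⟩ := hx1
    have h1 := QuotientGroup.eq.1 hte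
    rw [Subgroup.focalSubgroupOf_def, Subgroup.mem_subgroupOf] at h1
    have h2 := T.mul_mem ht (hfoc h1)
    simpa using h2
  · show Subgroup.transferFocal (P : Subgroup X) x ∈ T₁
    obtain ⟨j, hj⟩ := IsPGroup.iff_orderOf.1 hQ (Subgroup.transferFocal (P : Subgroup X) x)
    have h1 := orderOf_map_dvd (Subgroup.transferFocal (P : Subgroup X)) x
    rw [hj] at h1
    have h2 : p ^ j = 1 := Nat.eq_one_of_dvd_coprimes (hx.symm.pow_left j) dvd_rfl h1
    rw [h2] at hj
    rw [orderOf_eq_one_iff.1 hj]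
    exact one_mem _

/-! ### Comparing saturated systems -/

/-- A saturated system lies in another as soon as this holds on `T` and for the conjugates of the
`p`-automorphisms of the essential subgroups. -/
theorem le_of_conj {Ω : Type*} [Group Ω] {T : Subgroup Ω} [Finite T] (p : ℕ) [Fact p.Prime]
    (hT : IsPGroup p T) {E₁ E₂ : FusionSystem T} (h₁ : E₁.IsSaturated p)
    (hTT : E₁.autGroup T ≤ E₂.autGroup T)
    (hconj : ∀ P : Subgroup Ω, E₁.IsEssential p P → ∀ γ ∈ E₁.autGroup P,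
      ∀ t ∈ autInducedBy T P, γ * t * γ⁻¹ ∈ E₂.autGroup P) : E₁ ≤ E₂ := by
  classical
  suffices key : ∀ (d : ℕ) (P : Subgroup Ω), E₁.IsEssential p P → Nat.card T - Nat.card P = d →
      E₁.autGroup P ≤ E₂.autGroup P by
    refine alperin_saturated p hT h₁ E₂ fun P hP => ?_
    rcases hP with rfl | hP
    exacts [hTT, key _ P hP rfl]
  intro d
  induction d using Nat.strong_induction_on with
  | _ d IH =>
  intro P hP hd
  have hbig := alperin_above p hT h₁ E₂ (Nat.card P + 1) fun P' hP' hm => by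
    rcases hP' with rfl | hP'
    · exact hTT
    · refine IH _ ?_ P' hP' rfl
      have := card_le_of_le (S := T) le_rfl hP'.1.1
      omega
  have hPT := hP.1.1
  have := finite_of_le hPT
  have : Finite (MulAut P) := finite_mulAut
  let B := (E₂.autGroup P).subgroupOf (E₁.autGroup P)
  obtain ⟨R, hR⟩ := (good_of_fullyNormalized p hT h₁ hP.2.1).1.2
  let K := Subgroup.normalClosure ((R : Subgroup (E₁.autGroup P)) : Set (E₁.autGroup P))
  have hKB : K ≤ B := by
    refine (Subgroup.closure_le _).2 fun k hk => ?_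
    obtain ⟨t, ht, c, hc⟩ := Group.mem_conjugatesOfSet_iff.1 hk
    rw [SetLike.mem_coe, hR, Subgroup.mem_subgroupOf] at ht
    have hk' : k = (c : E₁.autGroup P) * t * (c : E₁.autGroup P)⁻¹ :=
      eq_mul_inv_of_mul_eq hc.eq.symm
    show (k : MulAut P) ∈ E₂.autGroup P
    rw [hk']
    exact hconj P hP _ (c : E₁.autGroup P).2 _ ht
  have hNB : Subgroup.normalizer ((R : Subgroup (E₁.autGroup P)) : Set (E₁.autGroup P)) ≤ B := by
    intro γ hγ
    obtain ⟨g, hg, hgP⟩ := SetLike.exists_of_lt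
      (lt_normalizerIn p hT le_rfl (essential_lt p hT h₁ hP))
    have hgA : conjAut T P ⟨g, hg⟩ ∈ autInducedBy T P :=
      mem_autInducedBy.2 ⟨g, hg.1, fun _ => rfl⟩
    have h1 : (⟨_, autInducedBy_le_autGroup hPT hgA⟩ : E₁.autGroup P) ∈
        (R : Subgroup (E₁.autGroup P)) := by
      rw [hR]; exact Subgroup.mem_subgroupOf.2 hgA
    have h2 := (Subgroup.mem_normalizer_iff.1 hγ _).1 h1
    rw [hR] at h2
    obtain ⟨Q, hPQ, φ, hφ, he⟩ := extends_of_conj_mem p hT h₁ hP.2.1 γ.2 hgA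
      (fun hI => hgP ((inn_mem_iff hP.1 hg.1 fun _ => rfl).1 hI)) (Subgroup.mem_subgroupOf.1 h2)
    have hlt : Nat.card P < Nat.card Q := lt_of_not_ge fun hge =>
      hPQ.ne (eq_of_le_of_card_le (le_of_mem_hom hφ) hPQ.le hge)
    refine (autGroup_carrier hPT).2 (restrict_mem_of_eq (hbig Q hlt hφ) hPQ.le fun x => ?_)
    exact (he x).symm
  have hRK : (R : Subgroup (E₁.autGroup P)) ≤ K := Subgroup.le_normalClosure
  intro γ hγ
  exact sup_le hNB hKB ((Sylow.normalizer_sup_eq_top' R hRK).ge (Subgroup.mem_top ⟨γ, hγ⟩))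

/-- An automorphism of `P` induced by `S` that lies in the subsystem is induced by `T`. -/
theorem mem_inducedBy {Ω : Type*} [Group Ω] {S T : Subgroup Ω} [Finite T] (p : ℕ) [Fact p.Prime]
    (hS : IsPGroup p S) (hTS : T ≤ S) {E : FusionSystem T} (hE : E.IsSaturated p)
    {P : Subgroup Ω} (hP : E.IsFullyNormalized P) {α : MulAut P} (h : α ∈ E.autGroup P)
    (hα : α ∈ autInducedBy S P) : α ∈ autInducedBy T P := by
  have hT := isPGroup_of_le hS hTS
  obtain ⟨R, hR⟩ := (good_of_fullyNormalized p hT hE hP).1.2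
  have h1 := R.is_maximal' (Q := (autInducedBy S P).subgroupOf (E.autGroup P))
    ((isPGroup_autInducedBy hS P).comap_of_injective _ (E.autGroup P).subtype_injective)
    (hR.le.trans fun a ha => autInducedBy_mono hTS P ha)
  rw [hR] at h1
  exact h1.le (show (⟨α, h⟩ : E.autGroup P) ∈ (autInducedBy S P).subgroupOf (E.autGroup P) from hα)

/-! ### The normal subgroup -/

section

variable {G : Type*} [Group G] [Finite G] {p : ℕ} [Fact p.Prime] (S : Sylow p G)
  {T : Subgroup G} {E : FusionSystem T}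

omit [Finite G] [Fact p.Prime] in
/-- The automorphism of `P` given by conjugation by `g`. -/
theorem exists_conj_aut {P : Subgroup G} (hP : P ≤ S) {α : MulAut P}
    (h : α ∈ (groupFusionSystem (S : Subgroup G)).autGroup P) :
    ∃ g : G, ∀ x : P, ((α x : P) : G) = g * x * g⁻¹ := by
  rw [autGroup_groupFusion hP] at h
  obtain ⟨g, -, hg⟩ := mem_autInducedBy.1 h
  exact ⟨g, hg⟩

omit [Finite G] [Fact p.Prime] in
theorem conj_aut_mem {P : Subgroup G} (hP : P ≤ S) {α : MulAut P} {g : G}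
    (hg : ∀ x : P, ((α x : P) : G) = g * x * g⁻¹) :
    α ∈ (groupFusionSystem (S : Subgroup G)).autGroup P := by
  rw [autGroup_groupFusion hP]
  exact mem_autInducedBy.2 ⟨g, trivial, hg⟩

variable (hG : Subgroup.centralizer ((pCore p G : Subgroup G) : Set G) ≤ pCore p G)
  (hE : E.IsNormalIn (groupFusionSystem (S : Subgroup G)) p)

omit [Finite G] [Fact p.Prime] in
include hE in
theorem conj_mem_T {t : G} (ht : t ∈ T) {g : G} (hg : g * t * g⁻¹ ∈ S) : g * t * g⁻¹ ∈ T := by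
  have hsc := hE.1.2.2.2.1
  have hz : Subgroup.zpowers t ≤ T := Subgroup.zpowers_le.2 ht
  refine hsc.2 _ hz (conjHom (Subgroup.zpowers t) g)
    (conjHom_mem_groupFusion (hz.trans hsc.1) ?_) ⟨t, Subgroup.mem_zpowers t⟩
  rintro _ ⟨l, rfl⟩
  show g * t ^ l * g⁻¹ ∈ (S : Subgroup G)
  rw [← conj_zpow]
  exact zpow_mem hg l

/-- `R = O_p(G) ∩ T`. -/
abbrev rad (p : ℕ) (T : Subgroup G) : Subgroup G := pCore p G ⊓ T

include hE in
theorem rad_normal : (rad p T).Normal := by
  refine ⟨fun r hr g => ?_⟩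
  have hQ : g * r * g⁻¹ ∈ pCore p G :=
    (CfsgLib.Solvable.pCore_spec p).1.conj_mem r hr.1 g
  exact ⟨hQ, conj_mem_T S hE hr.2 (CfsgLib.Fitting.pCore_le_sylow S hQ)⟩

include hE in
/-- The fully normalized subgroups used below. -/
theorem fullyNormalized_rad : E.IsFullyNormalized (rad p T) := by
  have hsc := hE.1.2.2.2.1
  refine fullyNormalized_sub p S.2 (groupFusion_saturated S) hsc hE.1.2.2.1 inf_le_right
    ⟨inf_le_right.trans hsc.1, fun Q hQ => le_of_eq ?_⟩
  obtain ⟨-, -, g, hg⟩ := isConj_groupFusion.1 hQ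
  have := rad_normal S hE
  rw [← hg, show (rad p T).map (MulAut.conj g).toMonoidHom = rad p T from
    Subgroup.eq_of_le_of_card_ge (by rintro _ ⟨r, hr, rfl⟩; exact this.conj_mem r hr g)
      (Subgroup.card_map_of_injective (MulAut.conj g).injective).ge]

include hG hE in
/-- A normal subgroup realizing the normal subsystem, and its uniqueness. -/
theorem exists_unique_normal :
    ∃ H : Subgroup G, (∃ hTH : T ≤ H, H.Normal ∧
      (∃ R : Sylow p H, (R : Subgroup H) = T.subgroupOf H) ∧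
      ∀ P : Subgroup G, E.Hom P = (Cfsg.fusionSystemOfSubgroup H T hTH).Hom P) ∧
      ∀ H' : Subgroup G, (∃ hTH' : T ≤ H', H'.Normal ∧
        (∃ R : Sylow p H', (R : Subgroup H') = T.subgroupOf H') ∧
        ∀ P : Subgroup G, E.Hom P = (Cfsg.fusionSystemOfSubgroup H' T hTH').Hom P) → H' = H := by
  classical
  have hp := (Fact.out : p.Prime)
  obtain ⟨⟨hEs, hFs, hinv⟩, hext⟩ := id hE
  have hsub := hinv.1
  have hsc := hinv.2.1
  have hTS : T ≤ (S : Subgroup G) := hsc.1
  have hTp : IsPGroup p T := S.2.to_le hTS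
  have hQS : pCore p G ≤ (S : Subgroup G) := CfsgLib.Fitting.pCore_le_sylow S
  have hQn : (pCore p G).Normal := (CfsgLib.Solvable.pCore_spec p).1
  obtain ⟨Q, hQ⟩ : ∃ Q, Q = pCore p G := ⟨_, rfl⟩
  obtain ⟨R, hR⟩ : ∃ R, R = rad p T := ⟨_, rfl⟩
  have hRn : R.Normal := hR ▸ rad_normal S hE
  have hRT : R ≤ T := hR ▸ inf_le_right
  have hRQ : R ≤ Q := hR ▸ hQ ▸ inf_le_left
  have hQRT : ∀ {x : G}, x ∈ Q → x ∈ T → x ∈ R := fun hx ht => hR ▸ ⟨hQ ▸ hx, ht⟩
  have hQnorm : Q.Normal := hQ ▸ hQn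
  have hfnR : E.IsFullyNormalized R := hR ▸ fullyNormalized_rad S hE
  have hfnT : E.IsFullyNormalized T := isFullyNormalized_S
  -- the normal subgroup `X`
  let q := QuotientGroup.mk' R
  let ρ : G →* MulAut R := MulAut.conjNormal
  have hρ : ∀ (g : G) (r : R), ((ρ g r : R) : G) = g * r * g⁻¹ := fun g r =>
    MulAut.conjNormal_apply g r
  let X : Subgroup G := (E.autGroup R).comap ρ ⊓ (Subgroup.centralizer ((Q.map q : Subgroup (G ⧸ R)) : Set (G ⧸ R))).comap q
  have memX : ∀ {g : G}, g ∈ X ↔ ρ g ∈ E.autGroup R ∧ ∀ x ∈ Q, ⁅g, x⁆ ∈ R := by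
    intro g
    refine and_congr Iff.rfl ?_
    show q g ∈ Subgroup.centralizer ((Q.map q : Subgroup (G ⧸ R)) : Set (G ⧸ R)) ↔ _
    rw [Subgroup.mem_centralizer_iff]
    constructor
    · intro h x hx
      refine (QuotientGroup.eq_one_iff _).1 ?_
      show q ⁅g, x⁆ = 1
      rw [map_commutatorElement, commutatorElement_eq_one_iff_commute]
      exact (h (q x) ⟨x, hx, rfl⟩).symm
    · rintro h _ ⟨x, hx, rfl⟩
      have h1 : q ⁅g, x⁆ = 1 := (QuotientGroup.eq_one_iff _).2 (h x hx)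
      rw [map_commutatorElement, commutatorElement_eq_one_iff_commute] at h1
      exact h1.eq.symm
  have hρF : ∀ g : G, ρ g ∈ (groupFusionSystem (S : Subgroup G)).autGroup R := fun g =>
    conj_aut_mem S (hRT.trans hTS) (hρ g)
  have hXn : X.Normal := by
    have hA : ((E.autGroup R).comap ρ).Normal := ⟨fun a ha g => by
      rw [Subgroup.mem_comap, map_mul, map_mul, map_inv]
      exact invariant_conj_aut hinv hRT (hρF g) ha⟩
    have hQm : (Q.map q).Normal := hQnorm.map q (QuotientGroup.mk'_surjective R)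
    have hC : (Subgroup.centralizer ((Q.map q : Subgroup (G ⧸ R)) : Set (G ⧸ R))).Normal :=
      inferInstance
    exact Subgroup.normal_inf_normal _ _
  have hTnormal : ∀ {t : G}, t ∈ T → ∀ {s : G}, s ∈ (S : Subgroup G) → s * t * s⁻¹ ∈ T :=
    fun {t} ht {s} hs => conj_mem_T S hE ht (mul_mem (mul_mem hs (hTS ht)) (inv_mem hs))
  have hTX : T ≤ X := by
    intro t ht
    refine memX.2 ⟨autInducedBy_le_autGroup hRT (mem_autInducedBy.2 ⟨t, ht, hρ t⟩), fun x hx => ?_⟩
    refine hQRT ?_ ?_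
    · rw [commutatorElement_def]
      exact mul_mem (hQnorm.conj_mem x hx t) (inv_mem hx)
    · rw [commutatorElement_def, mul_assoc t, mul_assoc t]
      exact mul_mem ht (hTnormal (inv_mem ht) (hQS (hQ ▸ hx)))
  -- the kernel
  have hY : ∀ {y : G}, y ∈ X → (∀ r ∈ R, y * r * y⁻¹ = r) → y ∈ Q := by
    let N : Subgroup G := X ⊓ Subgroup.centralizer (R : Set G)
    have hN : N.Normal := Subgroup.normal_inf_normal _ _
    have hNp : IsPGroup p N := by
      rintro ⟨y, hyX, hyC⟩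
      obtain ⟨j, hj⟩ := IsPGroup.iff_card.1 ((S.2.to_le hTS).to_le hRT)
      have hyr : ∀ r ∈ R, y * r * y⁻¹ = r := fun r hr => by
        rw [← Subgroup.mem_centralizer_iff.1 hyC r hr, mul_inv_cancel_right]
      have key : y ^ p ^ j ∈ pCore p G := by
        refine hG (Subgroup.mem_centralizer_iff.2 fun x hx => ?_)
        rw [← hQ] at hx
        have hr : ⁅y, x⁆ ∈ R := (memX.1 hyX).2 x hx
        have h1 : ∀ n : ℕ, y ^ n * x * (y ^ n)⁻¹ = ⁅y, x⁆ ^ n * x := by
          intro n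
          induction n with
          | zero => simp
          | succ n ih =>
            have e : y ^ (n + 1) * x * (y ^ (n + 1))⁻¹ = y * (y ^ n * x * (y ^ n)⁻¹) * y⁻¹ := by
              rw [pow_succ']; group
            rw [e, ih, show y * (⁅y, x⁆ ^ n * x) * y⁻¹ = y * ⁅y, x⁆ ^ n * y⁻¹ * (y * x * y⁻¹) by group,
              hyr _ (pow_mem hr n), pow_succ, commutatorElement_def]
            group
        have h2 : (⟨⁅y, x⁆, hr⟩ : R) ^ p ^ j = 1 := by rw [← hj]; exact pow_card_eq_one'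
        have h3 := h1 (p ^ j)
        rw [show ⁅y, x⁆ ^ p ^ j = 1 from congrArg Subtype.val h2, one_mul] at h3
        exact (mul_inv_eq_iff_eq_mul.1 h3).symm
      obtain ⟨i, hi⟩ := (CfsgLib.Solvable.isPGroup_pCore (G := G) (p := p)) ⟨_, key⟩
      refine ⟨j + i, Subtype.ext ?_⟩
      have h4 : (y ^ p ^ j) ^ p ^ i = 1 := congrArg Subtype.val hi
      rw [← pow_mul, ← pow_add] at h4
      exact h4
    intro y hyX hy
    rw [hQ]
    refine CfsgLib.Solvable.le_pCore p hN hNp ⟨hyX, Subgroup.mem_centralizer_iff.2 fun r hr => ?_⟩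
    conv_lhs => rw [← hy r hr]
    group
  have hsX : ∀ {s : G}, s ∈ (S : Subgroup G) → s ∈ X →
      ∃ t ∈ T, ∃ y ∈ X, y ∈ Q ∧ s = t * y := by
    intro s hs hsX
    obtain ⟨t, ht, hte⟩ := mem_autInducedBy.1 (mem_inducedBy p S.2 hTS hEs hfnR (memX.1 hsX).1
      (mem_autInducedBy.2 ⟨s, hs, hρ s⟩))
    have hyX : t⁻¹ * s ∈ X := mul_mem (inv_mem (hTX ht)) hsX
    refine ⟨t, ht, _, hyX, hY hyX fun r hr => ?_, (mul_inv_cancel_left t s).symm⟩
    have h1 : s * r * s⁻¹ = t * r * t⁻¹ := (hρ s ⟨r, hr⟩).symm.trans (hte ⟨r, hr⟩)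
    calc t⁻¹ * s * r * (t⁻¹ * s)⁻¹ = t⁻¹ * (s * r * s⁻¹) * t := by group
      _ = r := by rw [h1]; group
  have hST : SylowIn p (S : Subgroup G) ⊤ := ⟨le_top, S.subtype le_top, rfl⟩
  have hinf : ∀ (L : Subgroup G), L.Normal → SylowIn p ((S : Subgroup G) ⊓ L) L := fun L hL =>
    hST.inf_normal le_top fun g _ => by
      have := hL
      rw [Subgroup.normalizer_eq_top]; trivial
  -- the kernel of the transfer
  obtain ⟨hle, P₂, hP₂⟩ := hinf X hXn
  obtain ⟨K, hKn, hTK, hKT, hKp⟩ := exists_kernel P₂ (T.subgroupOf X)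
    (fun t ht => by rw [hP₂]; exact ⟨hTS ht, t.2⟩) (by
      rw [Subgroup.focalSubgroup_def, Subgroup.closure_le]
      rintro _ ⟨hm, x, hx, u, rfl⟩
      rw [hP₂] at hx hm
      obtain ⟨t, ht, y, hyX, hyQ, hxe⟩ := hsX hx.1 x.2
      change (x : G) = t * y at hxe
      have hr : ⁅(u : G), y⁻¹⁆ ∈ R := (memX.1 u.2).2 _ (inv_mem hyQ)
      set r' := y * ⁅(u : G), y⁻¹⁆ * y⁻¹ with hr'
      have hr'T : r' ∈ T := hRT (hRn.conj_mem _ hr y)
      show ((⁅x, u⁆ : X) : G) ∈ T
      have e : ((⁅x, u⁆ : X) : G) = t * r' * ((u : G) * t⁻¹ * (u : G)⁻¹) := by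
        show (x : G) * u * (x : G)⁻¹ * (u : G)⁻¹ = _
        rw [hr', commutatorElement_def, hxe]; group
      rw [e]
      refine T.mul_mem (T.mul_mem ht hr'T) (conj_mem_T S hE (inv_mem ht) ?_)
      have h1 : ((⁅x, u⁆ : X) : G) ∈ (S : Subgroup G) := hm.1
      rw [e] at h1
      rw [show (u : G) * t⁻¹ * (u : G)⁻¹ =
        (t * r')⁻¹ * (t * r' * ((u : G) * t⁻¹ * (u : G)⁻¹)) by group]
      exact mul_mem (inv_mem (mul_mem (hTS ht) (hTS hr'T))) h1)
  let gens : Set G := (T : Set G) ∪ {g | g ∈ X ∧ (orderOf g).Coprime p}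
  obtain ⟨H, hH⟩ : ∃ H, H = Subgroup.normalClosure gens := ⟨_, rfl⟩
  have hHn : H.Normal := hH ▸ Subgroup.normalClosure_normal
  have hgen : gens ⊆ H := hH ▸ Subgroup.subset_normalClosure
  have hHX : H ≤ X := by
    have := hXn
    rw [hH]
    exact Subgroup.normalClosure_le_normal (Set.union_subset hTX fun g hg => hg.1)
  have hHK : ∀ h : X, (h : G) ∈ H → h ∈ K := by
    have key : H ≤ K.map X.subtype := by
      rw [hH]
      refine (Subgroup.closure_le _).2 fun z hz => ?_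
      obtain ⟨a, ha, hc⟩ := Group.mem_conjugatesOfSet_iff.1 hz
      obtain ⟨g, rfl⟩ := isConj_iff.1 hc
      rcases ha with ha | ⟨haX, hco⟩
      · have hzX : g * a * g⁻¹ ∈ X := hXn.conj_mem a (hTX ha) g
        have hzp : IsPGroup p (Subgroup.zpowers (g * a * g⁻¹)) := by
          obtain ⟨k, hk⟩ := hTp ⟨a, ha⟩
          have hk' : a ^ p ^ k = 1 := congrArg Subtype.val hk
          intro z
          obtain ⟨l, hl⟩ := Subgroup.mem_zpowers_iff.1 z.2
          refine ⟨k, Subtype.ext ?_⟩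
          show (z : G) ^ p ^ k = 1
          rw [← hl, ← zpow_natCast, ← zpow_mul, mul_comm, zpow_mul, zpow_natCast, conj_pow, hk']
          simp
        obtain ⟨c, hc, hcm⟩ := (hinf X hXn).exists_conj_le hzp (Subgroup.zpowers_le.2 hzX)
        have h1 := hcm _ (Subgroup.mem_zpowers _)
        have h2 : c * (g * a * g⁻¹) * c⁻¹ = (c * g) * a * (c * g)⁻¹ := by group
        have h3 : c * (g * a * g⁻¹) * c⁻¹ ∈ T := h2 ▸ conj_mem_T S hE ha (h2 ▸ h1.1)
        have h4 : (⟨c, hc⟩ * ⟨_, hzX⟩ * (⟨c, hc⟩)⁻¹ : X) ∈ K := hTK h3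
        have h5 := hKn.conj_mem _ h4 (⟨c, hc⟩⁻¹)
        refine ⟨⟨_, hzX⟩, ?_, rfl⟩
        rw [show (⟨_, hzX⟩ : X) = (⟨c, hc⟩ : X)⁻¹ * ((⟨c, hc⟩ : X) * ⟨_, hzX⟩ * (⟨c, hc⟩ : X)⁻¹) *
          ((⟨c, hc⟩ : X)⁻¹)⁻¹ by group]
        exact h5
      · refine ⟨⟨_, hXn.conj_mem a haX g⟩, hKp _ ?_, rfl⟩
        rw [← Subgroup.orderOf_coe]
        show (orderOf (g * a * g⁻¹)).Coprime p
        rwa [show g * a * g⁻¹ = MulAut.conj g a from rfl, MulEquiv.orderOf_eq]
    intro h hh
    obtain ⟨k, hk, hke⟩ := key hh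
    rwa [← Subtype.ext (hke : (k : G) = h)]
  have hTH : T ≤ H := fun t ht => hgen (Or.inl ht)
  have hHS : ∀ h ∈ H, h ∈ (S : Subgroup G) → h ∈ T := by
    intro h hh hs
    have h1 := hKT ⟨h, hHX hh⟩ (hHK _ hh) (by rw [hP₂]; exact ⟨hs, hHX hh⟩)
    exact h1
  have hsylH : SylowIn p T H := by
    have h1 := hinf H hHn
    rwa [show (S : Subgroup G) ⊓ H = T from
      le_antisymm (fun h hh => hHS h hh.2 hh.1) (le_inf hTS hTH)] at h1
  -- automorphisms of `T`
  have hT1 : ∀ α ∈ E.autGroup T, ∃ h ∈ H, ∀ x : T, ((α x : T) : G) = h * x * h⁻¹ := by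
    let L : Subgroup (E.autGroup T) := (autInducedBy H T).subgroupOf (E.autGroup T)
    suffices hL : ∀ α, α ∈ L by
      intro α hα
      exact mem_autInducedBy.1 (hL ⟨α, hα⟩)
    refine mem_of_parts p L (fun α hα => ?_) fun α hα => ?_
    · obtain ⟨β, hβ, hβe, hβc⟩ := hext (α : MulAut T) α.2
      obtain ⟨g, hg⟩ := exists_conj_aut S (sup_le hTS (centralizerIn_le_S T)) hβ
      have hgT : ∀ x : T, (((α : MulAut T) x : T) : G) = g * x * g⁻¹ := fun x => by
        rw [← hβe, hg]; rfl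
      let D := (Q ⊓ (T ⊔ centralizerIn (S : Subgroup G) T)).map q
      have hgD : ∀ d ∈ Q ⊓ (T ⊔ centralizerIn (S : Subgroup G) T), ⁅g, d⁆ ∈ R := by
        intro d hd
        refine hQRT ?_ ?_
        · rw [commutatorElement_def]
          exact mul_mem (hQnorm.conj_mem d hd.1 g) (inv_mem hd.1)
        have hd2 : d ∈ ((T ⊔ centralizerIn (S : Subgroup G) T : Subgroup G) : Set G) := hd.2
        rw [Subgroup.coe_mul_of_right_le_normalizer_left T _
          ((centralizerIn_le_normalizerIn T).trans inf_le_right)] at hd2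
        obtain ⟨t, ht, c, hc, rfl⟩ := hd2
        have h1 := hβc ⟨c, le_sup_right (a := T) hc⟩ hc
        rw [hg ⟨c, le_sup_right (a := T) hc⟩] at h1
        have h2 : c⁻¹ * (g * c * g⁻¹) ∈ T := h1.1
        have h3 : g * t * g⁻¹ ∈ T := hgT ⟨t, ht⟩ ▸ ((α : MulAut T) ⟨t, ht⟩).2
        have e : ⁅g, t * c⁆ = g * t * g⁻¹ * (c * (c⁻¹ * (g * c * g⁻¹)) * c⁻¹) * t⁻¹ := by
          rw [commutatorElement_def]; group
        rw [e]
        exact T.mul_mem (T.mul_mem h3 (hTnormal h2 hc.1)) (inv_mem ht)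
      obtain ⟨e, hco, hpow⟩ := exists_pow_coprime p g
      have hαe : ((α : E.autGroup T) : MulAut T) ^ e = (α : MulAut T) := by
        refine hpow _ (by rwa [Subgroup.orderOf_coe]) ?_
        rw [orderOf_dvd_iff_pow_eq_one]
        refine MulEquiv.ext fun x => Subtype.ext ?_
        have : ∀ n : ℕ, ((((α : MulAut T) ^ n) x : T) : G) = g ^ n * x * (g ^ n)⁻¹ := by
          intro n
          induction n with
          | zero => simp
          | succ n ih => rw [pow_succ', MulAut.mul_apply, hgT, ih, pow_succ']; group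
        rw [this, pow_orderOf_eq_one]; simp
      have hg' : ∀ x : T, (((α : MulAut T) x : T) : G) = g ^ e * x * (g ^ e)⁻¹ := by
        intro x
        conv_lhs => rw [← hαe]
        have : ∀ n : ℕ, ((((α : MulAut T) ^ n) x : T) : G) = g ^ n * x * (g ^ n)⁻¹ := by
          intro n
          induction n with
          | zero => simp
          | succ n ih => rw [pow_succ', MulAut.mul_apply, hgT, ih, pow_succ']; group
        exact this e
      set g' := g ^ e with hg'def
      have hg'D : q g' ∈ Subgroup.centralizer (D : Set (G ⧸ R)) := by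
        rw [hg'def, map_pow]
        refine pow_mem ?_ e
        rw [Subgroup.mem_centralizer_iff]
        rintro _ ⟨d, hd, rfl⟩
        have h1 : q ⁅g, d⁆ = 1 := (QuotientGroup.eq_one_iff _).2 (hgD d hd)
        rw [map_commutatorElement, commutatorElement_eq_one_iff_commute] at h1
        exact h1.eq.symm
      have hg'X : g' ∈ X := by
        refine memX.2 ⟨(autGroup_carrier hRT).2 ?_, fun x hx => ?_⟩
        · refine restrict_mem_of_eq ((autGroup_carrier le_rfl).1 α.2) hRT fun r => ?_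
          exact (hρ g' r).trans (hg' (Subgroup.inclusion hRT r)).symm
        -- first into `D`
        have hnT : g' ∈ Subgroup.normalizer (T : Set G) := mem_normalizer_of_aut hg'
        have hcQ : ⁅g', x⁆ ∈ Q := by
          rw [commutatorElement_def]
          exact mul_mem (hQnorm.conj_mem x hx g') (inv_mem hx)
        have hxS : x ∈ (S : Subgroup G) := hQS (hQ ▸ hx)
        have hxn : x ∈ Subgroup.normalizer (T : Set G) :=
          mem_normalizer_of_conj_mem hTS fun t ht => hTnormal ht hxS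
        have hcD : ⁅g', x⁆ ∈ Q ⊓ (T ⊔ centralizerIn (S : Subgroup G) T) := by
          refine ⟨hcQ, ?_⟩
          have hcS : ⁅g', x⁆ ∈ (S : Subgroup G) := hQS (hQ ▸ hcQ)
          have hcn : ⁅g', x⁆ ∈ normalizerIn (S : Subgroup G) T :=
            ⟨hcS, mem_normalizer_of_conj_mem hTS fun t ht => hTnormal ht hcS⟩
          obtain ⟨ξ, hξ⟩ : ∃ ξ, ξ = conjAut (S : Subgroup G) T ⟨x, hxS, hxn⟩ := ⟨_, rfl⟩
          have hξA : ξ ∈ (groupFusionSystem (S : Subgroup G)).autGroup T :=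
            hξ ▸ conj_aut_mem S hTS fun _ => rfl
          have hmE : conjAut (S : Subgroup G) T ⟨_, hcn⟩ ∈ E.autGroup T := by
            have h1 := mul_mem α.2 (invariant_conj_aut hinv le_rfl hξA (inv_mem α.2))
            refine (congrArg (· ∈ E.autGroup T) ?_).mp h1
            refine MulEquiv.ext fun t => Subtype.ext ?_
            have hinv' : ∀ u : T, ((((α : MulAut T)⁻¹) u : T) : G) = g'⁻¹ * u * g' := fun u => by
              have h2 := hg' (((α : MulAut T)⁻¹) u)
              rw [MulAut.apply_inv_self] at h2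
              rw [h2]; group
            have hξ' : ∀ u : T, ((ξ u : T) : G) = x * u * x⁻¹ := fun u => by rw [hξ]; rfl
            have hξi : ∀ u : T, ((ξ⁻¹ u : T) : G) = x⁻¹ * u * x := fun u => by
              have h2 := hξ' (ξ⁻¹ u)
              rw [MulAut.apply_inv_self] at h2
              rw [h2]; group
            show ((((α : MulAut T) * (ξ * (α : MulAut T)⁻¹ * ξ⁻¹)) t : T) : G) =
              ⁅g', x⁆ * t * ⁅g', x⁆⁻¹
            simp only [MulAut.mul_apply, hg', hξ', hinv', hξi, commutatorElement_def]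
            group
          obtain ⟨t₀, ht₀, ht₀e⟩ := mem_autInducedBy.1 (mem_inducedBy p S.2 hTS hEs hfnT hmE
            (mem_autInducedBy.2 ⟨_, hcS, fun _ => rfl⟩))
          have hcc : t₀⁻¹ * ⁅g', x⁆ ∈ centralizerIn (S : Subgroup G) T := by
            refine mem_centralizerIn.2 ⟨mul_mem (inv_mem (hTS ht₀)) hcS, fun u hu => ?_⟩
            have h2 : ⁅g', x⁆ * u * ⁅g', x⁆⁻¹ = t₀ * u * t₀⁻¹ := ht₀e ⟨u, hu⟩
            calc u * (t₀⁻¹ * ⁅g', x⁆) = t₀⁻¹ * (t₀ * u * t₀⁻¹) * ⁅g', x⁆ := by group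
              _ = t₀⁻¹ * ⁅g', x⁆ * u := by rw [← h2]; group
          rw [show ⁅g', x⁆ = t₀ * (t₀⁻¹ * ⁅g', x⁆) from (mul_inv_cancel_left _ _).symm]
          exact mul_mem (Subgroup.mem_sup_left ht₀) (Subgroup.mem_sup_right hcc)
        -- `q g'` fixes `D` and so all of `Q`
        refine (QuotientGroup.eq_one_iff _).1 ?_
        show q ⁅g', x⁆ = 1
        obtain ⟨d, hd⟩ : ∃ d, d = q ⁅g', x⁆ := ⟨_, rfl⟩
        have hcomm : Commute (q g') d :=
          ((Subgroup.mem_centralizer_iff.1 hg'D) d (hd ▸ ⟨_, hcD, rfl⟩)).symm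
        have hstep : q g' * q x * (q g')⁻¹ = d * q x := by
          rw [hd, map_commutatorElement, commutatorElement_def]; group
        have hn : ∀ n : ℕ, q g' ^ n * q x * (q g' ^ n)⁻¹ = d ^ n * q x := by
          intro n
          induction n with
          | zero => simp
          | succ n ih =>
            calc q g' ^ (n + 1) * q x * (q g' ^ (n + 1))⁻¹
                = q g' * (q g' ^ n * q x * (q g' ^ n)⁻¹) * (q g')⁻¹ := by rw [pow_succ']; group
              _ = (q g' * d ^ n * (q g')⁻¹) * (q g' * q x * (q g')⁻¹) := by rw [ih]; group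
              _ = d ^ n * (d * q x) := by rw [(hcomm.pow_right n).eq, mul_inv_cancel_right, hstep]
              _ = d ^ (n + 1) * q x := by rw [pow_succ]; group
        have h1 := hn (orderOf g')
        rw [← map_pow, pow_orderOf_eq_one, map_one, one_mul, inv_one, mul_one] at h1
        have h2 : orderOf d ∣ orderOf g' :=
          orderOf_dvd_of_pow_eq_one (right_eq_mul.1 h1)
        obtain ⟨j, hj⟩ := IsPGroup.iff_orderOf.1 (CfsgLib.Solvable.isPGroup_pCore (G := G) (p := p))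
          ⟨_, hQ ▸ hcQ⟩
        rw [← Subgroup.orderOf_coe] at hj
        have h3 : orderOf d ∣ p ^ j := hj ▸ hd ▸ orderOf_map_dvd q _
        have h4 := Nat.eq_one_of_dvd_coprimes (hco.pow_right j) h2 h3
        rw [orderOf_eq_one_iff] at h4
        rw [← hd, h4]
      exact mem_autInducedBy.2 ⟨g', hgen (Or.inr ⟨hg'X, hco⟩), hg'⟩
    · obtain ⟨U, hU⟩ := (good_of_fullyNormalized p hTp hEs hfnT).1.2
      have hUn : (U : Subgroup (E.autGroup T)).Normal := by
        rw [hU, ← inn_eq_autInducedBy]; exact inn_subgroupOf_normal T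
      have hz : IsPGroup p (Subgroup.zpowers α) := by
        obtain ⟨k, hk⟩ := hα
        intro z
        obtain ⟨l, hl⟩ := Subgroup.mem_zpowers_iff.1 z.2
        refine ⟨k, Subtype.ext ?_⟩
        show (z : E.autGroup T) ^ p ^ k = 1
        rw [← hl, ← zpow_natCast, ← zpow_mul, mul_comm, zpow_mul, zpow_natCast, hk, one_zpow]
      have h1 := U.is_maximal' (U.2.to_sup_of_normal_left hz) le_sup_left
      have h2 : α ∈ (U : Subgroup (E.autGroup T)) :=
        h1.le (Subgroup.mem_sup_right (Subgroup.mem_zpowers α))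
      rw [hU] at h2
      exact autInducedBy_mono hTH T h2
  have hT2 : ∀ α : MulAut T, ∀ h ∈ H, (∀ x : T, ((α x : T) : G) = h * x * h⁻¹) →
      α ∈ E.autGroup T := by
    intro α h hh hαh
    have hγ := (memX.1 (hHX hh)).1
    have hrec := (good_of_fullyNormalized p hTp hEs hfnR).2
    obtain ⟨ψ, hψ, hψe⟩ := receptive_extend hrec ((autGroup_carrier hRT).1 hγ)
      (range_subtype_comp _) (N := T) fun t ht => by
        refine mem_extender_of ⟨ht, mem_normalizer_of_conj_mem (S := (S : Subgroup G))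
          (hRT.trans hTS) fun r hr => hRn.conj_mem r hr t⟩ (h := h * t * h⁻¹)
          (hαh ⟨t, ht⟩ ▸ (α ⟨t, ht⟩).2) fun r hr => ?_
        show ((ρ h _ : R) : G) = h * t * h⁻¹ * ((ρ h r : R) : G) * (h * t * h⁻¹)⁻¹
        rw [hρ, hρ]
        show h * (t * (r : G) * t⁻¹) * h⁻¹ = _
        group
    have hψr : ψ.range = T := range_eq_S hψ
    obtain ⟨g, hgH, hg⟩ := hT1 (autOfRange ψ (E.injective_of_mem hψ) hψr)
      (autOfRange_mem hψ hψr)
    have hge : ∀ x : T, ψ x = g * x * g⁻¹ := fun x => (coe_autOfRange ψ _ hψr x).symm.trans (hg x)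
    have hyH : g⁻¹ * h ∈ H := mul_mem (inv_mem hgH) hh
    have hyQ : g⁻¹ * h ∈ Q := by
      refine hY (hHX hyH) fun r hr => ?_
      have h1 : g * r * g⁻¹ = h * r * h⁻¹ :=
        ((hge ⟨r, hRT hr⟩).symm.trans (hψe r hr (hRT hr))).trans (hρ h ⟨r, hr⟩)
      calc g⁻¹ * h * r * (g⁻¹ * h)⁻¹ = g⁻¹ * (h * r * h⁻¹) * g := by group
        _ = r := by rw [← h1]; group
    have hyT : g⁻¹ * h ∈ T := hHS _ hyH (hQS (hQ ▸ hyQ))
    obtain ⟨δ, hδ, hδe⟩ : ∃ δ ∈ autInducedBy T T,
        ∀ x : T, ((δ x : T) : G) = g⁻¹ * h * x * (g⁻¹ * h)⁻¹ :=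
      ⟨conjAut T T ⟨_, hyT, Subgroup.le_normalizer hyT⟩, mem_autInducedBy.2 ⟨_, hyT, fun _ => rfl⟩,
        fun _ => rfl⟩
    have e : α = autOfRange ψ (E.injective_of_mem hψ) hψr * δ := by
      refine MulEquiv.ext fun x => Subtype.ext ?_
      rw [MulAut.mul_apply, hαh, hg, hδe]; group
    rw [e]
    exact mul_mem (autOfRange_mem hψ hψr) (autInducedBy_le_autGroup le_rfl hδ)
  -- the two systems
  have hFHs : (Cfsg.fusionSystemOfSubgroup H T hTH).IsSaturated p := by
    obtain ⟨-, U, hU⟩ := hsylH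
    refine saturated_of_realized (ι := Subgroup.inclusion hTH) p hTp
      ⟨Subgroup.inclusion_injective _, fun P hP φ hφ => ⟨?_, ?_⟩⟩ U ?_
    · rintro ⟨-, -, g, hgH, hg⟩
      exact ⟨⟨g, hgH⟩, fun x => Subtype.ext (hg x)⟩
    · rintro ⟨g, hg⟩
      exact ⟨hP, hφ, g, g.2, fun x => congrArg Subtype.val (hg x)⟩
    · rw [hU]
      ext x
      constructor
      · intro hx; exact ⟨⟨x, hx⟩, rfl⟩
      · rintro ⟨y, rfl⟩; exact y.2
  have hle₁ : E ≤ Cfsg.fusionSystemOfSubgroup H T hTH := by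
    refine le_of_conj p hTp hEs (fun α hα => ?_) fun P hP γ hγ t ht => ?_
    · obtain ⟨h, hh, he⟩ := hT1 α hα
      exact (autGroup_carrier le_rfl).2 ⟨le_rfl, fun x => (α x).2, h, hh, he⟩
    · have hPT := hP.1.1
      obtain ⟨g, hg⟩ := exists_conj_aut S (hPT.trans hTS) (autGroup_mono' hsub P hγ)
      obtain ⟨u, hu, hue⟩ := mem_autInducedBy.1 ht
      refine (autGroup_carrier hPT).2 ⟨hPT, fun x => hPT ((γ * t * γ⁻¹) x).2, g * u * g⁻¹,
        hHn.conj_mem u (hTH hu) g, fun x => ?_⟩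
      have h2 := hg (γ⁻¹ x)
      rw [MulAut.apply_inv_self] at h2
      show (((γ * t * γ⁻¹) x : P) : G) = _
      rw [MulAut.mul_apply, MulAut.mul_apply, hg, hue, h2]
      group
  have hle₂ : Cfsg.fusionSystemOfSubgroup H T hTH ≤ E := by
    refine le_of_conj p hTp hFHs (fun α hα => ?_) fun P hP γ hγ t ht => ?_
    · obtain ⟨-, -, h, hh, he⟩ := (autGroup_carrier le_rfl).1 hα
      exact hT2 α h hh he
    · have hPT : P ≤ T := hP.1.1
      obtain ⟨-, -, h, hh, he⟩ := (autGroup_carrier hPT).1 hγ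
      exact invariant_conj_aut hinv hPT (conj_aut_mem S (hPT.trans hTS) he)
        (autInducedBy_le_autGroup hPT ht)
  refine ⟨H, ⟨hTH, hHn, hsylH.2, fun P => Set.Subset.antisymm (hle₁ P) (hle₂ P)⟩, ?_⟩
  -- uniqueness
  rintro H' ⟨hTH', hH'n, hH'syl, hH'e⟩
  have hsylH' : SylowIn p T H' := ⟨hTH', hH'syl⟩
  have hH'S : ∀ z ∈ H', z ∈ (S : Subgroup G) → z ∈ T := fun z hz hs =>
    (hsylH'.eq_of_le (S.2.to_le inf_le_left) (le_inf hTS hTH') inf_le_right).le
      (show z ∈ (S : Subgroup G) ⊓ H' from ⟨hs, hz⟩)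
  have hH'X : H' ≤ X := by
    intro z hz
    refine memX.2 ⟨(autGroup_carrier hRT).2 ?_, fun x hx => ?_⟩
    · rw [hH'e]
      exact ⟨hRT, fun r => hRT (ρ z r).2, z, hz, hρ z⟩
    · have h1 : ⁅z, x⁆ ∈ Q := by
        rw [commutatorElement_def]
        exact mul_mem (hQnorm.conj_mem x hx z) (inv_mem hx)
      refine hQRT h1 (hH'S _ ?_ (hQS (hQ ▸ h1)))
      rw [commutatorElement_def, mul_assoc z, mul_assoc z]
      exact mul_mem hz (hH'n.conj_mem z⁻¹ (inv_mem hz) x |> fun h => by simpa [mul_assoc] using h)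
  have hp' : ∀ z ∈ X, (orderOf z).Coprime p → z ∈ H' := by
    intro z hz hco
    have h1 := (autGroup_carrier hRT).1 (memX.1 hz).1
    rw [hH'e] at h1
    obtain ⟨-, -, h, hh, he⟩ := h1
    have hyX : h⁻¹ * z ∈ X := mul_mem (inv_mem (hH'X hh)) hz
    have hyQ : h⁻¹ * z ∈ Q := by
      refine hY hyX fun r hr => ?_
      have h2 : z * r * z⁻¹ = h * r * h⁻¹ := (hρ z ⟨r, hr⟩).symm.trans (he ⟨r, hr⟩)
      calc h⁻¹ * z * r * (h⁻¹ * z)⁻¹ = h⁻¹ * (z * r * z⁻¹) * h := by group
        _ = r := by rw [h2]; group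
    have := hH'n
    let q' := QuotientGroup.mk' H'
    have e : q' z = q' (h⁻¹ * z) := by
      rw [map_mul, map_inv, (QuotientGroup.eq_one_iff h).2 hh |> fun h => (h : q' _ = 1), inv_one,
        one_mul]
    obtain ⟨j, hj⟩ := IsPGroup.iff_orderOf.1 (CfsgLib.Solvable.isPGroup_pCore (G := G) (p := p))
      ⟨_, hQ ▸ hyQ⟩
    rw [← Subgroup.orderOf_coe] at hj
    have h3 : orderOf (q' z) ∣ p ^ j := e ▸ hj ▸ orderOf_map_dvd q' _
    have h4 := Nat.eq_one_of_dvd_coprimes (hco.pow_right j) (orderOf_map_dvd q' z) h3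
    exact (QuotientGroup.eq_one_iff z).1 (orderOf_eq_one_iff.1 h4)
  refine le_antisymm (fun z hz => ?_) ?_
  · refine Subgroup.mem_subgroupOf.1 (mem_of_parts p (H.subgroupOf H')
      (fun w hw => Subgroup.mem_subgroupOf.2 (hgen (Or.inr ⟨hH'X w.2, by
        rwa [Subgroup.orderOf_coe]⟩))) (fun w hw => Subgroup.mem_subgroupOf.2 ?_) ⟨z, hz⟩)
    obtain ⟨k, hk⟩ := hw
    have hzp : IsPGroup p (Subgroup.zpowers (w : G)) := by
      have hk' : (w : G) ^ p ^ k = 1 := congrArg Subtype.val hk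
      intro v
      obtain ⟨l, hl⟩ := Subgroup.mem_zpowers_iff.1 v.2
      refine ⟨k, Subtype.ext ?_⟩
      show (v : G) ^ p ^ k = 1
      rw [← hl, ← zpow_natCast, ← zpow_mul, mul_comm, zpow_mul, zpow_natCast, hk', one_zpow]
    obtain ⟨c, -, hc⟩ := hsylH'.exists_conj_le hzp (Subgroup.zpowers_le.2 w.2)
    have h1 := hHn.conj_mem _ (hTH (hc _ (Subgroup.mem_zpowers _))) c⁻¹
    simpa [mul_assoc] using h1
  · have := hH'n
    rw [hH]
    exact Subgroup.normalClosure_le_normal (Set.union_subset hTH' fun z hz => hp' z hz.1 hz.2)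

end

end CfsgLib.Fusion.ConstrainedNormal
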