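import Cfsg.Agent.Fusion.ConstrainedNormal
import Cfsg.Agent.Fusion.GroupSystem

/-!
A constrained group fusion system stays constrained in the quotient by a central subgroup.
-/

set_option autoImplicit false
set_option linter.unusedSectionVars false
set_option linter.style.haveILetI false

open Cfsg Cfsg.FusionSystem
open scoped commutatorElement

namespace CfsgLib.Fusion.ConstrainedQuotient

variable {G H : Type*} [Group G] [Finite G] [Group H] {p : ℕ} [Fact p.Prime]

/-- A central `p`-element lies in every Sylow `p`-subgroup. -/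
theorem central_mem_sylow (S : Sylow p G) {z : G} (hz : z ∈ Subgroup.center G)
    (hp : ∃ k : ℕ, z ^ p ^ k = 1) : z ∈ (S : Subgroup G) := by
  obtain ⟨k, hk⟩ := hp
  obtain ⟨i, -, hi⟩ := (Nat.dvd_prime_pow Fact.out).1 (orderOf_dvd_of_pow_eq_one hk)
  have hZ : IsPGroup p (Subgroup.zpowers z) := IsPGroup.of_card (n := i) (by rw [Nat.card_zpowers, hi])
  obtain ⟨T, hT⟩ := hZ.exists_le_sylow
  obtain ⟨g, hg⟩ := MulAction.exists_smul_eq G T S
  rw [← hg, Sylow.coe_subgroup_smul]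
  refine ⟨z, hT (Subgroup.mem_zpowers z), ?_⟩
  show g * z * g⁻¹ = z
  rw [Subgroup.mem_center_iff.1 hz g, mul_inv_cancel_right]

/-- The central quotient of a constrained system. -/
theorem constrained_quotient (S : Sylow p G)
    (hF : (groupFusionSystem (S : Subgroup G)).IsConstrained p) {π : G →* H}
    (hπ : Function.Surjective π) (hker : π.ker ≤ Subgroup.center G) :
    (groupFusionSystem ((S : Subgroup G).map π)).IsConstrained p := by
  classical
  have : Finite H := Finite.of_surjective π hπ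
  obtain ⟨hsat, Q, hQn, hQc⟩ := hF
  obtain ⟨hQS, hQext⟩ := id hQn
  -- fusion is controlled by the normalizer of `Q`
  have hctl : ∀ (P : Subgroup G), P ≤ S → ∀ g : G, (∀ x ∈ P, g * x * g⁻¹ ∈ (S : Subgroup G)) →
      ∃ n : G, (∀ x ∈ P, n * x * n⁻¹ = g * x * g⁻¹) ∧ ∀ q ∈ Q, n * q * n⁻¹ ∈ Q := by
    intro P hP g hg
    obtain ⟨ψ, ⟨-, -, n, hn⟩, he, hm⟩ :=
      hQext P (conjHom P g) (conjHom_mem_groupFusion hP hg)
    refine ⟨n, fun x hx => (hn _).symm.trans (he ⟨x, hx⟩), fun q hq => ?_⟩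
    exact Set.mem_of_eq_of_mem (hn ⟨q, Subgroup.mem_sup_right hq⟩).symm
      (hm.le (apply_mem_map_subgroupOf ψ hq))
  have hnorm : ∀ {g : G}, (∀ q ∈ Q, g * q * g⁻¹ ∈ Q) → g ∈ Subgroup.normalizer (Q : Set G) :=
    fun {g} h => mem_normalizer_of_conj_mem hQS h
  have hSN : ∀ s ∈ (S : Subgroup G), ∀ q ∈ Q, s * q * s⁻¹ ∈ Q := by
    intro s hs q hq
    obtain ⟨n, hn, hnQ⟩ := hctl (S : Subgroup G) le_rfl s fun x hx => mul_mem (mul_mem hs hx)
      (inv_mem hs)
    rw [← hn q (hQS hq)]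
    exact hnQ q hq
  have hfc : (groupFusionSystem (S : Subgroup G)).IsFullyCentralized Q := by
    refine ⟨hQS, fun R hR => le_of_eq ?_⟩
    obtain ⟨φ, hφ, rfl⟩ := hR
    obtain ⟨ψ, hψ, he, hm⟩ := hQext Q φ hφ
    have : φ.range = Q := by
      conv_rhs => rw [← hm]
      ext y
      rw [mem_map_subgroupOf]
      constructor
      · rintro ⟨x, rfl⟩
        exact ⟨x, Subgroup.mem_sup_right x.2, x.2, he x⟩
      · rintro ⟨x, -, hx, rfl⟩
        exact ⟨⟨x, hx⟩, (he ⟨x, hx⟩).symm⟩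
    rw [this]
  have hZs := (fullyCentralized_iff_sylowIn S hQS).1 hfc
  have hZQ : centralizerIn (S : Subgroup G) Q ≤ Q := centralizerIn_le_self hQc
  -- the odd part of the centralizer of `Q`
  let X : Subgroup G := Subgroup.centralizer (Q : Set G)
  obtain ⟨-, R₁, hR₁⟩ := hZs
  have hfoc : Subgroup.focalSubgroup (R₁ : Subgroup X) ≤ ⊥ := by
    rw [Subgroup.focalSubgroup_def, Subgroup.closure_le]
    rintro _ ⟨-, x, hx, u, rfl⟩
    rw [hR₁, Subgroup.mem_subgroupOf] at hx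
    have h : u * x = x * u := Subtype.ext (u.2 (x : G) (hZQ hx)).symm
    rw [SetLike.mem_coe, Subgroup.mem_bot, commutatorElement_def, ← h, mul_inv_cancel_right,
      mul_inv_cancel]
  obtain ⟨K', -, -, hK'1, hK'2⟩ := ConstrainedNormal.exists_kernel R₁ ⊥ bot_le hfoc
  let K : Subgroup G := Subgroup.closure {x : G | x ∈ X ∧ (orderOf x).Coprime p}
  have hKK' : K ≤ K'.map X.subtype := by
    rw [Subgroup.closure_le]
    rintro x ⟨hx, hxo⟩
    exact ⟨⟨x, hx⟩, hK'2 _ (by rwa [← Subgroup.orderOf_coe]), rfl⟩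
  have hKS : ∀ x ∈ K, x ∈ (S : Subgroup G) → x = 1 := by
    intro x hx hxS
    obtain ⟨⟨y, hy⟩, hyK, rfl⟩ := hKK' hx
    have h1 := hK'1 ⟨y, hy⟩ hyK (by
      rw [hR₁, Subgroup.mem_subgroupOf]
      exact ⟨hxS, hy⟩)
    exact congrArg Subtype.val (Subgroup.mem_bot.1 h1)
  let N : Subgroup G := Subgroup.normalizer (Q : Set G)
  have hSN' : (S : Subgroup G) ≤ N := fun s hs => hnorm (hSN s hs)
  have hKconj : ∀ g ∈ N, ∀ k ∈ K, g * k * g⁻¹ ∈ K := by
    intro g hg k hk
    induction hk using Subgroup.closure_induction with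
    | mem x hx =>
      refine Subgroup.subset_closure ⟨fun q hq => ?_, ?_⟩
      · have hq' : g⁻¹ * q * g ∈ Q := (Subgroup.mem_normalizer_iff''.1 hg q).1 hq
        have := hx.1 _ hq'
        calc q * (g * x * g⁻¹) = g * ((g⁻¹ * q * g) * x) * g⁻¹ := by group
          _ = g * (x * (g⁻¹ * q * g)) * g⁻¹ := by rw [this]
          _ = g * x * g⁻¹ * q := by group
      · have : orderOf (g * x * g⁻¹) = orderOf x :=
          MulEquiv.orderOf_eq (MulAut.conj g) x
        rw [this]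
        exact hx.2
    | one => simp [one_mem]
    | mul x y _ _ hx hy =>
      rw [show g * (x * y) * g⁻¹ = (g * x * g⁻¹) * (g * y * g⁻¹) by group]
      exact mul_mem hx hy
    | inv x _ hx =>
      rw [show g * x⁻¹ * g⁻¹ = (g * x * g⁻¹)⁻¹ by group]
      exact inv_mem hx
  have hKn : N ≤ Subgroup.normalizer (K : Set G) := fun g hg => by
    rw [Subgroup.mem_normalizer_iff]
    refine fun k => ⟨hKconj g hg k, fun h => ?_⟩
    have := hKconj g⁻¹ (inv_mem hg) _ h
    simpa [mul_assoc] using this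
  have hKX : K ≤ X := (Subgroup.closure_le _).2 fun x hx => hx.1
  -- the elements acting trivially on `Q` modulo the kernel
  let D : Subgroup G :=
    { carrier := {n | n ∈ N ∧ ∀ q ∈ Q, π (n * q * n⁻¹) = π q}
      one_mem' := ⟨one_mem _, fun q _ => by simp⟩
      mul_mem' := fun {a b} ha hb => ⟨mul_mem ha.1 hb.1, fun q hq => by
        have h1 : b * q * b⁻¹ ∈ Q := (Subgroup.mem_normalizer_iff.1 hb.1 q).1 hq
        rw [show a * b * q * (a * b)⁻¹ = a * (b * q * b⁻¹) * a⁻¹ by group, ha.2 _ h1, hb.2 q hq]⟩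
      inv_mem' := fun {a} ha => ⟨inv_mem ha.1, fun q hq => by
        have h1 : a⁻¹ * q * a ∈ Q := (Subgroup.mem_normalizer_iff''.1 ha.1 q).1 hq
        have h2 := ha.2 _ h1
        rw [show a * (a⁻¹ * q * a) * a⁻¹ = q by group] at h2
        rw [inv_inv]
        exact h2.symm⟩ }
  have hDN : D ≤ N := fun n hn => hn.1
  have hXN : X ≤ N := fun x hx => hnorm fun q hq => by
    rw [show x * q * x⁻¹ = q by rw [← hx q hq, mul_inv_cancel_right]]
    exact hq
  have hKD : K ≤ D := fun k hk => ⟨hXN (hKX hk), fun q hq => by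
    rw [show k * q * k⁻¹ = q by rw [← hKX hk q hq, mul_inv_cancel_right]]⟩
  have hDconj : ∀ g ∈ N, ∀ d ∈ D, g * d * g⁻¹ ∈ D := fun g hg d hd =>
    ⟨mul_mem (mul_mem hg hd.1) (inv_mem hg), fun q hq => by
      have h1 : g⁻¹ * q * g ∈ Q := (Subgroup.mem_normalizer_iff''.1 hg q).1 hq
      rw [show g * d * g⁻¹ * q * (g * d * g⁻¹)⁻¹ = g * (d * (g⁻¹ * q * g) * d⁻¹) * g⁻¹ by group,
        map_mul, map_mul, hd.2 _ h1, ← map_mul, ← map_mul]
      congr 1
      group⟩
  -- elements of `D` of order prime to `p` centralize `Q`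
  have hDodd : ∀ d ∈ D, (orderOf d).Coprime p → d ∈ K := by
    intro d hd hdo
    refine Subgroup.subset_closure ⟨fun q hq => ?_, hdo⟩
    set z := q⁻¹ * (d * q * d⁻¹) with hz
    have hzker : z ∈ π.ker := by
      rw [MonoidHom.mem_ker, hz, map_mul, hd.2 q hq, map_inv, inv_mul_cancel]
    have hzQ : z ∈ Q := mul_mem (inv_mem hq) ((Subgroup.mem_normalizer_iff.1 hd.1 q).1 hq)
    have hzc := Subgroup.mem_center_iff.1 (hker hzker)
    have hiter : ∀ i : ℕ, d ^ i * q * (d ^ i)⁻¹ = q * z ^ i := by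
      intro i
      induction i with
      | zero => simp
      | succ i ih =>
        rw [pow_succ', show d * d ^ i * q * (d * d ^ i)⁻¹ = d * (d ^ i * q * (d ^ i)⁻¹) * d⁻¹ by
          group, ih, pow_succ' z i]
        have hcomm : d * z ^ i = z ^ i * d := ((Commute.pow_right (hzc d) i)).eq
        calc d * (q * z ^ i) * d⁻¹ = d * q * (z ^ i * d⁻¹) := by group
          _ = d * q * (d⁻¹ * z ^ i) := by rw [((Commute.pow_right (hzc d⁻¹) i)).eq]
          _ = (d * q * d⁻¹) * z ^ i := by group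
          _ = q * (z * z ^ i) := by
            rw [← mul_assoc q z]
            congr 1
            rw [hz, mul_inv_cancel_left]
    have h1 := hiter (orderOf d)
    rw [pow_orderOf_eq_one, one_mul, inv_one, mul_one] at h1
    have h2 : z ^ orderOf d = 1 := mul_left_cancel (a := q) (by rw [mul_one]; exact h1.symm)
    obtain ⟨k, hk⟩ := (S.2.to_le hQS) ⟨z, hzQ⟩
    have h3 : z ^ p ^ k = 1 := congrArg Subtype.val hk
    have h4 : z = 1 := by
      have := pow_gcd_eq_one.{_} (a := z) |>.mpr ⟨h2, h3⟩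
      rwa [(hdo.pow_right k).gcd_eq_one, pow_one] at this
    have h5 : d * q * d⁻¹ = q := by
      calc d * q * d⁻¹ = q * z := by rw [hz]; group
        _ = q := by rw [h4, mul_one]
    exact (mul_inv_eq_iff_eq_mul.1 h5).symm
  -- `D` is `K` times its part in `S`
  have hSD : ∀ d ∈ D, d ∈ K ⊔ ((S : Subgroup G) ⊓ D) := by
    have hKnD : (K.subgroupOf D).Normal := ⟨fun k hk g => by
      rw [Subgroup.mem_subgroupOf] at hk ⊢
      exact hKconj _ (hDN g.2) _ hk⟩
    have hQp : IsPGroup p (D ⧸ K.subgroupOf D) := by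
      intro c
      obtain ⟨d, rfl⟩ := QuotientGroup.mk'_surjective _ c
      obtain ⟨k, m, hm, he⟩ := Nat.exists_eq_pow_mul_and_not_dvd (orderOf_pos (d : G)).ne' p
        (Fact.out : p.Prime).ne_one
      refine ⟨k, ?_⟩
      rw [← map_pow, QuotientGroup.mk'_apply, QuotientGroup.eq_one_iff, Subgroup.mem_subgroupOf]
      refine hDodd _ (d ^ p ^ k).2 ?_
      refine Nat.Coprime.coprime_dvd_left ?_ (((Fact.out : p.Prime).coprime_iff_not_dvd).2 hm).symm
      rw [orderOf_dvd_iff_pow_eq_one, Subgroup.coe_pow, ← pow_mul, ← he, pow_orderOf_eq_one]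
    have hsyl : SylowIn p ((S : Subgroup G) ⊓ D) D := by
      refine SylowIn.inf_normal (L := N) ⟨hSN', S.subtype hSN', rfl⟩ hDN fun g hg => ?_
      rw [Subgroup.mem_normalizer_iff]
      refine fun d => ⟨hDconj g hg d, fun h => ?_⟩
      have := hDconj g⁻¹ (inv_mem hg) _ h
      simpa [mul_assoc] using this
    obtain ⟨-, R₂, hR₂⟩ := hsyl
    have htop := (R₂.mapSurjective (f := QuotientGroup.mk' (K.subgroupOf D))
      (QuotientGroup.mk'_surjective _)).3
      (hQp.of_equiv (Subgroup.topEquiv).symm) le_top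
    intro d hd
    have h1 : QuotientGroup.mk' (K.subgroupOf D) ⟨d, hd⟩ ∈
        (R₂ : Subgroup D).map (QuotientGroup.mk' (K.subgroupOf D)) := by
      have h2 : QuotientGroup.mk' (K.subgroupOf D) ⟨d, hd⟩ ∈ (⊤ : Subgroup _) := trivial
      rw [htop] at h2
      exact h2
    obtain ⟨s, hs, hse⟩ := h1
    rw [hR₂, SetLike.mem_coe, Subgroup.mem_subgroupOf] at hs
    have h3 := QuotientGroup.eq.1 hse
    rw [Subgroup.mem_subgroupOf] at h3
    have h4 : d = s * ((s : G)⁻¹ * d) := by rw [mul_inv_cancel_left]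
    rw [h4]
    exact mul_mem (Subgroup.mem_sup_right hs) (Subgroup.mem_sup_left h3)
  -- the normal centric subgroup of the quotient
  let R : Subgroup G := Q ⊔ ((S : Subgroup G) ⊓ D)
  have hRS : R ≤ S := sup_le hQS inf_le_left
  have hKSn : (S : Subgroup G) ≤ Subgroup.normalizer (K : Set G) := hSN'.trans hKn
  have hRK : ∀ g ∈ N, ∀ r ∈ R, g * r * g⁻¹ ∈ (S : Subgroup G) ⊔ K := by
    intro g hg r hr
    have hsub : R ≤ ((S : Subgroup G) ⊔ K).comap (MulAut.conj g).toMonoidHom := by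
      refine sup_le (fun q hq => Subgroup.mem_sup_left (hQS ?_)) fun d hd => ?_
      · exact (Subgroup.mem_normalizer_iff.1 hg q).1 hq
      · exact (sup_le le_sup_right (inf_le_left.trans le_sup_left) :
          K ⊔ ((S : Subgroup G) ⊓ D) ≤ (S : Subgroup G) ⊔ K) (hSD _ (hDconj g hg d hd.2))
    exact hsub hr
  have hRmem : ∀ s ∈ (S : Subgroup G), s ∈ Q ⊔ D → s ∈ R := by
    intro s hs hsd
    have hQn' : Q ≤ Subgroup.normalizer (D : Set G) := fun q hq => by
      have hqN : q ∈ N := hSN' (hQS hq)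
      rw [Subgroup.mem_normalizer_iff]
      refine fun d => ⟨hDconj q hqN d, fun h => ?_⟩
      have := hDconj q⁻¹ (inv_mem hqN) _ h
      simpa [mul_assoc] using this
    have h : s ∈ ((Q ⊔ D : Subgroup G) : Set G) := hsd
    rw [Subgroup.coe_mul_of_left_le_normalizer_right Q D hQn'] at h
    obtain ⟨q, hq, d, hd, rfl⟩ := h
    refine mul_mem (Subgroup.mem_sup_left hq) (Subgroup.mem_sup_right ⟨?_, hd⟩)
    have h1 := (S : Subgroup G).mul_mem ((S : Subgroup G).inv_mem (hQS hq)) hs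
    rwa [inv_mul_cancel_left] at h1
  have hnorR : ∀ P ≤ (S : Subgroup G), ∀ g : G, (∀ x ∈ P, g * x * g⁻¹ ∈ (S : Subgroup G)) →
      ∃ n : G, (∀ x ∈ P, n * x * n⁻¹ = g * x * g⁻¹) ∧ ∀ r ∈ R, n * r * n⁻¹ ∈ R := by
    intro P hP g₀ hg₀
    obtain ⟨g, hge, hgQ⟩ := hctl P hP g₀ hg₀
    have hg : g ∈ N := hnorm hgQ
    have hU : (P ⊔ R).map (MulAut.conj g).toMonoidHom ≤ (S : Subgroup G) ⊔ K := by
      rw [Subgroup.map_le_iff_le_comap]
      refine sup_le (fun x hx => Subgroup.mem_sup_left ?_) fun r hr => hRK g hg r hr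
      show g * x * g⁻¹ ∈ (S : Subgroup G)
      rw [hge x hx]
      exact hg₀ x hx
    obtain ⟨c, hc, hcU⟩ := SylowIn.exists_conj_le (A := (S : Subgroup G))
      (L := (S : Subgroup G) ⊔ K) ⟨le_sup_left, S.subtype le_sup_left, rfl⟩
      ((S.2.to_le (sup_le hP hRS)).map _) hU
    have hc' : c ∈ (((S : Subgroup G) ⊔ K : Subgroup G) : Set G) := hc
    rw [Subgroup.coe_mul_of_left_le_normalizer_right _ _ hKSn] at hc'
    obtain ⟨s, hs, k, hk, rfl⟩ := hc'
    have hn : ∀ y ∈ P ⊔ R, k * (g * y * g⁻¹) * k⁻¹ ∈ (S : Subgroup G) := fun y hy => by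
      have := mul_mem (mul_mem (inv_mem hs) (hcU _ ⟨y, hy, rfl⟩)) hs
      simpa [mul_assoc] using this
    refine ⟨k * g, fun x hx => ?_, fun r hr => ?_⟩
    · have h1 := hn x (Subgroup.mem_sup_left hx)
      set y := g * x * g⁻¹ with hy
      have hyS : y ∈ (S : Subgroup G) := by rw [hy, hge x hx]; exact hg₀ x hx
      have h2 : k * y * k⁻¹ * y⁻¹ ∈ K := by
        rw [show k * y * k⁻¹ * y⁻¹ = k * (y * k⁻¹ * y⁻¹) by group]
        exact mul_mem hk (hKconj y (hSN' hyS) _ (inv_mem hk))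
      have h3 := hKS _ h2 (mul_mem h1 (inv_mem hyS))
      rw [show k * g * x * (k * g)⁻¹ = k * y * k⁻¹ by rw [hy]; group, ← hge x hx]
      exact mul_inv_eq_one.1 h3
    · have h1 := hn r (Subgroup.mem_sup_right hr)
      rw [show k * g * r * (k * g)⁻¹ = k * (g * r * g⁻¹) * k⁻¹ by group]
      refine hRmem _ h1 ?_
      have hkD : k ∈ Q ⊔ D := Subgroup.mem_sup_right (hKD hk)
      refine mul_mem (mul_mem hkD ?_) (inv_mem hkD)
      have hsub : R ≤ (Q ⊔ D).comap (MulAut.conj g).toMonoidHom := by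
        refine sup_le (fun q hq => Subgroup.mem_sup_left (hgQ q hq)) fun d hd => ?_
        exact Subgroup.mem_sup_right (hDconj g hg d hd.2)
      exact hsub hr
  -- transfer to the quotient
  have hlift : ∀ a ∈ (S : Subgroup G), ∀ g : G, π (g * a * g⁻¹) ∈ (S : Subgroup G).map π →
      g * a * g⁻¹ ∈ (S : Subgroup G) := by
    intro a ha g h
    obtain ⟨s, hs, hse⟩ := h
    have hz : s⁻¹ * (g * a * g⁻¹) ∈ π.ker := by
      rw [MonoidHom.mem_ker, map_mul, ← hse, map_inv, inv_mul_cancel]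
    have hzc := Subgroup.mem_center_iff.1 (hker hz)
    obtain ⟨i, hi⟩ := S.2 ⟨a, ha⟩
    obtain ⟨j, hj⟩ := S.2 ⟨s, hs⟩
    have hi' : a ^ p ^ i = 1 := congrArg Subtype.val hi
    have hj' : s ^ p ^ j = 1 := congrArg Subtype.val hj
    have hcom : Commute s⁻¹ (g * a * g⁻¹) := by
      have h1 : s * (s⁻¹ * (g * a * g⁻¹)) = s⁻¹ * (g * a * g⁻¹) * s := hzc s
      rw [mul_inv_cancel_left] at h1
      show s⁻¹ * (g * a * g⁻¹) = g * a * g⁻¹ * s⁻¹
      rw [eq_mul_inv_iff_mul_eq]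
      exact h1.symm
    have hmem := central_mem_sylow S (hker hz) ⟨i + j, by
      rw [hcom.mul_pow, conj_pow, pow_add, pow_mul a, hi', one_pow, mul_one, mul_inv_cancel,
        mul_one, mul_comm, pow_mul, inv_pow, hj', inv_one, one_pow]⟩
    simpa using mul_mem hs hmem
  obtain ⟨T, hT⟩ : ∃ T : Sylow p H, (T : Subgroup H) = (S : Subgroup G).map π :=
    ⟨S.mapSurjective hπ, Sylow.coe_mapSurjective ..⟩
  have hsat' := groupFusion_saturated T
  rw [hT] at hsat'
  have hnormal : (groupFusionSystem ((S : Subgroup G).map π)).IsNormal (R.map π) := by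
    refine ⟨Subgroup.map_mono hRS, fun U χ hχ => ?_⟩
    obtain ⟨hU, hχT, h, hh⟩ := hχ
    obtain ⟨g, rfl⟩ := hπ h
    have hP : (S : Subgroup G) ⊓ U.comap π ≤ S := inf_le_left
    obtain ⟨n, hn, hnR⟩ := hnorR _ hP g fun x hx => hlift x hx.1 g (by
      rw [map_mul, map_mul, map_inv, ← hh ⟨π x, hx.2⟩]
      exact hχT _)
    have hval : ∀ u : U, χ u = π n * (u : H) * (π n)⁻¹ := fun u => by
      obtain ⟨s, hs, hse⟩ := hU u.2
      rw [hh u, ← hse, ← map_inv, ← map_inv, ← map_mul, ← map_mul, ← map_mul, ← map_mul,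
        hn s ⟨hs, show π s ∈ U from hse ▸ u.2⟩]
    have hRimg : ∀ y ∈ R.map π, π n * y * (π n)⁻¹ ∈ R.map π := by
      rintro _ ⟨r, hr, rfl⟩
      exact ⟨_, hnR r hr, by rw [map_mul, map_mul, map_inv]⟩
    have hle : U ⊔ R.map π ≤ (S : Subgroup G).map π := sup_le hU (Subgroup.map_mono hRS)
    refine ⟨conjHom _ (π n), conjHom_mem_groupFusion hle ?_, fun u => (hval u).symm, ?_⟩
    · intro y hy
      have hsub : U ⊔ R.map π ≤ ((S : Subgroup G).map π).comap (MulAut.conj (π n)).toMonoidHom := by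
        refine sup_le (fun u hu => ?_) fun y hy => Subgroup.map_mono hRS (hRimg y hy)
        rw [Subgroup.mem_comap, MulEquiv.coe_toMonoidHom, MulAut.conj_apply]
        rw [← hval ⟨u, hu⟩]
        exact hχT _
      exact hsub hy
    · refine eq_of_le_of_card_le (Subgroup.map_mono hRS) ?_ ?_
      · rintro _ ⟨⟨y, hy'⟩, hy, rfl⟩
        exact hRimg y hy
      · exact le_of_eq (card_map_subgroupOf
          (fun a b h => Subtype.ext ((MulAut.conj (π n)).injective h)) le_sup_right).symm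
  refine ⟨hsat', R.map π, hnormal, Subgroup.map_mono hRS, fun U hU => ?_⟩
  obtain ⟨φ, hφ, rfl⟩ := hU
  obtain ⟨ψ, -, he, hm⟩ := hnormal.2 _ φ hφ
  have hrange : φ.range = R.map π := by
    conv_rhs => rw [← hm]
    ext y
    rw [mem_map_subgroupOf]
    constructor
    · rintro ⟨x, rfl⟩
      exact ⟨x, Subgroup.mem_sup_right x.2, x.2, he x⟩
    · rintro ⟨x, -, hx, rfl⟩
      exact ⟨⟨x, hx⟩, (he ⟨x, hx⟩).symm⟩
  rw [hrange]
  intro y hy
  obtain ⟨⟨s, hs, rfl⟩, hyc⟩ := mem_centralizerIn.1 hy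
  refine Subgroup.mem_map_of_mem π (hRmem s hs (Subgroup.mem_sup_right ⟨hSN' hs, fun q hq => ?_⟩))
  have h1 := hyc _ (Subgroup.mem_map_of_mem π (Subgroup.mem_sup_left hq : q ∈ R))
  rw [map_mul, map_mul, map_inv, ← h1, mul_inv_cancel_right]

end CfsgLib.Fusion.ConstrainedQuotient
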