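import Cfsg.Agent.Fusion.PlaneTorus
import Cfsg.Agent.Fusion.CubeEssential

/-!
Automorphisms of nonabelian groups of order `p³`.
-/

set_option autoImplicit false
set_option linter.unusedSectionVars false

open scoped commutatorElement

namespace CfsgLib.Fusion

universe u

variable {Q : Type u} [Group Q] [Finite Q] {p : ℕ} [hp : Fact p.Prime]

theorem cube_closure_pair (hcard : Nat.card Q = p ^ 3) {x y : Q} (hxy : ¬ Commute x y) :
    Subgroup.closure ({x, y} : Set Q) = ⊤ := by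
  set K := Subgroup.closure ({x, y} : Set Q)
  obtain ⟨k, hk, hK⟩ := (Nat.dvd_prime_pow hp.out).1 (hcard ▸ Subgroup.card_subgroup_dvd_card K)
  rcases Nat.lt_or_ge k 3 with hk3 | hk3
  · exfalso
    have hx : x ∈ K := Subgroup.subset_closure (Set.mem_insert _ _)
    have hy : y ∈ K := Subgroup.subset_closure (Set.mem_insert_of_mem _ rfl)
    refine hxy (congrArg Subtype.val (?_ : (⟨x, hx⟩ : K) * ⟨y, hy⟩ = ⟨y, hy⟩ * ⟨x, hx⟩))
    interval_cases k
    · haveI := (Nat.card_eq_one_iff_unique.1 (hK.trans (pow_zero p))).1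
      exact Subsingleton.elim _ _
    · haveI : IsCyclic K := isCyclic_of_prime_card (hK.trans (pow_one p))
      exact IsCyclic.commGroup.mul_comm _ _
    · exact IsPGroup.commutative_of_card_eq_prime_sq hK _ _
  · refine Subgroup.eq_top_of_card_eq _ ?_
    rw [hK, hcard, show k = 3 by omega]

section pair

variable (hcard : Nat.card Q = p ^ 3) {x y : Q} (hxy : ¬ Commute x y)
include hcard hxy

theorem cube_zgen {z : Q} (hz : z ∈ Subgroup.center Q) : ∃ i : ℤ, ⁅x, y⁆ ^ i = z := by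
  obtain ⟨-, hZ, hc, -⟩ := cube_frattini hcard fun h => hxy (h x y)
  have hne : (⟨⁅x, y⁆, hc x y⟩ : Subgroup.center Q) ≠ 1 := fun h =>
    hxy (commutatorElement_eq_one_iff_commute.1 (congrArg Subtype.val h))
  obtain ⟨i, hi⟩ := Subgroup.mem_zpowers_iff.1
    (mem_zpowers_of_prime_card hZ hne (g' := ⟨z, hz⟩))
  exact ⟨i, congrArg Subtype.val hi⟩

theorem cube_zexp {z : Q} (hz : z ∈ Subgroup.center Q) : z ^ p = 1 := by
  obtain ⟨-, hZ, -, -⟩ := cube_frattini hcard fun h => hxy (h x y)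
  have h := pow_card_eq_one' (x := (⟨z, hz⟩ : Subgroup.center Q))
  rw [hZ] at h
  exact congrArg Subtype.val h

theorem cube_conj_zpow (i : ℤ) :
    (MulAut.conj x ^ i) y = y * ⁅x, y⁆ ^ i ∧ (MulAut.conj y ^ i) x = x * ⁅x, y⁆ ^ (-i) := by
  obtain ⟨-, -, hc, -⟩ := cube_frattini hcard fun h => hxy (h x y)
  have hz := Subgroup.mem_center_iff.1 (hc x y)
  have hfix : ∀ u : Q, MulAut.conj u ⁅x, y⁆ = ⁅x, y⁆ := fun u => by
    rw [MulAut.conj_apply, hz u, mul_inv_cancel_right]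
  refine ⟨zpow_apply_of_fix _ (hfix x) ?_ i, ?_⟩
  · rw [MulAut.conj_apply, hz y, commutatorElement_def]
    group
  · have h1 : MulAut.conj y x = x * ⁅x, y⁆⁻¹ := by
      rw [MulAut.conj_apply, ← mul_right_inj ⁅x, y⁆, ← mul_assoc ⁅x, y⁆ x, ← hz x, mul_assoc x,
        mul_inv_cancel, mul_one, commutatorElement_def]
      group
    rw [zpow_apply_of_fix _ (by rw [map_inv, hfix y]) h1 i, inv_zpow, zpow_neg]

/-- The effect on the centre of an automorphism with given eigenvalues on the central quotient. -/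
theorem cube_center_eigen (α : MulAut Q) {a b : ℤ} (hx : (x ^ a)⁻¹ * α x ∈ Subgroup.center Q)
    (hy : (y ^ b)⁻¹ * α y ∈ Subgroup.center Q) {z : Q} (hz : z ∈ Subgroup.center Q) :
    α z = z ^ (a * b) := by
  obtain ⟨-, -, hc, -⟩ := cube_frattini hcard fun h => hxy (h x y)
  obtain ⟨i, rfl⟩ := cube_zgen hcard hxy hz
  suffices h : α ⁅x, y⁆ = ⁅x, y⁆ ^ (a * b) by
    rw [map_zpow, h, ← zpow_mul, ← zpow_mul, mul_comm]
  obtain ⟨z₁, hz₁, e₁⟩ : ∃ z₁ ∈ Subgroup.center Q, α x = x ^ a * z₁ :=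
    ⟨_, hx, (mul_inv_cancel_left _ _).symm⟩
  obtain ⟨z₂, hz₂, e₂⟩ : ∃ z₂ ∈ Subgroup.center Q, α y = y ^ b * z₂ :=
    ⟨_, hy, (mul_inv_cancel_left _ _).symm⟩
  have hcz : ∀ {z : Q}, z ∈ Subgroup.center Q → ∀ w : Q, Commute z w := fun hz w =>
    (Subgroup.mem_center_iff.1 hz w).symm
  have h1 : MulAut.conj (α x) (α y) = α y * α ⁅x, y⁆ := by
    have e : MulAut.conj x y = y * ⁅x, y⁆ := by simpa using (cube_conj_zpow hcard hxy 1).1
    rw [← map_mul, ← e, MulAut.conj_apply, MulAut.conj_apply, map_mul, map_mul, map_inv]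
  have hconj₁ : ∀ w : Q, MulAut.conj z₁ w = w := fun w => by
    rw [MulAut.conj_apply, (hcz hz₁ w).eq, mul_inv_cancel_right]
  have hconj₂ : MulAut.conj (x ^ a) z₂ = z₂ := by
    rw [MulAut.conj_apply, ← (hcz hz₂ (x ^ a)).eq, mul_inv_cancel_right]
  have h2 : MulAut.conj (α x) (α y) = α y * ⁅x, y⁆ ^ (a * b) := by
    rw [e₁, map_mul, MulAut.mul_apply, hconj₁, e₂, map_mul, hconj₂, map_zpow MulAut.conj, map_zpow,
      (cube_conj_zpow hcard hxy a).1, (hcz (zpow_mem (hc x y) a) y).symm.mul_zpow, ← zpow_mul,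
      mul_assoc, mul_assoc, (hcz hz₂ (⁅x, y⁆ ^ (a * b))).eq]
  exact mul_left_cancel (h1.symm.trans h2)

end pair

/-- An automorphism trivial on the central quotient is inner. -/
theorem cube_aut_inn (hcard : Nat.card Q = p ^ 3) (hne : ¬ ∀ a b : Q, a * b = b * a) (α : MulAut Q)
    (h : ∀ w : Q, w⁻¹ * α w ∈ Subgroup.center Q) : ∃ q : Q, MulAut.conj q = α := by
  push Not at hne
  obtain ⟨x, y, hxy⟩ := hne
  obtain ⟨i, hi⟩ := cube_zgen hcard hxy (h x)
  obtain ⟨j, hj⟩ := cube_zgen hcard hxy (h y)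
  obtain ⟨-, -, hc, -⟩ := cube_frattini hcard fun h => hxy (h x y)
  refine ⟨x ^ j * y ^ (-i), MulEquiv.toMonoidHom_injective
    (MonoidHom.eq_of_eqOn_dense (cube_closure_pair hcard hxy) ?_)⟩
  have hfix : ∀ (u : Q) (k : ℤ), MulAut.conj u (⁅x, y⁆ ^ k) = ⁅x, y⁆ ^ k := fun u k => by
    rw [MulAut.conj_apply, Subgroup.mem_center_iff.1 (zpow_mem (hc x y) k) u, mul_inv_cancel_right]
  intro w hw
  show MulAut.conj (x ^ j * y ^ (-i)) w = α w
  rw [map_mul, MulAut.mul_apply]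
  rcases hw with rfl | rfl
  · rw [map_zpow MulAut.conj w, map_zpow MulAut.conj y, (cube_conj_zpow hcard hxy (-i)).2, neg_neg,
      map_mul, hi, apply_zpow_fix (MulAut.conj w) (by rw [MulAut.conj_apply, mul_inv_cancel_right]),
      ← hi, ← map_zpow MulAut.conj w, hfix, hi, mul_inv_cancel_left]
  · rw [map_zpow MulAut.conj x, map_zpow MulAut.conj w, apply_zpow_fix (MulAut.conj w)
      (by rw [MulAut.conj_apply, mul_inv_cancel_right]), (cube_conj_zpow hcard hxy j).1, hj,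
      mul_inv_cancel_left]

end CfsgLib.Fusion
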