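import Cfsg.Agent.Fusion.ShearEmbedded
import Cfsg.Agent.Fusion.AbelianIndex
import Cfsg.Agent.FGSA.Huppert
import Cfsg.Agent.Coprime.InvariantFactors

/-!
Fusion systems over groups with an extraspecial subgroup of index `p`.
-/

set_option autoImplicit false
set_option linter.unusedSectionVars false
set_option linter.style.haveILetI false

open Cfsg Cfsg.FusionSystem
open scoped commutatorElement

namespace CfsgLib.Fusion.ExtraspecialIndexP

universe u

variable {Ω : Type u} [Group Ω] {S : Subgroup Ω} [Finite S] {p : ℕ} [hp : Fact p.Prime]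
  (hS : IsPGroup p S) {Q : Subgroup Ω} (hQS : Q ≤ S) (hQ : Cfsg.IsExtraspecial p Q)

/-- The centre of `Q` in the ambient group. -/
abbrev zQ (Q : Subgroup Ω) : Subgroup Ω := (Subgroup.center Q).map Q.subtype

omit [Finite S] hp in
theorem zQ_le : zQ Q ≤ Q := Subgroup.map_subtype_le _

include hQ in
omit [Finite S] hp in
theorem card_zQ : Nat.card (zQ Q) = p := by
  rw [Subgroup.card_map_of_injective Q.subtype_injective]; exact hQ.2

omit [Finite S] hp in
theorem mem_zQ_of_comm {z : Ω} (hz : z ∈ Q) (h : ∀ a ∈ Q, a * z = z * a) : z ∈ zQ Q :=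
  ⟨⟨z, hz⟩, Subgroup.mem_center_iff.2 fun a => Subtype.ext (h a a.2), rfl⟩

omit [Finite S] hp in
theorem comm_of_mem_zQ {z : Ω} (hz : z ∈ zQ Q) : ∀ a ∈ Q, a * z = z * a := by
  obtain ⟨w, hw, rfl⟩ := hz
  exact fun a ha => congrArg Subtype.val (Subgroup.mem_center_iff.1 hw ⟨a, ha⟩)

include hQ in
omit [Finite S] hp in
theorem commutator_mem {a b : Ω} (ha : a ∈ Q) (hb : b ∈ Q) : ⁅a, b⁆ ∈ zQ Q := by
  refine ⟨⁅(⟨a, ha⟩ : Q), (⟨b, hb⟩ : Q)⁆, ?_, map_commutatorElement Q.subtype _ _⟩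
  show ⁅(⟨a, ha⟩ : Q), (⟨b, hb⟩ : Q)⁆ ∈ Subgroup.center Q
  rw [← hQ.1.2.2]
  exact Subgroup.commutator_mem_commutator (Subgroup.mem_top _) (Subgroup.mem_top _)

include hS hQS hQ in
/-- The centre of a normal extraspecial subgroup is central. -/
theorem central (hQn : (Q.subgroupOf S).Normal) {z : Ω} (hz : z ∈ zQ Q) {s : Ω} (hs : s ∈ S) :
    s * z = z * s := by
  have hconj : ∀ s ∈ S, ∀ a ∈ Q, s * a * s⁻¹ ∈ Q := fun s hs a ha =>
    hQn.conj_mem ⟨a, hQS ha⟩ ha ⟨s, hs⟩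
  haveI : ((zQ Q).subgroupOf S).Normal := ⟨fun w hw t => by
    rw [Subgroup.mem_subgroupOf] at hw ⊢
    refine mem_zQ_of_comm (hconj t t.2 w (zQ_le hw)) fun a ha => ?_
    have ha' : (t : Ω)⁻¹ * a * t ∈ Q := by simpa using hconj _ (inv_mem t.2) a ha
    have h1 := comm_of_mem_zQ hw _ ha'
    calc a * ((t : Ω) * w * (t : Ω)⁻¹) = (t : Ω) * (((t : Ω)⁻¹ * a * t) * w) * (t : Ω)⁻¹ := by group
      _ = (t : Ω) * (w * ((t : Ω)⁻¹ * a * t)) * (t : Ω)⁻¹ := by rw [h1]
      _ = (t : Ω) * w * (t : Ω)⁻¹ * a := by group⟩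
  have hle := CfsgLib.FGSA.Huppert.le_center_of_card_le hS ((zQ Q).subgroupOf S) (by
    rw [Nat.card_congr (Subgroup.subgroupOfEquivOfLe (zQ_le.trans hQS)).toEquiv, card_zQ hQ])
  exact congrArg Subtype.val
    (Subgroup.mem_center_iff.1 (hle (show (⟨z, hQS (zQ_le hz)⟩ : S) ∈ _ from hz)) ⟨s, hs⟩)

variable {F : FusionSystem S}

include hS hQS hQ in
/-- Elements of `S` displacing a nonabelian essential subgroup into the centre of `Q` lie in it. -/
theorem mem_of_displacement (hQn : (Q.subgroupOf S).Normal) {E : Subgroup Ω}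
    (hE : F.IsEssential p E) (hZE : zQ Q ≤ E) (hder : ∀ a ∈ E, ∀ b ∈ E, ⁅a, b⁆ ∈ zQ Q)
    (hna : ¬ ∀ a b : E, a * b = b * a) {g : Ω} (hg : g ∈ normalizerIn S E)
    (hgd : ∀ x ∈ E, x⁻¹ * (g * x * g⁻¹) ∈ zQ Q) : g ∈ E := by
  haveI := finite_of_le hE.1.1
  have hC : ((zQ Q).subgroupOf E) = commutator E := by
    have hle : commutator E ≤ (zQ Q).subgroupOf E := by
      rw [_root_.commutator_def, Subgroup.commutator_le]
      intro a _ b _
      rw [Subgroup.mem_subgroupOf]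
      rw [show ((⁅a, b⁆ : E) : Ω) = ⁅(a : Ω), (b : Ω)⁆ from map_commutatorElement E.subtype a b]
      exact hder a a.2 b b.2
    refine (Subgroup.eq_of_le_of_card_ge hle ?_).symm
    have hne : commutator E ≠ ⊥ := fun h => hna fun a b =>
      commutatorElement_eq_one_iff_mul_comm.1 (Subgroup.mem_bot.1 (h ▸
        Subgroup.commutator_mem_commutator (Subgroup.mem_top a) (Subgroup.mem_top b)))
    have hcard : Nat.card ((zQ Q).subgroupOf E) = p := by
      rw [Nat.card_congr (Subgroup.subgroupOfEquivOfLe hZE).toEquiv, card_zQ hQ]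
    rcases (Nat.dvd_prime hp.out).1 (hcard ▸ Subgroup.card_dvd_of_le hle) with h | h
    · exact absurd (Subgroup.card_eq_one.1 h) hne
    · rw [hcard, h]
  refine mem_of_central_chain hS hE ((zQ Q).subgroupOf E) (fun α _ x hx => ?_) hg (fun x hx => ?_)
    fun x => Subgroup.mem_subgroupOf.2 (hgd x x.2)
  · rw [hC] at hx ⊢
    exact Subgroup.characteristic_iff_le_comap.1 inferInstance α hx
  · refine Subtype.ext ?_
    rw [coe_conjAut, central hS hQS hQ hQn (Subgroup.mem_subgroupOf.1 hx) hg.1, mul_inv_cancel_right]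

include hS hQS hQ in
/-- An abelian subgroup of `Q` of index at most `p` forces `|Q| ≤ p ^ 3`. -/
theorem card_le_of_abelian {E : Subgroup Ω} (hEQ : E ≤ Q)
    (hab : ∀ a ∈ E, ∀ b ∈ E, a * b = b * a) {q : Ω} (hq : q ∈ Q) (hqE : q ∉ E)
    (hidx : Nat.card Q ≤ p * Nat.card E) : Nat.card Q ≤ p ^ 3 := by
  haveI := finite_of_le hQS
  haveI := finite_of_le (hEQ.trans hQS)
  haveI : Finite (zQ Q) := Nat.finite_of_card_ne_zero (by rw [card_zQ hQ]; exact hp.out.ne_zero)
  have htop : ∀ x ∈ Q, x ∈ E ⊔ Subgroup.zpowers q := by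
    have hle : E ⊔ Subgroup.zpowers q ≤ Q := sup_le hEQ (Subgroup.zpowers_le.2 hq)
    haveI := finite_of_le (hle.trans hQS)
    obtain ⟨a, ha⟩ := IsPGroup.iff_card.1 (isPGroup_of_le hS (hEQ.trans hQS))
    obtain ⟨b, hb⟩ := IsPGroup.iff_card.1 (isPGroup_of_le hS (hle.trans hQS))
    have h1 : Nat.card E < Nat.card ↥(E ⊔ Subgroup.zpowers q) := lt_of_not_ge fun hge =>
      hqE ((eq_of_le_of_card_le (hle.trans hQS) le_sup_left hge).ge
        (Subgroup.mem_sup_right (Subgroup.mem_zpowers q)))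
    rw [ha, hb] at h1
    have h2 : Nat.card Q ≤ Nat.card ↥(E ⊔ Subgroup.zpowers q) := by
      refine hidx.trans ?_
      rw [ha, hb, ← pow_succ']
      exact Nat.pow_le_pow_right hp.out.pos ((Nat.pow_lt_pow_iff_right hp.out.one_lt).1 h1)
    exact fun x hx => (eq_of_le_of_card_le hQS hle h2).ge hx
  let f : E →* zQ Q := MonoidHom.mk' (fun e => ⟨⁅q, (e : Ω)⁆, commutator_mem hQ hq (hEQ e.2)⟩)
    fun a b => Subtype.ext (by
      show ⁅q, (a : Ω) * b⁆ = ⁅q, (a : Ω)⁆ * ⁅q, (b : Ω)⁆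
      have h1 := comm_of_mem_zQ (commutator_mem hQ hq (hEQ b.2)) a (hEQ a.2)
      calc ⁅q, (a : Ω) * b⁆ = ⁅q, (a : Ω)⁆ * ((a : Ω) * ⁅q, (b : Ω)⁆ * (a : Ω)⁻¹) := by
            simp only [commutatorElement_def]; group
        _ = _ := by rw [h1, mul_inv_cancel_right])
  have hker : Nat.card f.ker ≤ p := by
    refine le_trans (Nat.card_le_card_of_injective (fun e => (⟨((e : E) : Ω), ?_⟩ : zQ Q))
      fun a b h => Subtype.ext (Subtype.ext (congrArg (fun z : zQ Q => (z : Ω)) h))) (card_zQ hQ).le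
    refine mem_zQ_of_comm (hEQ (e : E).2) fun a ha => ?_
    refine (Subgroup.mem_centralizer_singleton_iff.1
      (sup_le (fun w hw => ?_) (Subgroup.zpowers_le.2 ?_) (htop a ha) :
        a ∈ Subgroup.centralizer ({((e : E) : Ω)} : Set Ω))).symm |> fun h => h.symm
    · exact Subgroup.mem_centralizer_singleton_iff.2 (hab w hw _ (e : E).2)
    · exact Subgroup.mem_centralizer_singleton_iff.2
        (commutatorElement_eq_one_iff_mul_comm.1 (congrArg Subtype.val (show f (e : E) = 1 from e.2)))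
  have hE : Nat.card E ≤ p * p := by
    rw [← Subgroup.card_mul_index f.ker, Subgroup.index_ker]
    exact Nat.mul_le_mul hker ((Subgroup.card_le_card_group _).trans (card_zQ hQ).le)
  exact hidx.trans (le_trans (Nat.mul_le_mul_left p hE) (le_of_eq (by ring)))

include hS hQS hQ in
/-- The shears coming from a normal overgroup of an abelian essential subgroup. -/
theorem shears_bound (hQn : (Q.subgroupOf S).Normal) (hF : F.IsSaturated p) {E K : Subgroup Ω}
    (hE : F.IsEssential p E) (hab : ∀ a b : E, a * b = b * a) (hZE : zQ Q ≤ E) (hEK : E ≤ K)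
    (hK : K ≤ S) (hd : ∀ g ∈ K, ∀ x ∈ E, x⁻¹ * (g * x * g⁻¹) ∈ zQ Q)
    (hlt : Nat.card (normalizerIn S E) * Nat.card E < Nat.card K * Nat.card K) :
    Nat.card K ≤ p * Nat.card E := by
  haveI := finite_of_le hK
  haveI := finite_of_le hE.1.1
  haveI : Finite (MulAut E) := finite_mulAut
  have hKn : normalizerIn K E = K := le_antisymm inf_le_left fun g hg => ⟨hg,
    mem_normalizer_of_conj_mem hE.1.1 fun x hx => by
      simpa using mul_mem hx (hZE (hd g hg x hx))⟩
  have hcK := card_autInduced hE.1 hab hEK hK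
  rw [hKn] at hcK
  have hcS := card_autInduced hE.1 hab hE.1.1 le_rfl
  by_contra hgt
  rw [not_le, hcK] at hgt
  have hU : p * p ≤ Nat.card (autInducedBy K E) := by
    obtain ⟨j, hj⟩ := IsPGroup.iff_card.1
      ((isPGroup_autInducedBy hS E).to_le (autInducedBy_mono hK E))
    have h1 : p < Nat.card (autInducedBy K E) := Nat.lt_of_mul_lt_mul_right hgt
    rw [hj] at h1 ⊢
    have h2 : 1 < j := (Nat.pow_lt_pow_iff_right hp.out.one_lt).1 (by rw [pow_one]; exact h1)
    exact (pow_two p).ge.trans (Nat.pow_le_pow_right hp.out.pos h2)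
  obtain ⟨z, hz, hz1⟩ : ∃ z ∈ zQ Q, z ≠ 1 := by
    refine (Subgroup.bot_or_exists_ne_one (zQ Q)).resolve_left fun h => hp.out.one_lt.ne ?_
    rw [← card_zQ hQ, h, Subgroup.card_bot]
  haveI : Finite (zQ Q) := Nat.finite_of_card_ne_zero (by rw [card_zQ hQ]; exact hp.out.ne_zero)
  have hgen : ∀ w ∈ zQ Q, w ∈ Subgroup.zpowers z := fun w hw => by
    obtain ⟨i, hi⟩ := Subgroup.mem_zpowers_iff.1 (mem_zpowers_of_prime_card (card_zQ hQ)
      (g := (⟨z, hz⟩ : zQ Q)) (g' := ⟨w, hw⟩) fun h => hz1 (congrArg Subtype.val h))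
    exact ⟨i, congrArg Subtype.val hi⟩
  refine not_essential_of_shears hS hF hE hab (z := ⟨z, hZE hz⟩) ?_ (fun t ht => ?_)
    (autInducedBy K E) (autInducedBy_mono hK E) (fun s hs x => ?_) hU ?_
  · refine orderOf_eq_prime (Subtype.ext ?_) fun h => hz1 (congrArg Subtype.val h)
    rw [SubgroupClass.coe_pow]
    exact congrArg (fun w : zQ Q => (w : Ω)) (show (⟨z, hz⟩ : zQ Q) ^ p = 1 by
      rw [← card_zQ hQ]; exact pow_card_eq_one')
  · obtain ⟨g, hg, hgt⟩ := mem_autInducedBy.1 ht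
    exact Subtype.ext ((hgt _).trans (by rw [central hS hQS hQ hQn hz hg, mul_inv_cancel_right]))
  · obtain ⟨g, hg, hgs⟩ := mem_autInducedBy.1 hs
    obtain ⟨i, hi⟩ := Subgroup.mem_zpowers_iff.1 (hgen _ (hd g hg x x.2))
    refine ⟨i, Subtype.ext ?_⟩
    show z ^ i = ((x⁻¹ * s x : E) : Ω)
    rw [hi, Subgroup.coe_mul, InvMemClass.coe_inv, hgs]
  · rw [hcS, hcK] at hlt
    have hpos : 0 < Nat.card E := Nat.card_pos
    have e1 : Nat.card (autInducedBy S E) * Nat.card E * Nat.card E =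
        Nat.card (autInducedBy S E) * (Nat.card E * Nat.card E) := by ring
    have e2 : Nat.card (autInducedBy K E) * Nat.card E * (Nat.card (autInducedBy K E) * Nat.card E) =
        Nat.card (autInducedBy K E) * Nat.card (autInducedBy K E) * (Nat.card E * Nat.card E) := by
      ring
    rw [e1, e2] at hlt
    exact Nat.lt_of_mul_lt_mul_right hlt

include hS hQS hQ in
/-- No essential subgroup lies properly inside `Q`. -/
theorem essential_inside (hQi : (Q.subgroupOf S).index = p) (hQn : (Q.subgroupOf S).Normal)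
    (h6 : p ^ 6 ≤ Nat.card S) (hF : F.IsSaturated p) {E : Subgroup Ω} (hEQ : E ≤ Q)
    (hE : F.IsEssential p E) : E = Q := by
  haveI := finite_of_le hQS
  haveI := finite_of_le hE.1.1
  by_contra hne
  obtain ⟨q, hq, hqE⟩ := SetLike.exists_of_lt (lt_of_le_of_ne hEQ hne)
  have hZE : zQ Q ≤ E := fun z hz => centralizer_mem_of_centric hE.1 (hQS (zQ_le hz)) fun y hy =>
    comm_of_mem_zQ hz y (hEQ hy)
  have hd : ∀ g ∈ Q, ∀ x ∈ E, x⁻¹ * (g * x * g⁻¹) ∈ zQ Q := fun g hg x hx => by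
    have := commutator_mem hQ (inv_mem (hEQ hx)) hg
    simpa [commutatorElement_def, mul_assoc] using this
  by_cases hab : ∀ a b : E, a * b = b * a
  swap
  · refine hqE (mem_of_displacement hS hQS hQ hQn hE hZE (fun a ha b hb =>
      commutator_mem hQ (hEQ ha) (hEQ hb)) hab ⟨hQS hq, mem_normalizer_of_conj_mem hE.1.1
        fun x hx => ?_⟩ (hd q hq))
    simpa using mul_mem hx (hZE (hd q hq x hx))
  have hS' : Nat.card S = Nat.card Q * p := by
    rw [← Subgroup.card_mul_index (Q.subgroupOf S), hQi,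
      Nat.card_congr (Subgroup.subgroupOfEquivOfLe hQS).toEquiv]
  have h5 : p ^ 5 ≤ Nat.card Q := by
    rw [hS', pow_succ] at h6
    exact Nat.le_of_mul_le_mul_right h6 hp.out.pos
  have key : Nat.card Q ≤ p * Nat.card E := by
    by_contra hgt
    refine hgt (shears_bound hS hQS hQ hQn hF hE hab hZE hEQ hQS hd ?_)
    calc Nat.card (normalizerIn S E) * Nat.card E ≤ Nat.card S * Nat.card E :=
            Nat.mul_le_mul_right _ (card_le_of_le le_rfl (normalizerIn_le_S E))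
        _ = Nat.card Q * (p * Nat.card E) := by rw [hS']; ring
        _ < Nat.card Q * Nat.card Q := Nat.mul_lt_mul_of_pos_left (not_le.1 hgt) Nat.card_pos
  have h3 := card_le_of_abelian hS hQS hQ hEQ
    (fun a ha b hb => congrArg Subtype.val (hab ⟨a, ha⟩ ⟨b, hb⟩)) hq hqE key
  have : p ^ 3 < p ^ 5 := Nat.pow_lt_pow_right hp.out.one_lt (by norm_num)
  omega

include hS hQS hQ in
/-- In a system with trivial core the centre of `S` is the centre of `Q`. -/
theorem centre_eq (hp2 : p ≠ 2) (hQi : (Q.subgroupOf S).index = p)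
    (hQn : (Q.subgroupOf S).Normal) (hF : F.IsSaturated p) (hO : F.core = ⊥) :
    AbelianIndex.zen S ≤ zQ Q := by
  classical
  intro z₀ hz₀
  by_contra hzZ
  haveI := finite_of_le hQS
  have hz₀Q : z₀ ∉ Q := fun h => hzZ (mem_zQ_of_comm h fun a ha =>
    (AbelianIndex.mem_zen.1 hz₀).2 a (hQS ha))
  have hconj : ∀ s ∈ S, ∀ a ∈ Q, s * a * s⁻¹ ∈ Q := fun s hs a ha =>
    hQn.conj_mem ⟨a, hQS ha⟩ ha ⟨s, hs⟩
  have hz₀S : z₀ ∈ S := hz₀.1
  -- `S = Q⟨z₀⟩`
  have hdec : ∀ s ∈ S, ∃ a ∈ Q, ∃ i : ℤ, s = a * z₀ ^ i := by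
    intro s hs
    haveI := hQn
    have h1 : QuotientGroup.mk' (Q.subgroupOf S) ⟨z₀, hz₀S⟩ ≠ 1 := fun e =>
      hz₀Q (Subgroup.mem_subgroupOf.1 ((QuotientGroup.eq_one_iff _).1 e))
    obtain ⟨i, hi⟩ := Subgroup.mem_zpowers_iff.1 (mem_zpowers_of_prime_card
      (show Nat.card (S ⧸ Q.subgroupOf S) = p from hQi) h1
      (g' := QuotientGroup.mk' (Q.subgroupOf S) ⟨s, hs⟩))
    rw [← map_zpow] at hi
    have h2 := Subgroup.mem_subgroupOf.1 (QuotientGroup.eq.1 hi)
    refine ⟨s * (z₀ ^ i)⁻¹, ?_, i, (inv_mul_cancel_right _ _).symm⟩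
    have h3 := hconj _ (zpow_mem hz₀S i) _ h2
    rw [Subgroup.coe_mul, InvMemClass.coe_inv, SubgroupClass.coe_zpow] at h3
    simpa [← mul_assoc] using h3
  have hder : ∀ s ∈ S, ∀ t ∈ S, ⁅s, t⁆ ∈ zQ Q := by
    intro s hs t ht
    obtain ⟨a, ha, i, rfl⟩ := hdec s hs
    obtain ⟨b, hb, j, rfl⟩ := hdec t ht
    have hc : ∀ (w : Ω), w ∈ S → ∀ k : ℤ, Commute (z₀ ^ k) w := fun w hw k =>
      ((show Commute w z₀ from (AbelianIndex.mem_zen.1 hz₀).2 w hw).zpow_right k).symm
    rw [show ⁅a * z₀ ^ i, b * z₀ ^ j⁆ = ⁅a, b⁆ from ?_]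
    · exact commutator_mem hQ ha hb
    rw [commutatorElement_def, commutatorElement_def, mul_inv_rev, mul_inv_rev]
    calc a * z₀ ^ i * (b * z₀ ^ j) * ((z₀ ^ i)⁻¹ * a⁻¹) * ((z₀ ^ j)⁻¹ * b⁻¹)
        = a * (z₀ ^ i * (b * z₀ ^ j)) * ((z₀ ^ i)⁻¹ * a⁻¹) * ((z₀ ^ j)⁻¹ * b⁻¹) := by group
      _ = a * b * (z₀ ^ j * a⁻¹ * (z₀ ^ j)⁻¹) * b⁻¹ := by
          rw [(hc _ ht i).eq]; group
      _ = a * b * a⁻¹ * b⁻¹ := by rw [(hc _ (inv_mem (hQS ha)) j).eq, mul_inv_cancel_right]
  have hzenZ : zQ Q ≤ AbelianIndex.zen S := fun w hw => AbelianIndex.mem_zen.2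
    ⟨hQS (zQ_le hw), fun s hs => central hS hQS hQ hQn hw hs⟩
  -- every essential subgroup is abelian of index `p`
  have hess : ∀ P : Subgroup Ω, F.IsEssential p P →
      AbelianIndex.zen S ≤ P ∧ (∀ a ∈ P, ∀ b ∈ P, a * b = b * a) ∧ Nat.card S = p * Nat.card P := by
    intro P hP
    haveI := finite_of_le hP.1.1
    have hzP : AbelianIndex.zen S ≤ P := fun w hw => centralizer_mem_of_centric hP.1 hw.1
      fun y hy => (AbelianIndex.mem_zen.1 hw).2 y (hP.1.1 hy)
    have hd : ∀ g ∈ S, ∀ x ∈ P, x⁻¹ * (g * x * g⁻¹) ∈ zQ Q := fun g hg x hx => by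
      have := hder _ (inv_mem (hP.1.1 hx)) _ hg
      simpa [commutatorElement_def, mul_assoc] using this
    have hN : normalizerIn S P = S := le_antisymm (normalizerIn_le_S P) fun g hg => ⟨hg,
      mem_normalizer_of_conj_mem hP.1.1 fun x hx => by
        simpa using mul_mem hx (hzP (hzenZ (hd g hg x hx)))⟩
    have hPS := essential_lt p hS hF hP
    obtain ⟨g, hg, hgP⟩ := SetLike.exists_of_lt hPS
    have hab : ∀ a b : P, a * b = b * a := by
      by_contra hna
      exact hgP (mem_of_displacement hS hQS hQ hQn hP (hzenZ.trans hzP)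
        (fun a ha b hb => hder a (hP.1.1 ha) b (hP.1.1 hb)) hna (hN.ge hg) (hd g hg))
    refine ⟨hzP, fun a ha b hb => congrArg Subtype.val (hab ⟨a, ha⟩ ⟨b, hb⟩), ?_⟩
    have hlt : Nat.card P < Nat.card S := lt_of_not_ge fun hge =>
      hPS.ne (eq_of_le_of_card_le le_rfl hPS.le hge)
    obtain ⟨a, ha⟩ := IsPGroup.iff_card.1 (isPGroup_of_le hS hP.1.1)
    obtain ⟨b, hb⟩ := IsPGroup.iff_card.1 hS
    have hle : Nat.card S ≤ p * Nat.card P := by
      by_contra hgt
      refine hgt (shears_bound hS hQS hQ hQn hF hP hab (hzenZ.trans hzP) hP.1.1 le_rfl hd ?_)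
      rw [hN]
      exact Nat.mul_lt_mul_of_pos_left hlt Nat.card_pos
    rw [ha, hb] at hlt hle ⊢
    rw [← pow_succ'] at hle ⊢
    have h1 := (Nat.pow_lt_pow_iff_right hp.out.one_lt).1 hlt
    have h2 := (Nat.pow_le_pow_iff_right hp.out.one_lt).1 hle
    rw [show b = a + 1 by omega]
  have hcore : ∀ M : Subgroup Ω, F.IsNormal M → M = ⊥ := fun M hM => le_bot_iff.1 (hO ▸ le_core hM)
  have hSne : S ≠ ⊥ := fun h => hzZ (by
    have : z₀ ∈ (⊥ : Subgroup Ω) := h ▸ hz₀.1
    rw [Subgroup.mem_bot.1 this]; exact one_mem _)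
  by_cases hex : ∃ P, F.IsEssential p P
  swap
  · refine hSne (hcore S (isNormal_of_essential p hS hF (fun P hP => ?_) fun P hP α hα x hx => ?_))
    · exact (hP.resolve_right fun h => hex ⟨P, h⟩).ge
    · have := hP.resolve_right fun h => hex ⟨P, h⟩
      subst this
      exact (α x).2
  obtain ⟨P₀, hP₀⟩ := hex
  have hna : ¬ ∀ a ∈ S, ∀ b ∈ S, a * b = b * a := by
    intro h
    obtain ⟨g, hg, hgP⟩ := SetLike.exists_of_lt (essential_lt p hS hF hP₀)
    exact hgP (centralizer_mem_of_centric hP₀.1 hg fun y hy => h y (hP₀.1.1 hy) g hg)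
  -- setups avoiding a given essential subgroup
  have hset : ∀ P : Subgroup Ω, F.IsEssential p P →
      ∃ A, A ≠ P ∧ AbelianIndex.Setup p S A := by
    intro P hP
    obtain ⟨hzP, hPab, hPcard⟩ := hess P hP
    obtain ⟨q, hq, hqP⟩ := SetLike.exists_of_lt (essential_lt p hS hF hP)
    set A := AbelianIndex.zen S ⊔ Subgroup.zpowers q with hA
    have hAS : A ≤ S := sup_le inf_le_left (Subgroup.zpowers_le.2 hq)
    have hcomm : ∀ a ∈ A, ∀ b ∈ A, a * b = b * a := by
      have hle : A ≤ Subgroup.centralizer (A : Set Ω) := by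
        refine sup_le (fun w hw => Subgroup.mem_centralizer_iff.2 fun u hu =>
          (AbelianIndex.mem_zen.1 hw).2 u (hAS hu)) (Subgroup.zpowers_le.2 ?_)
        refine Subgroup.mem_centralizer_iff.2 fun u hu => ?_
        have : A ≤ Subgroup.centralizer ({q} : Set Ω) := sup_le (fun w hw =>
          Subgroup.mem_centralizer_singleton_iff.2 ((AbelianIndex.mem_zen.1 hw).2 q hq).symm)
          (Subgroup.zpowers_le.2 (Subgroup.mem_centralizer_singleton_iff.2 rfl))
        exact Subgroup.mem_centralizer_singleton_iff.1 (this hu)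
      exact fun a ha b hb => Subgroup.mem_centralizer_iff.1 (hle hb) a ha
    refine ⟨A, fun e => hqP (e ▸ Subgroup.mem_sup_right (Subgroup.mem_zpowers q)),
      hS, hAS, hcomm, ?_, hna⟩
    -- `|S : Z(S)| = p ^ 2`
    haveI := finite_of_le hAS
    haveI := finite_of_le hP.1.1
    haveI : Finite (AbelianIndex.zen S) := finite_of_le inf_le_left
    let f : P →* zQ Q := MonoidHom.mk'
      (fun x => ⟨⁅q, (x : Ω)⁆, hder q hq x (hP.1.1 x.2)⟩) fun a b => Subtype.ext (by
        show ⁅q, (a : Ω) * b⁆ = ⁅q, (a : Ω)⁆ * ⁅q, (b : Ω)⁆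
        have h1 := central hS hQS hQ hQn (hder q hq b (hP.1.1 b.2)) (hP.1.1 a.2)
        calc ⁅q, (a : Ω) * b⁆ = ⁅q, (a : Ω)⁆ * ((a : Ω) * ⁅q, (b : Ω)⁆ * (a : Ω)⁻¹) := by
              simp only [commutatorElement_def]; group
          _ = _ := by rw [h1, mul_inv_cancel_right])
    haveI : Finite (zQ Q) := Nat.finite_of_card_ne_zero (by rw [card_zQ hQ]; exact hp.out.ne_zero)
    have hker : Nat.card f.ker ≤ Nat.card (AbelianIndex.zen S) := by
      refine Nat.card_le_card_of_injective (fun e => ⟨((e : P) : Ω), ?_⟩)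
        fun a b h => Subtype.ext (Subtype.ext (congrArg Subtype.val h :))
      refine AbelianIndex.mem_zen.2 ⟨hP.1.1 (e : P).2, fun s hs => ?_⟩
      set K := S ⊓ Subgroup.centralizer ({((e : P) : Ω)} : Set Ω) with hK
      suffices hKS : S ≤ K from Subgroup.mem_centralizer_singleton_iff.1 (hKS hs).2
      have hPK : P < K := by
        refine lt_of_le_of_ne (fun w hw => ⟨hP.1.1 hw,
          Subgroup.mem_centralizer_singleton_iff.2 (hPab w hw _ (e : P).2)⟩) fun e' => hqP (e'.ge ?_)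
        exact ⟨hq, Subgroup.mem_centralizer_singleton_iff.2
          (commutatorElement_eq_one_iff_mul_comm.1 (congrArg Subtype.val (show f (e : P) = 1 from e.2)))⟩
      refine (eq_of_le_of_card_le le_rfl inf_le_left ?_).ge
      haveI := finite_of_le (inf_le_left : K ≤ S)
      obtain ⟨a, ha⟩ := IsPGroup.iff_card.1 (isPGroup_of_le hS hP.1.1)
      obtain ⟨b, hb⟩ := IsPGroup.iff_card.1 (isPGroup_of_le hS (inf_le_left : K ≤ S))
      have h1 : Nat.card P < Nat.card K := lt_of_not_ge fun hge =>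
        hPK.ne (eq_of_le_of_card_le inf_le_left hPK.le hge)
      rw [ha, hb] at h1
      rw [hPcard, ha, hb, ← pow_succ']
      exact Nat.pow_le_pow_right hp.out.pos ((Nat.pow_lt_pow_iff_right hp.out.one_lt).1 h1)
    have hPle : Nat.card P ≤ Nat.card (AbelianIndex.zen S) * p := by
      rw [← Subgroup.card_mul_index f.ker, Subgroup.index_ker]
      exact Nat.mul_le_mul hker ((Subgroup.card_le_card_group _).trans (card_zQ hQ).le)
    have hAlt : Nat.card (AbelianIndex.zen S) < Nat.card A := lt_of_not_ge fun hge => by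
      have e' := eq_of_le_of_card_le hAS le_sup_left hge
      exact hqP (hzP (e'.ge (Subgroup.mem_sup_right (Subgroup.mem_zpowers q))))
    have hAidx : (A.subgroupOf S).index ≠ 1 := fun h1 => hna
      fun a ha b hb => hcomm a (Subgroup.subgroupOf_eq_top.1 (Subgroup.index_eq_one.1 h1) ha)
        b (Subgroup.subgroupOf_eq_top.1 (Subgroup.index_eq_one.1 h1) hb)
    obtain ⟨u, hu⟩ := IsPGroup.iff_card.1 (isPGroup_of_le hS (inf_le_left : AbelianIndex.zen S ≤ S))
    obtain ⟨v, hv⟩ := IsPGroup.iff_card.1 (isPGroup_of_le hS hAS)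
    obtain ⟨w, hw⟩ := IsPGroup.iff_card.1 (isPGroup_of_le hS hP.1.1)
    obtain ⟨j, hj⟩ := hS.index (A.subgroupOf S)
    have h1 := Subgroup.card_mul_index (A.subgroupOf S)
    rw [hj, Nat.card_congr (Subgroup.subgroupOfEquivOfLe hAS).toEquiv, hPcard, hv, hw, ← pow_add,
      ← pow_succ'] at h1
    have h2 := Nat.pow_right_injective hp.out.two_le h1
    rw [hw, hu, ← pow_succ, Nat.pow_le_pow_iff_right hp.out.one_lt] at hPle
    rw [hu, hv, Nat.pow_lt_pow_iff_right hp.out.one_lt] at hAlt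
    rw [hj] at hAidx ⊢
    have hj0 : j ≠ 0 := fun h0 => hAidx (by rw [h0, pow_zero])
    rw [show j = 1 by omega, pow_one]
  obtain ⟨A₀, hA₀ne, hs₀⟩ := hset P₀ hP₀
  obtain ⟨hD, ⟨W, hW, hWd, hWc⟩, -⟩ :=
    AbelianIndex.abelian_essential hs₀ hF hP₀ hA₀ne.symm (hess P₀ hP₀).2.1
  -- an invariant complement of the derived part of the centre
  haveI hzf : Finite (AbelianIndex.zen S) := finite_of_le inf_le_left
  have hzi : ∀ α ∈ F.autGroup S, ∀ x ∈ (AbelianIndex.zen S).subgroupOf S,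
      α x ∈ (AbelianIndex.zen S).subgroupOf S := by
    intro α _ x hx
    refine Subgroup.mem_subgroupOf.2 (AbelianIndex.mem_zen.2 ⟨(α x).2, fun s hs => ?_⟩)
    have h1 : (α.symm ⟨s, hs⟩ : S) * x = x * α.symm ⟨s, hs⟩ :=
      Subtype.ext ((AbelianIndex.mem_zen.1 (Subgroup.mem_subgroupOf.1 hx)).2 _ (α.symm ⟨s, hs⟩).2)
    have h2 := congrArg α h1
    rw [map_mul, map_mul, MulEquiv.apply_symm_apply] at h2
    exact congrArg Subtype.val h2
  let r : F.autGroup S →* MulAut ((AbelianIndex.zen S).subgroupOf S) :=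
    CfsgLib.Coprime.restrictAut (F.autGroup S).subtype _ fun a x hx => hzi _ a.2 x hx
  let Z' : Subgroup ((AbelianIndex.zen S).subgroupOf S) :=
    ((zQ Q).subgroupOf S).subgroupOf ((AbelianIndex.zen S).subgroupOf S)
  let W' : Subgroup ((AbelianIndex.zen S).subgroupOf S) :=
    (W.subgroupOf S).subgroupOf ((AbelianIndex.zen S).subgroupOf S)
  have hsub : ∀ {K : Subgroup Ω}, K ≤ AbelianIndex.zen S →
      Nat.card ((K.subgroupOf S).subgroupOf ((AbelianIndex.zen S).subgroupOf S)) = Nat.card K :=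
    fun {K} hK => by
      rw [Nat.card_congr (Subgroup.subgroupOfEquivOfLe (show K.subgroupOf S ≤ (AbelianIndex.zen S).subgroupOf S from fun w hw => hK hw)).toEquiv,
        Nat.card_congr (Subgroup.subgroupOfEquivOfLe (hK.trans inf_le_left)).toEquiv]
  have hDeq : ⁅S, S⁆ ⊓ AbelianIndex.zen S = zQ Q := by
    have hle : ⁅S, S⁆ ≤ zQ Q := Subgroup.commutator_le.2 hder
    refine eq_of_le_of_card_le (zQ_le.trans hQS) (inf_le_left.trans hle) ?_
    rw [card_zQ hQ, hD]
  have hcop : (Nat.card ((AbelianIndex.zen S).subgroupOf S)).Coprime (Nat.card r.range) := by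
    obtain ⟨k, hk⟩ := IsPGroup.iff_card.1 (hS.to_subgroup ((AbelianIndex.zen S).subgroupOf S))
    rw [hk]
    refine Nat.Coprime.pow_left _ (hp.out.coprime_iff_not_dvd.2 fun hd => ?_)
    haveI : Finite (MulAut S) := finite_mulAut
    obtain ⟨-, R, hR⟩ := (good_of_fullyNormalized p hS hF isFullyNormalized_S).1
    have hinn : (R : Subgroup (F.autGroup S)) ≤ r.ker := by
      intro a ha
      rw [hR, Subgroup.mem_subgroupOf] at ha
      obtain ⟨g, hg, hga⟩ := mem_autInducedBy.1 ha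
      rw [MonoidHom.mem_ker]
      refine MulEquiv.ext fun x => Subtype.ext (Subtype.ext ?_)
      show (((a : MulAut S) (x : S) : S) : Ω) = ((x : S) : Ω)
      rw [hga, (AbelianIndex.mem_zen.1 (Subgroup.mem_subgroupOf.1 x.2)).2 g hg, mul_inv_cancel_right]
    refine R.not_dvd_index (hd.trans ?_)
    rw [← Subgroup.index_ker]
    exact Subgroup.index_dvd_of_le hinn
  obtain ⟨M', hMi, hMd, hMc⟩ := ShearPair.exists_invariant_compl'
    (A := (AbelianIndex.zen S).subgroupOf S)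
    (fun x y => Subtype.ext (Subtype.ext ((AbelianIndex.mem_zen.1
      (Subgroup.mem_subgroupOf.1 y.2)).2 _ (x : S).2)))
    r.range hcop Z' W' (by
      rintro _ ⟨a, rfl⟩ w hw
      refine Subgroup.mem_subgroupOf.2 (Subgroup.mem_subgroupOf.2 ?_)
      rw [← hDeq]
      refine ⟨?_, Subgroup.mem_subgroupOf.1 (r a w).2⟩
      have hw' : ((w : S) : Ω) ∈ ⁅S, S⁆ :=
        (hDeq.ge (Subgroup.mem_subgroupOf.1 (Subgroup.mem_subgroupOf.1 hw))).1
      have e : ⁅S, S⁆ = (commutator S).map S.subtype := (Subgroup.map_subtype_commutator S).symm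
      rw [e] at hw' ⊢
      obtain ⟨v, hv, hvw⟩ := hw'
      refine ⟨(a : MulAut S) v, Subgroup.characteristic_iff_le_comap.1 inferInstance _ hv, ?_⟩
      rw [show v = (w : S) from Subtype.ext hvw]
      rfl)
    (by
      refine eq_bot_iff.2 fun w hw => Subgroup.mem_bot.2 (Subtype.ext (Subtype.ext ?_))
      have h1 : ((w : S) : Ω) ∈ W ⊓ ⁅S, S⁆ := ⟨Subgroup.mem_subgroupOf.1 (Subgroup.mem_subgroupOf.1 hw.2),
        (hDeq.ge (Subgroup.mem_subgroupOf.1 (Subgroup.mem_subgroupOf.1 hw.1))).1⟩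
      rw [hWd, Subgroup.mem_bot] at h1
      exact h1)
    (by
      rw [hsub hzenZ, hsub hW, card_zQ hQ,
        Nat.card_congr (Subgroup.subgroupOfEquivOfLe inf_le_left).toEquiv, ← hWc, mul_comm])
  set M : Subgroup Ω := (M'.map ((AbelianIndex.zen S).subgroupOf S).subtype).map S.subtype with hMdef
  have hMz : M ≤ AbelianIndex.zen S := by
    rintro _ ⟨_, ⟨w, -, rfl⟩, rfl⟩
    exact Subgroup.mem_subgroupOf.1 w.2
  have hMcard : Nat.card M * p = Nat.card (AbelianIndex.zen S) := by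
    rw [hMdef, Subgroup.card_map_of_injective S.subtype_injective,
      Subgroup.card_map_of_injective (Subgroup.subtype_injective _), ← card_zQ hQ, ← hsub hzenZ,
      hMc, Nat.card_congr (Subgroup.subgroupOfEquivOfLe inf_le_left).toEquiv]
  have hMdis : M ⊓ ⁅S, S⁆ = ⊥ := by
    refine eq_bot_iff.2 fun x hx => Subgroup.mem_bot.2 ?_
    obtain ⟨⟨_, ⟨w, hw, rfl⟩, rfl⟩, hxD⟩ := hx
    have : w ∈ Z' ⊓ M' := ⟨Subgroup.mem_subgroupOf.2 (Subgroup.mem_subgroupOf.2
      (hDeq.le ⟨hxD, Subgroup.mem_subgroupOf.1 w.2⟩)), hw⟩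
    rw [hMd, Subgroup.mem_bot] at this
    rw [this]; rfl
  have hSinv : ∀ α ∈ F.autGroup S, ∀ x : S, (x : Ω) ∈ M → ((α x : S) : Ω) ∈ M := by
    intro α hα x hx
    obtain ⟨_, ⟨w, hw, rfl⟩, hwx⟩ := hx
    rw [← Subtype.ext (show ((w : S) : Ω) = x from hwx)]
    exact ⟨_, ⟨r ⟨α, hα⟩ w, hMi _ ⟨_, rfl⟩ w hw, rfl⟩, rfl⟩
  have hnorm : F.IsNormal M := by
    refine isNormal_of_essential p hS hF (fun P hP => ?_) fun P hP α hα x hx => ?_
    · rcases hP with rfl | hP
      · exact hMz.trans inf_le_left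
      · exact hMz.trans (hess P hP).1
    · rcases hP with rfl | hP
      · exact hSinv α hα x hx
      obtain ⟨A, hAne, hs⟩ := hset P hP
      refine (AbelianIndex.abelian_essential hs hF hP hAne.symm (hess P hP).2.1).2.2 hp2 M hMz hMdis
        hMcard (fun R φ hφ hR y hy => ?_) α hα x hx
      have hRS : R = S := by
        haveI := finite_of_le hP.1.1
        haveI := finite_of_le (le_of_mem_hom hφ)
        refine eq_of_le_of_card_le le_rfl (le_of_mem_hom hφ) ?_
        obtain ⟨a, ha⟩ := IsPGroup.iff_card.1 (isPGroup_of_le hS hP.1.1)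
        obtain ⟨b, hb⟩ := IsPGroup.iff_card.1 (isPGroup_of_le hS (le_of_mem_hom hφ))
        rw [ha, hb] at hR
        rw [(hess P hP).2.2, ha, hb, ← pow_succ']
        exact Nat.pow_le_pow_right hp.out.pos ((Nat.pow_lt_pow_iff_right hp.out.one_lt).1 hR)
      subst hRS
      exact hSinv _ (autOfRange_mem hφ (range_eq_S hφ)) y hy
  -- `M` is nontrivial
  have hMbot := hcore M hnorm
  rw [hMbot, Subgroup.card_bot, one_mul] at hMcard
  refine hzZ ?_
  rw [eq_of_le_of_card_le inf_le_left hzenZ (by rw [← hMcard, card_zQ hQ])]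
  exact hz₀

end CfsgLib.Fusion.ExtraspecialIndexP
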