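import Cfsg.Agent.Fusion.PPrime.Twist
import Cfsg.Agent.Fusion.LocalSaturation
import Cfsg.Agent.Fusion.Local

/-!
A saturated system over a product of two strongly closed subgroups: the full subsystem over a
factor and the part of it that centralizes the other factor.
-/

set_option autoImplicit false
set_option linter.unusedSectionVars false
set_option linter.style.haveILetI false

open Cfsg Cfsg.FusionSystem

namespace CfsgLib.Fusion

variable {Ω : Type*} [Group Ω] {S T A B : Subgroup Ω} [Finite S] {F : FusionSystem S}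

/-- The full subsystem over a strongly closed subgroup with `S = T C_S(T)` is saturated. -/
theorem full_saturated (p : ℕ) [Fact p.Prime] (hS : IsPGroup p S) (hF : F.IsSaturated p)
    (hT : F.StronglyClosed T) (hdec : ∀ g ∈ S, ∃ t ∈ T, ∀ x ∈ T, t * x * t⁻¹ = g * x * g⁻¹)
    {E : FusionSystem T} (hE : ∀ P : Subgroup Ω, P ≤ T → E.Hom P = F.Hom P) :
    E.IsSaturated p := by
  intro P hP
  obtain ⟨Q, hPQ, hQ⟩ := exists_fullyNormalized F (hP.trans hT.1)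
  obtain ⟨φ, hφ, hr⟩ := hPQ
  have hQT : Q ≤ T := hr ▸ by
    rintro _ ⟨x, rfl⟩
    exact hT.2 P hP φ hφ x
  obtain ⟨⟨-, Y, hY⟩, hrec⟩ := good_of_fullyNormalized p hS hF hQ
  refine ⟨Q, ⟨φ, by rw [hE P hP]; exact hφ, hr⟩, ⟨hQT, ?_⟩, hQT, fun R ψ hψ hψr => ?_⟩
  · have haut : E.autGroup Q = F.autGroup Q := by
      unfold FusionSystem.autGroup
      rw [hE Q hQT]
    have hind : autInducedBy T Q = autInducedBy S Q := by
      refine le_antisymm (autInducedBy_mono hT.1 Q) fun α hα => ?_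
      obtain ⟨g, hg, hga⟩ := mem_autInducedBy.1 hα
      obtain ⟨t, ht, hte⟩ := hdec g hg
      exact mem_autInducedBy.2 ⟨t, ht, fun x => (hga x).trans (hte x (hQT x.2)).symm⟩
    rw [haut, hind]
    exact ⟨Y, hY⟩
  · have hR : R ≤ T := le_of_mem_hom hψ
    have hle : extender T R ψ ≤ extender S R ψ := by
      refine Subgroup.closure_mono ?_
      rintro g ⟨hg, hgR, h, hh, he⟩
      exact ⟨hT.1 hg, hgR, h, hT.1 hh, he⟩
    obtain ⟨χ, hχ, hχe⟩ := receptive_extend hrec (hE R hR ▸ hψ : ψ ∈ F.Hom R) hψr hle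
    exact ⟨χ, by rw [hE _ (extender_le_S R ψ)]; exact hχ, fun x hP hN => hχe x hP hN⟩

theorem im_self (hA : F.StronglyClosed A) {U : Subgroup Ω} {f : Ω → Ω} (hf : Mor F U f)
    (hAU : A ≤ U) : Im f A A := by
  obtain ⟨V, hV⟩ := hf.exists_im hAU
  obtain ⟨φ, hφ, e⟩ := hf.mono hAU
  have hVA : V ≤ A := fun y hy => by
    obtain ⟨x, hx, rfl⟩ := hV.surj hy
    exact Set.mem_of_eq_of_mem (e ⟨x, hx⟩).symm (hA.2 A le_rfl φ hφ ⟨x, hx⟩)
  have h : V = A := eq_of_le_of_card_le hA.1 hVA (hf.card_im hAU hV).ge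
  rwa [h] at hV

theorem stronglyClosed_mor (hA : F.StronglyClosed A) {U : Subgroup Ω} {f : Ω → Ω}
    (hf : Mor F U f) {x : Ω} (hx : x ∈ U) (hxA : x ∈ A) : f x ∈ A := by
  obtain ⟨φ, hφ, e⟩ := hf.mono (inf_le_left : U ⊓ A ≤ U)
  exact Set.mem_of_eq_of_mem (e ⟨x, hx, hxA⟩).symm (hA.2 _ inf_le_right φ hφ _)

theorem exists_mul_sup_comm {P : Subgroup Ω} (hcomm : ∀ a ∈ P, ∀ b ∈ B, a * b = b * a) {x : Ω}
    (hx : x ∈ P ⊔ B) : ∃ u ∈ P, ∃ b ∈ B, x = u * b := by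
  have hn : P ≤ Subgroup.normalizer (B : Set Ω) := fun a ha => by
    rw [Subgroup.mem_normalizer_iff]
    intro b
    constructor
    · intro hb
      rwa [hcomm a ha b hb, mul_inv_cancel_right]
    · intro hb
      have h := hcomm a⁻¹ (inv_mem ha) _ hb
      have e : b = a * b * a⁻¹ := by
        calc b = a⁻¹ * (a * b * a⁻¹) * a := by group
          _ = a * b * a⁻¹ := by rw [h, inv_mul_cancel_right]
      rwa [e]
  have h : x ∈ ((P ⊔ B : Subgroup Ω) : Set Ω) := hx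
  rw [Subgroup.coe_mul_of_left_le_normalizer_right P B hn] at h
  obtain ⟨u, hu, c, hc, rfl⟩ := h
  exact ⟨u, hu, c, hc, rfl⟩

/-- A map on a subgroup of one factor extends to the other factor. -/
theorem ext_along (p : ℕ) [Fact p.Prime] (hS : IsPGroup p S) (hF : F.IsSaturated p)
    (hA : F.StronglyClosed A) (hB : F.StronglyClosed B)
    (hcomm : ∀ a ∈ A, ∀ b ∈ B, a * b = b * a) {P : Subgroup Ω} (hP : P ≤ A) {f : Ω → Ω}
    (hf : Mor F P f) :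
    ∃ g, Mor F (P ⊔ B) g ∧ (∀ x ∈ P, g x = f x) ∧ Im g B B := by
  obtain ⟨Q, hQ⟩ := hf.exists_im (le_refl P)
  have hQA : Q ≤ A := fun y hy => by
    obtain ⟨x, hx, rfl⟩ := hQ.surj hy
    exact stronglyClosed_mor hA hf hx (hP hx)
  obtain ⟨Q', hQQ', hQ'⟩ := exists_fullyNormalized F (hQA.trans hA.1)
  obtain ⟨χ, hχ, hχi⟩ := isConj_iff_mor.1 hQQ'
  have hrec := (good_of_fullyNormalized p hS hF hQ').2
  have hN : ∀ {R : Subgroup Ω} (k : Ω → Ω), R ≤ A → ∀ b ∈ B,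
      b ∈ S ∧ b ∈ Subgroup.normalizer (R : Set Ω) ∧ ∃ h ∈ S, ∀ x ∈ R,
        k (b * x * b⁻¹) = h * k x * h⁻¹ := by
    intro R k hR b hb
    have hfix : ∀ x ∈ R, b * x * b⁻¹ = x := fun x hx => by
      rw [← hcomm x (hR hx) b hb, mul_inv_cancel_right]
    refine ⟨hB.1 hb, mem_normalizer_of_conj_mem (hR.trans hA.1) fun x hx => ?_, 1, one_mem _,
      fun x hx => ?_⟩
    · rw [hfix x hx]; exact hx
    · rw [hfix x hx, one_mul, inv_one, mul_one]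
  obtain ⟨χ', hχ', hχe⟩ := receptive_mor (N := B) hrec hχ hχi (hN χ hQA)
  obtain ⟨g', hg', hge⟩ := receptive_mor (N := B) hrec (hf.comp hχ fun x hx => hQ.mem hx)
    (hQ.comp hχi) (hN (χ ∘ f) hP)
  rw [sup_comm] at hχ' hg'
  obtain ⟨V, hV⟩ := hχ'.exists_im (le_refl _)
  obtain ⟨i, hi, -, hi1, -⟩ := hχ'.exists_inv hV
  have hmap : ∀ x ∈ P ⊔ B, g' x ∈ V := fun x hx => by
    obtain ⟨u, hu, b, hb, rfl⟩ := exists_mul_sup_comm (fun a ha => hcomm a (hP ha)) hx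
    rw [hg'.map_mul (Subgroup.mem_sup_left hu) (Subgroup.mem_sup_right hb), hge u hu]
    refine mul_mem ?_ ?_
    · show χ (f u) ∈ V
      rw [← hχe _ (hQ.mem hu)]
      exact hV.mem (Subgroup.mem_sup_left (hQ.mem hu))
    · obtain ⟨b', hb', e⟩ := (im_self hB hχ' le_sup_right).surj
        ((im_self hB hg' le_sup_right).mem hb)
      exact e ▸ hV.mem (Subgroup.mem_sup_right hb')
  have hg := hg'.comp hi hmap
  refine ⟨i ∘ g', hg, fun x hx => ?_, im_self hB hg le_sup_right⟩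
  show i (g' x) = f x
  rw [hge x hx]
  show i (χ (f x)) = f x
  rw [← hχe _ (hQ.mem hx), hi1 _ (Subgroup.mem_sup_left (hQ.mem hx))]

/-- **The factors of a system over a product.** -/
theorem factor_pair (p : ℕ) [Fact p.Prime] (hS : IsPGroup p S) (hF : F.IsSaturated p)
    {S₁ S₂ : Subgroup Ω} (hprod : IsInternalDirectProduct S₁ S₂ S) (h₁ : F.StronglyClosed S₁)
    (h₂ : F.StronglyClosed S₂) {R R' : FusionSystem S₁}
    (hR : ∀ P : Subgroup Ω, P ≤ S₁ → R.Hom P = F.Hom P)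
    (hR' : ∀ P : Subgroup Ω, P ≤ S₁ → R'.Hom P = F.centralizerHom S₂ P) :
    R.IsSaturated p ∧ R'.IsSaturated p ∧ R'.IsNormalIn F p ∧ R'.IsNormalIn R p ∧
      R.IsWeaklyNormalIn F p := by
  obtain ⟨hS₁, hS₂, hcomm, -, hsup⟩ := hprod
  have hsplit : ∀ g ∈ S, ∃ a ∈ S₁, ∃ b ∈ S₂, g = a * b := fun g hg =>
    exists_mul_sup_comm hcomm (hsup.symm ▸ hg)
  have hcent : S₁ ≤ centralizerIn S S₂ := fun a ha =>
    mem_centralizerIn.2 ⟨hS₁ ha, fun b hb => (hcomm a ha b hb).symm⟩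
  have hfix : ∀ a ∈ S₁, ∀ b ∈ S₂, b * a * b⁻¹ = a := fun a ha b hb => by
    rw [← hcomm a ha b hb, mul_inv_cancel_right]
  have hdec : ∀ g ∈ S, ∃ t ∈ S₁, ∀ x ∈ S₁, t * x * t⁻¹ = g * x * g⁻¹ := fun g hg => by
    obtain ⟨a, ha, b, hb, rfl⟩ := hsplit g hg
    refine ⟨a, ha, fun x hx => ?_⟩
    rw [show a * b * x * (a * b)⁻¹ = a * (b * x * b⁻¹) * a⁻¹ by group, hfix x hx b hb]
  have hRsat : R.IsSaturated p := full_saturated p hS hF h₁ hdec hR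
  have hfc : F.IsFullyCentralized S₂ := by
    refine ⟨hS₂, fun Q hQ => ?_⟩
    obtain ⟨f, hf, hfi⟩ := isConj_iff_mor.1 hQ
    exact le_of_eq (by rw [hfi.unique (im_self h₂ hf le_rfl)])
  let C := centSystem F S₂ hS₂
  have hR'sat : R'.IsSaturated p := by
    have : Finite (centralizerIn S S₂) := finite_of_le (centralizerIn_le_S _)
    refine full_saturated (F := C) p (isPGroup_of_le hS (centralizerIn_le_S _))
      (centralizerSystem_saturated p hS hF hfc (centSystem_spec F S₂ hS₂))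
      ⟨hcent, fun Q hQ φ hφ x => h₁.2 Q hQ φ (centSystem_spec F S₂ hS₂ Q ▸ hφ).1 x⟩
      (fun g hg => hdec g (centralizerIn_le_S _ hg)) fun P hP => ?_
    rw [hR' P hP, centSystem_spec F S₂ hS₂ P]
  have hR'F : R'.IsSubsystemOf F := fun P φ h => by
    rw [hR' P (le_of_mem_hom h)] at h
    exact h.1
  have hRF : R.IsSubsystemOf F := fun P φ h => by
    rw [hR P (le_of_mem_hom h)] at h
    exact h
  have hR'R : R'.IsSubsystemOf R := fun P φ h => by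
    rw [hR P (le_of_mem_hom h)]
    exact hR'F P h
  have hautR : ∀ α ∈ R.autGroup S₁, α ∈ F.autGroup S₁ := fun α hα => autGroup_mono' hRF S₁ hα
  -- membership in the centralizing part
  have hmk : ∀ {P : Subgroup Ω} {k : Ω → Ω}, P ≤ S₁ → Mor F (P ⊔ S₂) k → (∀ b ∈ S₂, k b = b) →
      ∃ φ ∈ R'.Hom P, ∀ x : P, φ x = k x := by
    intro P k hP hk hkb
    obtain ⟨ψ, hψ, e⟩ := hk
    refine ⟨ψ.comp (Subgroup.inclusion le_sup_left), ?_, fun x => e _⟩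
    rw [hR' P hP]
    refine ⟨restrict_mem hψ le_sup_left, hP.trans hcent, fun x => hcent ?_, ψ, hψ, fun _ => rfl,
      fun b => (e _).trans (hkb b b.2)⟩
    exact Set.mem_of_eq_of_mem (e _) (stronglyClosed_mor h₁ ⟨ψ, hψ, e⟩
      (Subgroup.mem_sup_left x.2) (hP x.2))
  have hget : ∀ {P : Subgroup Ω} {φ : P →* Ω}, φ ∈ R'.Hom P → ∃ k, Mor F (P ⊔ S₂) k ∧
      (∀ x : P, k x = φ x) ∧ ∀ b ∈ S₂, k b = b := by
    intro P φ hφ
    rw [hR' P (le_of_mem_hom hφ)] at hφ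
    obtain ⟨-, -, -, ψ, hψ, he, hfx⟩ := hφ
    obtain ⟨k, hk, hke⟩ := Mor.of_mem hψ
    exact ⟨k, hk, fun x => (hke _).trans (he x), fun b hb => (hke _).trans (hfx ⟨b, hb⟩)⟩
  have hinvR' : ∀ (P : Subgroup Ω) (hPT : P ≤ S₁) (φ : P →* Ω), φ ∈ R'.Hom P →
      ∀ α ∈ F.autGroup S₁,
      ∃ χ ∈ R'.Hom ((P.subgroupOf S₁).map (S₁.subtype.comp α.toMonoidHom)),
        ∀ (x : P) (hφx : φ x ∈ S₁)
          (hαx : ((α ⟨x, hPT x.2⟩ : S₁) : Ω) ∈
            (P.subgroupOf S₁).map (S₁.subtype.comp α.toMonoidHom)),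
          χ ⟨(α ⟨x, hPT x.2⟩ : S₁), hαx⟩ = ((α ⟨φ x, hφx⟩ : S₁) : Ω) := by
    intro P hPT φ hφ α hα
    obtain ⟨k, hk, hke, hkb⟩ := hget hφ
    obtain ⟨a, ha, -, hae⟩ := exists_mor_of_aut hS₁ hα
    obtain ⟨g, hg, hge, hgB⟩ := ext_along p hS hF h₁ h₂ hcomm le_rfl ha
    rw [hsup] at hg
    obtain ⟨V, hV⟩ := hg.exists_im (le_refl S)
    obtain ⟨i, hi, -, hi1, -⟩ := hg.exists_inv hV
    set P' := (P.subgroupOf S₁).map (S₁.subtype.comp α.toMonoidHom) with hP'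
    have hP'S₁ : P' ≤ S₁ := by
      rintro _ ⟨x, -, rfl⟩
      exact SetLike.coe_mem _
    have hform : ∀ y ∈ P' ⊔ S₂, ∃ x ∈ P ⊔ S₂, g x = y := by
      intro y hy
      obtain ⟨u, hu, b, hb, rfl⟩ := exists_mul_sup_comm (fun a ha => hcomm a (hP'S₁ ha)) hy
      obtain ⟨⟨x, hxS⟩, hx, rfl⟩ := hu
      obtain ⟨b', hb', rfl⟩ := hgB.surj hb
      refine ⟨x * b', mul_mem (Subgroup.mem_sup_left hx) (Subgroup.mem_sup_right hb'), ?_⟩
      rw [hg.map_mul (hS₁ hxS) (hS₂ hb'), hge x hxS]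
      exact congrArg (· * _) (hae ⟨x, hxS⟩)
    have hPS : P ⊔ S₂ ≤ S := sup_le (hPT.trans hS₁) hS₂
    have hle : P' ⊔ S₂ ≤ V := fun y hy => by
      obtain ⟨x, hx, rfl⟩ := hform y hy
      exact hV.mem (hPS hx)
    have hK := ((hi.mono hle).comp hk fun y hy => by
      obtain ⟨x, hx, rfl⟩ := hform y hy
      rw [hi1 x (hPS hx)]
      exact hx).comp hg fun y hy => by
      obtain ⟨x, hx, rfl⟩ := hform y hy
      show k (i (g x)) ∈ S
      rw [hi1 x (hPS hx)]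
      exact hk.mem_S hx
    obtain ⟨χ, hχ, hχe⟩ := hmk hP'S₁ hK fun b hb => by
      obtain ⟨b', hb', rfl⟩ := hgB.surj hb
      show g (k (i (g b'))) = g b'
      rw [hi1 b' (hS₂ hb'), hkb b' hb']
    refine ⟨χ, hχ, fun x hφx hαx => (hχe _).trans ?_⟩
    show g (k (i ((α ⟨x, hPT x.2⟩ : S₁) : Ω))) = _
    rw [← hae ⟨x, hPT x.2⟩, ← hge x (hPT x.2), hi1 x (hS₁ (hPT x.2)), hke x, hge _ hφx]
    exact hae ⟨_, hφx⟩
  have hfrat : ∀ (P : Subgroup Ω), P ≤ S₁ → ∀ (φ : P →* Ω), φ ∈ F.Hom P →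
      ∃ α ∈ F.autGroup S₁, ∃ φ₀ ∈ R'.Hom P, ∀ (x : P) (hx : φ₀ x ∈ S₁),
        φ x = ((α ⟨φ₀ x, hx⟩ : S₁) : Ω) := by
    intro P hP φ hφ
    obtain ⟨f, hf, hfe⟩ := Mor.of_mem hφ
    obtain ⟨g, hg, hge, hgB⟩ := ext_along p hS hF h₁ h₂ hcomm hP hf
    obtain ⟨h, hh, hhe, hhA⟩ := ext_along p hS hF h₂ h₁ (fun a ha b hb => (hcomm b hb a ha).symm)
      le_rfl (hg.mono le_sup_right)
    obtain ⟨V, hV⟩ := hh.exists_im (le_refl _)
    obtain ⟨i, hi, -, hi1, hi2⟩ := hh.exists_inv hV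
    have hgV : ∀ x ∈ P ⊔ S₂, g x ∈ V := fun x hx => by
      obtain ⟨u, hu, b, hb, rfl⟩ := exists_mul_sup_comm (fun a ha => hcomm a (hP ha)) hx
      rw [hg.map_mul (Subgroup.mem_sup_left hu) (Subgroup.mem_sup_right hb)]
      refine mul_mem ?_ ?_
      · obtain ⟨z, hz, e⟩ := hhA.surj (stronglyClosed_mor h₁ hg (Subgroup.mem_sup_left hu) (hP hu))
        exact e ▸ hV.mem (Subgroup.mem_sup_right hz)
      · rw [← hhe b hb]
        exact hV.mem (Subgroup.mem_sup_left hb)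
    obtain ⟨φ₀, hφ₀, hφ₀e⟩ := hmk hP (hg.comp hi hgV) fun b hb => by
      show i (g b) = b
      rw [← hhe b hb, hi1 b (Subgroup.mem_sup_left hb)]
    obtain ⟨α, hα, hαe⟩ := hh.exists_aut le_sup_right hhA
    refine ⟨α, hα, φ₀, hφ₀, fun x hx => ?_⟩
    rw [hαe]
    show φ x = h (φ₀ x)
    rw [hφ₀e x]
    show φ x = h (i (g x))
    rw [hi2 _ (hgV x (Subgroup.mem_sup_left x.2)), hge x x.2, hfe x]
  refine ⟨hRsat, hR'sat, ⟨⟨hR'sat, hF, hR'F, h₁, hinvR', hfrat⟩, fun α hα => ?_⟩,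
    ⟨⟨hR'sat, hRsat, hR'R, ⟨le_rfl, fun Q _ φ hφ x => apply_mem_S hφ x⟩, ?_, ?_⟩, fun α hα => ?_⟩,
    hRsat, hF, hRF, h₁, ?_, ?_⟩
  · obtain ⟨k, hk, hke, hkb⟩ := hget ((autGroup_carrier le_rfl).1 hα)
    rw [hsup] at hk
    have hU : S₁ ⊔ centralizerIn S S₁ = S := le_antisymm (sup_le hS₁ (centralizerIn_le_S _))
      (hsup.symm.le.trans (sup_le_sup le_rfl fun b hb =>
        mem_centralizerIn.2 ⟨hS₂ hb, fun a ha => hcomm a ha b hb⟩))
    obtain ⟨β, hβ, hβe⟩ := hk.exists_aut (A := S₁ ⊔ centralizerIn S S₁) hU.le (by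
      rw [hU]
      exact im_self ⟨le_rfl, fun Q _ φ hφ x => apply_mem_S hφ x⟩ hk le_rfl)
    refine ⟨β, hβ, fun x => ?_, fun c hc => ?_⟩
    · rw [hβe]
      exact hke x
    · rw [hβe]
      obtain ⟨z, hz, b, hb, e⟩ := hsplit _ hc.1
      have hzc : ∀ y ∈ S₁, y * z = z * y := fun y hy => by
        have h : y * (z * b) = z * b * y := e ▸ hc.2 y hy
        refine mul_right_cancel (b := b) ?_
        rw [mul_assoc, h, mul_assoc z b y, ← hcomm y hy b hb, ← mul_assoc]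
      have hkz : k z ∈ S₁ := stronglyClosed_mor h₁ hk (hS₁ hz) hz
      rw [e, hk.map_mul (hS₁ hz) (hS₂ hb), hkb b hb,
        show (z * b)⁻¹ * (k z * b) = b⁻¹ * (z⁻¹ * k z) * b by group]
      have hzz : z⁻¹ * k z ∈ S₁ := mul_mem (inv_mem hz) hkz
      rw [show b⁻¹ * (z⁻¹ * k z) * b = z⁻¹ * k z by
        rw [mul_assoc, hcomm _ hzz b hb, inv_mul_cancel_left]]
      refine ⟨hzz, fun y hy => ?_⟩
      obtain ⟨x, hx, rfl⟩ := (im_self h₁ hk hS₁).surj hy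
      have hy' : k x ∈ S₁ := stronglyClosed_mor h₁ hk (hS₁ hx) hx
      have e1 : k x * k z = k z * k x := by
        rw [← hk.map_mul (hS₁ hx) (hS₁ hz), ← hk.map_mul (hS₁ hz) (hS₁ hx), hzc x hx]
      have e2 : k x * z⁻¹ = z⁻¹ * k x := (Commute.inv_right (hzc _ hy')).eq
      rw [← mul_assoc, e2, mul_assoc, e1, ← mul_assoc]
  · exact fun P hPT φ hφ α hα => hinvR' P hPT φ hφ α (hautR α hα)
  · intro P hP φ hφ
    obtain ⟨α, hα, φ₀, hφ₀, he⟩ := hfrat P hP φ (hRF P hφ)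
    refine ⟨α, ?_, φ₀, hφ₀, he⟩
    rw [autGroup_carrier le_rfl, hR S₁ le_rfl]
    exact (autGroup_carrier hS₁).1 hα
  · obtain ⟨f, hf, hfi, hfe⟩ := exists_mor_of_aut le_rfl (autGroup_mono' hR'R S₁ hα)
    have hU : S₁ ⊔ centralizerIn S₁ S₁ = S₁ := sup_eq_left.2 (centralizerIn_le_S _)
    obtain ⟨β, hβ, hβe⟩ := hf.exists_aut (A := S₁ ⊔ centralizerIn S₁ S₁) hU.le (by
      rw [hU]; exact hfi)
    refine ⟨β, hβ, fun x => ?_, fun c hc => ?_⟩
    · rw [hβe]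
      exact hfe x
    · rw [hβe]
      refine ⟨S₁.mul_mem (S₁.inv_mem hc.1) (hfi.mem hc.1), fun y hy => ?_⟩
      obtain ⟨x, hx, rfl⟩ := hfi.surj hy
      have e1 : f x * f c = f c * f x := by
        rw [← hf.map_mul hx hc.1, ← hf.map_mul hc.1 hx, hc.2 x hx]
      have e2 : f x * (c : Ω)⁻¹ = (c : Ω)⁻¹ * f x :=
        (Commute.inv_right (hc.2 _ (hfi.mem hx))).eq
      rw [← mul_assoc, e2, mul_assoc, e1, ← mul_assoc]
  · intro P hPT φ hφ α hα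
    obtain ⟨f, hf, hfe⟩ := Mor.of_mem (hRF P hφ)
    obtain ⟨a, ha, -, hae⟩ := exists_mor_of_aut hS₁ hα
    set P' := (P.subgroupOf S₁).map (S₁.subtype.comp α.toMonoidHom) with hP'
    have hP'S₁ : P' ≤ S₁ := by
      rintro _ ⟨x, -, rfl⟩
      exact SetLike.coe_mem _
    have hP'im : Im a P P' := fun y => by
      constructor
      · rintro ⟨⟨x, hxS⟩, hx, rfl⟩
        exact ⟨x, hx, hae ⟨x, hxS⟩⟩
      · rintro ⟨x, hx, rfl⟩
        exact ⟨⟨x, hPT hx⟩, hx, (hae ⟨x, hPT hx⟩).symm⟩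
    obtain ⟨i, hi, -, hi1, -⟩ := (ha.mono hPT).exists_inv hP'im
    have hfS : ∀ x ∈ P, f x ∈ S₁ := fun x hx => stronglyClosed_mor h₁ hf hx (hPT hx)
    obtain ⟨χ, hχ, hχe⟩ := (hi.comp hf fun y hy => by
        obtain ⟨x, hx, rfl⟩ := hP'im.surj hy
        rw [hi1 x hx]; exact hx).comp ha fun y hy => by
      obtain ⟨x, hx, rfl⟩ := hP'im.surj hy
      show f (i (a x)) ∈ S₁
      rw [hi1 x hx]
      exact hfS x hx
    refine ⟨χ, by rw [hR P' hP'S₁]; exact hχ, fun x hφx hαx => (hχe _).trans ?_⟩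
    show a (f (i ((α ⟨x, hPT x.2⟩ : S₁) : Ω))) = _
    rw [← hae ⟨x, hPT x.2⟩, hi1 x x.2, hfe x]
    exact hae ⟨_, hφx⟩
  · intro P hP φ hφ
    refine ⟨1, one_mem _, φ, ?_, fun x _ => rfl⟩
    rw [hR P hP]
    exact hφ

end CfsgLib.Fusion
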