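import Cfsg.Agent.Fusion.CentralControl
import Cfsg.Agent.Fusion.CentralControlApps
import Cfsg.Agent.Fusion.InnerZJ
import Cfsg.Agent.ZJ.WeakClosure

/-!
Glauberman's factorization for fusion systems: a system is generated by the centralizer system of
the `p`th powers of the centre and the normalizer system of the Thompson subgroup.
-/

set_option autoImplicit false
set_option linter.style.haveILetI false

open Cfsg Cfsg.FusionSystem

namespace CfsgLib.Fusion

universe u

variable {Ω : Type u} [Group Ω]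

/-- The maps of a system with source and values in `U`. -/
def restrictTo {S : Subgroup Ω} (E : FusionSystem S) (U : Subgroup Ω) (hU : U ≤ S) :
    FusionSystem U where
  Hom P := {φ | P ≤ U ∧ (∀ x : P, φ x ∈ U) ∧ φ ∈ E.Hom P}
  le_of_mem h := ⟨h.1, h.2.1⟩
  injective_of_mem h := E.injective_of_mem h.2.2
  conj_mem {P g} hP hg := ⟨hP, fun x => U.mul_mem (U.mul_mem hg (hP x.2)) (U.inv_mem hg),
    E.conj_mem (hP.trans hU) (hU hg)⟩
  comp_mem := fun h1 h2 h => ⟨h1.1, fun _ => h2.2.1 _, E.comp_mem h1.2.2 h2.2.2 h⟩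
  inv_mem := by
    intro P φ h
    obtain ⟨χ, hχ, he⟩ := E.inv_mem h.2.2
    refine ⟨χ, ⟨fun y ⟨x, hx⟩ => hx ▸ h.2.1 x, ?_, hχ⟩, he⟩
    rintro ⟨_, x, rfl⟩
    exact (he x).symm ▸ h.1 x.2

variable {S : Subgroup Ω} {F : FusionSystem S}

/-- The centre of a subgroup, inside the ambient group. -/
abbrev centerIn (U : Subgroup Ω) : Subgroup Ω := U ⊓ Subgroup.centralizer (U : Set Ω)

theorem powerClosure_mono {p n : ℕ} {A B : Subgroup Ω} (h : A ≤ B) :
    powerClosure p n A ≤ powerClosure p n B :=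
  Subgroup.closure_mono fun _ ⟨x, hx, hy⟩ => ⟨x, h hx, hy⟩

theorem powerClosure_le {p n : ℕ} (A : Subgroup Ω) : powerClosure p n A ≤ A :=
  (Subgroup.closure_le _).2 fun _ ⟨_, hx, hy⟩ => hy ▸ A.pow_mem hx _

/-- Membership in a normalizer system from a map on a larger source. -/
theorem mem_normalizerHom_of {P R Q : Subgroup Ω} {ψ : R →* Ω} (hψ : ψ ∈ F.Hom R) (hPR : P ≤ R)
    (hQR : Q ≤ R) (hm : (Q.subgroupOf R).map ψ = Q) (hP : P ≤ normalizerIn S Q) {φ : P →* Ω}
    (he : ∀ x : P, φ x = ψ (Subgroup.inclusion hPR x)) : φ ∈ F.normalizerHom Q P := by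
  have hle : P ⊔ Q ≤ R := sup_le hPR hQR
  refine ⟨restrict_mem_of_eq hψ hPR he, hP, fun x => ?_, ψ.comp (Subgroup.inclusion hle),
    restrict_mem hψ hle, fun x => (he x).symm ▸ rfl, ?_⟩
  · have h1 := map_mem_normalizerIn hψ hQR (hP x.2) (hPR x.2)
    rw [hm] at h1
    rw [he]
    exact h1
  · exact (map_subgroupOf_congr le_sup_right hQR fun _ _ => rfl).trans hm

/-- Membership in the centralizer system of a central subgroup. -/
theorem mem_centralizerHom_of {P V R : Subgroup Ω} (hC : centralizerIn S V = S) {ψ : R →* Ω}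
    (hψ : ψ ∈ F.Hom R) (hPR : P ≤ R) (hVR : V ≤ R) (hf : ∀ x : V, ψ (Subgroup.inclusion hVR x) = x)
    {φ : P →* Ω} (he : ∀ x : P, φ x = ψ (Subgroup.inclusion hPR x)) :
    φ ∈ F.centralizerHom V P :=
  ⟨restrict_mem_of_eq hψ hPR he, (hPR.trans (le_of_mem_hom hψ)).trans hC.ge,
    fun x => hC.ge (apply_mem_S (restrict_mem_of_eq hψ hPR he) x),
    ψ.comp (Subgroup.inclusion (sup_le hPR hVR)), restrict_mem hψ _, fun x => (he x).symm,
    fun x => hf x⟩

theorem isNormal_eq_of_isConj [Finite S] {W W' : Subgroup Ω} (h : F.IsConj W W')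
    (hn : F.IsNormal W') : F.IsNormal W := by
  obtain ⟨φ, hφ, hr⟩ := isConj_symm h
  rw [← hr, (weaklyClosed_of_stronglyClosed (stronglyClosed_of_isNormal hn)).2 φ hφ]
  exact hn

/-- A subgroup of `S` not in `R` would give a quadratic element centralizing `℧¹(Z(R))`. -/
theorem thompsonA_le_of_centralizer_powers_aux [Finite Ω] {p : ℕ} [Fact p.Prime] {T R : Subgroup Ω}
    (hT : IsPGroup p T) (hRT : R ≤ T) (hTn : T ≤ Subgroup.normalizer (R : Set Ω))
    (hD : T ⊓ Subgroup.centralizer ((powerClosure p 1 (centerIn R) : Subgroup Ω) : Set Ω) ≤ R) :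
    thompsonSubgroupAOf T ≤ R := by
  open CfsgLib.ZJ in
  rw [thompsonSubgroupAOf_eq_fam]
  by_contra hnot
  obtain ⟨A1, hA1, hA1R⟩ : ∃ A ∈ fam (fun A : Subgroup Ω => IsMulCommutative A) T, ¬ A ≤ R := by
    by_contra h
    push Not at h
    exact hnot (sSup_le h)
  obtain ⟨A, ⟨hA, hAR⟩, hAmax⟩ := Set.exists_max_image
    {A : Subgroup Ω | A ∈ fam (fun A : Subgroup Ω => IsMulCommutative A) T ∧ ¬ A ≤ R}
    (fun A => Nat.card ↥(A ⊓ centerIn R)) (Set.toFinite _) ⟨A1, hA1, hA1R⟩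
  set V := centerIn R with hVdef
  have hVc : ∀ v ∈ V, ∀ w ∈ V, v * w = w * v := fun v hv w hw =>
    Subgroup.mem_centralizer_iff.1 hw.2 v hv.1
  have hVmc : IsMulCommutative V := ⟨⟨fun v w => Subtype.ext (hVc v v.2 w w.2)⟩⟩
  have hVT : V ≤ T := inf_le_left.trans hRT
  have hAV : A ≤ Subgroup.normalizer (V : Set Ω) := fun a ha => by
    have hn := hTn (hA.2.1 ha)
    refine Subgroup.mem_normalizer_iff.2 fun v => ?_
    have key : ∀ b ∈ Subgroup.normalizer (R : Set Ω), ∀ v ∈ V, b * v * b⁻¹ ∈ V := fun b hb v hv => by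
      refine ⟨(Subgroup.mem_normalizer_iff.1 hb v).1 hv.1, Subgroup.mem_centralizer_iff.2 fun r hr => ?_⟩
      have h1 := Subgroup.mem_centralizer_iff.1 hv.2 _ ((Subgroup.mem_normalizer_iff''.1 hb r).1 hr)
      calc r * (b * v * b⁻¹) = b * ((b⁻¹ * r * b) * v) * b⁻¹ := by group
        _ = b * v * b⁻¹ * r := by rw [h1]; group
    refine ⟨key a hn v, fun h => ?_⟩
    have h2 := key a⁻¹ (Subgroup.inv_mem _ hn) _ h
    rwa [show a⁻¹ * (a * v * a⁻¹) * a⁻¹⁻¹ = v by group] at h2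
  have hVA : V ≤ Subgroup.normalizer (A : Set Ω) := by
    by_contra hnot
    have hVV : ⁅V, V⁆ ≤ A := le_trans (le_of_eq (Subgroup.commutator_eq_bot_iff_le_centralizer.mpr
      (Subgroup.le_centralizer_iff_isMulCommutative.mpr hVmc))) bot_le
    obtain ⟨b, Rp, hb, hbA⟩ := exists_replacement_in (hT.to_le (sup_le hA.2.1 hVT)) hA.1 hVV hAV hnot
    have hreplT : repl A b ≤ T := (repl_le_sup A b).trans (sup_le hA.2.1 (by
      rintro _ ⟨a, ha, rfl⟩
      exact mul_mem (mul_mem (inv_mem (hVT hb)) (hA.2.1 ha)) (inv_mem (inv_mem (hVT hb)))))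
    have hA' : repl A b ∈ fam (fun A : Subgroup Ω => IsMulCommutative A) T :=
      ⟨Rp.isMulCommutative_repl (Or.inr hVmc), hreplT,
        fun B hB hBS => (Rp.card_repl (Or.inr hVmc)).symm ▸ hA.2.2 B hB hBS⟩
    have hA'C : repl A b ≤ R := by
      by_contra hn
      exact absurd (hAmax _ ⟨hA', hn⟩) (not_le.mpr (Solvable.card_lt_of_lt (Rp.inf_lt hbA)))
    refine hnot (le_trans ?_ Rp.repl_le_normalizer)
    have hM : IsMulCommutative ↥(Subgroup.closure ((repl A b : Set Ω) ∪ V) : Subgroup Ω) := by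
      refine Subgroup.isMulCommutative_closure ?_
      rintro y (hy | hy) w (hw | hw)
      · exact congrArg Subtype.val (hA'.1.is_comm.comm ⟨y, hy⟩ ⟨w, hw⟩)
      · exact Subgroup.mem_centralizer_iff.mp hw.2 y (hA'C hy)
      · exact (Subgroup.mem_centralizer_iff.mp hy.2 w (hA'C hw)).symm
      · exact hVc y hy w hw
    rw [Solvable.eq_of_le_of_card_le (show repl A b ≤ Subgroup.closure ((repl A b : Set Ω) ∪ V) from
      fun y hy => Subgroup.subset_closure (Or.inl hy)) (hA'.2.2 _ hM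
        ((Subgroup.closure_le _).mpr (Set.union_subset hreplT hVT)))]
    exact fun v hv => Subgroup.subset_closure (Or.inr hv)
  -- an element of `A` outside `R` whose `p`th power lies in `R`
  obtain ⟨a₀, ha₀, ha₀R⟩ := SetLike.not_le_iff_exists.1 hAR
  obtain ⟨n, hn⟩ := hT ⟨a₀, hA.2.1 ha₀⟩
  have hex : ∃ k, a₀ ^ p ^ k ∈ R := ⟨n, by
    rw [show a₀ ^ p ^ n = 1 from congrArg Subtype.val hn]; exact one_mem R⟩
  classical
  obtain ⟨j, hj⟩ : ∃ j, Nat.find hex = j + 1 := Nat.exists_eq_succ_of_ne_zero fun h0 =>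
    ha₀R (by simpa [h0] using Nat.find_spec hex)
  obtain ⟨a, hae⟩ : ∃ a, a = a₀ ^ p ^ j := ⟨_, rfl⟩
  have haA : a ∈ A := hae ▸ pow_mem ha₀ _
  have haR : a ∉ R := hae ▸ Nat.find_min hex (by omega)
  have hapR : a ^ p ∈ R := by
    rw [hae, ← pow_mul, ← pow_succ, ← hj]
    exact Nat.find_spec hex
  refine haR (hD ⟨hA.2.1 haA, Subgroup.mem_centralizer_iff.2 fun x hx => ?_⟩)
  induction hx using Subgroup.closure_induction with
  | mem x hx =>
    obtain ⟨v, hv, rfl⟩ := hx
    rw [pow_one]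
    obtain ⟨c, hc⟩ : ∃ c, c = v⁻¹ * (a * v * a⁻¹) := ⟨_, rfl⟩
    have hcA : c ∈ A := by
      rw [hc, show v⁻¹ * (a * v * a⁻¹) = (v⁻¹ * a * v) * a⁻¹ by group]
      exact A.mul_mem ((Subgroup.mem_normalizer_iff''.1 (hVA hv) a).1 haA) (A.inv_mem haA)
    have hcV : c ∈ V := hc ▸ V.mul_mem (V.inv_mem hv)
      ((Subgroup.mem_normalizer_iff.1 (hAV haA) v).1 hv)
    have hac : a * c = c * a := congrArg Subtype.val (hA.1.is_comm.comm ⟨a, haA⟩ ⟨c, hcA⟩)
    have hstep : a * v * a⁻¹ = v * c := by rw [hc, mul_inv_cancel_left]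
    have hit : ∀ m : ℕ, a ^ m * v * (a ^ m)⁻¹ = v * c ^ m := by
      intro m
      induction m with
      | zero => simp
      | succ m ih =>
        calc a ^ (m + 1) * v * (a ^ (m + 1))⁻¹ = a * (a ^ m * v * (a ^ m)⁻¹) * a⁻¹ := by
              rw [pow_succ']; group
          _ = (a * v * a⁻¹) * (a * c ^ m * a⁻¹) := by rw [ih]; group
          _ = v * c * c ^ m := by
              rw [hstep, (show Commute a (c ^ m) from (show Commute a c from hac).pow_right m).eq,
                mul_inv_cancel_right]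
          _ = v * c ^ (m + 1) := by rw [pow_succ', mul_assoc]
    have hcp : c ^ p = 1 := by
      have h1 := hit p
      rw [Subgroup.mem_centralizer_iff.1 hv.2 _ hapR, mul_inv_cancel_right] at h1
      exact left_eq_mul.1 h1
    have hvp : a * v ^ p * a⁻¹ = v ^ p := by
      rw [← conj_pow, hstep, (show Commute v c from hVc v hv c hcV).mul_pow, hcp, mul_one]
    exact (mul_inv_eq_iff_eq_mul.1 hvp).symm
  | one => rw [one_mul, mul_one]
  | mul y z _ _ hy hz => rw [mul_assoc, hz, ← mul_assoc, hy, mul_assoc]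
  | inv y _ hy => exact ((show Commute y a from hy).inv_left).eq

theorem thompsonA_le_of_centralizer_powers [Finite S] {p : ℕ} [Fact p.Prime] {R : Subgroup Ω}
    (hS : IsPGroup p S) (hRS : R ≤ S) (hRn : S ≤ Subgroup.normalizer (R : Set Ω))
    (hD : centralizerIn S (powerClosure p 1 (centerIn R)) ≤ R) :
    thompsonSubgroupAOf S ≤ R := by
  have h1 : thompsonSubgroupAOf (⊤ : Subgroup S) ≤ R.subgroupOf S := by
    refine thompsonA_le_of_centralizer_powers_aux (p := p) (hS.to_subgroup ⊤) le_top ?_ ?_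
    · intro g _
      refine Subgroup.mem_normalizer_iff.2 fun x => ?_
      exact Subgroup.mem_normalizer_iff.1 (hRn g.2) x
    · intro g hg
      refine Subgroup.mem_subgroupOf.2 (hD (mem_centralizerIn.2 ⟨g.2, fun y hy => ?_⟩))
      induction hy using Subgroup.closure_induction with
      | mem y hy =>
        obtain ⟨v, hv, rfl⟩ := hy
        have hv' : (⟨v, hRS hv.1⟩ : S) ∈ centerIn (R.subgroupOf S) :=
          ⟨hv.1, Subgroup.mem_centralizer_iff.2 fun r hr =>
            Subtype.ext (Subgroup.mem_centralizer_iff.1 hv.2 r hr)⟩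
        exact congrArg Subtype.val (Subgroup.mem_centralizer_iff.1 hg.2 _
          (Subgroup.subset_closure ⟨_, hv', rfl⟩))
      | one => rw [one_mul, mul_one]
      | mul y z _ _ hy hz => rw [mul_assoc, hz, ← mul_assoc, hy, mul_assoc]
      | inv y _ hy => exact ((show Commute y (g : Ω) from hy).inv_left).eq
  rintro _ ⟨z, hz, rfl⟩
  have hz' : z ∈ thompsonSubgroupAOf (⊤ : Subgroup S) := by
    rw [← thompsonSubgroupA_map (Subgroup.topEquiv (G := S))] at hz
    exact hz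
  exact h1 hz'

theorem normalizer_le_normalizer_of_isCharIn {U C : Subgroup Ω} (h : IsCharIn U C) {g : Ω}
    (hg : g ∈ Subgroup.normalizer (U : Set Ω)) : g ∈ Subgroup.normalizer (C : Set Ω) := by
  have key : ∀ g ∈ Subgroup.normalizer (U : Set Ω), ∀ x ∈ C, g * x * g⁻¹ ∈ C := fun g hg x hx =>
    (h.2 (U.normalizerMonoidHom ⟨g, hg⟩) ⟨x, h.1 hx⟩).2 hx
  refine Subgroup.mem_normalizer_iff.2 fun x => ⟨key g hg x, fun hx => ?_⟩
  have h2 := key g⁻¹ (Subgroup.inv_mem _ hg) _ hx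
  rwa [show g⁻¹ * (g * x * g⁻¹) * g⁻¹⁻¹ = x by group] at h2

variable [Finite S]

theorem exists_lt_normalizer_card {p : ℕ} [Fact p.Prime] (hS : IsPGroup p S) {U : Subgroup Ω}
    (hU : U ≤ S) (hne : Nat.card U ≠ Nat.card S) :
    Nat.card U < Nat.card (normalizerIn S U) := by
  have h1 := lt_normalizerIn p hS le_rfl (lt_of_le_of_ne hU fun h => hne (by rw [h]))
  haveI := finite_of_le (normalizerIn_le_S (S := S) U)
  by_contra h
  exact h1.ne (Subgroup.eq_of_le_of_card_ge h1.le (not_lt.1 h))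

omit [Finite S] in
theorem center_le_thompsonAOf {U Z : Subgroup Ω} [Finite U] (hZU : Z ≤ U)
    (hZc : Z ≤ Subgroup.centralizer (U : Set Ω)) : Z ≤ thompsonSubgroupAOf U := fun z hz =>
  ⟨⟨z, hZU hz⟩, center_le_thompsonA (Subgroup.mem_center_iff.2 fun g =>
    Subtype.ext (Subgroup.mem_centralizer_iff.1 (hZc hz) g g.2)), rfl⟩

/-- Glauberman's factorization. -/
theorem glauberman_factorization (p : ℕ) [Fact p.Prime] :
    ∀ (n : ℕ) (S : Subgroup Ω), Finite S → IsPGroup p S → Nat.card S = n → ∀ (F E : FusionSystem S),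
      F.IsSaturated p →
      (∀ P, F.centralizerHom (powerClosure p 1 (centerIn S)) P ⊆ E.Hom P) →
      (∀ P, F.normalizerHom (thompsonSubgroupAOf S) P ⊆ E.Hom P) → ∀ P, F.Hom P ⊆ E.Hom P := by
  intro n
  induction n using Nat.strong_induction_on with
  | _ n ihn =>
  intro S hfin hS hn F E
  haveI := hfin
  obtain ⟨m, hmF⟩ : ∃ m, homCount F = m := ⟨_, rfl⟩
  induction m using Nat.strong_induction_on generalizing F with
  | _ m ihm =>
  intro hF hC hN
  set Z := centerIn S with hZd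
  set V := powerClosure p 1 Z with hVd
  have hVZ : V ≤ Z := powerClosure_le Z
  have hVS : centralizerIn S V = S := le_antisymm (centralizerIn_le_S V)
    (le_inf le_rfl (Subgroup.le_centralizer_iff.1 (hVZ.trans inf_le_right)))
  have hJch : IsCharIn S (thompsonSubgroupAOf S) := isCharIn_thompsonAOf
  -- recursion into the normalizer system of a fully normalized subgroup which is not normal
  have rec_norm : ∀ W : Subgroup Ω, F.IsFullyNormalized W → ¬ F.IsNormal W →
      (∀ P φ, φ ∈ F.normalizerHom W P → φ ∈ F.normalizerHom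
        (thompsonSubgroupAOf (normalizerIn S W)) P → φ ∈ E.Hom P) →
      ∀ P, F.normalizerHom W P ⊆ E.Hom P := by
    intro W hW hWn hJ
    set U := normalizerIn S W with hUd
    have hUS : U ≤ S := normalizerIn_le_S W
    haveI : Finite U := finite_of_le hUS
    have hZU : Z ≤ U := fun z hz => ⟨hz.1, centralizer_le_normalizer' W
      (Subgroup.centralizer_le hW.1 hz.2)⟩
    rcases eq_or_lt_of_le hUS with hUS' | hUS'
    · have hSn : S ≤ Subgroup.normalizer (W : Set Ω) := fun s hs =>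
        (show s ∈ U by rw [hUS']; exact hs).2
      obtain ⟨N, hNh, hNs, -, -, hNF, -⟩ :=
        exists_normSystem_eq p hS hF (fun {_} _ => True) hW.1 hSn fun _ _ => trivial
      have hne : ∃ P, ¬ F.Hom P ⊆ N.Hom P := by
        by_contra hcon
        push Not at hcon
        refine hWn ⟨hW.1, fun R χ hχ => ?_⟩
        have h1 := hcon R hχ
        rw [hNh] at h1
        exact h1.2.2.2
      intro P
      rw [← hNh]
      refine ihm _ (hmF ▸ homCount_lt hNF hne) N rfl hNs (fun R => ?_) (fun R => ?_) P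
      · rintro φ ⟨hφ, h1, h2, ψ, hψ, he, hf⟩
        exact hC R ⟨hNF _ hφ, h1, h2, ψ, hNF _ hψ, he, hf⟩
      · rintro φ ⟨hφ, h1, h2, ψ, hψ, he, hm⟩
        exact hN R ⟨hNF _ hφ, h1, h2, ψ, hNF _ hψ, he, hm⟩
    · have hUp : IsPGroup p U := hS.to_le hUS
      haveI : Finite U := finite_of_le hUS
      have hlt : Nat.card U < n := by
        rw [← hn]
        by_contra h
        exact hUS'.ne (Subgroup.eq_of_le_of_card_ge hUS (not_lt.1 h))
      have hspec := normSystem_spec F W hW.1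
      intro P φ hφ
      have h0 := ihn _ hlt U (finite_of_le hUS) hUp rfl (normSystem F W hW.1) (restrictTo E U hUS)
        (normalizerSystem_saturated p hS hF hW hspec) ?_ ?_ P (show φ ∈ (normSystem F W hW.1).Hom P from hφ)
      · exact h0.2.2
      · intro R χ hχ
        obtain ⟨hχN, hR, hv, ψ, hψN, he, hf⟩ := hχ
        have hVU : V ≤ powerClosure p 1 (centerIn U) := powerClosure_mono
          (le_inf hZU (inf_le_right.trans (Subgroup.centralizer_le hUS)))
        refine ⟨hR.trans (centralizerIn_le_S _), fun x => (hv x).1, hC R ?_⟩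
        exact mem_centralizerHom_of hVS (show ψ ∈ F.Hom _ from hψN.1) le_sup_left
          (hVU.trans le_sup_right) (fun x => hf ⟨x, hVU x.2⟩) fun x => (he x).symm
      · intro R χ hχ
        obtain ⟨hχN, hR, hv, ψ, hψN, he, hm⟩ := hχ
        refine ⟨hR.trans (normalizerIn_le_S _), fun x => (hv x).1, hJ R χ hχN ?_⟩
        refine mem_normalizerHom_of (show ψ ∈ F.Hom _ from hψN.1) le_sup_left le_sup_right hm ?_
          fun x => (he x).symm
        exact fun x hx => ⟨hUS (hR hx).1, (hR hx).2⟩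
  set R := F.core with hRd
  have hRn : F.IsNormal R := isNormal_core
  have hRmax : ∀ U, F.IsNormal U → U ≤ R := fun U hU => le_sSup hU
  have hRS := normal_S_le_normalizer hRn
  by_cases hZR : Z ≤ R
  · set X := powerClosure p 1 (centerIn R) with hXd
    have hXR : X ≤ R := (powerClosure_le _).trans inf_le_left
    have hVX : V ≤ X := powerClosure_mono
      (le_inf hZR (inf_le_right.trans (Subgroup.centralizer_le hRn.1)))
    have hXch : (X.subgroupOf R).Characteristic := by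
      refine Subgroup.characteristic_iff_map_le.2 fun a => ?_
      rintro _ ⟨⟨y, hyR⟩, hy, rfl⟩
      have key : ∀ y ∈ X, ∀ hyR : y ∈ R, ((a ⟨y, hyR⟩ : R) : Ω) ∈ X := by
        intro y hy
        induction hy using Subgroup.closure_induction with
        | mem y hy =>
          obtain ⟨v, hv, rfl⟩ := hy
          intro hyR
          refine Subgroup.subset_closure ⟨((a ⟨v, hv.1⟩ : R) : Ω), ⟨(a ⟨v, hv.1⟩).2,
            Subgroup.mem_centralizer_iff.2 fun r hr => ?_⟩, ?_⟩
          · obtain ⟨r', hr'⟩ := a.surjective ⟨r, hr⟩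
            rw [show r = ((a r' : R) : Ω) by rw [hr'], ← Subgroup.coe_mul, ← map_mul,
              ← Subgroup.coe_mul, ← map_mul]
            exact congrArg (fun w => ((a w : R) : Ω))
              (Subtype.ext (Subgroup.mem_centralizer_iff.1 hv.2 r' r'.2))
          · rw [← SubgroupClass.coe_pow, ← map_pow]
            rfl
        | one => intro _; rw [show (⟨1, _⟩ : R) = 1 from rfl, map_one]; exact one_mem X
        | mul y z hy hz ihy ihz =>
          intro h
          rw [show (⟨y * z, h⟩ : R) = ⟨y, hXR hy⟩ * ⟨z, hXR hz⟩ from rfl, map_mul]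
          exact X.mul_mem (ihy _) (ihz _)
        | inv y hy ihy =>
          intro h
          rw [show (⟨y⁻¹, h⟩ : R) = (⟨y, hXR hy⟩)⁻¹ from rfl, map_inv]
          exact X.inv_mem (ihy _)
      exact key y hy hyR
    have hXn : F.IsNormal X := isNormal_of_characteristic hRn hXR hXch
    have hXS := normal_S_le_normalizer hXn
    set D := centralizerIn S X with hDd
    have hRD : R ≤ D := le_inf hRn.1 (Subgroup.le_centralizer_iff.1
      ((powerClosure_le _).trans inf_le_right))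
    by_cases hDR : D ≤ R
    · have hJR : thompsonSubgroupAOf S ≤ R :=
        thompsonA_le_of_centralizer_powers hS hRn.1 hRS hDR
      have hJeq : thompsonSubgroupAOf S = thompsonSubgroupAOf R := by
        open CfsgLib.ZJ in
        rw [thompsonSubgroupAOf_eq_fam, thompsonSubgroupAOf_eq_fam]
        rw [thompsonSubgroupAOf_eq_fam] at hJR
        obtain ⟨A, hA⟩ : ∃ A, A ∈ fam (fun A : Subgroup Ω => IsMulCommutative A) S := by
          obtain ⟨A, ⟨hA, hAS⟩, hmax⟩ := Set.exists_max_image {A : Subgroup Ω | IsMulCommutative A ∧ A ≤ S}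
            (fun A => Nat.card A) ((finite_setOf_le S le_rfl).subset fun A h => h.2)
            ⟨⊥, ⟨⟨fun a b => Subsingleton.elim _ _⟩⟩, bot_le⟩
          exact ⟨A, hA, hAS, fun B hB hBS => hmax B ⟨hB, hBS⟩⟩
        have hAR : A ≤ R := (le_sSup hA).trans hJR
        refine congrArg sSup (Set.ext fun B => ⟨fun hB => ⟨hB.1, (le_sSup hB).trans hJR,
          fun C hC hCR => hB.2.2 C hC (hCR.trans hRn.1)⟩, fun hB => ⟨hB.1, hB.2.1.trans hRn.1,
          fun C hC hCS => (hA.2.2 C hC hCS).trans (hB.2.2 A hA.1 hAR)⟩⟩)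
      have hJn : F.IsNormal (thompsonSubgroupAOf S) := by
        rw [hJeq]
        haveI := finite_of_le hRn.1
        exact isNormal_of_characteristic hRn (Subgroup.map_subtype_le _)
          (Subgroup.characteristic_iff_comap_eq.2 fun a => Subgroup.ext fun x => isCharIn_thompsonAOf.2 a x)
      intro P φ hφ
      obtain ⟨ψ, hψ, he, hm⟩ := hJn.2 P φ hφ
      exact hN P (mem_normalizerHom_of hψ le_sup_left le_sup_right hm
        ((le_of_mem_hom hφ).trans (le_inf le_rfl (normal_S_le_normalizer hJn)))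
        fun x => (he x).symm)
    have hDn : ¬ F.IsNormal D := fun h => hDR (hRmax D h)
    have hDS : S ≤ Subgroup.normalizer (D : Set Ω) := fun s hs => by
      refine mem_normalizer_of_conj_mem (centralizerIn_le_S X) fun c hc => ?_
      refine mem_centralizerIn.2 ⟨S.mul_mem (S.mul_mem hs hc.1) (S.inv_mem hs), fun y hy => ?_⟩
      have h1 := (mem_centralizerIn.1 hc).2 _ ((Subgroup.mem_normalizer_iff''.1 (hXS hs) y).1 hy)
      calc y * (s * c * s⁻¹) = s * ((s⁻¹ * y * s) * c) * s⁻¹ := by group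
        _ = s * c * s⁻¹ * y := by rw [h1]; group
    have hDfn : F.IsFullyNormalized D := ⟨centralizerIn_le_S X, fun U _ => by
      rw [show normalizerIn S D = S from le_antisymm (normalizerIn_le_S D) (le_inf le_rfl hDS)]
      exact card_le_of_le le_rfl (normalizerIn_le_S U)⟩
    have hND := rec_norm D hDfn hDn fun P φ _ h2 => by
      rw [show normalizerIn S D = S from le_antisymm (normalizerIn_le_S D) (le_inf le_rfl hDS)] at h2
      exact hN P h2
    have hXfn : F.IsFullyNormalized X := ⟨hXn.1, fun U _ => by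
      rw [show normalizerIn S X = S from le_antisymm (normalizerIn_le_S X) (le_inf le_rfl hXS)]
      exact card_le_of_le le_rfl (normalizerIn_le_S U)⟩
    intro P φ hφ
    obtain ⟨ψ, hψ, he, hm⟩ := hRn.2 P φ hφ
    have hXsup : X ≤ P ⊔ R := hXR.trans le_sup_right
    have ha : ψ.comp (Subgroup.inclusion hXsup) ∈ F.Hom X := restrict_mem hψ hXsup
    have har : (ψ.comp (Subgroup.inclusion hXsup)).range = X :=
      (weaklyClosed_of_stronglyClosed (stronglyClosed_of_isNormal hXn)).2 _ ha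
    have hPS : P ⊔ R ≤ S := le_of_mem_hom hψ
    have hext : (P ⊔ R) ⊔ D ≤ extender S X (ψ.comp (Subgroup.inclusion hXsup)) := by
      refine sup_le (fun g hg => ?_) (centralizerIn_le_extender X _)
      refine mem_extender_of ⟨hPS hg, hXS (hPS hg)⟩ (apply_mem_S hψ ⟨g, hg⟩) fun x hx => ?_
      simp only [MonoidHom.comp_apply]
      rw [← map_inv, ← map_mul, ← map_mul]
      exact apply_congr ψ rfl
    obtain ⟨χ, hχ, hχe⟩ := receptive_extend (good_of_fullyNormalized p hS hF hXfn).2 ha har hext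
    have hXN : X ≤ (P ⊔ R) ⊔ D := hXsup.trans le_sup_left
    have hχX : (X.subgroupOf ((P ⊔ R) ⊔ D)).map χ = X := (map_eq_range_of_eq hXN hχe).trans har
    have hχD : (D.subgroupOf ((P ⊔ R) ⊔ D)).map χ = D := by
      refine eq_of_le_of_card_le (centralizerIn_le_S X) ?_ (IsConj.card_eq (isConj_map hχ le_sup_right)).ge
      intro y hy
      obtain ⟨w, hw, hwD, rfl⟩ := mem_map_subgroupOf.1 hy
      have := map_mem_centralizerIn hχ hXN hwD hw
      rwa [hχX] at this
    let χ' : ↥(P ⊔ R) →* Ω := χ.comp (Subgroup.inclusion le_sup_left)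
    have hχ'E : χ' ∈ E.Hom (P ⊔ R) := hND _ (mem_normalizerHom_of hχ le_sup_left le_sup_right hχD
      (le_inf hPS (hPS.trans hDS)) fun x => rfl)
    have hχ'F : χ' ∈ F.Hom (P ⊔ R) := restrict_mem hχ le_sup_left
    obtain ⟨δ₀, hδ₀, -, hl, -⟩ := exists_inv hχ'F (rfl : χ'.range = _)
    have hdom : ∀ y : χ'.range, δ₀ y ∈ P ⊔ R := by
      rintro ⟨_, x, rfl⟩
      exact Set.mem_of_eq_of_mem (hl x _) x.2
    let δ : χ'.range →* Ω := ψ.comp (δ₀.codRestrict (P ⊔ R) hdom)
    have hδ : δ ∈ F.Hom χ'.range := F.comp_mem hδ₀ hψ hdom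
    have hVr : V ≤ χ'.range := by
      intro v hv
      obtain ⟨x, hx⟩ := har.ge (hVX hv)
      exact ⟨⟨x, hXsup x.2⟩, (hχe x x.2 (hXN x.2)).trans hx⟩
    have hδE : δ ∈ E.Hom χ'.range := by
      refine hC _ (mem_centralizerHom_of hVS hδ le_rfl hVr (fun v => ?_) fun x => rfl)
      obtain ⟨x, hx⟩ := har.ge (hVX v.2)
      have h1 : χ' ⟨x, hXsup x.2⟩ = (v : Ω) := (hχe x x.2 (hXN x.2)).trans hx
      refine (apply_congr ψ (y := ⟨x, hXsup x.2⟩) ?_).trans hx
      exact (apply_congr δ₀ (y := ⟨χ' ⟨x, hXsup x.2⟩, ⟨_, rfl⟩⟩) h1.symm).trans (hl _ _)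
    have hψE : ψ ∈ E.Hom (P ⊔ R) := comp_mem_of_eq hχ'E hδE (fun x => ⟨x, rfl⟩) fun x =>
      (apply_congr ψ (hl x _)).symm
    exact restrict_mem_of_eq hψE le_sup_left fun x => (he x).symm
  -- the centre is not in the core
  have hZn : ∀ U : Subgroup Ω, Z ≤ U → ¬ F.IsNormal U := fun U hU h => hZR (hU.trans (hRmax U h))
  suffices H : ∀ (k : ℕ) (P : Subgroup Ω), Nat.card S - Nat.card P = k → ∀ φ ∈ F.Hom P, φ ∈ E.Hom P from
    fun P φ hφ => H _ P rfl φ hφ
  intro k
  induction k using Nat.strong_induction_on with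
  | _ k ihk =>
  intro P hk φ hφ
  have hPS := le_of_mem_hom hφ
  rcases eq_or_lt_of_le hPS with hPeq | hlt0
  · subst hPeq
    refine hN P (mem_normalizerHom_of hφ le_rfl hJch.1 ?_ hJch.normalizerIn_eq.ge fun x => rfl)
    have hr : φ.range = P := eq_of_le_of_card_le le_rfl (range_le_S hφ) (card_range hφ).ge
    have hst := hJch.2 (autOfRange φ (F.injective_of_mem hφ) hr)
    refine eq_of_le_of_card_le hJch.1 ?_ (IsConj.card_eq (isConj_map hφ hJch.1)).ge
    intro y hy
    obtain ⟨w, hw, hwJ, rfl⟩ := mem_map_subgroupOf.1 hy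
    exact (hst ⟨w, hw⟩).2 hwJ
  have hPn : Nat.card P ≠ Nat.card S := fun h =>
    hlt0.ne (Subgroup.eq_of_le_of_card_ge hPS h.ge)
  have big : ∀ {T : Subgroup Ω}, T ≤ S → Nat.card P < Nat.card T → ∀ ψ ∈ F.Hom T, ψ ∈ E.Hom T :=
    fun {T} hT hc ψ hψ => ihk _ (by have := card_le_of_le le_rfl hT; omega) T rfl ψ hψ
  have claim : ∀ (j : ℕ) (W : Subgroup Ω), Nat.card S - Nat.card (normalizerIn S W) = j → W ≤ S →
      ¬ F.IsNormal W → Nat.card P < Nat.card (normalizerIn S W) →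
      ∀ T, F.normalizerHom W T ⊆ E.Hom T := by
    intro j
    induction j using Nat.strong_induction_on with
    | _ j ihj =>
    intro W hj hWS hWn hWP T θ hθ
    obtain ⟨W', hWW', hfn⟩ := exists_fullyNormalized F hWS
    have hW'n : ¬ F.IsNormal W' := fun h => hWn (isNormal_eq_of_isConj hWW' h)
    obtain ⟨hfa, hrec⟩ := good_of_fullyNormalized p hS hF hfn
    obtain ⟨ω, hω, hωm, hωmap⟩ := exists_map_normalizer p hS hfa hrec hWW'
    have hωE := big (normalizerIn_le_S W) hWP ω hω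
    have hle : Nat.card (normalizerIn S W) ≤ Nat.card (normalizerIn S W') := hfn.2 W (isConj_symm hWW')
    have hN' : ∀ T, F.normalizerHom W' T ⊆ E.Hom T := by
      refine rec_norm W' hfn hW'n fun T θ hθ₁ hθ₂ => ?_
      set U := normalizerIn S W'
      by_cases hU : U = S
      · rw [hU] at hθ₂
        exact hN T hθ₂
      · have hlt := exists_lt_normalizer_card hS (normalizerIn_le_S W')
          (fun h => hU (Subgroup.eq_of_le_of_card_ge (normalizerIn_le_S W') h.ge))
        haveI : Finite U := finite_of_le (normalizerIn_le_S W')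
        have hgt : Nat.card U < Nat.card (normalizerIn S (thompsonSubgroupAOf U)) := by
          refine hlt.trans_le (card_le_of_le (normalizerIn_le_S _) fun g hg => ⟨hg.1, ?_⟩)
          exact normalizer_le_normalizer_of_isCharIn (isCharIn_thompsonAOf (S := U)) hg.2
        refine ihj _ ?_ (thompsonSubgroupAOf U) rfl ((Subgroup.map_subtype_le _).trans (normalizerIn_le_S W')) ?_
          (hWP.trans_le (hle.trans hgt.le)) T hθ₂
        · rw [← hj]
          have h5 := card_le_of_le le_rfl (normalizerIn_le_S (S := S) (thompsonSubgroupAOf U))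
          have h6 := hle.trans_lt hgt
          omega
        · refine hZn _ (center_le_thompsonAOf (fun z hz => ⟨hz.1, centralizer_le_normalizer' W'
            (Subgroup.centralizer_le hfn.1 hz.2)⟩) ?_)
          exact inf_le_right.trans (Subgroup.centralizer_le (normalizerIn_le_S W'))
    obtain ⟨hθF, hT, hTm, θ', hθ', heθ, hmθ⟩ := hθ
    have hTN : T ⊔ W ≤ normalizerIn S W := sup_le hT (le_normalizerIn hWS)
    have hT'N : ∀ x, θ' x ∈ normalizerIn S W := fun x => by
      have h1 := map_mem_normalizerIn hθ' le_sup_right (hTN x.2) x.2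
      rwa [hmθ] at h1
    let ωT : ↥(T ⊔ W) →* Ω := ω.comp (Subgroup.inclusion hTN)
    have hωT : ωT ∈ F.Hom (T ⊔ W) := restrict_mem hω hTN
    obtain ⟨ι₀, hι₀, -, hil, -⟩ := exists_inv hωT (rfl : ωT.range = _)
    have hι₀E : ι₀ ∈ E.Hom ωT.range := by
      obtain ⟨ι₁, hι₁, -, hil₁, -⟩ := exists_inv (restrict_mem hωE hTN) (rfl : ωT.range = _)
      rwa [show ι₀ = ι₁ from MonoidHom.ext fun ⟨_, x, hx⟩ => by
        subst hx; exact (hil x _).trans (hil₁ x _).symm]
    have hdom₀ : ∀ y, ι₀ y ∈ T ⊔ W := by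
      rintro ⟨_, x, rfl⟩
      exact Set.mem_of_eq_of_mem (hil x _) x.2
    have hdom₁ : ∀ y, θ' ⟨ι₀ y, hdom₀ y⟩ ∈ normalizerIn S W := fun y => hT'N _
    let θs : ωT.range →* Ω :=
      ω.comp ((θ'.comp (ι₀.codRestrict (T ⊔ W) hdom₀)).codRestrict (normalizerIn S W) hdom₁)
    have hθs : θs ∈ F.Hom ωT.range :=
      comp_mem_of_eq (F.comp_mem hι₀ hθ' hdom₀) hω hdom₁ fun _ => rfl
    have hW'r : W' ≤ ωT.range := fun y hy => by
      obtain ⟨w, hw, hwW, rfl⟩ := mem_map_subgroupOf.1 (hωmap.ge hy)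
      exact ⟨⟨w, le_sup_right (a := T) hwW⟩, rfl⟩
    have hθsE : θs ∈ E.Hom ωT.range := by
      refine hN' _ (mem_normalizerHom_of hθs le_rfl hW'r ?_ ?_ fun _ => rfl)
      · refine eq_of_le_of_card_le hfn.1 ?_ (IsConj.card_eq (isConj_map hθs hW'r)).ge
        intro y hy
        obtain ⟨w, hw, hwW', rfl⟩ := mem_map_subgroupOf.1 hy
        obtain ⟨v, hv, hvW, hvw⟩ := mem_map_subgroupOf.1 (hωmap.ge hwW')
        subst hvw
        have h1 : ι₀ ⟨ω ⟨v, hv⟩, hw⟩ = v := hil ⟨v, le_sup_right (a := T) hvW⟩ _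
        refine hωmap.le ⟨⟨θ' ⟨ι₀ ⟨ω ⟨v, hv⟩, hw⟩, hdom₀ _⟩, hdom₁ _⟩, ?_, rfl⟩
        refine hmθ.le ⟨⟨v, le_sup_right (a := T) hvW⟩, hvW, ?_⟩
        exact apply_congr θ' h1.symm
      · rintro _ ⟨x, rfl⟩
        exact hωm _
    -- back to `T`
    obtain ⟨ω', hω', -, hωl, -⟩ := exists_inv hωE (rfl : ω.range = _)
    have hθ'E : θ' ∈ E.Hom (T ⊔ W) := by
      have h1 : θs.comp ωT.rangeRestrict ∈ E.Hom (T ⊔ W) :=
        comp_mem_of_eq (restrict_mem hωE hTN) hθsE (fun x => ⟨x, rfl⟩) fun _ => rfl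
      refine comp_mem_of_eq h1 hω' (fun x => ⟨_, rfl⟩) fun x => ?_
      refine (Eq.trans (apply_congr ω' (y := ⟨ω ⟨θ' x, hT'N x⟩, ⟨_, rfl⟩⟩) ?_) (hωl ⟨θ' x, hT'N x⟩ _)).symm
      exact apply_congr ω (apply_congr θ' (hil x _))
    exact restrict_mem_of_eq hθ'E le_sup_left fun x => (heθ x).symm
  -- reduction to automorphisms of a good conjugate
  obtain ⟨Q, hPQ, h₁, h₂⟩ := hF P hPS
  have hQc : Nat.card Q = Nat.card P := IsConj.card_eq hPQ
  have grow : ∀ {U : Subgroup Ω}, U ≤ S → Nat.card U = Nat.card P →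
      Nat.card P < Nat.card (normalizerIn S U) := fun {U} hU hUc => by
    have := exists_lt_normalizer_card hS hU (by omega)
    omega
  have hUQ : F.IsConj φ.range Q := isConj_trans (isConj_symm ⟨φ, hφ, rfl⟩) hPQ
  obtain ⟨ψ₁, hψ₁, hm₁, hmap₁⟩ := exists_map_normalizer p hS h₁ h₂ hPQ
  obtain ⟨ψ₂, hψ₂, hm₂, hmap₂⟩ := exists_map_normalizer p hS h₁ h₂ hUQ
  have hψ₁E := big (normalizerIn_le_S P) (grow hPS rfl) ψ₁ hψ₁
  have hψ₂E := big (normalizerIn_le_S φ.range) (grow (range_le_S hφ) (card_range hφ)) ψ₂ hψ₂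
  have key : ∀ α : Q →* Ω, α ∈ F.Hom Q → α.range = Q → α ∈ E.Hom Q := by
    intro α hα hr
    by_cases hc : centralizerIn S Q ≤ Q
    · refine claim _ Q rfl h₁.1 (hZn Q ((le_inf inf_le_left
        (inf_le_right.trans (Subgroup.centralizer_le h₁.1))).trans hc)) (grow h₁.1 hQc) Q
        (mem_normalizerHom_self h₁.1 hα hr)
    · obtain ⟨ψ, hψ, hψe⟩ := receptive_extend h₂ hα hr
        (sup_le (le_extender hα) (centralizerIn_le_extender Q α) : Q ⊔ centralizerIn S Q ≤ _)
      have hlt : Nat.card P < Nat.card ↥(Q ⊔ centralizerIn S Q) := by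
        rw [← hQc]
        haveI := finite_of_le (sup_le h₁.1 (centralizerIn_le_S Q) : Q ⊔ centralizerIn S Q ≤ S)
        by_contra h
        exact hc (le_sup_right.trans (Subgroup.eq_of_le_of_card_ge le_sup_left (not_lt.1 h)).ge)
      exact restrict_mem_of_eq (big (sup_le h₁.1 (centralizerIn_le_S Q)) hlt ψ hψ) le_sup_left
        fun x => (hψe x x.2 _).symm
  obtain ⟨ψ₁', hψ₁', hr₁', hl₁, -⟩ := exists_inv hψ₁E (rfl : ψ₁.range = _)
  obtain ⟨ψ₂', hψ₂', hr₂', hl₂, -⟩ := exists_inv hψ₂E (rfl : ψ₂.range = _)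
  obtain ⟨ψ₁i, hψ₁i, -, hl₁i, -⟩ := exists_inv hψ₁ (rfl : ψ₁.range = _)
  have hQ1 : Q ≤ ψ₁.range := fun q hq => by
    obtain ⟨a, -, ha⟩ := hmap₁.ge hq
    exact ⟨a, ha⟩
  have hQ2 : Q ≤ ψ₂.range := fun q hq => by
    obtain ⟨a, -, ha⟩ := hmap₂.ge hq
    exact ⟨a, ha⟩
  have hαran : ∀ q : Q, ψ₁i ⟨q, hQ1 q.2⟩ ∈ P := fun q => by
    obtain ⟨a, haP, ha⟩ := hmap₁.ge q.2
    rw [(apply_congr ψ₁i (y := ⟨ψ₁ a, ⟨a, rfl⟩⟩) ha.symm).trans (hl₁i a _)]
    exact haP
  have hdom : ∀ q : Q, φ ⟨_, hαran q⟩ ∈ normalizerIn S φ.range := fun q =>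
    le_normalizerIn (range_le_S hφ) ⟨_, rfl⟩
  let α₀ : Q →* Ω := (ψ₂.comp ((φ.comp ((ψ₁i.comp (Subgroup.inclusion hQ1)).codRestrict P hαran)).codRestrict
    (normalizerIn S φ.range) hdom))
  have hα₀ : α₀ ∈ F.Hom Q :=
    comp_mem_of_eq (comp_mem_of_eq (restrict_mem hψ₁i hQ1) hφ hαran fun q => rfl) hψ₂ hdom fun q => rfl
  have hαr : α₀.range = Q := eq_of_le_of_card_le h₁.1
    (by rintro _ ⟨q, rfl⟩
        exact hmap₂.le ⟨⟨_, hdom q⟩, ⟨_, rfl⟩, rfl⟩)
    (IsConj.card_eq (F := F) ⟨α₀, hα₀, rfl⟩).ge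
  have hα₀Q : ∀ q : Q, α₀ q ∈ Q := fun q => hαr.le ⟨q, rfl⟩
  have c1 : (ψ₂'.comp (Subgroup.inclusion hQ2)).comp (α₀.codRestrict Q hα₀Q) ∈ E.Hom Q :=
    comp_mem_of_eq (key α₀ hα₀ hαr) (restrict_mem hψ₂' hQ2) hα₀Q fun _ => rfl
  have hPn' := le_normalizerIn hPS
  have hx1 : ∀ x : P, ψ₁ ⟨x, hPn' x.2⟩ ∈ Q := fun x => hmap₁.le ⟨⟨x, hPn' x.2⟩, x.2, rfl⟩
  refine comp_mem_of_eq (restrict_mem hψ₁E hPn') c1 hx1 fun x => ?_
  refine Eq.symm ((apply_congr ψ₂' ?_).trans (hl₂ ⟨φ x, le_normalizerIn (range_le_S hφ) ⟨x, rfl⟩⟩ ⟨_, rfl⟩))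
  exact apply_congr ψ₂ (apply_congr φ (hl₁i ⟨x, hPn' x.2⟩ _))

end CfsgLib.Fusion
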