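import Cfsg.Agent.Fusion.FocalClosure
import Cfsg.Agent.Fusion.ConstrainedNormal
import Cfsg.Agent.Fusion.LocalSaturation

/-!
The focal subgroup of `C_F(T)` centralizes a normal subsystem over `T`: an automorphism of order
prime to `p` of `Q C_S(Q)` acting trivially modulo `Q` fixes the focal subgroup of `C_F(Q)`.
-/

set_option autoImplicit false
set_option linter.style.haveILetI false

open Cfsg Cfsg.FusionSystem CfsgLib.Fusion

namespace CfsgLib.FocCent

variable {Ω : Type*} [Group Ω] {S T : Subgroup Ω} {F : FusionSystem S}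

/-! ### An automorphism extending another -/

/-- `A` agrees with `a` on `P`. -/
def Agree {P R : Subgroup Ω} (h : P ≤ R) (A : MulAut R) (a : MulAut P) : Prop :=
  ∀ x : P, ((A (Subgroup.inclusion h x) : R) : Ω) = ((a x : P) : Ω)

section

variable {P R : Subgroup Ω} {h : P ≤ R} {A B : MulAut R} {a b : MulAut P}

theorem Agree.apply (hA : Agree h A a) (x : P) :
    A (Subgroup.inclusion h x) = Subgroup.inclusion h (a x) := Subtype.ext (hA x)

theorem Agree.one : Agree h (1 : MulAut R) (1 : MulAut P) := fun _ => rfl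

theorem Agree.mul (hA : Agree h A a) (hB : Agree h B b) : Agree h (A * B) (a * b) := fun x => by
  rw [MulAut.mul_apply, MulAut.mul_apply, hB.apply, hA.apply]
  rfl

theorem Agree.inv (hA : Agree h A a) : Agree h A⁻¹ a⁻¹ := fun x => by
  have h1 : A (Subgroup.inclusion h (a⁻¹ x)) = Subgroup.inclusion h x := by
    rw [hA.apply, MulAut.apply_inv_self]
  rw [← h1, MulAut.inv_apply_self]
  rfl

theorem Agree.pow (hA : Agree h A a) : ∀ n : ℕ, Agree h (A ^ n) (a ^ n)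
  | 0 => by simpa using Agree.one (h := h)
  | n + 1 => by
    rw [pow_succ, pow_succ]
    exact (Agree.pow hA n).mul hA

theorem Agree.mem (hA : Agree h A a) (hR : R ≤ S) (hm : A ∈ F.autGroup R) : a ∈ F.autGroup P :=
  (autGroup_carrier (h.trans hR)).2
    (restrict_mem_of_eq ((autGroup_carrier hR).1 hm) h fun x => (hA x).symm)

theorem Agree.map_mem (hA : Agree h A a) {x : R} (hx : (x : Ω) ∈ P) : ((A x : R) : Ω) ∈ P := by
  rw [show x = Subgroup.inclusion h ⟨x, hx⟩ from rfl, hA]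
  exact SetLike.coe_mem _

theorem Agree.eq_one (hA : Agree h A a) (h1 : A = 1) : a = 1 :=
  MulEquiv.ext fun x => Subtype.ext (by rw [← hA x, h1]; rfl)

end

theorem exists_agree {P R : Subgroup Ω} [Finite P] (h : P ≤ R) (A : MulAut R)
    (hA : ∀ x : R, (x : Ω) ∈ P → ((A x : R) : Ω) ∈ P) : ∃ a : MulAut P, Agree h A a := by
  let f : P →* P :=
    { toFun := fun x => ⟨A (Subgroup.inclusion h x), hA _ x.2⟩
      map_one' := Subtype.ext (by simp)
      map_mul' := fun x y => Subtype.ext (by simp) }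
  have hinj : Function.Injective f := fun x y hxy =>
    Subgroup.inclusion_injective h (A.injective (Subtype.ext (congrArg (fun z : P => (z : Ω)) hxy)))
  exact ⟨MulEquiv.ofBijective f ⟨hinj, Finite.surjective_of_injective hinj⟩, fun x => rfl⟩

/-- An automorphism of `R` stabilizing `Q` carries the elements of `S` centralizing `Q` to such
elements. -/
theorem map_cent {Q R : Subgroup Ω} {h : Q ≤ R} {A : MulAut R} {a : MulAut Q}
    (hA : Agree h A a) (hR : R ≤ S) {x : R} (hx : (x : Ω) ∈ centralizerIn S Q) :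
    ((A x : R) : Ω) ∈ centralizerIn S Q := by
  refine mem_centralizerIn.2 ⟨hR (A x).2, fun q hq => ?_⟩
  obtain ⟨q', hq'⟩ := a.surjective ⟨q, hq⟩
  have h1 : ((A (Subgroup.inclusion h q') : R) : Ω) = q := by rw [hA, hq']
  have h2 : A (Subgroup.inclusion h q') * A x = A x * A (Subgroup.inclusion h q') := by
    rw [← map_mul, ← map_mul]
    exact congrArg A (Subtype.ext (hx.2 q' q'.2))
  rw [← h1]
  exact congrArg Subtype.val h2

theorem commutator_shift {G : Type*} [Group G] {a b z w : G} (hza : Commute z a) (hzb : Commute z b)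
    (hwa : Commute w a) (hwb : Commute w b) (hzw : Commute z w) :
    a * z * (b * w) * (a * z)⁻¹ * (b * w)⁻¹ = a * b * a⁻¹ * b⁻¹ := by
  have h1 : a * z * (b * w) = a * b * (w * z) := by
    rw [mul_assoc a z, ← mul_assoc z b, hzb.eq, mul_assoc b z, hzw.eq, ← mul_assoc a b]
  have h2 : (a * z)⁻¹ = a⁻¹ * z⁻¹ := by rw [mul_inv_rev]; exact (hza.inv_inv).eq
  have h3 : (b * w)⁻¹ = b⁻¹ * w⁻¹ := by rw [mul_inv_rev]; exact (hwb.inv_inv).eq
  have h4 : w * z * a⁻¹ = a⁻¹ * (w * z) := ((hwa.inv_right).mul_left (hza.inv_right)).eq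
  have h5 : w * b⁻¹ = b⁻¹ * w := (hwb.inv_right).eq
  rw [h1, h2, h3]
  calc a * b * (w * z) * (a⁻¹ * z⁻¹) * (b⁻¹ * w⁻¹)
      = a * b * (w * z * a⁻¹) * z⁻¹ * (b⁻¹ * w⁻¹) := by group
    _ = a * b * a⁻¹ * (w * b⁻¹) * w⁻¹ := by rw [h4]; group
    _ = a * b * a⁻¹ * b⁻¹ := by rw [h5]; group

/-- Normal `p`-subgroups of the automorphism group are inner on `S` and on the essential subgroups. -/
theorem le_inn_of_normal [Finite S] (p : ℕ) [Fact p.Prime] (hS : IsPGroup p S)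
    (hF : F.IsSaturated p) {P : Subgroup Ω} (hP : P = S ∨ F.IsEssential p P)
    {N : Subgroup (F.autGroup P)} (hn : N.Normal) (hp : IsPGroup p N) {x : F.autGroup P}
    (hx : x ∈ N) : (x : MulAut P) ∈ Inn P := by
  have hPS : P ≤ S := by
    rcases hP with rfl | hP
    exacts [le_rfl, hP.1.1]
  have := finite_of_le hPS
  have : Finite (MulAut P) := finite_mulAut
  rcases hP with rfl | hP
  · obtain ⟨R, hR⟩ := (good_of_fullyNormalized p hS hF isFullyNormalized_S).1.2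
    obtain ⟨R₀, hR₀⟩ := hp.exists_le_sylow
    obtain ⟨c, hc⟩ := MulAction.exists_smul_eq (F.autGroup P) R₀ R
    have h1 : x ∈ (R : Subgroup (F.autGroup P)) := by
      rw [← hc, Sylow.coe_subgroup_smul]
      exact ⟨c⁻¹ * x * c, hR₀ (by simpa using hn.conj_mem x hx c⁻¹), by simp [mul_assoc]⟩
    rw [hR, Subgroup.mem_subgroupOf, ← inn_eq_autInducedBy] at h1
    exact h1
  · rw [← (isRadical_of_essential p hS hP).2]
    exact ⟨x, CfsgLib.Solvable.le_pCore p hn hp hx, rfl⟩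

/-! ### The key lemma -/

theorem eq_of_focal [Finite S] (p : ℕ) [Fact p.Prime] (hS : IsPGroup p S) (hF : F.IsSaturated p)
    {Q : Subgroup Ω} (hQ : F.IsFullyCentralized Q) {β : MulAut ↥(Q ⊔ centralizerIn S Q)}
    {a : MulAut Q} (hβ : β ∈ F.autGroup (Q ⊔ centralizerIn S Q)) (ha : Agree le_sup_left β a)
    (hco : (orderOf β).Coprime p)
    (hmod : ∀ c : ↥(Q ⊔ centralizerIn S Q), (c : Ω) ∈ centralizerIn S Q →
      (c : Ω)⁻¹ * ((β c : ↥(Q ⊔ centralizerIn S Q)) : Ω) ∈ Q) :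
    ∀ c : ↥(Q ⊔ centralizerIn S Q), (c : Ω) ∈ (centSystem F Q hQ.1).focalSubgroup → β c = c := by
  have hRS : Q ⊔ (centralizerIn S Q) ≤ S := sup_le hQ.1 (centralizerIn_le_S Q)
  have := finite_of_le hRS
  have := finite_of_le (centralizerIn_le_S (S := S) Q)
  have hCp : IsPGroup p (centralizerIn S Q) := isPGroup_of_le hS (centralizerIn_le_S Q)
  have hsat := centralizerSystem_saturated p hS hF hQ (centSystem_spec F Q hQ.1)
  -- the displacement lies in `Q ⊓ (centralizerIn S Q)`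
  have hz : ∀ c : ↥(Q ⊔ (centralizerIn S Q)), (c : Ω) ∈ (centralizerIn S Q) →
      ∃ z ∈ Q ⊓ (centralizerIn S Q), ((β c : ↥(Q ⊔ (centralizerIn S Q))) : Ω) = (c : Ω) * z := fun c hc =>
    ⟨_, Subgroup.mem_inf.2 ⟨hmod c hc, mul_mem (inv_mem hc) (map_cent ha hRS hc)⟩, by simp⟩
  have hZc : ∀ {z y : Ω}, z ∈ Q ⊓ (centralizerIn S Q) → y ∈ (centralizerIn S Q) → Commute z y := fun hz hy =>
    hy.2 _ (Subgroup.mem_inf.1 hz).1
  let K : Subgroup Ω := (centralizerIn S Q) ⊓ ((MonoidHom.eqLocus β.toMonoidHom (MonoidHom.id _)).map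
    (Q ⊔ (centralizerIn S Q)).subtype)
  have hK : ∀ c : ↥(Q ⊔ (centralizerIn S Q)), (c : Ω) ∈ (centralizerIn S Q) → β c = c → (c : Ω) ∈ K := fun c hc h =>
    Subgroup.mem_inf.2 ⟨hc, c, h, rfl⟩
  suffices h : (centSystem F Q hQ.1).focalSubgroup ≤ K by
    intro c hc
    obtain ⟨c', hc', he⟩ := (Subgroup.mem_inf.1 (h hc)).2
    obtain rfl : c' = c := Subtype.ext he
    exact (hc' : β c' = c')
  refine focalSubgroup_le_of_aut p hCp hsat (Subgroup.commutator_le.2 fun u hu v hv => ?_) ?_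
  · have hu' : u ∈ Q ⊔ (centralizerIn S Q) := Subgroup.mem_sup_right hu
    have hv' : v ∈ Q ⊔ (centralizerIn S Q) := Subgroup.mem_sup_right hv
    obtain ⟨z, hz1, hze⟩ := hz ⟨u, hu'⟩ hu
    obtain ⟨w, hw1, hwe⟩ := hz ⟨v, hv'⟩ hv
    rw [commutatorElement_def]
    refine hK ⟨u * v * u⁻¹ * v⁻¹, mul_mem (mul_mem (mul_mem hu' hv') (inv_mem hu')) (inv_mem hv')⟩
      (mul_mem (mul_mem (mul_mem hu hv) (inv_mem hu)) (inv_mem hv)) (Subtype.ext ?_)
    show ((β (⟨u, hu'⟩ * ⟨v, hv'⟩ * ⟨u, hu'⟩⁻¹ * ⟨v, hv'⟩⁻¹) : ↥(Q ⊔ (centralizerIn S Q))) : Ω) = _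
    simp only [map_mul, map_inv, Subgroup.coe_mul, InvMemClass.coe_inv, hze, hwe]
    exact commutator_shift (hZc hz1 hu) (hZc hz1 hv) (hZc hw1 hu) (hZc hw1 hv)
      (hZc hz1 (Subgroup.mem_inf.1 hw1).2)
  -- the automorphism groups of the centralizer system
  intro P hP α hα x
  have hPC : P ≤ (centralizerIn S Q) := by
    rcases hP with rfl | hP
    exacts [le_rfl, hP.1.1]
  have hPcent : (centSystem F Q hQ.1).IsCentric P := by
    rcases hP with rfl | hP
    exacts [isCentric_S, hP.1]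
  have hZP : Q ⊓ (centralizerIn S Q) ≤ P := fun z hz' => centralizer_mem_of_centric hPcent
    (Subgroup.mem_inf.1 hz').2 fun y hy => ((hZc hz' (hPC hy)).eq).symm
  have := finite_of_le (hPC.trans (centralizerIn_le_S Q))
  have hR2S : P ⊔ Q ≤ S := sup_le (hPC.trans (centralizerIn_le_S Q)) hQ.1
  have := finite_of_le hR2S
  have hR2 : P ⊔ Q ≤ Q ⊔ (centralizerIn S Q) := sup_le (hPC.trans le_sup_right) le_sup_left
  have hβP : ∀ y : ↥(Q ⊔ (centralizerIn S Q)), (y : Ω) ∈ P → ((β y : ↥(Q ⊔ (centralizerIn S Q))) : Ω) ∈ P := fun y hy => by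
    obtain ⟨z, hz1, hze⟩ := hz y (hPC hy)
    rw [hze]
    exact mul_mem hy (hZP hz1)
  obtain ⟨b, hb⟩ := exists_agree (hPC.trans le_sup_right) β hβP
  obtain ⟨b₂, hb₂⟩ := exists_agree hR2 β fun y hy => by
    let W : Subgroup ↥(Q ⊔ (centralizerIn S Q)) := ((P ⊔ Q).subgroupOf (Q ⊔ (centralizerIn S Q))).comap β.toMonoidHom
    have hle : (P ⊔ Q).subgroupOf (Q ⊔ (centralizerIn S Q)) ≤ W := by
      rw [Subgroup.subgroupOf_sup (hPC.trans le_sup_right) le_sup_left]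
      refine sup_le (fun y hy => ?_) fun y hy => ?_
      · exact Subgroup.mem_sup_left (hβP y hy)
      · exact Subgroup.mem_sup_right (show ((β y : ↥(Q ⊔ centralizerIn S Q)) : Ω) ∈ Q from
          ha.map_mem hy)
    exact hle hy
  have hb₂F : b₂ ∈ F.autGroup (P ⊔ Q) := hb₂.mem hRS hβ
  have hbb₂ : Agree le_sup_left b₂ b := fun y =>
    (hb₂ (Subgroup.inclusion le_sup_left y)).symm.trans (hb y)
  have hab₂ : Agree le_sup_right b₂ a := fun y =>
    (hb₂ (Subgroup.inclusion le_sup_right y)).symm.trans (ha y)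
  obtain ⟨hαF, -, -, ψ, hψ, hψe, hψf⟩ := (autGroup_carrier hPC).1 hα
  have hψr : ψ.range = P ⊔ Q := by
    rw [range_eq_sup]
    congr 1
    · exact ((map_subgroupOf_congr le_sup_left le_rfl fun y hy => hψe ⟨y, hy⟩).trans
        (map_subgroupOf_self _)).trans (range_subtype_comp α)
    · refine (map_subgroupOf_congr (χ := Q.subtype) le_sup_right le_rfl
        fun y hy => hψf ⟨y, hy⟩).trans ?_
      rw [map_subgroupOf_self, Q.range_subtype]
  let a₂ := autOfRange ψ (F.injective_of_mem hψ) hψr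
  have haα : Agree le_sup_left a₂ α := fun y => hψe y
  have ha₁ : Agree le_sup_right a₂ (1 : MulAut Q) := fun y => hψf y
  let γ : MulAut P := b * α * b⁻¹ * α⁻¹
  have hγ₂ : Agree le_sup_left (b₂ * a₂ * b₂⁻¹ * a₂⁻¹) γ :=
    ((hbb₂.mul haα).mul hbb₂.inv).mul haα.inv
  have hγ₁ : Agree le_sup_right (b₂ * a₂ * b₂⁻¹ * a₂⁻¹) (1 : MulAut Q) := by
    simpa using ((hab₂.mul ha₁).mul hab₂.inv).mul ha₁.inv
  have hγ₂F : b₂ * a₂ * b₂⁻¹ * a₂⁻¹ ∈ F.autGroup (P ⊔ Q) :=
    mul_mem (mul_mem (mul_mem hb₂F (autOfRange_mem hψ hψr)) (inv_mem hb₂F))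
      (inv_mem (autOfRange_mem hψ hψr))
  have hγC : γ ∈ (centSystem F Q hQ.1).autGroup P :=
    (autGroup_carrier hPC).2 ⟨(autGroup_carrier (hPC.trans (centralizerIn_le_S Q))).1
      (hγ₂.mem hR2S hγ₂F), hPC, fun y => hPC (γ y).2, _, (autGroup_carrier hR2S).1 hγ₂F, hγ₂, hγ₁⟩
  have hbz : ∀ y : P, ∃ z ∈ Q ⊓ (centralizerIn S Q), ((b y : P) : Ω) = (y : Ω) * z := fun y => by
    rw [← hb y]
    exact hz (Subgroup.inclusion _ y) (hPC y.2)
  have hfix : ∀ g ∈ (centSystem F Q hQ.1).autGroup P, ∀ z : P, (z : Ω) ∈ Q → g z = z := by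
    intro g hg z hzQ
    obtain ⟨-, -, -, χ, -, hχe, hχf⟩ := (autGroup_carrier hPC).1 hg
    exact Subtype.ext (((hχe z).symm.trans (apply_congr χ rfl)).trans (hχf ⟨z, hzQ⟩))
  -- the automorphisms trivial modulo `Q ⊓ (centralizerIn S Q)`
  let A := (centSystem F Q hQ.1).autGroup P
  let N : Subgroup A :=
    { carrier := {g | ∀ y : P, (y : Ω)⁻¹ * (((g : MulAut P) y : P) : Ω) ∈ Q ⊓ (centralizerIn S Q)}
      one_mem' := fun y => by simp
      mul_mem' := fun {g k} hg hk y => by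
        have := mul_mem (hk y) (hg ((k : MulAut P) y))
        simpa [mul_assoc] using this
      inv_mem' := fun {g} hg y => by
        simpa using inv_mem (hg ((g : MulAut P)⁻¹ y)) }
  have hNn : N.Normal := ⟨fun g hg k y => by
    obtain ⟨u, rfl⟩ := (k : MulAut P).surjective y
    have hzm := hg u
    let z : P := ⟨_, hZP hzm⟩
    have h1 : (g : MulAut P) u = u * z := Subtype.ext (by simp [z])
    have h2 : ((k * g * k⁻¹ : A) : MulAut P) ((k : MulAut P) u) = (k : MulAut P) u * z := by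
      simp only [Subgroup.coe_mul, InvMemClass.coe_inv, MulAut.mul_apply, MulAut.inv_apply_self,
        h1, map_mul, hfix _ k.2 z (Subgroup.mem_inf.1 hzm).1]
    rw [h2]
    simp [z, hzm]⟩
  have hNp : IsPGroup p N := by
    obtain ⟨j, hj⟩ := IsPGroup.iff_card.1 (isPGroup_of_le hS (hPC.trans (centralizerIn_le_S Q)))
    refine fun g => ⟨j, Subtype.ext (Subtype.ext (MulEquiv.ext fun y => ?_))⟩
    have hzm := g.2 y
    let z : P := ⟨_, hZP hzm⟩
    have h1 : ((g : A) : MulAut P) y = y * z := Subtype.ext (by simp [z])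
    have hiter : ∀ n : ℕ, ((((g : A) : MulAut P)) ^ n) y = y * z ^ n := by
      intro n
      induction n with
      | zero => simp
      | succ n ih =>
        rw [pow_succ', MulAut.mul_apply, ih, map_mul, map_pow, h1,
          hfix _ (g : A).2 z (Subgroup.mem_inf.1 hzm).1, pow_succ', mul_assoc]
    show ((((g : A) : MulAut P)) ^ (p ^ j)) y = y
    rw [hiter, ← hj, pow_card_eq_one', mul_one]
  have hγN : (⟨γ, hγC⟩ : A) ∈ N := by
    intro y
    obtain ⟨u, rfl⟩ := α.surjective y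
    obtain ⟨v, rfl⟩ := b.surjective u
    obtain ⟨z, hz1, hze⟩ := hbz v
    obtain ⟨z', hz'1, hz'e⟩ := hbz (α v)
    have hbv : b v = v * ⟨z, hZP hz1⟩ := Subtype.ext hze
    have hαbv : α (b v) = α v * ⟨z, hZP hz1⟩ := by
      rw [hbv, map_mul, hfix α hα ⟨z, hZP hz1⟩ (Subgroup.mem_inf.1 hz1).1]
    have hγv : γ (α (b v)) = b (α v) := by simp [γ]
    show ((α (b v) : P) : Ω)⁻¹ * ((γ (α (b v)) : P) : Ω) ∈ Q ⊓ (centralizerIn S Q)
    rw [hγv, hz'e, hαbv, Subgroup.coe_mul, mul_inv_rev, mul_assoc, inv_mul_cancel_left]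
    exact mul_mem (inv_mem hz1) hz'1
  obtain ⟨w, hw⟩ := le_inn_of_normal p hCp hsat hP hNn hNp hγN
  change MulAut.conj w = γ at hw
  -- `b` commutes with `γ`, so `γ = 1`
  have hcomm : Commute b γ := by
    obtain ⟨z, hz1, hze⟩ := hbz w
    refine MulEquiv.ext fun y => ?_
    obtain ⟨z', hz'1, hz'e⟩ := hbz y
    have hbw : b w = w * ⟨z, hZP hz1⟩ := Subtype.ext hze
    rw [← hw]
    simp only [MulAut.mul_apply, MulAut.conj_apply, map_mul, map_inv, hbw]
    refine Subtype.ext ?_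
    have hc1 := hZc hz1 (hPC (b y).2)
    simp only [Subgroup.coe_mul, InvMemClass.coe_inv, mul_inv_rev]
    calc (w : Ω) * z * ((b y : P) : Ω) * (z⁻¹ * (w : Ω)⁻¹)
        = (w : Ω) * (z * ((b y : P) : Ω)) * z⁻¹ * (w : Ω)⁻¹ := by group
      _ = (w : Ω) * ((b y : P) : Ω) * (w : Ω)⁻¹ := by rw [hc1.eq]; group
  have hγ1 : γ = 1 := by
    have hγw : ∀ n : ℕ, b ^ n * α * (b ^ n)⁻¹ = γ ^ n * α := by
      intro n
      induction n with
      | zero => simp
      | succ n ih =>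
        calc b ^ (n + 1) * α * (b ^ (n + 1))⁻¹ = b * (b ^ n * α * (b ^ n)⁻¹) * b⁻¹ := by
              rw [pow_succ']; group
          _ = b * (γ ^ n * α) * b⁻¹ := by rw [ih]
          _ = γ ^ n * (b * α * b⁻¹) := by
              rw [← mul_assoc b, (hcomm.pow_right n).eq]; group
          _ = γ ^ (n + 1) * α := by
              rw [show b * α * b⁻¹ = γ * α by simp [γ], pow_succ]; group
    have hbm : b ^ orderOf β = 1 := (hb.pow _).eq_one (pow_orderOf_eq_one β)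
    have h1 : γ ^ orderOf β = 1 := by
      have := hγw (orderOf β)
      rw [hbm, one_mul, inv_one, mul_one] at this
      exact mul_eq_right.1 this.symm
    obtain ⟨j, hj⟩ := IsPGroup.iff_card.1 (isPGroup_of_le hS (hPC.trans (centralizerIn_le_S Q)))
    have h2 : γ ^ p ^ j = 1 := by rw [← hw, ← map_pow, ← hj, pow_card_eq_one', map_one]
    exact orderOf_eq_one_iff.1 (Nat.eq_one_of_dvd_coprimes (hco.pow_right j)
      (orderOf_dvd_of_pow_eq_one h1) (orderOf_dvd_of_pow_eq_one h2))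
  have hcm : b * α = α * b := by
    have h := hγ1
    calc b * α = γ * α * b := by simp [γ]
      _ = α * b := by rw [h, one_mul]
  have hmem : ((x⁻¹ * α x : P) : Ω) ∈ Q ⊔ (centralizerIn S Q) := Subgroup.mem_sup_right (hPC (SetLike.coe_mem _))
  refine hK ⟨_, hmem⟩ (hPC (x⁻¹ * α x).2) (Subtype.ext ?_)
  show ((β (Subgroup.inclusion (hPC.trans le_sup_right) (x⁻¹ * α x)) : ↥(Q ⊔ (centralizerIn S Q))) : Ω) = _
  rw [hb]
  obtain ⟨z, hz1, hze⟩ := hbz x
  have hbx : b x = x * ⟨z, hZP hz1⟩ := Subtype.ext hze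
  have h1 : b (α x) = α x * ⟨z, hZP hz1⟩ := by
    have := DFunLike.congr_fun hcm x
    simp only [MulAut.mul_apply] at this
    rw [this, hbx, map_mul, hfix α hα ⟨z, hZP hz1⟩ (Subgroup.mem_inf.1 hz1).1]
  rw [map_mul, map_inv, hbx, h1]
  simp only [Subgroup.coe_mul, InvMemClass.coe_inv, mul_inv_rev]
  calc z⁻¹ * (x : Ω)⁻¹ * (((α x : P) : Ω) * z)
      = z⁻¹ * ((x : Ω)⁻¹ * ((α x : P) : Ω) * z) := by group
    _ = z⁻¹ * (z * ((x : Ω)⁻¹ * ((α x : P) : Ω))) := by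
        rw [(hZc hz1 (mul_mem (inv_mem (hPC x.2)) (hPC (α x).2))).eq]
    _ = (x : Ω)⁻¹ * ((α x : P) : Ω) := by group

/-! ### The automorphisms extending trivially modulo `Q` -/

/-- The automorphisms of `Q` with an extension to `Q C_S(Q)` acting on `C_S(Q)` trivially modulo `Q`. -/
def modAut (F : FusionSystem S) {Q : Subgroup Ω} (hQS : Q ≤ S) : Subgroup (MulAut Q) where
  carrier := {a | ∃ β ∈ F.autGroup (Q ⊔ centralizerIn S Q), Agree le_sup_left β a ∧
    ∀ c : ↥(Q ⊔ centralizerIn S Q), (c : Ω) ∈ centralizerIn S Q →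
      (c : Ω)⁻¹ * ((β c : ↥(Q ⊔ centralizerIn S Q)) : Ω) ∈ Q}
  one_mem' := ⟨1, one_mem _, Agree.one, fun c _ => by simp⟩
  mul_mem' := by
    rintro a b ⟨A, hA, hAa, hAm⟩ ⟨B, hB, hBb, hBm⟩
    refine ⟨A * B, mul_mem hA hB, hAa.mul hBb, fun c hc => ?_⟩
    have := mul_mem (hBm c hc)
      (hAm (B c) (map_cent hBb (sup_le hQS (centralizerIn_le_S Q)) hc))
    simpa [mul_assoc] using this
  inv_mem' := by
    rintro a ⟨A, hA, hAa, hAm⟩
    refine ⟨A⁻¹, inv_mem hA, hAa.inv, fun c hc => ?_⟩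
    simpa using inv_mem (hAm (A⁻¹ c) (map_cent hAa.inv (sup_le hQS (centralizerIn_le_S Q)) hc))

theorem modAut_conj [Finite S] (p : ℕ) [Fact p.Prime] (hS : IsPGroup p S) (hF : F.IsSaturated p)
    {Q : Subgroup Ω} (hQ : F.IsFullyCentralized Q) {a g : MulAut Q} (ha : a ∈ modAut F hQ.1)
    (hg : g ∈ F.autGroup Q) : g * a * g⁻¹ ∈ modAut F hQ.1 := by
  obtain ⟨A, hA, hAa, hAm⟩ := ha
  obtain ⟨ψ, hψ, he⟩ := saturated_extend p hS hF ((autGroup_carrier hQ.1).1 hg)
    (by rw [range_subtype_comp]; exact hQ)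
    (sup_le (le_extender ((autGroup_carrier hQ.1).1 hg))
      (centralizerIn_le_extender Q (Q.subtype.comp g.toMonoidHom)) :
      Q ⊔ centralizerIn S Q ≤ extender S Q (Q.subtype.comp g.toMonoidHom))
  have hRS : Q ⊔ centralizerIn S Q ≤ S := sup_le hQ.1 (centralizerIn_le_S Q)
  have hmQ : (Q.subgroupOf (Q ⊔ centralizerIn S Q)).map ψ = Q :=
    (map_eq_range_of_eq le_sup_left he).trans (range_subtype_comp g)
  have hr : ψ.range = Q ⊔ centralizerIn S Q := by
    refine eq_of_le_of_card_le hRS ?_ (card_range hψ).ge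
    rw [range_eq_sup, hmQ]
    refine sup_le_sup_left (fun y hy => ?_) Q
    obtain ⟨x, hx, hxC, rfl⟩ := mem_map_subgroupOf.1 hy
    have h1 := map_mem_centralizerIn hψ (P := Q) le_sup_left hxC hx
    rwa [hmQ] at h1
  let G := autOfRange ψ (F.injective_of_mem hψ) hr
  have hG : Agree le_sup_left G g := fun x => he x x.2 _
  refine ⟨G * A * G⁻¹, mul_mem (mul_mem (autOfRange_mem hψ hr) hA)
    (inv_mem (autOfRange_mem hψ hr)), (hG.mul hAa).mul hG.inv, fun c hc => ?_⟩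
  obtain ⟨d, rfl⟩ := G.surjective c
  have hd : (d : Ω) ∈ centralizerIn S Q := by
    have := map_cent hG.inv hRS hc
    rwa [MulAut.inv_apply_self] at this
  have h1 := hG.map_mem (x := d⁻¹ * A d) (hAm d hd)
  rw [map_mul, map_inv, Subgroup.coe_mul, InvMemClass.coe_inv] at h1
  simpa [MulAut.mul_apply] using h1

/-- An automorphism of order prime to `p` in `modAut` extends so as to fix the focal subgroup of
`C_F(Q)`. -/
theorem exists_fix [Finite S] (p : ℕ) [Fact p.Prime] (hS : IsPGroup p S) (hF : F.IsSaturated p)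
    {Q : Subgroup Ω} (hQ : F.IsFullyCentralized Q) {a : MulAut Q} (ha : a ∈ modAut F hQ.1)
    (hco : (orderOf a).Coprime p) :
    ∃ β ∈ F.autGroup (Q ⊔ centralizerIn S Q), Agree le_sup_left β a ∧
      ∀ c : ↥(Q ⊔ centralizerIn S Q), (c : Ω) ∈ (centSystem F Q hQ.1).focalSubgroup → β c = c := by
  obtain ⟨A, hA, hAa, hAm⟩ := ha
  have := finite_of_le (sup_le hQ.1 (centralizerIn_le_S (S := S) Q))
  have : Finite (MulAut ↥(Q ⊔ centralizerIn S Q)) := finite_mulAut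
  obtain ⟨e, he1, he2⟩ := CfsgLib.Fusion.ConstrainedNormal.exists_pow_coprime p A
  have hae : a ^ e = a := he2 a hco
    (orderOf_dvd_of_pow_eq_one ((hAa.pow _).eq_one (pow_orderOf_eq_one A)))
  have h1 : Agree le_sup_left (A ^ e) a := by
    have := hAa.pow e
    rwa [hae] at this
  refine ⟨A ^ e, pow_mem hA e, h1, eq_of_focal p hS hF hQ (pow_mem hA e) h1 he1 ?_⟩
  have key : ∀ n : ℕ, ∀ c : ↥(Q ⊔ centralizerIn S Q), (c : Ω) ∈ centralizerIn S Q →
      (c : Ω)⁻¹ * (((A ^ n) c : ↥(Q ⊔ centralizerIn S Q)) : Ω) ∈ Q := by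
    intro n
    induction n with
    | zero => intro c _; simp
    | succ n ih =>
      intro c hc
      have := mul_mem (hAm c hc)
        (ih (A c) (map_cent hAa (sup_le hQ.1 (centralizerIn_le_S Q)) hc))
      simpa [pow_succ, mul_assoc] using this
  exact key e

/-! ### Every map of the normal subsystem fixes the focal subgroup -/

/-- A subgroup containing a Sylow subgroup and all elements of order prime to `p` of `K` contains
`K`. -/
theorem le_of_sylow_coprime {A : Type*} [Group A] [Finite A] (p : ℕ) [Fact p.Prime] (R : Sylow p A)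
    {K B : Subgroup A} (hRK : (R : Subgroup A) ≤ K) (hRB : (R : Subgroup A) ≤ B)
    (hco : ∀ a ∈ K, (orderOf a).Coprime p → a ∈ B) : K ≤ B := by
  obtain ⟨j, hj⟩ := CfsgLib.PResidual.exists_index_pResidual (G := K) (p := p)
  have hN : pResidual p K ≤ B.subgroupOf K := (Subgroup.closure_le _).2 fun a ha =>
    hco a a.2 (by rwa [Subgroup.orderOf_coe])
  have hR : ¬ p ∣ ((R : Subgroup A).subgroupOf K).index := fun h =>
    R.not_dvd_index (h.trans ((dvd_mul_right _ _).trans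
      (Subgroup.relIndex_mul_index hRK).dvd))
  have h1 : (B.subgroupOf K).index = 1 := Nat.eq_one_of_dvd_coprimes
    (Nat.Coprime.pow_left j ((Nat.Prime.coprime_iff_not_dvd Fact.out).2 hR))
    (hj ▸ Subgroup.index_dvd_of_le hN)
    (Subgroup.index_dvd_of_le fun x hx => Subgroup.mem_subgroupOf.2 (hRB hx))
  exact Subgroup.subgroupOf_eq_top.1 (Subgroup.index_eq_one.1 h1)

/-- The centric subgroups of an invariant subsystem keep their centralizer property in the big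
system. -/
theorem centralizer_le_of_isConj {E : FusionSystem T} (hinv : E.IsInvariantIn F) {P Q : Subgroup Ω}
    (hP : E.IsCentric P) (hPQ : F.IsConj P Q) : centralizerIn T Q ≤ Q := by
  obtain ⟨φ, hφ, rfl⟩ := hPQ
  obtain ⟨α, -, φ₀, hφ₀, he⟩ := hinv.2.2.2 P hP.1 φ hφ
  have h0 : centralizerIn T φ₀.range ≤ φ₀.range := hP.2 _ ⟨φ₀, hφ₀, rfl⟩
  intro g hg
  have hg0 : ((α⁻¹ ⟨g, hg.1⟩ : T) : Ω) ∈ φ₀.range := by
    refine h0 (mem_centralizerIn.2 ⟨SetLike.coe_mem _, ?_⟩)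
    rintro _ ⟨x, rfl⟩
    have hc : α ⟨φ₀ x, apply_mem_S hφ₀ x⟩ * ⟨g, hg.1⟩ = ⟨g, hg.1⟩ * α ⟨φ₀ x, apply_mem_S hφ₀ x⟩ :=
      Subtype.ext (by
        simp only [Subgroup.coe_mul]
        rw [← he x (apply_mem_S hφ₀ x)]
        exact hg.2 _ ⟨x, rfl⟩)
    have h1 := congrArg (α⁻¹ : MulAut T) hc
    rw [map_mul, map_mul, MulAut.inv_apply_self] at h1
    exact congrArg Subtype.val h1
  obtain ⟨x, hx⟩ := hg0
  refine ⟨x, ?_⟩
  rw [he x (apply_mem_S hφ₀ x), show (⟨φ₀ x, apply_mem_S hφ₀ x⟩ : T) = α⁻¹ ⟨g, hg.1⟩ from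
    Subtype.ext hx, MulAut.apply_inv_self]

/-- The maps of a subsystem over a subgroup centralizing `X` that extend fixing `X`. -/
def fixSystem (E : FusionSystem T) (F : FusionSystem S) (X : Subgroup Ω) (hX : X ≤ S)
    (hTX : T ≤ centralizerIn S X) : FusionSystem T where
  Hom P := E.Hom P ∩ (centSystem F X hX).Hom P
  le_of_mem h := E.le_of_mem h.1
  injective_of_mem h := E.injective_of_mem h.1
  conj_mem hP hg := ⟨E.conj_mem hP hg, (centSystem F X hX).conj_mem (hP.trans hTX) (hTX hg)⟩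
  comp_mem hφ hψ h := ⟨E.comp_mem hφ.1 hψ.1 h, (centSystem F X hX).comp_mem hφ.2 hψ.2 h⟩
  inv_mem := by
    intro P φ hφ
    obtain ⟨ψ, hψ, h⟩ := E.inv_mem hφ.1
    obtain ⟨χ, hχ, h'⟩ := (centSystem F X hX).inv_mem hφ.2
    refine ⟨ψ, ⟨hψ, ?_⟩, h⟩
    have e : ψ = χ := MonoidHom.ext fun y => by
      obtain ⟨x, hx⟩ := y.2
      obtain rfl : y = ⟨φ x, ⟨x, rfl⟩⟩ := Subtype.ext hx.symm
      rw [h, h']
    exact e ▸ hχ

variable [Finite S] (p : ℕ) [Fact p.Prime] (hS : IsPGroup p S) (hF : F.IsSaturated p)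
  {E : FusionSystem T}

/-- The image of `foc(C_F(T))` under a map carrying `P ≤ T` to `Q` lies in `foc(C_F(Q))`. -/
theorem map_focal_le {P Q N : Subgroup Ω} (hPT : P ≤ T) (hTS : T ≤ S) (hQS : Q ≤ S) {φ : N →* Ω}
    (hφ : φ ∈ F.Hom N) (hPN : P ≤ N) (hN : centralizerIn S T ≤ N)
    (hQ : (P.subgroupOf N).map φ = Q) :
    (centSystem F T hTS).focalSubgroup ≤
      ((centSystem F Q hQS).focalSubgroup.comap φ).map N.subtype := by
  refine (Subgroup.closure_le _).2 ?_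
  rintro _ ⟨U, φ₀, u, hφ₀, rfl⟩
  obtain ⟨-, hU, hval, ψ₀, hψ₀, hψe, hψf⟩ := hφ₀
  have huN : (u : Ω) ∈ N := hN (hU u.2)
  have hvN : φ₀ u ∈ N := hN (hval u)
  refine ⟨⟨(u : Ω)⁻¹ * φ₀ u, mul_mem (inv_mem huN) hvN⟩, ?_, rfl⟩
  show φ (⟨(u : Ω), huN⟩⁻¹ * ⟨φ₀ u, hvN⟩) ∈ (centSystem F Q hQS).focalSubgroup
  rw [map_mul, map_inv]
  let W := Subgroup.zpowers (u : Ω) ⊔ P
  have hWN : W ≤ N := sup_le (Subgroup.zpowers_le.2 huN) hPN
  have hWU : W ≤ U ⊔ T := sup_le_sup (Subgroup.zpowers_le.2 u.2) hPT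
  obtain ⟨θ, hθ, -, hθ1, -⟩ := exists_inv (restrict_mem hφ hWN) rfl
  let η : W →* Ω := ψ₀.comp (Subgroup.inclusion hWU)
  have hη : η ∈ F.Hom W := restrict_mem hψ₀ hWU
  have hηN : ∀ x, η x ∈ N := fun x => by
    refine (show η.range ≤ N from ?_) ⟨x, rfl⟩
    rw [range_eq_sup]
    refine sup_le ?_ ?_
    · rw [Subgroup.map_le_iff_le_comap]
      intro y hy
      obtain ⟨k, hk⟩ := Subgroup.mem_zpowers_iff.1 (show (y : Ω) ∈ Subgroup.zpowers (u : Ω) from hy)
      have : Subgroup.inclusion hWU y =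
          (Subgroup.inclusion (le_sup_left : U ≤ U ⊔ T) u) ^ k := Subtype.ext (by simp [hk])
      show ψ₀ (Subgroup.inclusion hWU y) ∈ N
      rw [this, map_zpow, hψe]
      exact zpow_mem hvN k
    · rintro _ ⟨y, hy, rfl⟩
      exact Set.mem_of_eq_of_mem ((apply_congr ψ₀ rfl).trans (hψf ⟨y, hPT hy⟩)) (hPN hy)
  let V := (φ.comp (Subgroup.inclusion hWN)).range
  have hθW : ∀ y, θ y ∈ W := by
    rintro ⟨_, x, rfl⟩
    exact Set.mem_of_eq_of_mem (hθ1 x ⟨x, rfl⟩) x.2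
  have hκ : (φ.comp (η.codRestrict N hηN)).comp (θ.codRestrict W hθW) ∈ F.Hom V :=
    F.comp_mem hθ (F.comp_mem hη hφ hηN) hθW
  let y := φ ⟨(u : Ω), huN⟩
  have hUV : Subgroup.zpowers y ⊔ Q ≤ V := by
    refine sup_le (Subgroup.zpowers_le.2
      ⟨⟨u, Subgroup.mem_sup_left (Subgroup.mem_zpowers _)⟩, rfl⟩) ?_
    rw [← hQ]
    rintro _ ⟨⟨x, hxN⟩, hxP, rfl⟩
    exact ⟨⟨x, Subgroup.mem_sup_right hxP⟩, rfl⟩
  have hχ := restrict_mem hκ hUV
  let χ := ((φ.comp (η.codRestrict N hηN)).comp (θ.codRestrict W hθW)).comp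
    (Subgroup.inclusion hUV)
  have hχW : ∀ (x : W) (h : φ (Subgroup.inclusion hWN x) ∈ Subgroup.zpowers y ⊔ Q),
      χ ⟨_, h⟩ = φ ⟨η x, hηN x⟩ := fun x h =>
    apply_congr φ (apply_congr η (hθ1 x ⟨x, rfl⟩))
  have hfix : ∀ q : Q, χ (Subgroup.inclusion le_sup_right q) = q := by
    intro q
    obtain ⟨x, hxN, hxP, hxq⟩ := mem_map_subgroupOf.1 (hQ.ge q.2)
    have hxW : x ∈ W := Subgroup.mem_sup_right hxP
    have h1 := hχW ⟨x, hxW⟩ (Subgroup.mem_sup_right (Set.mem_of_eq_of_mem hxq q.2))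
    refine ((apply_congr χ hxq.symm).trans (h1.trans ?_)).trans hxq
    exact apply_congr φ ((apply_congr ψ₀ rfl).trans (hψf ⟨x, hPT hxP⟩))
  have hyC : Subgroup.zpowers y ≤ centralizerIn S Q := by
    refine Subgroup.zpowers_le.2 ?_
    rw [← hQ]
    exact map_mem_centralizerIn hφ hPN
      (mem_centralizerIn.2 ⟨le_of_mem_hom hφ huN, fun x hx => (hU u.2).2 x (hPT hx)⟩) huN
  have hmem : χ.comp (Subgroup.inclusion le_sup_left) ∈
      (centSystem F Q hQS).Hom (Subgroup.zpowers y) := by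
    refine ⟨restrict_mem hχ _, hyC, fun z => mem_centralizerIn.2
      ⟨apply_mem_S (restrict_mem hχ _) z, fun q hq => ?_⟩, χ, hχ, fun z => rfl, hfix⟩
    show q * χ (Subgroup.inclusion le_sup_left z) = χ (Subgroup.inclusion le_sup_left z) * q
    rw [show q = χ (Subgroup.inclusion le_sup_right ⟨q, hq⟩) from (hfix ⟨q, hq⟩).symm, ← map_mul,
      ← map_mul]
    exact apply_congr χ ((hyC z.2).2 q hq)
  refine Subgroup.subset_closure ⟨_, _, ⟨y, Subgroup.mem_zpowers y⟩, hmem, ?_⟩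
  have h1 := hχW ⟨u, Subgroup.mem_sup_left (Subgroup.mem_zpowers _)⟩
    (Subgroup.mem_sup_left (Subgroup.mem_zpowers y))
  refine congrArg (fun z => y⁻¹ * z) ((Eq.trans (apply_congr χ rfl) h1).trans ?_).symm
  exact apply_congr φ ((apply_congr ψ₀ rfl).trans (hψe u))

include hS hF in
/-- An automorphism of order prime to `p` whose transport lies in `modAut` extends fixing
`foc(C_F(T))`. -/
theorem mem_centAut {P Q N : Subgroup Ω} (hPT : P ≤ T) (hTS : T ≤ S)
    (hQ : F.IsFullyCentralized Q) {φ : N →* Ω} (hφ : φ ∈ F.Hom N) (hPN : P ≤ N)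
    (hN : centralizerIn S T ≤ N) (hPQ : (P.subgroupOf N).map φ = Q)
    (e : P ≃* Q) (he : ∀ x : P, ((e x : Q) : Ω) = φ (Subgroup.inclusion hPN x))
    {α : MulAut P} (hα : MulAut.congr e α ∈ modAut F hQ.1) (hco : (orderOf α).Coprime p)
    (hX : (centSystem F T hTS).focalSubgroup ≤ S)
    (hPX : P ≤ centralizerIn S (centSystem F T hTS).focalSubgroup) :
    α ∈ (centSystem F _ hX).autGroup P := by
  set X := (centSystem F T hTS).focalSubgroup with hXdef
  obtain ⟨β, hβ, hβa, hβf⟩ := exists_fix p hS hF hQ hα (by rwa [MulEquiv.orderOf_eq])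
  have hfoc : X ≤ centralizerIn S T := (Subgroup.closure_le _).2 (by
    rintro _ ⟨U, φ₀, u, hφ₀, rfl⟩
    exact mul_mem (inv_mem (hφ₀.2.1 u.2)) (hφ₀.2.2.1 u))
  have hXN : X ≤ N := hfoc.trans hN
  have hW : P ⊔ X ≤ N := sup_le hPN hXN
  let ψ : ↥(P ⊔ X) →* Ω := φ.comp (Subgroup.inclusion hW)
  have hψ : ψ ∈ F.Hom (P ⊔ X) := restrict_mem hφ hW
  obtain ⟨θ, hθ, -, hθ1, -⟩ := exists_inv hψ rfl
  have hRS : Q ⊔ centralizerIn S Q ≤ S := sup_le hQ.1 (centralizerIn_le_S Q)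
  have key : ∀ x (hx : x ∈ X), ∃ h : φ ⟨x, hXN hx⟩ ∈ Q ⊔ centralizerIn S Q,
      φ ⟨x, hXN hx⟩ ∈ (centSystem F Q hQ.1).focalSubgroup ∧ β ⟨_, h⟩ = ⟨_, h⟩ := by
    intro x hx
    obtain ⟨⟨x', hx'⟩, hm, he'⟩ := map_focal_le hPT hTS hQ.1 hφ hPN hN hPQ hx
    obtain rfl : x' = x := he'
    have hc : φ ⟨x', hx'⟩ ∈ centralizerIn S Q := (Subgroup.closure_le _).2 (by
      rintro _ ⟨U, φ₀, u, hφ₀, rfl⟩
      exact mul_mem (inv_mem (hφ₀.2.1 u.2)) (hφ₀.2.2.1 u)) hm
    exact ⟨Subgroup.mem_sup_right hc, hm, hβf _ hm⟩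
  have keyP : ∀ x : P, ∃ h : φ (Subgroup.inclusion hPN x) ∈ Q ⊔ centralizerIn S Q,
      ((β ⟨_, h⟩ : ↥(Q ⊔ centralizerIn S Q)) : Ω) = φ (Subgroup.inclusion hPN (α x)) := by
    intro x
    have h : φ (Subgroup.inclusion hPN x) ∈ Q ⊔ centralizerIn S Q :=
      Subgroup.mem_sup_left (he x ▸ (e x).2)
    refine ⟨h, ?_⟩
    have h1 := hβa (e x)
    rw [show Subgroup.inclusion _ (e x) = (⟨_, h⟩ : ↥(Q ⊔ centralizerIn S Q)) from
      Subtype.ext (he x)] at h1
    rw [h1, ← he]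
    simp
  -- `ψ⁻¹ β ψ` is defined on `P X`
  let L : Subgroup Ω := ((ψ.range.subgroupOf (Q ⊔ centralizerIn S Q)).comap β.toMonoidHom).map
    (Q ⊔ centralizerIn S Q).subtype
  have hL : ψ.range ≤ L := by
    conv_lhs => rw [range_eq_sup]
    refine sup_le ?_ ?_
    · rintro _ ⟨⟨x, hxW⟩, hxP, rfl⟩
      obtain ⟨h, h1⟩ := keyP ⟨x, hxP⟩
      exact ⟨⟨_, h⟩, ⟨Subgroup.inclusion le_sup_left (α ⟨x, hxP⟩), h1.symm⟩, rfl⟩
    · rintro _ ⟨⟨x, hxW⟩, hxX, rfl⟩
      obtain ⟨h, -, h1⟩ := key x hxX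
      exact ⟨⟨_, h⟩, ⟨⟨x, hxW⟩, (congrArg Subtype.val h1).symm⟩, rfl⟩
  have hψR : ∀ w, ψ w ∈ Q ⊔ centralizerIn S Q := fun w => by
    obtain ⟨⟨y, hy⟩, -, he'⟩ := hL ⟨w, rfl⟩
    exact Set.mem_of_eq_of_mem he'.symm hy
  let b : ↥(P ⊔ X) →* Ω :=
    ((Q ⊔ centralizerIn S Q).subtype.comp β.toMonoidHom).comp (ψ.codRestrict _ hψR)
  have hb : b ∈ F.Hom (P ⊔ X) := F.comp_mem hψ ((autGroup_carrier hRS).1 hβ) hψR
  have hbV : ∀ w, b w ∈ ψ.range := fun w => by
    obtain ⟨y, hy, he'⟩ := hL ⟨w, rfl⟩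
    obtain rfl : y = ⟨ψ w, hψR w⟩ := Subtype.ext he'
    exact hy
  have hχ := F.comp_mem hb hθ hbV
  refine (autGroup_carrier hPX).2
    ⟨restrict_mem_of_eq hχ le_sup_left fun x => ?_, hPX, fun x => hPX (α x).2,
      θ.comp (b.codRestrict _ hbV), hχ, fun x => ?_, fun x => ?_⟩
  · obtain ⟨h, h1⟩ := keyP x
    exact ((apply_congr θ h1).trans (hθ1 (Subgroup.inclusion le_sup_left (α x)) ⟨_, rfl⟩)).symm
  · obtain ⟨h, h1⟩ := keyP x
    exact (apply_congr θ h1).trans (hθ1 (Subgroup.inclusion le_sup_left (α x)) ⟨_, rfl⟩)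
  · obtain ⟨h, -, h1⟩ := key x x.2
    have h2 : b (Subgroup.inclusion le_sup_right x) = ψ (Subgroup.inclusion le_sup_right x) :=
      congrArg Subtype.val h1
    exact (apply_congr θ h2).trans
      (hθ1 (Subgroup.inclusion le_sup_right x) ⟨_, rfl⟩)

include hS in
/-- A normal subsystem over `T` is centralized by the focal subgroup of `C_F(T)`. -/
theorem hom_le_centralizerHom (hE : E.IsNormalIn F p) (hTS : T ≤ S) (P₀ : Subgroup Ω) :
    E.Hom P₀ ⊆ F.centralizerHom (centSystem F T hTS).focalSubgroup P₀ := by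
  obtain ⟨⟨hEs, hF, hinv⟩, hext⟩ := hE
  have := finite_of_le hTS
  have hT : IsPGroup p T := isPGroup_of_le hS hTS
  set X := (centSystem F T hTS).focalSubgroup with hXdef
  have hfoc : X ≤ centralizerIn S T := (Subgroup.closure_le _).2 (by
    rintro _ ⟨U, φ₀, u, hφ₀, rfl⟩
    exact mul_mem (inv_mem (hφ₀.2.1 u.2)) (hφ₀.2.2.1 u))
  have hXS : X ≤ S := hfoc.trans (centralizerIn_le_S T)
  have hTX : T ≤ centralizerIn S X := fun t ht =>
    mem_centralizerIn.2 ⟨hTS ht, fun x hx => ((hfoc hx).2 t ht).symm⟩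
  let E₂ := fixSystem E F X hXS hTX
  have hmem : ∀ {P : Subgroup Ω}, P ≤ T → ∀ {α : MulAut P}, α ∈ E.autGroup P →
      α ∈ (centSystem F X hXS).autGroup P → α ∈ E₂.autGroup P := fun hP α h1 h2 =>
    (autGroup_carrier hP).2 ⟨(autGroup_carrier hP).1 h1, (autGroup_carrier (hP.trans hTX)).1 h2⟩
  suffices h : E ≤ E₂ from fun φ hφ => (h P₀ hφ).2
  have hTn : S ≤ Subgroup.normalizer (T : Set Ω) := stronglyClosed_normal_in_S hinv.2.1
  have hTfn : F.IsFullyNormalized T := ⟨hTS, fun R _ => by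
    rw [show normalizerIn S T = S from inf_eq_left.2 hTn]
    exact card_le_of_le le_rfl (normalizerIn_le_S R)⟩
  refine CfsgLib.Fusion.ConstrainedNormal.le_of_conj p hT hEs ?_ ?_
  · -- the automorphisms of `T`
    intro α hα
    have : Finite (MulAut T) := finite_mulAut
    obtain ⟨⟨-, R, hR⟩, -⟩ := good_of_fullyNormalized p hT hEs (isFullyNormalized_S (S := T))
    suffices h : (⊤ : Subgroup (E.autGroup T)) ≤ (E₂.autGroup T).subgroupOf (E.autGroup T) from
      Subgroup.mem_subgroupOf.1 (h (Subgroup.mem_top ⟨α, hα⟩))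
    refine le_of_sylow_coprime p R le_top (fun a ha => ?_) fun a _ hco => ?_
    · rw [hR] at ha
      exact Subgroup.mem_subgroupOf.2
        (autInducedBy_le_autGroup le_rfl (Subgroup.mem_subgroupOf.1 ha))
    refine Subgroup.mem_subgroupOf.2 (hmem le_rfl a.2 ?_)
    have hid : ((T.subgroupOf S).map S.subtype : Subgroup Ω) = T :=
      Subgroup.map_subgroupOf_eq_of_le hTS
    refine mem_centAut p hS hF le_rfl hTS (fullyCentralized_of_fullyNormalized p hS hF hTfn)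
      (subtype_mem le_rfl) hTS (centralizerIn_le_S T) hid (MulEquiv.refl T) (fun x => rfl) ?_
      (show (orderOf (a : MulAut T)).Coprime p by rwa [Subgroup.orderOf_coe]) hXS hTX
    obtain ⟨β, hβ, h1, h2⟩ := hext _ a.2
    refine ⟨β, hβ, fun x => (h1 x).trans ?_, fun c hc => (h2 c hc).1⟩
    simp
  intro P hP γ hγ t ht
  have hPT : P ≤ T := hP.1.1
  have hPS : P ≤ S := hPT.trans hTS
  have := finite_of_le hPS
  have : Finite (MulAut P) := finite_mulAut
  obtain ⟨R, hR⟩ := (good_of_fullyNormalized p hT hEs hP.2.1).1.2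
  let K := Subgroup.normalClosure ((R : Subgroup (E.autGroup P)) : Set (E.autGroup P))
  have htE : t ∈ E.autGroup P := autInducedBy_le_autGroup hPT ht
  have hγtK : (⟨γ, hγ⟩ * ⟨t, htE⟩ * ⟨γ, hγ⟩⁻¹ : E.autGroup P) ∈ K := by
    refine Subgroup.normalClosure_normal.conj_mem _ (Subgroup.le_normalClosure ?_) _
    rw [hR]
    exact Subgroup.mem_subgroupOf.2 ht
  suffices h : K ≤ (E₂.autGroup P).subgroupOf (E.autGroup P) from
    Subgroup.mem_subgroupOf.1 (h hγtK)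
  obtain ⟨Q, hPQ, hQn⟩ := exists_fullyNormalized F hPS
  obtain ⟨g₁, g₂⟩ := good_of_fullyNormalized p hS hF hQn
  obtain ⟨φ, hφ, -, hmap⟩ := exists_map_normalizer p hS g₁ g₂ hPQ
  have hPN : P ≤ normalizerIn S P := le_normalizerIn hPS
  have hQc := fullyCentralized_of_fullyNormalized p hS hF hQn
  have hφP : φ.comp (Subgroup.inclusion hPN) ∈ F.Hom P := restrict_mem hφ hPN
  have hrP : (φ.comp (Subgroup.inclusion hPN)).range = Q := (range_restrict φ hPN).trans hmap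
  let e := isoRange _ (F.injective_of_mem hφP) hrP
  have he : ∀ x : P, ((e x : Q) : Ω) = φ (Subgroup.inclusion hPN x) := fun x => rfl
  have hN : centralizerIn S T ≤ normalizerIn S P := fun c hc =>
    centralizerIn_le_normalizerIn P (mem_centralizerIn.2 ⟨hc.1, fun x hx => hc.2 x (hPT hx)⟩)
  let Kmod : Subgroup (E.autGroup P) :=
    (modAut F hQc.1).comap ((MulAut.congr e).toMonoidHom.comp (E.autGroup P).subtype)
  have hKmod : K ≤ Kmod := by
    have hn : Kmod.Normal := ⟨fun a ha g => by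
      show MulAut.congr e ((g : MulAut P) * a * (g : MulAut P)⁻¹) ∈ modAut F hQc.1
      rw [map_mul, map_mul, map_inv]
      exact modAut_conj p hS hF hQc ha
        (pow_mem_autGroup_iso hPS hφP e he (autGroup_mono' hinv.1 P g.2))⟩
    refine Subgroup.normalClosure_le_normal fun a ha => ?_
    rw [SetLike.mem_coe, hR, Subgroup.mem_subgroupOf] at ha
    obtain ⟨u, hu, hua⟩ := mem_autInducedBy.1 ha
    have huN : u ∈ normalizerIn S P := ⟨hTS hu, mem_normalizer_of_aut hua⟩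
    let s := φ ⟨u, huN⟩
    have hsT : s ∈ T := map_mem_of_stronglyClosed hinv.2.1 hφ hu
    have hval : ∀ q : Q, ((MulAut.congr e (a : MulAut P) q : Q) : Ω) = s * q * s⁻¹ := by
      intro q
      obtain ⟨x, rfl⟩ := e.surjective q
      simp only [MulAut.congr_apply, MulEquiv.trans_apply, MulEquiv.symm_apply_apply]
      rw [he, he]
      show φ _ = φ ⟨u, huN⟩ * _ * (φ ⟨u, huN⟩)⁻¹
      rw [← map_inv, ← map_mul, ← map_mul]
      exact apply_congr φ (hua x)
    have hsQ : s ∈ Subgroup.normalizer (Q : Set Ω) := mem_normalizer_of_aut hval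
    have hRS : Q ⊔ centralizerIn S Q ≤ S := sup_le hQc.1 (centralizerIn_le_S Q)
    have hsC : ∀ c ∈ centralizerIn S Q, s * c * s⁻¹ ∈ centralizerIn S Q := fun c hc => by
      refine mem_centralizerIn.2 ⟨mul_mem (mul_mem (hTS hsT) hc.1) (inv_mem (hTS hsT)),
        fun q hq => ?_⟩
      have hq' : s⁻¹ * q * s ∈ Q := (Subgroup.mem_normalizer_iff''.1 hsQ q).1 hq
      calc q * (s * c * s⁻¹) = s * ((s⁻¹ * q * s) * c) * s⁻¹ := by group
        _ = s * (c * (s⁻¹ * q * s)) * s⁻¹ := by rw [hc.2 _ hq']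
        _ = s * c * s⁻¹ * q := by group
    have hsR : s ∈ Subgroup.normalizer ((Q ⊔ centralizerIn S Q : Subgroup Ω) : Set Ω) :=
      mem_normalizer_sup hQc.1 (centralizerIn_le_S Q) hsQ
        (mem_normalizer_of_conj_mem (centralizerIn_le_S Q) hsC)
    refine ⟨conjAut S _ ⟨s, hTS hsT, hsR⟩, autInducedBy_le_autGroup hRS
      (mem_autInducedBy.2 ⟨s, hTS hsT, fun _ => rfl⟩), fun q => (hval q).symm, fun c hc => ?_⟩
    refine centralizer_le_of_isConj hinv hP.1 hPQ (mem_centralizerIn.2 ⟨?_, ?_⟩)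
    · show (c : Ω)⁻¹ * (s * c * s⁻¹) ∈ T
      have h1 := (Subgroup.mem_normalizer_iff''.1 (hTn hc.1) s).1 hsT
      simpa [mul_assoc] using mul_mem h1 (inv_mem hsT)
    · exact (mul_mem (inv_mem hc) (hsC c hc)).2
  refine le_of_sylow_coprime p R Subgroup.le_normalClosure (fun a ha => ?_) fun a ha hco => ?_
  · rw [hR] at ha
    exact Subgroup.mem_subgroupOf.2 (autInducedBy_le_autGroup hPT (Subgroup.mem_subgroupOf.1 ha))
  exact Subgroup.mem_subgroupOf.2 (hmem hPT a.2 (mem_centAut p hS hF hPT hTS hQc hφ hPN hN hmap e he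
    (hKmod ha) (show (orderOf (a : MulAut P)).Coprime p by rwa [Subgroup.orderOf_coe]) hXS (hPT.trans hTX)))

end CfsgLib.FocCent
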