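import Cfsg.Agent.Fusion.CentralControl
import Cfsg.Agent.Fusion.FocalClosure
import Cfsg.Agent.Fusion.ModelUnique
import Mathlib.GroupTheory.Focal

/-!
Control of transfer by a positive characteristic functor: `foc(F)` is decided in `N_F(W(S))`, given
the same statement for groups with `C(O_p) ≤ O_p`.
-/

set_option autoImplicit false
set_option linter.style.haveILetI false

open Cfsg Cfsg.FusionSystem
open scoped commutatorElement

namespace CfsgLib.Fusion

universe u

/-- The data: a positive characteristic functor controlling `O_p(G) ∩ G'` in groups with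
`C(O_p) ≤ O_p`. -/
structure TransferFunctor (p : ℕ) where
  /-- the functor -/
  W : ∀ (Q : Type u) [Group Q], Subgroup Q
  ne_bot : ∀ (Q : Type u) [Group Q] [Finite Q], IsPGroup p Q → Nontrivial Q → W Q ≠ ⊥
  map : ∀ (Q R : Type u) [Group Q] [Group R] [Finite Q], IsPGroup p Q → ∀ φ : Q ≃* R,
    (W Q).map φ.toMonoidHom = W R
  grp : ∀ (G : Type u) [Group G] [Finite G] (P : Sylow p G),
    Subgroup.centralizer ((Cfsg.pCore p G : Subgroup G) : Set G) ≤ Cfsg.pCore p G →
    Cfsg.pCore p G ⊓ commutator G = Cfsg.pCore p G ⊓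
      (commutator ↥(Subgroup.normalizer
        (((W ↥(P : Subgroup G)).map (P : Subgroup G).subtype : Subgroup G) : Set G))).map
      (Subgroup.normalizer
        (((W ↥(P : Subgroup G)).map (P : Subgroup G).subtype : Subgroup G) : Set G)).subtype

variable {p : ℕ} [Fact p.Prime] (C : TransferFunctor.{u} p)

/-- The constrained case: `foc(F) ∩ Q` for a normal centric `Q`. -/
theorem TransferFunctor.focal_inf_of_constrained {Ω : Type u} [Group Ω] {S : Subgroup Ω} [Finite S]
    (hS : IsPGroup p S) {F : FusionSystem S} (hF : F.IsSaturated p) {T : Subgroup Ω}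
    (hfix : ∀ P φ, φ ∈ F.normalizerHom (wOf C.W S) P → ∀ x : P, (x : Ω)⁻¹ * φ x ∈ T)
    {Q : Subgroup Ω} (hQ : F.IsNormal Q) (hQc : F.IsCentric Q) : F.focalSubgroup ⊓ Q ≤ T := by
  obtain ⟨G, hG, ι, hm⟩ := exists_model p hS hF hQ hQc
  have := hm.1
  obtain ⟨R, hR⟩ := hm.2.2.1
  set e : S ≃* (R : Subgroup G) :=
    (MonoidHom.ofInjective hm.2.1.1).trans (MulEquiv.subgroupCongr hR.symm)
  have he : (C.W ↥(R : Subgroup G)).map (R : Subgroup G).subtype = (C.W ↥S).map ι := by
    rw [← C.map S _ hS e, Subgroup.map_map]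
    rfl
  have hgrp := C.grp G R hm.2.2.2
  have hch : IsCharIn (R : Subgroup G) ((C.W ↥(R : Subgroup G)).map (R : Subgroup G).subtype) :=
    isCharIn_map fun a => C.map _ _ R.2 a
  set Nn := Subgroup.normalizer
    (((C.W ↥(R : Subgroup G)).map (R : Subgroup G).subtype : Subgroup G) : Set G) with hNn
  have hRN : (R : Subgroup G) ≤ Nn := hch.le_normalizer
  rintro z ⟨hzf, hzQ⟩
  have hzS : z ∈ S := hQ.1 hzQ
  have hcomm : ι ⟨z, hzS⟩ ∈ commutator G := by
    have hle : F.focalSubgroup ≤ preimg ι (commutator G) := by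
      refine (Subgroup.closure_le _).2 ?_
      rintro _ ⟨P, φ, x, hφ, rfl⟩
      obtain ⟨g, hg⟩ := realized_hom hm.2.1 hφ
      refine mem_preimg.2 ⟨mul_mem (inv_mem (le_of_mem_hom hφ x.2)) (apply_mem_S hφ x), ?_⟩
      show ι (⟨x, le_of_mem_hom hφ x.2⟩⁻¹ * ⟨φ x, apply_mem_S hφ x⟩) ∈ _
      rw [map_mul, map_inv, hg x]
      have h1 := Subgroup.commutator_mem_commutator
        (Subgroup.mem_top (ι ⟨x, le_of_mem_hom hφ x.2⟩)⁻¹) (Subgroup.mem_top g)
      rw [commutatorElement_def] at h1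
      rw [commutator_def]
      simpa [mul_assoc] using h1
    exact (mem_preimg.1 (hle hzf)).2
  have hcore : ι ⟨z, hzS⟩ ∈ Cfsg.pCore p G :=
    CfsgLib.Solvable.le_pCore p (normal_img_of_isNormal p hm hQ)
      ((R.2.to_le hR.ge).to_le (img_le_range Q)) (apply_mem_img (x := ⟨z, hzS⟩) hzQ)
  obtain ⟨-, w, hw, hwe⟩ := hgrp.le ⟨hcore, hcomm⟩
  -- the focal subgroup theorem in the normalizer
  let R' : Sylow p Nn := R.subtype hRN
  have hwR : w ∈ commutator Nn ⊓ (R' : Subgroup Nn) :=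
    ⟨hw, Subgroup.mem_subgroupOf.2 (hR.ge ⟨⟨z, hzS⟩, hwe.symm⟩)⟩
  rw [Subgroup.commutator_inf_eq_focalSubgroup R', Subgroup.focalSubgroup_def] at hwR
  have hle : Subgroup.closure {g : Nn | g ∈ (R' : Subgroup Nn) ∧
      ∃ x ∈ (R' : Subgroup Nn), ∃ u : Nn, g = ⁅x, u⁆} ≤ (img ι T).comap Nn.subtype := by
    refine (Subgroup.closure_le _).2 ?_
    rintro _ ⟨hg, a, ha, u, rfl⟩
    obtain ⟨s, hs⟩ := hR.le (Subgroup.mem_subgroupOf.1 ha)
    set P : Subgroup Ω := Subgroup.zpowers (s : Ω) ⊔ wOf C.W S with hP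
    have hWS : wOf C.W S ≤ S := Subgroup.map_subtype_le _
    have hPS : P ≤ S := sup_le (Subgroup.zpowers_le.2 s.2) hWS
    have hWmem : ∀ y : wOf C.W S, (u : G) * ι ⟨y, hWS y.2⟩ * (u : G)⁻¹ ∈ (C.W ↥S).map ι := by
      rintro ⟨_, y, hy, rfl⟩
      rw [← he]
      exact (Subgroup.mem_normalizer_iff.1 u.2 (ι y)).1 (he.ge ⟨y, hy, rfl⟩)
    have hvals : ∀ x : P, (u : G) * ι ⟨x, hPS x.2⟩ * (u : G)⁻¹ ∈ ι.range := by
      have hle' : P ≤ preimg ι (ι.range.comap (MulAut.conj (u : G)).toMonoidHom) := by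
        refine sup_le (Subgroup.zpowers_le.2 (mem_preimg.2 ⟨s.2, ?_⟩)) fun y hy =>
          mem_preimg.2 ⟨hWS hy, Subgroup.map_le_range _ _ (hWmem ⟨y, hy⟩)⟩
        show (u : G) * ι s * (u : G)⁻¹ ∈ ι.range
        rw [← hR, hs]
        have h1 : (a : G)⁻¹ * ((⁅a, u⁆ : Nn) : G) ∈ (R : Subgroup G) :=
          mul_mem (inv_mem (Subgroup.mem_subgroupOf.1 ha)) (Subgroup.mem_subgroupOf.1 hg)
        rw [commutatorElement_def] at h1
        simpa [mul_assoc] using inv_mem h1
      exact fun x => (mem_preimg.1 (hle' x.2)).2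
    obtain ⟨φ, hφ, hφe⟩ := exists_realized_hom hm.2.1 hPS hvals
    have hmap : ((wOf C.W S).subgroupOf P).map φ = wOf C.W S := by
      refine eq_of_le_of_card_le hWS ?_
        (card_map_subgroupOf (F.injective_of_mem hφ) le_sup_right).ge
      intro y hy
      obtain ⟨v, hv, hvW, rfl⟩ := mem_map_subgroupOf.1 hy
      obtain ⟨w', hw', hwe'⟩ := hWmem ⟨v, hvW⟩
      exact ⟨w', hw', congrArg Subtype.val (hm.2.1.1 (hwe'.trans (hφe ⟨v, hv⟩).symm))⟩
    have hWn : normalizerIn S (wOf C.W S) = S := (isCharIn_map fun a => C.map _ _ hS a).normalizerIn_eq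
    have hsub : P ⊔ wOf C.W S ≤ P := sup_le le_rfl le_sup_right
    have hφN : φ ∈ F.normalizerHom (wOf C.W S) P := ⟨hφ, hPS.trans hWn.ge,
      fun x => hWn.ge (apply_mem_S hφ x), φ.comp (Subgroup.inclusion hsub),
      restrict_mem hφ hsub, fun x => rfl, by
        rw [map_subgroupOf_congr (ψ := φ.comp (Subgroup.inclusion hsub)) (χ := φ) le_sup_right
          le_sup_right fun _ _ => rfl, hmap]⟩
    let x : P := ⟨(s : Ω)⁻¹, inv_mem (Subgroup.mem_sup_left (Subgroup.mem_zpowers _))⟩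
    refine ⟨(⟨x, hPS x.2⟩ : S)⁻¹ * ⟨φ x, apply_mem_S hφ x⟩,
      Subgroup.mem_subgroupOf.2 (hfix P φ hφN x), ?_⟩
    rw [map_mul, map_inv, hφe x, show (⟨x, hPS x.2⟩ : S) = s⁻¹ from rfl, map_inv, hs]
    show _ = ((⁅a, u⁆ : Nn) : G)
    rw [commutatorElement_def]
    simp [mul_assoc]
  obtain ⟨y, hy, hye⟩ := hle hwR
  rw [Subgroup.subtype_apply] at hye hwe
  have := hm.2.1.1 (hye.trans hwe)
  rw [this] at hy
  exact Subgroup.mem_subgroupOf.1 hy

/-- **Control of transfer**. -/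
theorem TransferFunctor.focal_le :
    ∀ (n : ℕ) {Ω : Type u} [Group Ω] (S : Subgroup Ω) (F : FusionSystem S) (T : Subgroup Ω),
      Finite S → IsPGroup p S → Nat.card S = n → F.IsSaturated p → ⁅S, S⁆ ≤ T →
      (∀ P φ, φ ∈ F.normalizerHom (wOf C.W S) P → ∀ x : P, (x : Ω)⁻¹ * φ x ∈ T) →
      F.focalSubgroup ≤ T := by
  intro n
  induction n using Nat.strong_induction_on with
  | _ n ihn =>
  intro Ω _ S F T hfin hS hn hF hT hfix
  obtain ⟨m, hmF⟩ : ∃ m, homCount F = m := ⟨_, rfl⟩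
  induction m using Nat.strong_induction_on generalizing F T with
  | _ m ihm =>
  suffices hmain : F.focalSubgroup ≤ T ⊓ F.focalSubgroup from hmain.trans inf_le_left
  set T₀ := T ⊓ F.focalSubgroup with hT₀
  have hT₀c : ⁅S, S⁆ ≤ T₀ := le_inf hT commutator_le_focal
  have hT₀fix : ∀ P φ, φ ∈ F.normalizerHom (wOf C.W S) P → ∀ x : P, (x : Ω)⁻¹ * φ x ∈ T₀ :=
    fun P φ hφ x => ⟨hfix P φ hφ x, Subgroup.subset_closure ⟨P, φ, x, hφ.1, rfl⟩⟩
  have hfS : F.focalSubgroup ≤ S := by
    refine (Subgroup.closure_le _).2 ?_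
    rintro _ ⟨P, φ, x, hφ, rfl⟩
    exact mul_mem (inv_mem (le_of_mem_hom hφ x.2)) (apply_mem_S hφ x)
  have hT₀S : T₀ ≤ S := inf_le_right.trans hfS
  set E₀ := focalSystem F T₀ hT₀c with hE₀
  suffices hgoal : ∀ P, F.Hom P ⊆ E₀.Hom P by
    refine (Subgroup.closure_le _).2 ?_
    rintro _ ⟨P, φ, x, hφ, rfl⟩
    exact (hgoal P hφ).2 x
  -- normal subgroups of `S` that are not normal in the system
  have hnonnormal : ∀ U : Subgroup Ω, U ≤ S → S ≤ Subgroup.normalizer (U : Set Ω) →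
      ¬ F.IsNormal U → ∀ P, F.normalizerHom U P ⊆ E₀.Hom P := by
    intro U hU hUn hnn
    obtain ⟨E, hE, hEs, -, -, hEF, -⟩ :=
      exists_normSystem_eq p hS hF (fun {_} _ => True) hU hUn fun _ _ => trivial
    have hne : ∃ P, ¬ F.Hom P ⊆ E.Hom P := by
      by_contra hcon
      push Not at hcon
      refine hnn ⟨hU, fun R χ hχ => ?_⟩
      have h1 := hcon R hχ
      rw [hE] at h1
      exact h1.2.2.2
    have hfoc := ihm _ (hmF ▸ homCount_lt hEF hne) E T₀ hEs hT₀c (fun R χ hχ => by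
      obtain ⟨hχE, h1, h2, ψ, hψ, he, hm⟩ := hχ
      exact hT₀fix R χ ⟨hEF _ hχE, h1, h2, ψ, hEF _ hψ, he, hm⟩) rfl
    intro P φ hφ
    exact ⟨hφ.1, fun x => hfoc (Subgroup.subset_closure ⟨P, φ, x, (hE P).ge hφ, rfl⟩)⟩
  by_cases hphase : ∀ U : Subgroup Ω, U ≠ ⊥ → ¬ F.IsNormal U
  · -- no normal subgroup
    have hall : ∀ (k : ℕ) (U : Subgroup Ω), Nat.card S - Nat.card (normalizerIn S U) = k →
        U ≠ ⊥ → F.IsFullyNormalized U → ∀ P, F.normalizerHom U P ⊆ E₀.Hom P := by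
      intro k
      induction k using Nat.strong_induction_on with
      | _ k ihk =>
      intro U hk hU1 hfn
      set V := normalizerIn S U with hV
      by_cases hVS : S ≤ V
      · exact hnonnormal U hfn.1 (fun g hg => (hVS hg).2) (hphase U hU1)
      have hVS' : V ≤ S := normalizerIn_le_S U
      have := finite_of_le hVS'
      have hVp := isPGroup_of_le hS hVS'
      have hspec := normSystem_spec F U hfn.1
      have hVlt : Nat.card V < Nat.card S :=
        lt_of_le_of_ne (card_le_of_le le_rfl hVS') fun he =>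
          hVS (eq_of_le_of_card_le le_rfl hVS' he.ge).ge
      have hV1 : V ≠ ⊥ := fun h => hU1 (eq_bot_iff.2 (h ▸ le_normalizerIn hfn.1))
      have hDch : IsCharIn V (wOf C.W V) := isCharIn_map fun a => C.map _ _ hVp a
      have hD1 : wOf C.W V ≠ ⊥ := by
        haveI := (Subgroup.nontrivial_iff_ne_bot V).2 hV1
        exact fun hb => C.ne_bot V hVp inferInstance
          ((Subgroup.map_eq_bot_iff_of_injective _ V.subtype_injective).1 hb)
      set D := wOf C.W V
      have hDS : D ≤ S := hDch.1.trans hVS'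
      obtain ⟨D', hD', hD'fn⟩ := exists_fullyNormalized F hDS
      obtain ⟨hfa, hrec⟩ := good_of_fullyNormalized p hS hF hD'fn
      obtain ⟨χ, hχ, hχN, hχD⟩ := exists_map_normalizer p hS hfa hrec hD'
      have hVN : V ≤ normalizerIn S D := fun g hg => ⟨hVS' hg, hDch.le_normalizer hg⟩
      have hVV : V < normalizerIn S D := by
        refine lt_of_le_of_ne hVN fun he => ?_
        obtain ⟨g, hg, hgV⟩ := SetLike.exists_of_lt (lt_normalizerIn p hS le_rfl
          (lt_of_le_not_ge hVS' hVS))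
        refine hgV (he.ge ⟨hg.1, mem_normalizer_of_conj_mem hDS fun x hx => ?_⟩)
        have hst : conjAut S V ⟨g, hg⟩ ∈ stabX V D := hDch.2 _
        exact (hst ⟨x, hDch.1 hx⟩).2 hx
      have hcard1 : Nat.card V < Nat.card (normalizerIn S D) :=
        lt_of_le_of_ne (card_le_of_le (normalizerIn_le_S D) hVN) fun he =>
          hVV.ne (eq_of_le_of_card_le (normalizerIn_le_S D) hVN he.ge)
      have hgood : ∀ Y : Subgroup Ω, (Y = S ∨ F.IsEssential p Y) →
          Nat.card (normalizerIn S D) ≤ Nat.card Y → F.autGroup Y ≤ E₀.autGroup Y := by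
        intro Y hY hcY α hα
        have hYS : Y ≤ S := by
          rcases hY with rfl | h
          exacts [le_rfl, h.1.1]
        have hYfn : F.IsFullyNormalized Y := by
          rcases hY with rfl | h
          exacts [isFullyNormalized_S, h.2.1]
        have h2 : Nat.card Y ≤ Nat.card (normalizerIn S Y) :=
          card_le_of_le (normalizerIn_le_S Y) (le_normalizerIn hYS)
        have hY1 : Y ≠ ⊥ := by
          rintro rfl
          rw [Subgroup.card_bot] at hcY
          have := Nat.card_pos (α := V)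
          omega
        have h3 := card_le_of_le le_rfl (normalizerIn_le_S (S := S) Y)
        exact (autGroup_carrier hYS).2 (ihk _ (by omega) Y rfl hY1 hYfn Y
          (mem_normalizerHom_self hYS ((autGroup_carrier hYS).1 hα) (range_subtype_comp α)))
      have hχ₀ := alperin_above p hS hF E₀ _ hgood _ le_rfl hχ
      have hD'1 : D' ≠ ⊥ := by
        intro h
        have := IsConj.card_eq hD'
        rw [h, Subgroup.card_bot] at this
        exact hD1 (Subgroup.eq_bot_of_card_eq D this.symm)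
      have hcardN : Nat.card V < Nat.card (normalizerIn S D') := by
        have := finite_of_le (normalizerIn_le_S (S := S) D')
        have h1 : Nat.card (normalizerIn S D) ≤ Nat.card (normalizerIn S D') :=
          Nat.card_le_card_of_injective (fun x => ⟨_, hχN x⟩) fun a b hab =>
            F.injective_of_mem hχ (congrArg Subtype.val hab :)
        omega
      have hD'inn := ihk _ (by
        have := card_le_of_le le_rfl (normalizerIn_le_S (S := S) D')
        omega) D' rfl hD'1 hD'fn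
      have hfoc := ihn _ (hn ▸ hVlt) V (normSystem F U hfn.1) (T₀ ⊓ V) inferInstance hVp rfl
        (normalizerSystem_saturated p hS hF hfn hspec)
        (le_inf ((Subgroup.commutator_mono hVS' hVS').trans hT₀c) V.commutator_le_self) ?_
      · intro P φ hφ
        exact ⟨hφ.1, fun x => (hfoc (Subgroup.subset_closure
          ⟨P, φ, x, (show φ ∈ (normSystem F U hfn.1).Hom P from hφ), rfl⟩)).1⟩
      rintro P φ ⟨hφV, hPD, -, ψ, hψ, he, hm⟩ x
      obtain ⟨-, hPV, hφvals, -⟩ := hφV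
      refine ⟨?_, mul_mem (Subgroup.inv_mem _ (hPV x.2)) (hφvals x)⟩
      obtain ⟨hψF, hψV, hψvals, -⟩ := hψ
      have h1 := mem_of_transport hVN hχ₀ hχ hχN hχD hD'inn hψV le_sup_right hψF hψvals hm
      have h2 := h1.2 (Subgroup.inclusion le_sup_left x)
      rwa [he x] at h2
    intro P
    refine alperin_saturated p hS hF E₀ (fun Y hY α hα => ?_) P
    have hYS : Y ≤ S := by
      rcases hY with rfl | h
      exacts [le_rfl, h.1.1]
    have hYfn : F.IsFullyNormalized Y := by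
      rcases hY with rfl | h
      exacts [isFullyNormalized_S, h.2.1]
    by_cases hY1 : Y = ⊥
    · subst hY1
      refine (autGroup_carrier hYS).2 ⟨(autGroup_carrier hYS).1 hα, fun x => ?_⟩
      obtain rfl : x = 1 := Subtype.ext (Subgroup.mem_bot.1 x.2)
      simp
    exact (autGroup_carrier hYS).2 (hall _ Y rfl hY1 hYfn Y
      (mem_normalizerHom_self hYS ((autGroup_carrier hYS).1 hα) (range_subtype_comp α)))
  -- there is a normal subgroup
  push Not at hphase
  obtain ⟨U₀, hU₀1, hU₀n⟩ := hphase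
  have hQn : F.IsNormal F.core := isNormal_core
  set Q := F.core with hQdef
  have hQmax : ∀ U, F.IsNormal U → U ≤ Q := fun U hU => le_sSup hU
  have hQ1 : Q ≠ ⊥ := fun h => hU₀1 (eq_bot_iff.2 ((hQmax U₀ hU₀n).trans h.le))
  have hQS := normal_S_le_normalizer hQn
  have hQsc := stronglyClosed_of_isNormal hQn
  -- the focal subgroup meets `Q` inside `T₀`
  have hinf : F.focalSubgroup ⊓ Q ≤ T₀ := by
    have hNQ : normalizerIn S Q = S :=
      le_antisymm (normalizerIn_le_S Q) fun y hy => ⟨hy, hQS hy⟩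
    have hQfn : F.IsFullyNormalized Q := ⟨hQn.1, fun R _ => by
      rw [hNQ]; exact card_le_of_le le_rfl (normalizerIn_le_S R)⟩
    by_cases hc : centralizerIn S Q ≤ Q
    · exact C.focal_inf_of_constrained hS hF hT₀fix hQn (isCentric_of_fullyCentralized
        (fullyCentralized_of_fullyNormalized p hS hF hQfn) hc)
    refine focal_inf_le_of_fixed p hS hF hT₀c hQn.1 hQS fun P φ hφ x hx => ?_
    obtain ⟨ψ, hψ, he, -⟩ := hQn.2 P φ hφ
    set R := Q ⊔ centralizerIn S Q with hR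
    have hRS : R ≤ S := sup_le hQn.1 (centralizerIn_le_S Q)
    have hRn : S ≤ Subgroup.normalizer (R : Set Ω) := fun g hg => by
      refine mem_normalizer_sup hQn.1 (centralizerIn_le_S Q) (hQS hg) ?_
      refine mem_normalizer_of_conj_mem (centralizerIn_le_S Q) fun x hx => ?_
      obtain ⟨hxS, hxc⟩ := mem_centralizerIn.1 hx
      refine mem_centralizerIn.2 ⟨mul_mem (mul_mem hg hxS) (inv_mem hg), fun y hy => ?_⟩
      have h1 := hxc _ ((Subgroup.mem_normalizer_iff''.1 (hQS hg) y).1 hy)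
      calc y * (g * x * g⁻¹) = g * ((g⁻¹ * y * g) * x) * g⁻¹ := by group
        _ = g * x * g⁻¹ * y := by rw [h1]; group
    have hRnn : ¬ F.IsNormal R := fun h => hc (le_sup_right.trans (hQmax R h))
    let a : Q →* Ω := ψ.comp (Subgroup.inclusion le_sup_right)
    have ha : a ∈ F.Hom Q := restrict_mem hψ le_sup_right
    have har : a.range = Q := (weaklyClosed_of_stronglyClosed hQsc).2 a ha
    obtain ⟨χ, hχ, hχe⟩ := receptive_extend (good_of_fullyNormalized p hS hF hQfn).2 ha har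
      (sup_le (le_extender ha) (centralizerIn_le_extender Q a) : R ≤ _)
    have hχQ : (Q.subgroupOf R).map χ = Q := (map_eq_range_of_eq le_sup_left hχe).trans har
    have hχr : χ.range = R := by
      refine eq_of_le_of_card_le hRS ?_ (card_range hχ).ge
      rw [← map_subgroupOf_self χ, Subgroup.subgroupOf_sup le_sup_left le_sup_right,
        Subgroup.map_sup, hχQ]
      refine sup_le le_sup_left fun y hy => ?_
      obtain ⟨w, hw, hwC, rfl⟩ := mem_map_subgroupOf.1 hy
      have := map_mem_centralizerIn hχ le_sup_left hwC hw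
      rw [hχQ] at this
      exact Subgroup.mem_sup_right this
    have h1 := (hnonnormal R hRS hRn hRnn R (mem_normalizerHom_self hRS hχ hχr)).2
      ⟨x, Subgroup.mem_sup_left hx⟩
    rw [hχe x hx (Subgroup.mem_sup_left hx)] at h1
    exact Set.mem_of_eq_of_mem (congrArg ((x : Ω)⁻¹ * ·)
      ((he x).symm.trans (apply_congr ψ rfl))) h1
  -- the factor system modulo `Q`
  have hmod : F.focalSubgroup ≤ T₀ ⊔ Q := by
    have hTn : (Q.subgroupOf S).Normal := ⟨fun x hx g =>
      (Subgroup.mem_normalizer_iff.1 (hQS g.2) x).1 hx⟩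
    let θ : S →* S ⧸ Q.subgroupOf S := QuotientGroup.mk' _
    have hk : ∀ s : S, θ s = 1 ↔ (s : Ω) ∈ Q := fun s => QuotientGroup.eq_one_iff s
    have hr : θ.range = ⊤ := MonoidHom.range_eq_top.2 (QuotientGroup.mk'_surjective _)
    set S₁ := (⊤ : Subgroup (S ⧸ Q.subgroupOf S))
    let Ē := factorSystem hQsc hk hr
    have hĒ : F.IsFactorSystem Q θ Ē := factorSystem_spec hQsc hk hr
    have hpT : IsPGroup p S₁ :=
      (hS.of_surjective θ (QuotientGroup.mk'_surjective _)).to_subgroup ⊤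
    have hcard : Nat.card S₁ < Nat.card S := by
      rw [Subgroup.card_top, Subgroup.card_eq_card_quotient_mul_card_subgroup (Q.subgroupOf S),
        Nat.card_congr (Subgroup.subgroupOfEquivOfLe hQn.1).toEquiv]
      have := finite_of_le hQn.1
      exact lt_mul_of_one_lt_right Nat.card_pos ((Subgroup.one_lt_card_iff_ne_bot Q).2 hQ1)
    by_cases hS₁ : S₁ = ⊥
    · intro x hx
      refine Subgroup.mem_sup_right ((hk ⟨x, hfS hx⟩).1 ?_)
      exact Subgroup.mem_bot.1 (hS₁ ▸ Subgroup.mem_top (θ ⟨x, hfS hx⟩))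
    set Wb := wOf C.W S₁
    have hWch : IsCharIn S₁ Wb := isCharIn_map fun a => C.map _ _ hpT a
    have hW1 : Wb ≠ ⊥ := by
      haveI := (Subgroup.nontrivial_iff_ne_bot S₁).2 hS₁
      exact fun hb => C.ne_bot S₁ hpT inferInstance
        ((Subgroup.map_eq_bot_iff_of_injective _ S₁.subtype_injective).1 hb)
    set P0 := preimg θ Wb with hP0
    have hQP : Q < P0 := by
      refine lt_of_le_not_ge (ker_le_preimg hQn.1 hk Wb) fun hle =>
        hW1 (eq_bot_iff.2 fun y hy => ?_)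
      obtain ⟨x, rfl⟩ := QuotientGroup.mk'_surjective _ y
      exact (hk x).2 (hle (mem_preimg.2 ⟨x.2, hy⟩))
    have hP0n : S ≤ Subgroup.normalizer (P0 : Set Ω) := fun g hg => by
      refine mem_normalizer_of_conj_mem (preimg_le Wb) fun x hx => ?_
      obtain ⟨hxS, hxW⟩ := mem_preimg.1 hx
      refine mem_preimg.2 ⟨mul_mem (mul_mem hg hxS) (inv_mem hg), ?_⟩
      show θ (⟨g, hg⟩ * ⟨x, hxS⟩ * ⟨g, hg⟩⁻¹) ∈ Wb
      rw [map_mul, map_mul, map_inv]
      exact (Subgroup.mem_normalizer_iff.1 (hWch.le_normalizer (Subgroup.mem_top _)) _).1 hxW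
    have hP0nn : ¬ F.IsNormal P0 := fun h => hQP.not_ge (hQmax P0 h)
    have hfoc := ihn _ (hn ▸ hcard) S₁ Ē (img θ T₀) inferInstance hpT rfl
      (factor_saturated hQsc hĒ p hS hF) ?_ ?_
    · refine (Subgroup.closure_le _).2 ?_
      rintro _ ⟨P, φ, x, hφ, rfl⟩
      obtain ⟨ψ, hψ, he, -⟩ := hQn.2 P φ hφ
      obtain ⟨φ', hφ', hi⟩ := exists_factor_hom hQsc hĒ hψ le_sup_right (P' := img θ (P ⊔ Q)) rfl
      have h1 : φ' ⟨θ ⟨x, le_of_mem_hom hφ x.2⟩, apply_mem_img (ι := θ)
          (x := ⟨x, le_of_mem_hom hφ x.2⟩) (Subgroup.mem_sup_left x.2)⟩ =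
          θ ⟨φ x, apply_mem_S hφ x⟩ :=
        (induced_apply hi (Subgroup.inclusion le_sup_left x) (hP := le_of_mem_hom hφ x.2)
          (hφ := apply_mem_S hψ _)).trans (congrArg θ (Subtype.ext (he x)))
      have h2 := hfoc (Subgroup.subset_closure ⟨_, φ', _, hφ', rfl⟩ :
        (θ ⟨x, le_of_mem_hom hφ x.2⟩)⁻¹ * φ' ⟨_, apply_mem_img (ι := θ)
          (x := ⟨x, le_of_mem_hom hφ x.2⟩) (Subgroup.mem_sup_left x.2)⟩ ∈ Ē.focalSubgroup)
      rw [h1, ← map_inv, ← map_mul] at h2
      obtain ⟨t, ht, hte⟩ := h2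
      have h3 : θ (t⁻¹ * (⟨x, le_of_mem_hom hφ x.2⟩⁻¹ * ⟨φ x, apply_mem_S hφ x⟩)) = 1 := by
        rw [map_mul, map_inv, hte, inv_mul_cancel]
      have h4 := mul_mem (Subgroup.mem_sup_left (T := Q) (Subgroup.mem_subgroupOf.1 ht))
        (Subgroup.mem_sup_right ((hk _).1 h3))
      simpa using h4
    · rw [Subgroup.commutator_le]
      intro a _ b _
      obtain ⟨x, rfl⟩ := QuotientGroup.mk'_surjective _ a
      obtain ⟨y, rfl⟩ := QuotientGroup.mk'_surjective _ b
      rw [← map_commutatorElement]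
      refine apply_mem_img (ι := θ) (hT₀c ?_)
      exact Subgroup.commutator_mem_commutator (g₁ := (x : Ω)) x.2 y.2
    · rintro P' φ' ⟨-, -, -, ψ', hψ', he', hm'⟩ y
      obtain ⟨χ, hχ, hi⟩ := exists_lift_hom hĒ hψ'
      have hP0le : P0 ≤ preimg θ (P' ⊔ Wb) := preimg_mono le_sup_right
      have hmap : (P0.subgroupOf (preimg θ (P' ⊔ Wb))).map χ = P0 := by
        refine eq_of_le_of_card_le (preimg_le Wb) ?_
          (card_map_subgroupOf (F.injective_of_mem hχ) hP0le).ge
        intro z hz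
        obtain ⟨w, hw, hwP, rfl⟩ := mem_map_subgroupOf.1 hz
        obtain ⟨hwS, hwW⟩ := mem_preimg.1 hwP
        refine mem_preimg.2 ⟨apply_mem_S hχ _, ?_⟩
        rw [← induced_apply hi ⟨w, hw⟩ (hP := hwS) (hP' := Subgroup.mem_sup_right hwW)]
        exact hm'.le (apply_mem_map_subgroupOf ψ'
          (x := ⟨θ ⟨w, hwS⟩, Subgroup.mem_sup_right hwW⟩) hwW)
      have hsub : preimg θ (P' ⊔ Wb) ⊔ P0 ≤ preimg θ (P' ⊔ Wb) := sup_le le_rfl hP0le
      have hχE := hnonnormal P0 (preimg_le Wb) hP0n hP0nn _ ⟨hχ,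
        le_inf (preimg_le _) ((preimg_le _).trans hP0n),
        fun w => ⟨apply_mem_S hχ w, hP0n (apply_mem_S hχ w)⟩,
        χ.comp (Subgroup.inclusion hsub), restrict_mem hχ hsub, fun _ => rfl, by
          rw [map_subgroupOf_congr (ψ := χ.comp (Subgroup.inclusion hsub)) (χ := χ) le_sup_right
            hP0le fun _ _ => rfl, hmap]⟩
      obtain ⟨s, hs⟩ := QuotientGroup.mk'_surjective (Q.subgroupOf S) (y : S ⧸ Q.subgroupOf S)
      have hsP : (s : Ω) ∈ preimg θ (P' ⊔ Wb) := mem_preimg.2 ⟨s.2, by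
        show θ s ∈ _
        rw [hs]; exact Subgroup.mem_sup_left y.2⟩
      refine ⟨s⁻¹ * ⟨χ ⟨s, hsP⟩, apply_mem_S hχ _⟩,
        Subgroup.mem_subgroupOf.2 (hχE.2 ⟨s, hsP⟩), ?_⟩
      show θ _ = _
      rw [map_mul, map_inv, hs, ← induced_apply hi ⟨s, hsP⟩ (hP := s.2)
        (hP' := (mem_preimg.1 hsP).2), ← he' y]
      exact congrArg ((y : S ⧸ Q.subgroupOf S)⁻¹ * ·) (apply_congr ψ' hs)
  intro P φ hφ
  refine ⟨hφ, fun x => ?_⟩
  have hxf : (x : Ω)⁻¹ * φ x ∈ F.focalSubgroup := Subgroup.subset_closure ⟨P, φ, x, hφ, rfl⟩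
  obtain ⟨t, ht, q, hq, hyq⟩ := (CfsgLib.Solvable.mem_sup_of_le_normalizer (A := T₀) (K := Q)
    (hT₀S.trans hQS)).1 (hmod hxf)
  have hqT : q ∈ T₀ := hinf ⟨by
    have h1 := mul_mem (Subgroup.inv_mem _ ht.2) hxf
    rw [← hyq] at h1
    simpa using h1, hq⟩
  rw [← hyq]
  exact mul_mem ht hqT

end CfsgLib.Fusion
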