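import Cfsg.Agent.Fusion.SmallEssential
import Cfsg.Agent.Fusion.NormalCriteria
import Mathlib.GroupTheory.Commutator.Basic

/-!
An abelian subgroup whose automizer contains a large group of shears with a central centre is not
essential.
-/

set_option autoImplicit false
set_option linter.unusedSectionVars false
set_option linter.style.haveILetI false

open Cfsg Cfsg.FusionSystem
open scoped commutatorElement

namespace CfsgLib.Fusion

universe u v

/-- A group acting faithfully with a large group of shears inside a Sylow subgroup fixing their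
centre has no strongly embedded subgroup. -/
theorem shear_not_embedded {A : Type u} [CommGroup A] [Finite A] {X : Type v} [Group X] [Finite X] {p : ℕ}
    [hp : Fact p.Prime] (ρ : X →* MulAut A) (hρ : Function.Injective ρ) {Y : Subgroup X}
    (P : Sylow p X) (hP : kGeneratedCore p 1 (P : Subgroup X) ≤ Y) (hY : Y ≠ ⊤) {z : A}
    (hzo : orderOf z = p) (U : Subgroup X) (hUP : U ≤ P)
    (hUs : ∀ u ∈ U, ρ u ∈ TransvectionCentre.shear ρ.range z)
    (hU2 : p * p ≤ Nat.card U) (hcard : Nat.card P < Nat.card U * Nat.card U) : False := by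
  classical
  have hz1 : z ≠ 1 := fun h => hp.out.one_lt.ne (by rw [← hzo, h, orderOf_one])
  have hUne : U ≠ ⊥ := fun h => by
    rw [h, Subgroup.card_bot] at hU2
    nlinarith [hp.out.two_le]
  have hPne : (P : Subgroup X) ≠ ⊥ := fun h => hUne (le_bot_iff.1 (h ▸ hUP))
  -- an element fixing the line lies in `Y`
  have hline : ∀ g : X, ρ g z ∈ Subgroup.zpowers z → g ∈ Y := by
    intro g hg
    let Z : Subgroup X := (TransvectionCentre.shear ρ.range z).comap ρ
    have hZp : IsPGroup p Z := by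
      refine (shear_isPGroup ρ.range (by rw [← hzo, pow_orderOf_eq_one])).comap_of_injective ρ hρ
    obtain ⟨u, hu, hu1⟩ := (Subgroup.bot_or_exists_ne_one U).resolve_left hUne
    have hZY : Z ≤ Y := pSubgroup_le_of_kGen p hP hPne hZp (hUs u hu) (hUP hu) hu1
    have hne : ρ g z ≠ 1 := fun h => hz1 ((map_eq_one_iff _ (ρ g).injective).1 h)
    obtain ⟨i, hi⟩ := Subgroup.mem_zpowers_iff.1 (TransvectionCentre.mem_zpowers_swap hzo hg hne)
    refine normalizer_le_of_kGen p hP hPne hZp hZY
      (fun h => hUne (le_bot_iff.1 (h ▸ fun u hu => hUs u hu))) ?_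
    have hconj : ∀ g : X, ρ g z ∈ Subgroup.zpowers z → ∀ i : ℤ, ρ g z ^ i = z →
        ∀ x ∈ Z, g * x * g⁻¹ ∈ Z := by
      intro g hg i hi x hx
      obtain ⟨h1, h2, h3⟩ := TransvectionCentre.conj_shear (show ρ x ∈ _ from hx)
        (MonoidHom.mem_range.2 ⟨g, rfl⟩ : ρ g ∈ ρ.range)
      show ρ (g * x * g⁻¹) ∈ TransvectionCentre.shear ρ.range z
      rw [map_mul, map_mul, map_inv]
      refine ⟨h1, ?_, fun y => Subgroup.zpowers_le.2 hg (h3 y)⟩
      conv_lhs => rw [← hi]
      rw [map_zpow, h2, hi]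
    have hinv : ρ g⁻¹ z = z ^ i := by
      conv_lhs => rw [← hi]
      rw [map_inv, map_zpow, MulAut.inv_apply_self]
    obtain ⟨j, hj⟩ := Subgroup.mem_zpowers_iff.1 hg
    rw [Subgroup.mem_normalizer_iff]
    refine fun x => ⟨fun hx => hconj g hg i hi x hx, fun hx => ?_⟩
    have h1 := hconj g⁻¹ (hinv ▸ zpow_mem (Subgroup.mem_zpowers z) i) j
      (by rw [hinv, ← zpow_mul, mul_comm, zpow_mul, hj, hi]) _ hx
    simpa [mul_assoc] using h1
  -- a nontrivial shear fixing a given element
  have hkill : ∀ b : A, ∃ u ∈ U, u ≠ 1 ∧ ρ u b = b := by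
    intro b
    let f : U →* Subgroup.zpowers z := MonoidHom.mk'
      (fun u => ⟨b⁻¹ * ρ u b, (hUs u u.2).2.2 b⟩) fun u w => by
        refine Subtype.ext ?_
        obtain ⟨n, hn⟩ := TransvectionCentre.exists_zpow (hUs w w.2) b
        show b⁻¹ * ρ (u * w : U) b = b⁻¹ * ρ u b * (b⁻¹ * ρ w b)
        rw [Subgroup.coe_mul, map_mul, MulAut.mul_apply, hn, map_mul, map_zpow, (hUs u u.2).2.1,
          inv_mul_cancel_left, ← mul_assoc b⁻¹]
    have hk : f.ker ≠ ⊥ := fun h => by
      have h1 := Nat.card_le_card_of_injective f ((MonoidHom.ker_eq_bot_iff f).1 h)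
      rw [Nat.card_zpowers, hzo] at h1
      nlinarith [hp.out.two_le]
    obtain ⟨u, hu, hu1⟩ := (Subgroup.bot_or_exists_ne_one f.ker).resolve_left hk
    refine ⟨u, u.2, fun h => hu1 (Subtype.ext h), ?_⟩
    have := congrArg Subtype.val (show f u = 1 from hu)
    exact (inv_mul_eq_one.1 this).symm
  refine hY ((Subgroup.eq_top_iff' _).2 fun g => ?_)
  by_cases hg : ρ g z ∈ Subgroup.zpowers z
  · exact hline g hg
  -- the conjugate of `U` by `g` lies in `Y`
  obtain ⟨t, htU, ht1, htb⟩ := hkill (ρ g z)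
  obtain ⟨u, huU, hu1, hub⟩ := hkill ((ρ g)⁻¹ z)
  have hgR : ρ g ∈ ρ.range := ⟨g, rfl⟩
  have hs := TransvectionCentre.conj_shear (hUs u huU) hgR
  have hsz : (ρ g * ρ u * (ρ g)⁻¹) z = z := by
    rw [MulAut.mul_apply, MulAut.mul_apply, hub, MulAut.apply_inv_self]
  have hts : Commute t (g * u * g⁻¹) := hρ (by
    simp only [map_mul, map_inv]
    exact (TransvectionCentre.shear_commute (hUs t htU) hs htb hsz).eq)
  have hPY := sylow_le_of_kGen p hP hPne
  have hp' : ∀ w : X, w ∈ (P : Subgroup X) → IsPGroup p (Subgroup.zpowers w) := fun w hw =>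
    P.2.to_le (Subgroup.zpowers_le.2 hw)
  have hcn : ∀ {a b : X}, Commute a b → b ∈ Subgroup.normalizer (Subgroup.zpowers a : Set X) := by
    intro a b hab
    refine Subgroup.centralizer_le_normalizer _ (Subgroup.mem_centralizer_iff.2 fun w hw => ?_)
    obtain ⟨i, rfl⟩ := Subgroup.mem_zpowers_iff.1 hw
    exact (hab.zpow_left i).eq
  have hsY : g * u * g⁻¹ ∈ Y :=
    normalizer_le_of_kGen p hP hPne (hp' t (hUP htU)) (Subgroup.zpowers_le.2 (hPY (hUP htU)))
      (by rwa [Ne, Subgroup.zpowers_eq_bot]) (hcn hts)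
  have hUp : IsPGroup p U := P.2.to_le hUP
  let D := U.map (MulAut.conj g).toMonoidHom
  have hDY : D ≤ Y := by
    rintro _ ⟨w, hw, rfl⟩
    refine normalizer_le_of_kGen p hP hPne ?_ (Subgroup.zpowers_le.2 hsY)
      (by rwa [Ne, Subgroup.zpowers_eq_bot, conj_eq_one_iff]) (hcn (?_ : Commute _ _))
    · exact (hUp.map (MulAut.conj g).toMonoidHom).to_le
        (Subgroup.zpowers_le.2 ⟨u, huU, by simp⟩)
    · have huw : Commute u w := hρ (by
        rw [map_mul, map_mul]
        exact (TransvectionCentre.shear_commute (hUs u huU) (hUs w hw) (hUs u huU).2.1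
          (hUs w hw).2.1).eq)
      simpa [MulAut.conj_apply] using huw.map (MulAut.conj g).toMonoidHom
  have hPin : SylowIn p (P : Subgroup X) Y := ⟨hPY, P.subtype hPY, rfl⟩
  obtain ⟨y, hy, hyD⟩ := hPin.exists_conj_le (hUp.map _) hDY
  -- the conjugate inside the Sylow subgroup
  suffices h : y * g ∈ Y by simpa using Y.mul_mem (Y.inv_mem hy) h
  by_contra hyg
  have hwz : ρ (y * g) z ∉ Subgroup.zpowers z := fun h => hyg (hline _ h)
  have hmap : ∀ w ∈ U, y * g * w * (y * g)⁻¹ ∈ (P : Subgroup X) := fun w hw => by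
    have h1 := hyD (MulAut.conj g w) ⟨w, hw, rfl⟩
    simpa [MulAut.conj_apply, mul_assoc] using h1
  let f : U × U → (P : Subgroup X) := fun w =>
    ⟨(w.1 : X) * (y * g * (w.2 : X) * (y * g)⁻¹), mul_mem (hUP w.1.2) (hmap _ w.2.2)⟩
  have hf : Function.Injective f := by
    rintro ⟨a, b⟩ ⟨a', b'⟩ hab
    have hab' := congrArg Subtype.val hab
    have e : ((a' : X))⁻¹ * a = y * g * ((b' : X) * (b : X)⁻¹) * (y * g)⁻¹ := by
      have h1 : (a' : X)⁻¹ * ((a : X) * (y * g * (b : X) * (y * g)⁻¹)) =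
          y * g * (b' : X) * (y * g)⁻¹ := by
        rw [show (a : X) * (y * g * (b : X) * (y * g)⁻¹) = (a' : X) * (y * g * (b' : X) * (y * g)⁻¹)
          from hab', inv_mul_cancel_left]
      calc (a' : X)⁻¹ * a = (a' : X)⁻¹ * ((a : X) * (y * g * (b : X) * (y * g)⁻¹)) *
            (y * g * (b : X) * (y * g)⁻¹)⁻¹ := by group
        _ = y * g * ((b' : X) * (b : X)⁻¹) * (y * g)⁻¹ := by rw [h1]; group
    have h2 := TransvectionCentre.conj_shear (hUs _ (mul_mem b'.2 (inv_mem b.2)))
      (MonoidHom.mem_range.2 ⟨y * g, rfl⟩ : ρ (y * g) ∈ ρ.range)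
    rw [← map_inv, ← map_mul, ← map_mul, ← e] at h2
    have h3 := hUs _ (mul_mem (inv_mem a'.2) a.2)
    have h4 : (a' : X)⁻¹ * a = 1 := hρ (by
      rw [map_one]
      refine MulEquiv.ext fun v => ?_
      by_contra hne
      have hm1 := h3.2.2 v
      have hm2 := h2.2.2 v
      have hne' : v⁻¹ * ρ ((a' : X)⁻¹ * a) v ≠ 1 := fun h => hne (inv_mul_eq_one.1 h).symm
      have hzm := TransvectionCentre.mem_zpowers_swap hzo hm1 hne'
      have hwo : orderOf (ρ (y * g) z) = p := by rw [MulEquiv.orderOf_eq, hzo]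
      exact hwz (TransvectionCentre.mem_zpowers_swap hwo (Subgroup.zpowers_le.2 hm2 hzm) hz1))
    have ha : a = a' := Subtype.ext (inv_mul_eq_one.1 h4).symm
    subst ha
    rw [h4] at e
    have hb : b' = b := Subtype.ext (mul_inv_eq_one.1 (conj_eq_one_iff.1 e.symm))
    rw [hb]
  have := Nat.card_le_card_of_injective f hf
  rw [Nat.card_prod] at this
  omega

variable {Ω : Type u} [Group Ω] {S : Subgroup Ω} [Finite S] {p : ℕ} [hp : Fact p.Prime]
  {F : FusionSystem S}

omit hp in
/-- The order of the group induced on an abelian centric subgroup by an overgroup. -/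
theorem card_autInduced {E K : Subgroup Ω} (hc : F.IsCentric E) (hab : ∀ a b : E, a * b = b * a)
    (hEK : E ≤ K) (hK : K ≤ S) :
    Nat.card (normalizerIn K E) = Nat.card (autInducedBy K E) * Nat.card E := by
  rw [card_normalizerIn]
  congr 1
  refine Nat.card_congr (Equiv.setCongr (Set.ext fun x => ⟨fun hx => ?_, fun hx => ?_⟩))
  · exact centralizer_mem_of_centric hc (hK hx.1) fun w hw => Subgroup.mem_centralizer_iff.1 hx.2 w hw
  · exact ⟨hEK hx, Subgroup.mem_centralizer_iff.2 fun w hw =>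
      congrArg Subtype.val (hab ⟨w, hw⟩ ⟨x, hx⟩)⟩

/-- An abelian essential subgroup has no large group of shears with a fixed centre. -/
theorem not_essential_of_shears (hS : IsPGroup p S) (hF : F.IsSaturated p) {E : Subgroup Ω}
    (hE : F.IsEssential p E) (hab : ∀ a b : E, a * b = b * a) {z : E} (hzo : orderOf z = p)
    (hz : ∀ t ∈ autInducedBy S E, t z = z) (U : Subgroup (MulAut E)) (hU : U ≤ autInducedBy S E)
    (hUs : ∀ s ∈ U, ∀ x : E, x⁻¹ * s x ∈ Subgroup.zpowers z) (hU2 : p * p ≤ Nat.card U)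
    (hcard : Nat.card (autInducedBy S E) < Nat.card U * Nat.card U) : False := by
  classical
  have hEn := hE.2.1
  obtain ⟨hc, -, hn, Y, hpd, hY, P, hP⟩ := hE
  have := finite_of_le hc.1
  have : Finite (MulAut E) := finite_mulAut
  letI : CommGroup E := { (inferInstance : Group E) with mul_comm := hab }
  have hinn : (Inn E).subgroupOf (F.autGroup E) = ⊥ := by
    refine eq_bot_iff.2 ?_
    rintro α ⟨q, hq⟩
    refine Subgroup.mem_bot.2 (Subtype.ext (MulEquiv.ext fun x => ?_))
    rw [show ((α : F.autGroup E) : MulAut E) = MulAut.conj q from hq.symm, MulAut.conj_apply,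
      hab q x, mul_inv_cancel_right]
    rfl
  haveI := hn
  set π := QuotientGroup.mk' ((Inn E).subgroupOf (F.autGroup E))
  let ρ : (F.autGroup E ⧸ (Inn E).subgroupOf (F.autGroup E)) →* MulAut E :=
    QuotientGroup.lift _ (F.autGroup E).subtype (hinn ▸ bot_le)
  have hρ : Function.Injective ρ := by
    refine (injective_iff_map_eq_one ρ).2 fun x hx => ?_
    induction x using QuotientGroup.induction_on with
    | H a =>
      rw [QuotientGroup.eq_one_iff, hinn, Subgroup.mem_bot]
      exact Subtype.ext hx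
  obtain ⟨-, R, hR⟩ := (good_of_fullyNormalized p hS hF hEn).1
  let T := R.mapSurjective (QuotientGroup.mk'_surjective ((Inn E).subgroupOf (F.autGroup E)))
  obtain ⟨g, hg⟩ := MulAction.exists_smul_eq (F.autGroup E ⧸ (Inn E).subgroupOf (F.autGroup E)) T P
  have hTm : ∀ a : F.autGroup E, (a : MulAut E) ∈ autInducedBy S E →
      g * π a * g⁻¹ ∈ (P : Subgroup _) := fun a ha => by
    rw [← hg, Sylow.coe_subgroup_smul]
    refine ⟨π a, ?_, rfl⟩
    rw [Sylow.coe_mapSurjective]
    exact ⟨a, hR.ge ha, rfl⟩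
  have hgR : ρ g ∈ ρ.range := ⟨g, rfl⟩
  have hUA : U ≤ F.autGroup E := hU.trans (autInducedBy_le_autGroup hc.1)
  let f : U →* (F.autGroup E ⧸ (Inn E).subgroupOf (F.autGroup E)) :=
    ((MulAut.conj g).toMonoidHom.comp π).comp (Subgroup.inclusion hUA)
  have hfi : Function.Injective f := by
    refine (injective_iff_map_eq_one f).2 fun a ha => ?_
    have h1 : π (Subgroup.inclusion hUA a) = 1 :=
      (map_eq_one_iff _ (MulAut.conj g).injective).1 ha
    exact Subtype.ext (congrArg ρ h1)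
  have hfc : Nat.card f.range = Nat.card U :=
    (Nat.card_congr (MonoidHom.ofInjective hfi).toEquiv).symm
  refine shear_not_embedded ρ hρ P hP hY (z := ρ g z) (by rw [MulEquiv.orderOf_eq, hzo]) f.range
    ?_ ?_ (hfc ▸ hU2) ?_
  · rintro _ ⟨a, rfl⟩
    exact hTm _ (hU a.2)
  · rintro _ ⟨a, rfl⟩
    have hsh : (a : MulAut E) ∈ TransvectionCentre.shear ρ.range z :=
      ⟨⟨π (Subgroup.inclusion hUA a), rfl⟩, hz _ (hU a.2), hUs _ a.2⟩
    have h2 := TransvectionCentre.conj_shear hsh hgR
    show ρ (g * π (Subgroup.inclusion hUA a) * g⁻¹) ∈ _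
    rw [map_mul, map_mul, map_inv]
    exact h2
  · rw [hfc]
    refine lt_of_le_of_lt (le_of_eq ?_) hcard
    rw [← hg, Sylow.coe_subgroup_smul]
    refine (Subgroup.card_map_of_injective (MulAut.conj g).injective).trans ?_
    show Nat.card (T : Subgroup (F.autGroup E ⧸ (Inn E).subgroupOf (F.autGroup E))) = _
    rw [Sylow.coe_mapSurjective]
    refine (Subgroup.card_map_of_injective
      fun a b hab => Subtype.ext (show ρ (π a) = ρ (π b) from congrArg ρ hab)).trans ?_
    rw [hR, Nat.card_congr (Subgroup.subgroupOfEquivOfLe (autInducedBy_le_autGroup hc.1)).toEquiv]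

/-- Conjugations stabilizing the chain through an invariant central subgroup lie in the essential
subgroup. -/
theorem mem_of_central_chain (hS : IsPGroup p S) {E : Subgroup Ω} (hE : F.IsEssential p E)
    (Z : Subgroup E) (hZi : ∀ α ∈ F.autGroup E, ∀ x ∈ Z, α x ∈ Z) {g : Ω}
    (hg : g ∈ normalizerIn S E) (hfix : ∀ x ∈ Z, conjAut S E ⟨g, hg⟩ x = x)
    (hdisp : ∀ x : E, x⁻¹ * conjAut S E ⟨g, hg⟩ x ∈ Z) : g ∈ E := by
  have := finite_of_le hE.1.1
  let M : Subgroup (MulAut E) :=
    { carrier := {γ | ∀ x ∈ Z, γ x = x}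
      one_mem' := fun x _ => rfl
      mul_mem' := fun {a b} ha hb x hx => by rw [MulAut.mul_apply, hb x hx, ha x hx]
      inv_mem' := fun {a} ha x hx => by
        conv_lhs => rw [← ha x hx]
        exact MulAut.inv_apply_self E a x }
  refine mem_of_chain p hS hE.1 (isRadical_of_essential p hS hE) (m := 1) ![Z, ⊤] rfl ?_ M ?_ ?_ hg
    ?_ hfix
  · intro α hα i x hx
    fin_cases i
    · exact hZi α hα x hx
    · trivial
  · intro α hα γ _ hγ x hx
    rw [MulAut.mul_apply, MulAut.mul_apply, hγ _ (hZi _ (inv_mem hα) x hx), MulAut.apply_inv_self]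
  · intro γ _ hγ
    exact ⟨0, fun x hx => by rw [pow_zero, pow_one]; exact hγ x hx⟩
  · intro i x _
    fin_cases i
    exact hdisp x

end CfsgLib.Fusion
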