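import Cfsg.Agent.Fusion.RankTwoEssential
import Cfsg.Agent.Fusion.CubeEssential
import Cfsg.Agent.Fusion.ShearEmbedded
import Cfsg.Agent.Solvable.PGroupRank
import Cfsg.Agent.LocalB.QdSylow
import Cfsg.Agent.Unitary.ThreeTwo
import Cfsg.Agent.FGSA.Huppert
import Mathlib.Logic.Small.Basic
import Mathlib.Algebra.Group.Shrink

/-!
Essential subgroups of order `p⁴`.
-/

set_option autoImplicit false
set_option linter.unusedSectionVars false
set_option linter.style.haveILetI false

open Cfsg Cfsg.FusionSystem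
open scoped commutatorElement

namespace CfsgLib.Fusion.FourthEssential

universe u

variable {p : ℕ} [hp : Fact p.Prime]

/-- A `p`-element acts trivially on an invariant layer of order `p`. -/
theorem layer_trivial {H : Type u} [Group H] [Finite H] (A B : Subgroup H) [A.Normal] (hAB : A ≤ B)
    (hcard : Nat.card B = p * Nat.card A) (t : MulAut H) {k : ℕ} (ht : t ^ p ^ k = 1)
    (hA : ∀ x ∈ A, t x ∈ A) (hB : ∀ x ∈ B, t x ∈ B) : ∀ x ∈ B, x⁻¹ * t x ∈ A := by
  intro x hx
  by_cases hxA : x ∈ A
  · exact mul_mem (inv_mem hxA) (hA x hxA)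
  haveI : (A.subgroupOf B).Normal := inferInstance
  have hq : Nat.card (B ⧸ A.subgroupOf B) = p := by
    have h := (A.subgroupOf B).index_mul_card
    rw [Nat.card_congr (Subgroup.subgroupOfEquivOfLe hAB).toEquiv, hcard, Subgroup.index_eq_card] at h
    exact Nat.eq_of_mul_eq_mul_right Nat.card_pos h
  set π := QuotientGroup.mk' (A.subgroupOf B)
  have hπ : ∀ u v : B, π u = π v ↔ (u : H)⁻¹ * v ∈ A := fun u v => QuotientGroup.eq
  have hx1 : π ⟨x, hx⟩ ≠ 1 := fun h => hxA (Subgroup.mem_subgroupOf.1 ((QuotientGroup.eq_one_iff _).1 h))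
  obtain ⟨i, hi⟩ := Subgroup.mem_zpowers_iff.1
    (mem_zpowers_of_prime_card hq hx1 (g' := π ⟨t x, hB x hx⟩))
  have hpow : ∀ n : ℕ, ∃ hn : (t ^ n) x ∈ B, π ⟨(t ^ n) x, hn⟩ = π ⟨x, hx⟩ ^ (i ^ n) := by
    intro n
    induction n with
    | zero => exact ⟨hx, by simp⟩
    | succ n ih =>
      obtain ⟨hn, e⟩ := ih
      refine ⟨by rw [pow_succ', MulAut.mul_apply]; exact hB _ hn, ?_⟩
      have e' : π (⟨(t ^ n) x, hn⟩) = π ((⟨x, hx⟩ : B) ^ (i ^ n)) := by rw [e, map_zpow]
      have h1 := hA _ ((hπ _ _).1 e')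
      rw [SubgroupClass.coe_zpow, map_mul, map_inv, map_zpow] at h1
      have h2 : π ⟨t ((t ^ n) x), hB _ hn⟩ = π ((⟨t x, hB x hx⟩ : B) ^ (i ^ n)) := (hπ _ _).2 h1
      rw [map_zpow, ← hi, ← zpow_mul, ← pow_succ'] at h2
      refine Eq.trans (congrArg π (Subtype.ext ?_)) h2
      show (t ^ (n + 1)) x = t ((t ^ n) x)
      rw [pow_succ', MulAut.mul_apply]
  obtain ⟨hn, e⟩ := hpow (p ^ k)
  have e' : π ⟨x, hx⟩ ^ (1 : ℤ) = π ⟨x, hx⟩ ^ (i ^ p ^ k) := by
    rw [zpow_one, ← e]
    exact congrArg π (Subtype.ext (by show x = (t ^ p ^ k) x; rw [ht]; rfl))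
  have ho : orderOf (π ⟨x, hx⟩) = p := orderOf_eq_prime (hq ▸ pow_card_eq_one') hx1
  rw [zpow_eq_zpow_iff_modEq, ho, ← ZMod.intCast_eq_intCast_iff] at e'
  push_cast at e'
  rw [ZMod.pow_card_pow] at e'
  have h3 : π ⟨x, hx⟩ = π ⟨t x, hB x hx⟩ := by
    rw [← hi]
    conv_lhs => rw [← zpow_one (π ⟨x, hx⟩)]
    rw [zpow_eq_zpow_iff_modEq, ho, ← ZMod.intCast_eq_intCast_iff]
    push_cast
    exact e'
  exact (hπ _ _).1 h3

section pure

variable {H : Type u} [Group H] [Finite H]

/-- An abelian group of order `p ^ 4` with Frattini subgroup of index `p ^ 3`. -/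
theorem abelian_iso (hc : ∀ a b : H, a * b = b * a) (hH : IsPGroup p H) (hcard : Nat.card H = p ^ 4)
    (hidx : (frattini H).index = p ^ 3) :
    Nonempty (H ≃* Multiplicative (ZMod (p ^ 2) × ZMod p × ZMod p)) := by
  classical
  letI : CommGroup H := { (inferInstance : Group H) with mul_comm := hc }
  have hpΦ : ∀ x : H, x ^ p ∈ frattini H := (CfsgLib.PGroupBasic.commutator_pow_le_frattini hH).2
  have hΦ : Nat.card (frattini H) = p := by
    have h := (frattini H).index_mul_card
    rw [hidx, hcard, pow_succ p 3] at h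
    exact Nat.eq_of_mul_eq_mul_left (pow_pos hp.out.pos 3) h
  have hΦp : ∀ y ∈ frattini H, y ^ p = 1 := fun y hy => by
    have := pow_card_eq_one' (x := (⟨y, hy⟩ : frattini H))
    rw [hΦ] at this
    exact congrArg Subtype.val this
  obtain ⟨x, hx⟩ : ∃ x : H, x ^ p ≠ 1 := by
    by_contra h
    push Not at h
    have hle := CfsgLib.PGroupBasic.frattini_le_of_elementary (p := p) (⊥ : Subgroup H)
      (by rw [_root_.commutator_def, Subgroup.commutator_le]
          exact fun a _ b _ => Subgroup.mem_bot.2 (commutatorElement_eq_one_iff_mul_comm.2 (hc a b)))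
      fun y => Subgroup.mem_bot.2 (h y)
    rw [le_bot_iff.1 hle, Subgroup.card_bot] at hΦ
    exact hp.out.one_lt.ne hΦ
  set K := (powMonoidHom p : H →* H).ker with hK
  have hKmem : ∀ y : H, y ∈ K ↔ y ^ p = 1 := fun y => Iff.rfl
  have hKcard : p ^ 3 ≤ Nat.card K := by
    have h1 := K.card_mul_index
    rw [hK, Subgroup.index_ker, hcard] at h1
    have h2 : Nat.card (powMonoidHom p : H →* H).range ≤ p := (Subgroup.card_le_of_le
      (show (powMonoidHom p : H →* H).range ≤ frattini H by
        rintro _ ⟨y, rfl⟩; exact hpΦ y)).trans hΦ.le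
    by_contra hlt
    rw [not_le] at hlt
    have h3 := Nat.mul_lt_mul_of_lt_of_le hlt h2 hp.out.pos
    rw [h1, ← pow_succ] at h3
    exact lt_irrefl _ h3
  set w := x ^ p with hw
  have hwK : w ∈ K := (hKmem w).2 (hΦp _ (hpΦ x))
  have hwo : orderOf w = p := orderOf_eq_prime ((hKmem w).1 hwK) hx
  have hout : ∀ L : Subgroup H, L ≤ K → Nat.card L < p ^ 3 → ∃ y ∈ K, y ∉ L := fun L _ hL => by
    by_contra h
    push Not at h
    exact absurd ((Subgroup.card_le_of_le (show K ≤ L from h))) (not_le.2 (hL.trans_le hKcard))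
  obtain ⟨y, hyK, hy⟩ := hout (Subgroup.zpowers w) (Subgroup.zpowers_le.2 hwK) (by
    rw [Nat.card_zpowers, hwo]; exact lt_self_pow₀ hp.out.one_lt (by norm_num))
  obtain ⟨v, hvK, hv⟩ := hout (Subgroup.zpowers y ⊔ Subgroup.zpowers w)
    (sup_le (Subgroup.zpowers_le.2 hyK) (Subgroup.zpowers_le.2 hwK))
    (lt_of_le_of_lt (CfsgLib.PGroupBasic.card_sup_zpowers_le (p := p) (Subgroup.zpowers w) y
      (by rw [(hKmem y).1 hyK]; exact one_mem _)) (by
        rw [Nat.card_zpowers, hwo, ← pow_two]
        exact Nat.pow_lt_pow_right hp.out.one_lt (by norm_num)))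
  have hxK : ∀ i : ℤ, x ^ i ∈ K → x ^ i ∈ Subgroup.zpowers w := by
    intro i hi
    rw [hKmem, ← zpow_natCast, ← zpow_mul, mul_comm, zpow_mul, zpow_natCast] at hi
    have h1 := orderOf_dvd_iff_zpow_eq_one.2 hi
    rw [hwo] at h1
    obtain ⟨j, rfl⟩ := h1
    rw [zpow_mul, zpow_natCast]
    exact Subgroup.zpow_mem_zpowers _ _
  set R₁ := Subgroup.zpowers x ⊔ Subgroup.zpowers y with hR₁
  have hvR : v ∉ R₁ := by
    intro h
    obtain ⟨a, ha, b, hb, e⟩ := Subgroup.mem_sup.1 h
    obtain ⟨i, rfl⟩ := Subgroup.mem_zpowers_iff.1 ha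
    have hxi : x ^ i ∈ K := by
      have h1 := mul_mem hvK (inv_mem (Subgroup.zpowers_le.2 hyK hb))
      rwa [← e, mul_inv_cancel_right] at h1
    exact hv (e ▸ mul_mem (Subgroup.mem_sup_right (hxK i hxi)) (Subgroup.mem_sup_left hb))
  have hyR : y ∉ Subgroup.zpowers x := by
    intro h
    obtain ⟨i, rfl⟩ := Subgroup.mem_zpowers_iff.1 h
    exact hy (hxK i hyK)
  have ho : orderOf x = p ^ 2 := by
    refine orderOf_eq_prime_pow (n := 1) (by rwa [pow_one]) ?_
    rw [pow_succ, pow_one, pow_mul]
    exact hΦp _ (hpΦ x)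
  let f₁ : ZMod (p ^ 2) →+ Additive H := ZMod.lift (p ^ 2) ⟨zmultiplesHom (Additive H) (Additive.ofMul x), by
    simp only [zmultiplesHom_apply]
    rw [natCast_zsmul]
    exact congrArg Additive.ofMul (show x ^ (p ^ 2) = 1 from ho ▸ pow_orderOf_eq_one x)⟩
  let f₂ : ZMod p →+ Additive H := ZMod.lift p ⟨zmultiplesHom (Additive H) (Additive.ofMul y), by
    simp only [zmultiplesHom_apply]
    rw [natCast_zsmul]
    exact congrArg Additive.ofMul ((hKmem y).1 hyK)⟩
  let f₃ : ZMod p →+ Additive H := ZMod.lift p ⟨zmultiplesHom (Additive H) (Additive.ofMul v), by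
    simp only [zmultiplesHom_apply]
    rw [natCast_zsmul]
    exact congrArg Additive.ofMul ((hKmem v).1 hvK)⟩
  let ψ : Multiplicative (ZMod (p ^ 2) × ZMod p × ZMod p) →* H :=
    AddMonoidHom.toMultiplicativeLeft (f₁.coprod (f₂.coprod f₃))
  have hgen : ∀ (a : ℤ) (b : ℤ) (c : ℤ), x ^ a * (y ^ b * v ^ c) ∈ ψ.range := fun a b c =>
    ⟨Multiplicative.ofAdd ((a : ZMod (p ^ 2)), (b : ZMod p), (c : ZMod p)), by
      show Additive.toMul (f₁ (a : ZMod (p ^ 2)) + (f₂ (b : ZMod p) + f₃ (c : ZMod p))) = _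
      simp only [f₁, f₂, f₃, ZMod.lift_coe, zmultiplesHom_apply, toMul_add, toMul_zsmul, toMul_ofMul]⟩
  have hxr : x ∈ ψ.range := by simpa using hgen 1 0 0
  have hyr : y ∈ ψ.range := by simpa using hgen 0 1 0
  have hvr : v ∈ ψ.range := by simpa using hgen 0 0 1
  have htop : ψ.range = ⊤ := by
    have s1 : Subgroup.zpowers x < R₁ := SetLike.lt_iff_le_and_exists.2
      ⟨le_sup_left, y, Subgroup.mem_sup_right (Subgroup.mem_zpowers y), hyR⟩
    have s2 : R₁ < ψ.range := SetLike.lt_iff_le_and_exists.2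
      ⟨sup_le (Subgroup.zpowers_le.2 hxr) (Subgroup.zpowers_le.2 hyr), v, hvr, hvR⟩
    refine Subgroup.eq_top_of_le_card _ ?_
    have c1 := CfsgLib.Solvable.card_lt_of_lt s1
    have c2 := CfsgLib.Solvable.card_lt_of_lt s2
    obtain ⟨a, ha⟩ := IsPGroup.iff_card.1 (hH.to_subgroup R₁)
    obtain ⟨b, hb⟩ := IsPGroup.iff_card.1 (hH.to_subgroup ψ.range)
    rw [Nat.card_zpowers, ho, ha] at c1
    rw [ha, hb] at c2
    have := (Nat.pow_lt_pow_iff_right hp.out.one_lt).1 c1
    have := (Nat.pow_lt_pow_iff_right hp.out.one_lt).1 c2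
    rw [hcard, hb]
    exact Nat.pow_le_pow_right hp.out.pos (by omega)
  haveI : NeZero (p ^ 2) := ⟨pow_ne_zero _ hp.out.ne_zero⟩
  have hbij : Function.Bijective ψ := by
    refine (Nat.bijective_iff_surjective_and_card ψ).2 ⟨MonoidHom.range_eq_top.1 htop, ?_⟩
    rw [Nat.card_congr Multiplicative.toAdd, Nat.card_prod, Nat.card_prod, Nat.card_zmod,
      Nat.card_zmod, hcard]
    ring
  exact ⟨(MulEquiv.ofBijective ψ hbij).symm⟩

variable (hcard : Nat.card H = p ^ 4) (hne : ¬ ∀ a b : H, a * b = b * a)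

include hcard in
theorem card_frattini {r : ℕ} (hr : (frattini H).index = p ^ r) (hr4 : r ≤ 4) :
    Nat.card (frattini H) = p ^ (4 - r) := by
  have h := (frattini H).index_mul_card
  rw [hr, hcard, show p ^ 4 = p ^ r * p ^ (4 - r) by rw [← pow_add]; congr 1; omega] at h
  exact Nat.eq_of_mul_eq_mul_left (pow_pos hp.out.pos r) h

include hcard hne in
/-- Two generators: a characteristic maximal subgroup. -/
theorem exists_char_maximal (hidx : (frattini H).index = p ^ 2) :
    ∃ M : Subgroup H, frattini H ≤ M ∧ M ≠ frattini H ∧ M ≠ ⊤ ∧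
      ∀ α : MulAut H, ∀ x ∈ M, α x ∈ M := by
  classical
  have hH : IsPGroup p H := IsPGroup.of_card hcard
  have hΦ : Nat.card (frattini H) = p ^ 2 := card_frattini hcard hidx (by norm_num)
  obtain ⟨hcle, hpΦ⟩ := CfsgLib.PGroupBasic.commutator_pow_le_frattini hH
  have hcne : commutator H ≠ ⊥ := fun h => hne fun a b =>
    commutatorElement_eq_one_iff_mul_comm.1 (Subgroup.mem_bot.1 (h ▸
      Subgroup.commutator_mem_commutator (Subgroup.mem_top a) (Subgroup.mem_top b)))
  have hchar : ∀ α : MulAut H, ∀ x ∈ commutator H, α x ∈ commutator H := fun α x hx =>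
    Subgroup.characteristic_iff_le_comap.1 inferInstance α hx
  by_cases heq : commutator H = frattini H
  · -- the centralizer of the derived subgroup
    set C := Subgroup.centralizer (commutator H : Set H)
    have hΦC : frattini H ≤ C := by
      rw [← heq]
      intro x hx
      refine Subgroup.mem_centralizer_iff.2 fun y hy => ?_
      exact congrArg Subtype.val (IsPGroup.commutative_of_card_eq_prime_sq (p := p)
        (by rw [heq, hΦ]) (⟨y, hy⟩ : commutator H) ⟨x, hx⟩)
    refine ⟨C, hΦC, fun e => ?_, fun e => ?_, fun α x hx => ?_⟩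
    · have h1 := CfsgLib.PGroupRank.index_centralizer_le hH (commutator H) (a := 2) (by rw [heq, hΦ])
      rw [show Subgroup.centralizer (commutator H : Set H) = C from rfl, e, hidx] at h1
      have := (Nat.pow_le_pow_iff_right hp.out.one_lt).1 h1
      omega
    · -- then the derived subgroup would be central, hence of exponent `p` and cyclic
      have hcen : ∀ d ∈ commutator H, ∀ g : H, g * d = d * g := fun d hd g =>
        (Subgroup.mem_centralizer_iff.1 (e.ge (Subgroup.mem_top g)) d hd).symm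
      obtain ⟨a, b, hab⟩ : ∃ a b : H, a * b ≠ b * a := by push Not at hne; exact hne
      have hbil : ∀ g x y : H, ⁅g, x * y⁆ = ⁅g, x⁆ * ⁅g, y⁆ := fun g x y => by
        calc ⁅g, x * y⁆ = ⁅g, x⁆ * (x * ⁅g, y⁆ * x⁻¹) := by simp only [commutatorElement_def]; group
          _ = _ := by
            rw [hcen _ (Subgroup.commutator_mem_commutator (Subgroup.mem_top g) (Subgroup.mem_top y)) x,
              mul_inv_cancel_right]
      have hexp : ∀ g x : H, ⁅g, x⁆ ^ p = 1 := fun g x => by
        let f : H →* H := MonoidHom.mk' (fun x => ⁅g, x⁆) (hbil g)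
        show (f x) ^ p = 1
        rw [← map_pow]
        exact commutatorElement_eq_one_iff_mul_comm.2 (hcen _ (heq ▸ hpΦ x) g)
      -- every commutator is a power of `⁅a, b⁆`
      let D : Subgroup H := Subgroup.zpowers ⁅a, b⁆
      haveI : D.Normal := ⟨fun w hw g => by
        obtain ⟨i, rfl⟩ := Subgroup.mem_zpowers_iff.1 hw
        rw [hcen _ (zpow_mem (Subgroup.commutator_mem_commutator (Subgroup.mem_top a) (Subgroup.mem_top b)) i) g,
          mul_inv_cancel_right]
        exact Subgroup.zpow_mem_zpowers _ i⟩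
      have hgen : Subgroup.closure ({a, b} : Set H) = ⊤ := by
        refine frattini_nongenerating ?_
        set K := Subgroup.closure ({a, b} : Set H) ⊔ frattini H
        have haK : a ∈ K := Subgroup.mem_sup_left (Subgroup.subset_closure (Set.mem_insert _ _))
        have hbK : b ∈ K := Subgroup.mem_sup_left (Subgroup.subset_closure (Set.mem_insert_of_mem _ rfl))
        set K₁ := Subgroup.zpowers a ⊔ frattini H
        have s1 : frattini H < K₁ := SetLike.lt_iff_le_and_exists.2 ⟨le_sup_right, a,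
          Subgroup.mem_sup_left (Subgroup.mem_zpowers a), fun h => hab (hcen _ (heq ▸ h) b).symm⟩
        have hbK₁ : b ∉ K₁ := by
          intro h
          obtain ⟨u, hu, v, hv, rfl⟩ := Subgroup.mem_sup_of_normal_right.1 h
          obtain ⟨i, rfl⟩ := Subgroup.mem_zpowers_iff.1 hu
          exact hab ((((Commute.refl a).zpow_right i).mul_right (hcen _ (heq ▸ hv) a)).eq)
        have s2 : K₁ < K := SetLike.lt_iff_le_and_exists.2
          ⟨sup_le (Subgroup.zpowers_le.2 haK) le_sup_right, b, hbK, hbK₁⟩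
        refine Subgroup.eq_top_of_le_card _ ?_
        have c1 := CfsgLib.Solvable.card_lt_of_lt s1
        have c2 := CfsgLib.Solvable.card_lt_of_lt s2
        obtain ⟨i, hi⟩ := IsPGroup.iff_card.1 (hH.to_subgroup K₁)
        obtain ⟨j, hj⟩ := IsPGroup.iff_card.1 (hH.to_subgroup K)
        rw [hΦ, hi] at c1
        rw [hi, hj] at c2
        have := (Nat.pow_lt_pow_iff_right hp.out.one_lt).1 c1
        have := (Nat.pow_lt_pow_iff_right hp.out.one_lt).1 c2
        rw [hcard, hj]
        exact Nat.pow_le_pow_right hp.out.pos (by omega)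
      have hsub : commutator H ≤ D := by
        have hall : ∀ u ∈ Subgroup.closure ({a, b} : Set H), ∀ v ∈ Subgroup.closure ({a, b} : Set H),
            ⁅u, v⁆ ∈ D := by
          intro u hu v hv
          rw [← QuotientGroup.eq_one_iff, ← QuotientGroup.mk'_apply, map_commutatorElement,
            commutatorElement_eq_one_iff_mul_comm]
          have hmap : ∀ w ∈ Subgroup.closure ({a, b} : Set H), QuotientGroup.mk' D w ∈
              Subgroup.closure (QuotientGroup.mk' D '' {a, b}) := fun w hw => by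
            rw [← MonoidHom.map_closure]; exact ⟨w, hw, rfl⟩
          have hcomm : ∀ s ∈ QuotientGroup.mk' D '' ({a, b} : Set H),
              ∀ t ∈ QuotientGroup.mk' D '' ({a, b} : Set H), s * t = t * s := by
            have hab' : QuotientGroup.mk' D a * QuotientGroup.mk' D b =
                QuotientGroup.mk' D b * QuotientGroup.mk' D a := by
              rw [← commutatorElement_eq_one_iff_mul_comm, ← map_commutatorElement]
              exact (QuotientGroup.eq_one_iff _).2 (Subgroup.mem_zpowers _)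
            rintro _ ⟨s, rfl | rfl, rfl⟩ _ ⟨t, rfl | rfl, rfl⟩
            · rfl
            · exact hab'
            · exact hab'.symm
            · rfl
          exact congrArg Subtype.val ((Subgroup.closureCommGroupOfComm hcomm).mul_comm
            ⟨_, hmap u hu⟩ ⟨_, hmap v hv⟩)
        rw [_root_.commutator_def, Subgroup.commutator_le]
        exact fun u _ v _ => hall u (hgen ▸ Subgroup.mem_top u) v (hgen ▸ Subgroup.mem_top v)
      have h1 := Subgroup.card_le_of_le hsub
      rw [heq, hΦ, Nat.card_zpowers] at h1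
      have h2 := Nat.le_of_dvd hp.out.pos (orderOf_dvd_of_pow_eq_one (hexp a b))
      have h3 : p < p ^ 2 := lt_self_pow₀ hp.out.one_lt (by norm_num)
      omega
    · refine Subgroup.mem_centralizer_iff.2 fun y hy => ?_
      obtain ⟨y', rfl⟩ := α.surjective y
      have hy' : y' ∈ commutator H := by
        have := hchar α⁻¹ _ hy
        rwa [MulAut.inv_apply_self] at this
      rw [← map_mul, ← map_mul, Subgroup.mem_centralizer_iff.1 hx y' hy']
  -- the kernel of the power map modulo the derived subgroup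
  have hccard : Nat.card (commutator H) = p := by
    obtain ⟨j, hj⟩ := IsPGroup.iff_card.1 (hH.to_subgroup (commutator H))
    have h1 : 1 < Nat.card (commutator H) := by
      haveI := (Subgroup.nontrivial_iff_ne_bot _).2 hcne
      exact Finite.one_lt_card
    have h2 := CfsgLib.Solvable.card_lt_of_lt (lt_of_le_of_ne hcle heq)
    rw [hj] at h1 h2 ⊢
    rw [hΦ] at h2
    have := (Nat.pow_lt_pow_iff_right hp.out.one_lt).1 h2
    have hj0 : j ≠ 0 := fun h => by rw [h, pow_zero] at h1; omega
    rw [show j = 1 by omega, pow_one]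
  set π := QuotientGroup.mk' (commutator H)
  have hcom : ∀ x y : H, Commute (π x) (π y) := fun x y => by
    refine commutatorElement_eq_one_iff_commute.1 ?_
    rw [← map_commutatorElement]
    exact (QuotientGroup.eq_one_iff _).2
      (Subgroup.commutator_mem_commutator (Subgroup.mem_top x) (Subgroup.mem_top y))
  let f : H →* H ⧸ commutator H := MonoidHom.mk' (fun x => (π x) ^ p)
    fun x y => by rw [map_mul, (hcom x y).mul_pow]
  have hfr : f.range ≤ (frattini H).map π := by
    rintro _ ⟨x, rfl⟩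
    exact ⟨x ^ p, hpΦ x, map_pow π x p⟩
  have hmapcard : Nat.card ((frattini H).map π) = p := by
    rw [show Nat.card ((frattini H).map π) = Nat.card (π.domRestrict (frattini H)).range by
      rw [MonoidHom.domRestrict_range], ← Subgroup.index_ker]
    have h2 := (π.domRestrict (frattini H)).ker.index_mul_card
    have h3 : Nat.card (π.domRestrict (frattini H)).ker = p := by
      rw [← hccard]
      refine (Nat.card_congr ?_).trans (Nat.card_congr (Subgroup.subgroupOfEquivOfLe hcle).toEquiv)
      exact Equiv.setCongr (Set.ext fun w => (QuotientGroup.eq_one_iff (w : H)).trans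
        Subgroup.mem_subgroupOf.symm)
    rw [h3, hΦ, pow_two] at h2
    exact Nat.eq_of_mul_eq_mul_right hp.out.pos h2
  have hK : f.ker.index = p := by
    rw [Subgroup.index_ker]
    haveI : Finite ((frattini H).map π) := Nat.finite_of_card_ne_zero (by rw [hmapcard]; exact hp.out.ne_zero)
    rcases (Nat.dvd_prime hp.out).1 (hmapcard ▸ Subgroup.card_dvd_of_le hfr) with h | h
    · exfalso
      have hall : ∀ x : H, x ^ p ∈ commutator H := fun x => by
        refine (QuotientGroup.eq_one_iff _).1 ?_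
        show π (x ^ p) = 1
        have : f x ∈ (⊥ : Subgroup _) := (Subgroup.card_eq_one.1 h) ▸ ⟨x, rfl⟩
        rw [map_pow]
        exact Subgroup.mem_bot.1 this
      exact heq (le_antisymm hcle
        (CfsgLib.PGroupBasic.frattini_le_of_elementary (p := p) _ le_rfl hall))
    · exact h
  refine ⟨f.ker, CfsgLib.PGroupBasic.frattini_le_of_elementary (p := p) _ (fun x hx => ?_) (fun x => ?_),
    fun e => ?_, fun e => ?_, fun α x hx => ?_⟩
  · show π x ^ p = 1
    rw [show π x = 1 from (QuotientGroup.eq_one_iff x).2 hx, one_pow]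
  · have hcard' : Nat.card (H ⧸ f.ker) = p := hK
    refine (QuotientGroup.eq_one_iff (N := f.ker) _).1 ?_
    rw [QuotientGroup.mk_pow, ← hcard', pow_card_eq_one']
  · rw [e, hidx] at hK
    exact absurd hK (lt_self_pow₀ hp.out.one_lt (by norm_num)).ne'
  · rw [e, Subgroup.index_top] at hK
    exact hp.out.one_lt.ne hK
  · show π (α x) ^ p = 1
    rw [← map_pow, ← map_pow]
    refine (QuotientGroup.eq_one_iff _).2 (hchar α _ ?_)
    refine (QuotientGroup.eq_one_iff _).1 ?_
    show π (x ^ p) = 1
    rw [map_pow]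
    exact hx

include hcard hne in
/-- Three generators: the centre, and either a characteristic maximal subgroup over it or one of the
listed types. -/
theorem three_gen (hidx : (frattini H).index = p ^ 3) :
    Nat.card (Subgroup.center H) = p ^ 2 ∧ frattini H ≤ Subgroup.center H ∧
      ((∃ K : Subgroup H, Subgroup.center H ≤ K ∧ Nat.card K = p ^ 3 ∧
          ∀ α : MulAut H, ∀ x ∈ K, α x ∈ K) ∨
        (Odd p ∧ ∃ (E : Type) (_ : Group E) (_ : Finite E), Cfsg.IsExtraspecial p E ∧
          Nat.card E = p ^ 3 ∧ (∀ x : E, x ^ p = 1) ∧ Nonempty (H ≃* E × Multiplicative (ZMod p))) ∨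
        (p = 2 ∧ Nonempty (H ≃* QuaternionGroup 2 × Multiplicative (ZMod 2))) ∨
        ((∀ x : H, x ^ (p ^ 2) = 1) ∧ IsCyclic (Subgroup.center H))) := by
  classical
  have hH : IsPGroup p H := IsPGroup.of_card hcard
  have hΦ : Nat.card (frattini H) = p := by rw [card_frattini hcard hidx (by norm_num)]; simp
  obtain ⟨hcle, hpΦ⟩ := CfsgLib.PGroupBasic.commutator_pow_le_frattini hH
  have hΦZ : frattini H ≤ Subgroup.center H :=
    CfsgLib.FGSA.Huppert.le_center_of_card_le hH _ hΦ.le
  have hΦp : ∀ y ∈ frattini H, y ^ p = 1 := fun y hy => by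
    have := pow_card_eq_one' (x := (⟨y, hy⟩ : frattini H))
    rw [hΦ] at this
    exact congrArg Subtype.val this
  have hc : ∀ g x : H, ⁅g, x⁆ ∈ frattini H := fun g x =>
    hcle (Subgroup.commutator_mem_commutator (Subgroup.mem_top g) (Subgroup.mem_top x))
  obtain ⟨a, b, hab⟩ : ∃ a b : H, a * b ≠ b * a := by push Not at hne; exact hne
  let F : H → (H →* H) := fun g => MonoidHom.mk' (fun x => ⁅g, x⁆) fun x y => by
    calc ⁅g, x * y⁆ = ⁅g, x⁆ * (x * ⁅g, y⁆ * x⁻¹) := by simp only [commutatorElement_def]; group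
      _ = _ := by rw [Subgroup.mem_center_iff.1 (hΦZ (hc g y)) x, mul_inv_cancel_right]
  have hFi : ∀ g, (F g).ker.index ≤ p := fun g => by
    rw [Subgroup.index_ker, ← hΦ]
    exact Subgroup.card_le_of_le (by rintro _ ⟨x, rfl⟩; exact hc g x)
  set C := (F a).ker ⊓ (F b).ker with hC
  have hCmem : ∀ x : H, x ∈ C → Commute a x ∧ Commute b x := fun x hx =>
    ⟨commutatorElement_eq_one_iff_commute.1 hx.1, commutatorElement_eq_one_iff_commute.1 hx.2⟩
  have hCcard : p ^ 2 ≤ Nat.card C := by
    have h1 : C.index ≤ p * p :=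
      (Subgroup.index_inf_le).trans (Nat.mul_le_mul (hFi a) (hFi b))
    have h2 := C.card_mul_index
    rw [hcard] at h2
    have h3 : 0 < C.index := Nat.pos_of_ne_zero Subgroup.index_ne_zero_of_finite
    nlinarith
  have haA : a ∈ (F a).ker := commutatorElement_self a
  have hbA : b ∉ (F a).ker := fun h => hab (commutatorElement_eq_one_iff_mul_comm.1 h)
  have haC : a ∉ C := fun h => hab (hCmem a h).2.eq.symm
  set C₁ := Subgroup.zpowers a ⊔ C with hC₁
  have s1 : C < C₁ := SetLike.lt_iff_le_and_exists.2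
    ⟨le_sup_right, a, Subgroup.mem_sup_left (Subgroup.mem_zpowers a), haC⟩
  have hbC₁ : b ∉ C₁ := fun h => hbA (sup_le (Subgroup.zpowers_le.2 haA) inf_le_left h)
  set C₂ := Subgroup.zpowers b ⊔ C₁
  have s2 : C₁ < C₂ := SetLike.lt_iff_le_and_exists.2
    ⟨le_sup_right, b, Subgroup.mem_sup_left (Subgroup.mem_zpowers b), hbC₁⟩
  obtain ⟨i, hi⟩ := IsPGroup.iff_card.1 (hH.to_subgroup C)
  obtain ⟨j, hj⟩ := IsPGroup.iff_card.1 (hH.to_subgroup C₁)
  obtain ⟨k, hk⟩ := IsPGroup.iff_card.1 (hH.to_subgroup C₂)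
  have c1 := CfsgLib.Solvable.card_lt_of_lt s1
  have c2 := CfsgLib.Solvable.card_lt_of_lt s2
  have c3 := Subgroup.card_le_card_group C₂
  rw [hi, hj, Nat.pow_lt_pow_iff_right hp.out.one_lt] at c1
  rw [hj, hk, Nat.pow_lt_pow_iff_right hp.out.one_lt] at c2
  rw [hk, hcard, Nat.pow_le_pow_iff_right hp.out.one_lt] at c3
  rw [hi, Nat.pow_le_pow_iff_right hp.out.one_lt] at hCcard
  have hC₂top : C₂ = ⊤ := Subgroup.eq_top_of_card_eq _ (by rw [hk, hcard, show k = 4 by omega])
  have hi2 : i = 2 := by omega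
  subst hi2
  have hCZ : C ≤ Subgroup.center H := by
    intro x hx
    refine Subgroup.mem_center_iff.2 fun g => ?_
    have hle : C₂ ≤ Subgroup.centralizer ({x} : Set H) := sup_le
      (Subgroup.zpowers_le.2 (Subgroup.mem_centralizer_singleton_iff.2 (hCmem x hx).2.eq))
      (sup_le (Subgroup.zpowers_le.2 (Subgroup.mem_centralizer_singleton_iff.2 (hCmem x hx).1.eq))
        fun y hy => Subgroup.mem_centralizer_singleton_iff.2 (congrArg Subtype.val
          (IsPGroup.commutative_of_card_eq_prime_sq hi (⟨y, hy⟩ : C) ⟨x, hx⟩)))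
    exact Subgroup.mem_centralizer_singleton_iff.1 (hle (hC₂top ▸ Subgroup.mem_top g))
  have hZC : Subgroup.center H = C := le_antisymm (fun x hx =>
    ⟨commutatorElement_eq_one_iff_mul_comm.2 (Subgroup.mem_center_iff.1 hx a),
      commutatorElement_eq_one_iff_mul_comm.2 (Subgroup.mem_center_iff.1 hx b)⟩) hCZ
  have hZcard : Nat.card (Subgroup.center H) = p ^ 2 := by rw [hZC, hi]
  refine ⟨hZcard, hΦZ, ?_⟩
  by_cases hcyc : IsCyclic (Subgroup.center H)
  · exact Or.inr (Or.inr (Or.inr ⟨fun x => by rw [pow_two, pow_mul]; exact hΦp _ (hpΦ x), hcyc⟩))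
  -- the centre is elementary abelian
  have hZexp : ∀ z ∈ Subgroup.center H, z ^ p = 1 := by
    intro z hz
    by_contra h
    refine hcyc (isCyclic_of_orderOf_eq_card (⟨z, hz⟩ : Subgroup.center H) ?_)
    rw [hZcard]
    refine orderOf_eq_prime_pow (n := 1) ?_ ?_
    · rw [pow_one]; exact fun h' => h (congrArg Subtype.val h')
    · rw [pow_succ, pow_one, pow_mul]
      exact Subtype.ext (hΦp _ (hpΦ z))
  obtain ⟨w, hwZ, hwΦ⟩ := SetLike.exists_of_lt (lt_of_le_of_ne hΦZ fun e => by
    rw [← e, hΦ] at hZcard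
    exact (lt_self_pow₀ hp.out.one_lt (by norm_num : 1 < 2)).ne hZcard)
  have hwp := hZexp w hwZ
  have hwo : orderOf w = p := orderOf_eq_prime hwp fun h => hwΦ (h ▸ one_mem _)
  -- the subgroup generated by `a` and `b`
  set E := Subgroup.zpowers b ⊔ (Subgroup.zpowers a ⊔ frattini H) with hE
  haveI hn1 : (Subgroup.zpowers a ⊔ frattini H).Normal := ⟨fun y hy g => by
    have := mul_mem (Subgroup.mem_sup_right (hc g y) : ⁅g, y⁆ ∈ Subgroup.zpowers a ⊔ frattini H) hy
    rwa [commutatorElement_def, inv_mul_cancel_right] at this⟩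
  have hEcard : Nat.card E = p ^ 3 := by
    have e1 := CfsgLib.PGroupBasic.card_sup_zpowers_le (p := p) (frattini H) a (hpΦ a)
    have e2 := CfsgLib.PGroupBasic.card_sup_zpowers_le (p := p) (Subgroup.zpowers a ⊔ frattini H) b
      (Subgroup.mem_sup_right (hpΦ b))
    rw [← hE] at e2
    rw [hΦ] at e1
    obtain ⟨n, hn⟩ := IsPGroup.iff_card.1 (hH.to_subgroup E)
    have hle : Nat.card E ≤ p ^ 3 := e2.trans ((Nat.mul_le_mul_left p e1).trans (le_of_eq (by ring)))
    rw [hn] at hle ⊢
    have hn3 := (Nat.pow_le_pow_iff_right hp.out.one_lt).1 hle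
    by_contra hne3
    have hn2 : n ≤ 2 := by
      rcases lt_or_eq_of_le hn3 with h | h
      · omega
      · exact absurd (by rw [h]) hne3
    have haE : a ∈ E := Subgroup.mem_sup_right (Subgroup.mem_sup_left (Subgroup.mem_zpowers a))
    have hbE : b ∈ E := Subgroup.mem_sup_left (Subgroup.mem_zpowers b)
    refine hab (congrArg Subtype.val (?_ : (⟨a, haE⟩ : E) * ⟨b, hbE⟩ = ⟨b, hbE⟩ * ⟨a, haE⟩))
    interval_cases n
    · haveI := (Nat.card_eq_one_iff_unique.1 (hn.trans (pow_zero p))).1
      exact Subsingleton.elim _ _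
    · haveI : IsCyclic E := isCyclic_of_prime_card (hn.trans (pow_one p))
      exact IsCyclic.commGroup.mul_comm _ _
    · exact IsPGroup.commutative_of_card_eq_prime_sq hn _ _
  have hEne : ¬ ∀ x y : E, x * y = y * x := fun h => hab (congrArg Subtype.val
    (h ⟨a, Subgroup.mem_sup_right (Subgroup.mem_sup_left (Subgroup.mem_zpowers a))⟩
      ⟨b, Subgroup.mem_sup_left (Subgroup.mem_zpowers b)⟩))
  have hΦE : frattini H ≤ E := le_trans le_sup_right le_sup_right
  have hEZ : ∀ x ∈ E, x ∈ Subgroup.center H → x ∈ frattini H := by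
    intro x hxE hxZ
    obtain ⟨-, hcz, -, -⟩ := cube_frattini hEcard hEne
    have hle : (frattini H).subgroupOf E ≤ Subgroup.center E := fun y hy =>
      Subgroup.mem_center_iff.2 fun g => Subtype.ext (Subgroup.mem_center_iff.1 (hΦZ hy) g)
    have he := Subgroup.eq_of_le_of_card_ge hle
      (by rw [hcz, Nat.card_congr (Subgroup.subgroupOfEquivOfLe hΦE).toEquiv, hΦ])
    exact Subgroup.mem_subgroupOf.1 (he.ge (show (⟨x, hxE⟩ : E) ∈ Subgroup.center E from
      Subgroup.mem_center_iff.2 fun g => Subtype.ext (Subgroup.mem_center_iff.1 hxZ g)))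
  -- `H = E × ⟨w⟩`
  let g : ZMod p →+ Additive H := ZMod.lift p ⟨zmultiplesHom (Additive H) (Additive.ofMul w), by
    simp only [zmultiplesHom_apply]
    rw [natCast_zsmul]
    exact congrArg Additive.ofMul hwp⟩
  let g' : Multiplicative (ZMod p) →* H := AddMonoidHom.toMultiplicativeLeft g
  have hg'mem : ∀ u, g' u ∈ Subgroup.zpowers w := fun u => by
    obtain ⟨i, hi⟩ := ZMod.intCast_surjective (Multiplicative.toAdd u)
    refine ⟨i, ?_⟩
    show w ^ i = Additive.toMul (g (Multiplicative.toAdd u))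
    rw [← hi]
    simp [g]
  have hg'inj : Function.Injective g' := (injective_iff_map_eq_one g').2 fun u hu => by
    obtain ⟨i, hi⟩ := ZMod.intCast_surjective (Multiplicative.toAdd u)
    have h1 : w ^ i = 1 := by
      rw [← hu]
      show w ^ i = Additive.toMul (g (Multiplicative.toAdd u))
      rw [← hi]
      simp [g]
    have h2 := orderOf_dvd_iff_zpow_eq_one.2 h1
    rw [hwo, ← ZMod.intCast_zmod_eq_zero_iff_dvd, hi] at h2
    exact Multiplicative.toAdd.injective h2
  have hwc : ∀ (u : Multiplicative (ZMod p)) (x : H), Commute x (g' u) := fun u x => by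
    obtain ⟨i, hi⟩ := Subgroup.mem_zpowers_iff.1 (hg'mem u)
    rw [← hi]
    exact (show Commute x w from Subgroup.mem_center_iff.1 hwZ x).zpow_right i
  let Ψ : E × Multiplicative (ZMod p) →* H := MonoidHom.mk' (fun v => (v.1 : H) * g' v.2) fun v v' => by
    rw [Prod.fst_mul, Prod.snd_mul, Subgroup.coe_mul, map_mul, mul_assoc, mul_assoc,
      ← mul_assoc (v'.1 : H), (hwc v.2 (v'.1 : H)).eq]
    simp only [mul_assoc]
  have hΨ : Function.Bijective Ψ := by
    refine (Nat.bijective_iff_injective_and_card Ψ).2 ⟨(injective_iff_map_eq_one Ψ).2 ?_, ?_⟩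
    · rintro ⟨x, u⟩ h
      have hx : (x : H) = (g' u)⁻¹ := eq_inv_of_mul_eq_one_left h
      obtain ⟨i, hi⟩ := Subgroup.mem_zpowers_iff.1 (hg'mem u)
      have hxΦ : (x : H) ∈ frattini H := hEZ _ x.2 (by
        rw [hx, ← hi]; exact inv_mem (zpow_mem hwZ i))
      have hui : (g' u) = 1 := by
        by_contra hne1
        refine hwΦ ?_
        rw [hx, inv_mem_iff] at hxΦ
        obtain ⟨i, hi⟩ := Subgroup.mem_zpowers_iff.1 (mem_zpowers_of_prime_card
          (show Nat.card (Subgroup.zpowers w) = p by rw [Nat.card_zpowers, hwo])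
          (g := (⟨g' u, hg'mem u⟩ : Subgroup.zpowers w)) (g' := ⟨w, Subgroup.mem_zpowers w⟩)
          fun e => hne1 (congrArg Subtype.val e))
        have hi' : g' u ^ i = w := congrArg (fun z : Subgroup.zpowers w => (z : H)) hi
        exact hi' ▸ zpow_mem hxΦ i
      rw [hui, inv_one] at hx
      exact Prod.ext (Subtype.ext hx) (hg'inj (hui.trans (map_one g').symm))
    · rw [Nat.card_prod, hEcard, Nat.card_congr Multiplicative.toAdd, Nat.card_zmod, hcard]
      ring
  have eΨ : H ≃* E × Multiplicative (ZMod p) := (MulEquiv.ofBijective Ψ hΨ).symm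
  by_cases hp2 : p = 2
  · subst hp2
    by_cases hinv : ∃ s : H, s ∉ Subgroup.center H ∧ s ^ 2 = 1
    · -- the elements with nontrivial square generate an abelian maximal subgroup over the centre
      left
      obtain ⟨s, hsZ, hs⟩ := hinv
      have hsq : ∀ x y : H, x ^ 2 ≠ 1 → y ^ 2 ≠ 1 → Commute x y := by
        intro x y hx hy
        by_contra hxy
        have hgen : ∀ u ∈ frattini H, u ≠ 1 → ∀ v ∈ frattini H, v ≠ 1 → u = v := by
          intro u hu hu1 v hv hv1
          haveI : Finite (frattini H) := inferInstance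
          obtain ⟨i, hi⟩ := Subgroup.mem_zpowers_iff.1 (mem_zpowers_of_prime_card hΦ
            (g := (⟨u, hu⟩ : frattini H)) (g' := ⟨v, hv⟩) fun e => hu1 (congrArg Subtype.val e))
          have hi' : u ^ i = v := congrArg Subtype.val hi
          rcases Int.even_or_odd i with ⟨m, rfl⟩ | ⟨m, rfl⟩
          · refine absurd ?_ hv1
            rw [← hi', ← two_mul, zpow_mul, show u ^ (2 : ℤ) = 1 by rw [zpow_two, ← pow_two, hΦp u hu],
              one_zpow]
          · rw [← hi', zpow_add, zpow_mul, show u ^ (2 : ℤ) = 1 by rw [zpow_two, ← pow_two, hΦp u hu],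
              one_zpow, one_mul, zpow_one]
        -- `s` is congruent to `x`, `y` or `x * y` modulo the centre
        have hxy' : ⁅y, x⁆ ≠ 1 := fun h => hxy (commutatorElement_eq_one_iff_commute.1 h).symm
        have hprod : (x * y) ^ 2 ≠ 1 := by
          have e : (x * y) ^ 2 = x ^ 2 * y ^ 2 * ⁅y, x⁆ := by
            have hcz := fun w => (Subgroup.mem_center_iff.1 (hΦZ (hc y x)) w).symm
            calc (x * y) ^ 2 = x * (⁅y, x⁆ * x) * y * y := by
                  rw [pow_two, commutatorElement_def]; group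
              _ = x * x * ⁅y, x⁆ * y * y := by rw [hcz x]; simp only [mul_assoc]
              _ = x * x * (⁅y, x⁆ * (y * y)) := by simp only [mul_assoc]
              _ = x ^ 2 * y ^ 2 * ⁅y, x⁆ := by rw [hcz (y * y), pow_two, pow_two]; simp only [mul_assoc]
          rw [e, hgen _ (hpΦ x) hx _ (hpΦ y) hy, ← pow_two, hΦp _ (hpΦ y), one_mul]
          exact hxy'
        set K₁ := Subgroup.zpowers x ⊔ Subgroup.center H
        set K₂ := Subgroup.zpowers y ⊔ K₁
        have hxZ : x ∉ Subgroup.center H := fun h => hxy (Subgroup.mem_center_iff.1 h y).symm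
        have hyK : y ∉ K₁ := fun h => hxy (by
          obtain ⟨u, hu, v, hv, rfl⟩ := Subgroup.mem_sup_of_normal_right.1 h
          obtain ⟨i, rfl⟩ := Subgroup.mem_zpowers_iff.1 hu
          exact ((Commute.refl x).zpow_right i).mul_right (Subgroup.mem_center_iff.1 hv x))
        have t1 := CfsgLib.Solvable.card_lt_of_lt (show Subgroup.center H < K₁ from
          SetLike.lt_iff_le_and_exists.2 ⟨le_sup_right, x,
            Subgroup.mem_sup_left (Subgroup.mem_zpowers x), hxZ⟩)
        have t2 := CfsgLib.Solvable.card_lt_of_lt (show K₁ < K₂ from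
          SetLike.lt_iff_le_and_exists.2 ⟨le_sup_right, y,
            Subgroup.mem_sup_left (Subgroup.mem_zpowers y), hyK⟩)
        obtain ⟨n₁, hn₁⟩ := IsPGroup.iff_card.1 (hH.to_subgroup K₁)
        obtain ⟨n₂, hn₂⟩ := IsPGroup.iff_card.1 (hH.to_subgroup K₂)
        rw [hZcard, hn₁, Nat.pow_lt_pow_iff_right (by norm_num)] at t1
        rw [hn₁, hn₂, Nat.pow_lt_pow_iff_right (by norm_num)] at t2
        have htop : K₂ = ⊤ := Subgroup.eq_top_of_le_card _ (by
          rw [hcard, hn₂]; exact Nat.pow_le_pow_right (by norm_num) (by omega))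
        haveI : K₁.Normal := ⟨fun u hu g => by
          have := mul_mem (Subgroup.mem_sup_right (hΦZ (hc g u)) : ⁅g, u⁆ ∈ K₁) hu
          rwa [commutatorElement_def, inv_mul_cancel_right] at this⟩
        obtain ⟨u, hu, v, hv, hsv⟩ := Subgroup.mem_sup_of_normal_right.1 (htop.ge (Subgroup.mem_top s))
        obtain ⟨i, rfl⟩ := Subgroup.mem_zpowers_iff.1 hu
        obtain ⟨u', hu', c, hcv, rfl⟩ := Subgroup.mem_sup_of_normal_right.1 hv
        obtain ⟨j, rfl⟩ := Subgroup.mem_zpowers_iff.1 hu'
        have hred : ∀ (r : H) (n : ℤ), ∃ d ∈ Subgroup.center H, r ^ n = d ∨ r ^ n = r * d := by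
          intro r n
          rcases Int.even_or_odd n with ⟨m, rfl⟩ | ⟨m, rfl⟩
          · exact ⟨(r ^ 2) ^ m, zpow_mem (hΦZ (hpΦ r)) m, Or.inl (by
              rw [← zpow_natCast r 2, ← zpow_mul]; congr 1; omega)⟩
          · exact ⟨(r ^ 2) ^ m, zpow_mem (hΦZ (hpΦ r)) m, Or.inr (by
              rw [← zpow_natCast r 2, ← zpow_mul, ← zpow_one_add]; congr 1; omega)⟩
        have hsq' : ∀ r d : H, d ∈ Subgroup.center H → (r * d) ^ 2 = r ^ 2 := fun r d hd => by
          rw [(show Commute r d from Subgroup.mem_center_iff.1 hd r).mul_pow, hZexp d hd, mul_one]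
        obtain ⟨d, hd, hdy⟩ := hred y i
        obtain ⟨e, he, hex⟩ := hred x j
        have hde := mul_mem hd (mul_mem he hcv)
        have hcd : ∀ r : H, r * d = d * r := fun r => Subgroup.mem_center_iff.1 hd r
        rcases hdy with hdy | hdy <;> rcases hex with hex | hex <;> rw [hdy, hex] at hsv
        · exact hsZ (hsv ▸ hde)
        · rw [show d * (x * e * c) = x * (d * (e * c)) by
            rw [mul_assoc x, ← mul_assoc d, ← hcd x]; simp only [mul_assoc]] at hsv
          exact hx ((hsq' x _ hde).symm.trans (by rw [hsv, hs]))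
        · rw [show y * d * (e * c) = y * (d * (e * c)) by simp only [mul_assoc]] at hsv
          exact hy ((hsq' y _ hde).symm.trans (by rw [hsv, hs]))
        · rw [show y * d * (x * e * c) = y * x * (d * (e * c)) by
            rw [mul_assoc y d, mul_assoc x e, ← mul_assoc d x, ← hcd x]; simp only [mul_assoc]] at hsv
          have h2 : (y * x) ^ 2 = 1 := (hsq' (y * x) _ hde).symm.trans (by rw [hsv, hs])
          refine hprod ?_
          have e' : (x * y) ^ 2 = x * ((y * x) ^ 2) * x⁻¹ := by rw [pow_two, pow_two]; group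
          rw [e', h2, mul_one, mul_inv_cancel]
      set K := Subgroup.closure {x : H | x ^ 2 ≠ 1} ⊔ Subgroup.center H with hKdef
      obtain ⟨x, hx⟩ : ∃ x : H, x ^ 2 ≠ 1 := by
        by_contra h
        push Not at h
        refine hab ?_
        have ha' : a⁻¹ = a := inv_eq_of_mul_eq_one_right (by rw [← pow_two, h])
        have hb' : b⁻¹ = b := inv_eq_of_mul_eq_one_right (by rw [← pow_two, h])
        have hab' : (a * b)⁻¹ = a * b := inv_eq_of_mul_eq_one_right (by rw [← pow_two, h])
        rw [← hab', mul_inv_rev, ha', hb']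
      have hKab : ∀ u ∈ K, ∀ v ∈ K, Commute u v := by
        have hle : K ≤ Subgroup.centralizer (K : Set H) := by
          refine sup_le ((Subgroup.closure_le _).2 fun u hu =>
            Subgroup.mem_centralizer_iff.2 fun v hv => ?_) fun u hu =>
            Subgroup.mem_centralizer_iff.2 fun v _ => Subgroup.mem_center_iff.1 hu v
          have hle' : K ≤ Subgroup.centralizer ({u} : Set H) := sup_le
            ((Subgroup.closure_le _).2 fun v hv => Subgroup.mem_centralizer_singleton_iff.2
              (hsq v u hv hu).eq)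
            fun v hv => Subgroup.mem_centralizer_singleton_iff.2 (Subgroup.mem_center_iff.1 hv u).symm
          exact Subgroup.mem_centralizer_singleton_iff.1 (hle' hv)
        exact fun u hu v hv => Subgroup.mem_centralizer_iff.1 (hle hv) u hu
      refine ⟨K, le_sup_right, ?_, fun α u hu => ?_⟩
      · have t1 := CfsgLib.Solvable.card_lt_of_lt (show Subgroup.center H < K from
          SetLike.lt_iff_le_and_exists.2 ⟨le_sup_right, x,
            Subgroup.mem_sup_left (Subgroup.subset_closure hx), fun h => hx (hZexp x h)⟩)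
        have t2 : Nat.card K < Nat.card H := by
          rw [← Subgroup.card_top (G := H)]
          exact CfsgLib.Solvable.card_lt_of_lt (lt_top_iff_ne_top.2 fun e =>
            hab (hKab a (e ▸ Subgroup.mem_top a) b (e ▸ Subgroup.mem_top b)).eq)
        obtain ⟨n, hn⟩ := IsPGroup.iff_card.1 (hH.to_subgroup K)
        rw [hZcard, hn, Nat.pow_lt_pow_iff_right (by norm_num)] at t1
        rw [hn, hcard, Nat.pow_lt_pow_iff_right (by norm_num)] at t2
        rw [hn, show n = 3 by omega]
      · have hle : K ≤ K.comap α.toMonoidHom := sup_le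
          ((Subgroup.closure_le _).2 fun v hv => Subgroup.mem_sup_left (Subgroup.subset_closure
            (show (α v) ^ 2 ≠ 1 by rw [← map_pow]; exact fun h => hv ((map_eq_one_iff _ α.injective).1 h))))
          fun v hv => Subgroup.mem_sup_right
            (Subgroup.characteristic_iff_le_comap.1 inferInstance α hv)
        exact hle hu
    · -- no involutions outside the centre: quaternion
      push Not at hinv
      refine Or.inr (Or.inr (Or.inl ⟨rfl, ?_⟩))
      obtain ⟨eQ⟩ : Nonempty (E ≃* QuaternionGroup 2) := by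
        refine CfsgLib.Unitary.nonempty_mulEquiv_quaternion (by rw [hEcard]; norm_num)
          (fun x => Subtype.ext ?_) fun x y hx hy hx1 hy1 => ?_
        · rw [SubgroupClass.coe_pow, show 4 = 2 * 2 by norm_num, pow_mul]
          exact hΦp _ (hpΦ _)
        · have hin : ∀ z : E, z ^ 2 = 1 → (z : H) ∈ frattini H := fun z hz => hEZ _ z.2 (by
            by_contra h
            exact hinv _ h (congrArg Subtype.val hz))
          obtain ⟨i, hi⟩ := Subgroup.mem_zpowers_iff.1 (mem_zpowers_of_prime_card hΦ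
            (g := (⟨x, hin x hx⟩ : frattini H)) (g' := ⟨y, hin y hy⟩)
            fun e => hx1 (Subtype.ext (congrArg (fun w : frattini H => (w : H)) e)))
          have hi' : x ^ i = y := Subtype.ext (by
            rw [SubgroupClass.coe_zpow]; exact congrArg (fun w : frattini H => (w : H)) hi)
          rcases Int.even_or_odd i with ⟨m, rfl⟩ | ⟨m, rfl⟩
          · refine absurd ?_ hy1
            rw [← hi', ← two_mul, zpow_mul, show x ^ (2 : ℤ) = 1 by rw [zpow_two, ← pow_two, hx], one_zpow]
          · rw [← hi', zpow_add, zpow_mul, show x ^ (2 : ℤ) = 1 by rw [zpow_two, ← pow_two, hx],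
              one_zpow, one_mul, zpow_one]
      exact ⟨eΨ.trans (MulEquiv.prodCongr eQ (MulEquiv.refl _))⟩
  -- odd primes
  have hodd := hp.out.odd_of_ne_two hp2
  have hmulpow : ∀ u v : H, (u * v) ^ p = u ^ p * v ^ p := by
    intro u v
    have hz := fun w => (Subgroup.mem_center_iff.1 (hΦZ (hc v u)) w).symm
    obtain ⟨m, hm⟩ := hp.out.dvd_choose_self two_ne_zero (lt_of_le_of_ne hp.out.two_le (Ne.symm hp2))
    rw [CfsgLib.ZJ.mul_pow_of_central (z := ⁅v, u⁆) (by rw [commutatorElement_def]; group) (hz u) (hz v),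
      hm, pow_mul, hΦp _ (hc v u), one_pow, one_mul]
  let f : H →* H := MonoidHom.mk' (fun x => x ^ p) hmulpow
  by_cases hexp : f.ker = ⊤
  · refine Or.inr (Or.inl ⟨hodd, ?_⟩)
    have hEexp : ∀ x : E, x ^ p = 1 := fun x =>
      Subtype.ext (hexp.ge (Subgroup.mem_top (x : H)) : (x : H) ∈ f.ker)
    let eS : Shrink.{0} E ≃* E := Shrink.mulEquiv
    haveI : Finite (Shrink.{0} E) := Finite.of_equiv E eS.symm.toEquiv
    have hcardS : Nat.card (Shrink.{0} E) = p ^ 3 := (Nat.card_congr eS.toEquiv).trans hEcard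
    have hexpS : ∀ x : Shrink.{0} E, x ^ p = 1 := fun x => eS.injective (by rw [map_pow, hEexp, map_one])
    exact ⟨Shrink.{0} E, inferInstance, inferInstance,
      CfsgLib.LocalB.isExtraspecial_of_cube hexpS hcardS (fun h => hEne fun x y =>
        eS.symm.injective (by rw [map_mul, map_mul, h])), hcardS, hexpS,
      ⟨eΨ.trans (MulEquiv.prodCongr eS.symm (MulEquiv.refl _))⟩⟩
  · left
    refine ⟨f.ker, fun z hz => hZexp z hz, ?_, fun α x hx => ?_⟩
    · have h1 : f.ker.index ≤ p := by
        rw [Subgroup.index_ker, ← hΦ]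
        exact Subgroup.card_le_of_le (by rintro _ ⟨x, rfl⟩; exact hpΦ x)
      have h2 := f.ker.card_mul_index
      obtain ⟨n, hn⟩ := IsPGroup.iff_card.1 (hH.to_subgroup f.ker)
      have h3 : n < 4 := by
        have h4 := CfsgLib.Solvable.card_lt_of_lt (lt_top_iff_ne_top.2 hexp)
        rwa [Subgroup.card_top, hn, hcard, Nat.pow_lt_pow_iff_right hp.out.one_lt] at h4
      have h5 : p ^ 4 ≤ p ^ (n + 1) := by
        calc p ^ 4 = Nat.card f.ker * f.ker.index := by rw [h2, hcard]
          _ ≤ p ^ n * p := by rw [hn]; exact Nat.mul_le_mul_left _ h1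
          _ = p ^ (n + 1) := (pow_succ p n).symm
      have := (Nat.pow_le_pow_iff_right hp.out.one_lt).1 h5
      rw [hn, show n = 3 by omega]
    · show (α x) ^ p = 1
      rw [← map_pow, show x ^ p = 1 from hx, map_one]

end pure

variable {Ω : Type u} [Group Ω] {S : Subgroup Ω} [Finite S] {F : FusionSystem S}

/-- An essential subgroup has no invariant flag with layers of order `p`. -/
theorem flag_false (hS : IsPGroup p S) (hF : F.IsSaturated p) {H : Subgroup Ω}
    (hH : F.IsEssential p H) {m : ℕ} (D : Fin (m + 1) → Subgroup H) (hn : ∀ i, (D i).Normal)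
    (hinv : ∀ i, ∀ α ∈ F.autGroup H, ∀ x ∈ D i, α x ∈ D i) (hmono : Monotone D)
    (htop : D (Fin.last m) = ⊤) (h0 : Nat.card (D 0) = p)
    (hstep : ∀ i : Fin m, Nat.card (D i.succ) = p * Nat.card (D i.castSucc)) : False := by
  have := finite_of_le hH.1.1
  obtain ⟨g, hg, hgH⟩ := SetLike.exists_of_lt (lt_normalizerIn p hS le_rfl (essential_lt p hS hF hH))
  have htA : conjAut S H ⟨g, hg⟩ ∈ autInducedBy S H := mem_autInducedBy.2 ⟨g, hg.1, fun _ => rfl⟩
  have hta := autInducedBy_le_autGroup (F := F) hH.1.1 htA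
  obtain ⟨k, hk⟩ := (isPGroup_autInducedBy hS H) ⟨_, htA⟩
  have htk : (conjAut S H ⟨g, hg⟩) ^ p ^ k = 1 := congrArg Subtype.val hk
  have hfix : ∀ x ∈ D 0, conjAut S H ⟨g, hg⟩ x = x := by
    intro x hx
    have h1 := layer_trivial (⊥ : Subgroup H) (D 0) bot_le (by rw [h0, Subgroup.card_bot, mul_one])
      _ htk (fun y hy => by rw [Subgroup.mem_bot.1 hy, map_one]; exact one_mem _)
      (hinv 0 _ hta) x hx
    exact (inv_mul_eq_one.1 (Subgroup.mem_bot.1 h1)).symm
  let M : Subgroup (MulAut H) :=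
    { carrier := {γ | ∀ x ∈ D 0, γ x = x}
      one_mem' := fun x _ => rfl
      mul_mem' := fun {a b} ha hb x hx => by rw [MulAut.mul_apply, hb x hx, ha x hx]
      inv_mem' := fun {a} ha x hx => by
        conv_lhs => rw [← ha x hx]
        exact MulAut.inv_apply_self H a x }
  refine hgH (mem_of_chain p hS hH.1 (isRadical_of_essential p hS hH) D htop
    (fun α hα i => hinv i α hα) M (fun α hα γ _ hγ x hx => ?_)
    (fun γ _ hγ => ⟨0, fun x hx => by rw [pow_zero, pow_one]; exact hγ x hx⟩) hg
    (fun i x hx => ?_) hfix)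
  · rw [MulAut.mul_apply, MulAut.mul_apply, hγ _ (hinv 0 _ (inv_mem hα) x hx), MulAut.apply_inv_self]
  · haveI := hn i.castSucc
    exact layer_trivial _ _ (hmono i.castSucc_lt_succ.le) (hstep i) _ htk (hinv _ _ hta) (hinv _ _ hta) x hx

/-- The list of essential subgroups of order `p ^ 4`. -/
theorem essential_fourth (hS : IsPGroup p S) (hF : F.IsSaturated p) {H : Subgroup Ω}
    (hH : F.IsEssential p H) (hcard : Nat.card H = p ^ 4) :
    Cfsg.IsElementaryAbelian p H ∨
      Nonempty (↥H ≃* Multiplicative (ZMod (p ^ 2) × ZMod p × ZMod p)) ∨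
      ((p = 2 ∨ p = 3) ∧ Nonempty (↥H ≃* Multiplicative (ZMod (p ^ 2) × ZMod (p ^ 2)))) ∨
      (Odd p ∧ ∃ (E : Type) (_ : Group E) (_ : Finite E), Cfsg.IsExtraspecial p E ∧ Nat.card E = p ^ 3 ∧
        (∀ x : E, x ^ p = 1) ∧ Nonempty (↥H ≃* E × Multiplicative (ZMod p))) ∨
      (p = 2 ∧ Nonempty (↥H ≃* QuaternionGroup 2 × Multiplicative (ZMod 2))) ∨
      (¬ IsMulCommutative ↥H ∧ (∀ x ∈ H, x ^ (p ^ 2) = 1) ∧ IsCyclic ↥(Subgroup.center ↥H) ∧
        Nat.card (Subgroup.center ↥H) = p ^ 2) := by
  classical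
  have := finite_of_le hH.1.1
  have hHp := isPGroup_of_le hS hH.1.1
  obtain ⟨r, hr⟩ := hHp.index (frattini H)
  have hr4 : r ≤ 4 := by
    refine (Nat.pow_le_pow_iff_right hp.out.one_lt).1 ?_
    rw [← hr, ← hcard]
    exact Nat.le_of_dvd Nat.card_pos (Subgroup.index_dvd_card _)
  by_cases hab : ∀ a b : H, a * b = b * a
  · have hab' : IsMulCommutative H := ⟨⟨hab⟩⟩
    rcases (show r ≤ 2 ∨ r = 3 ∨ r = 4 by omega) with hr2 | rfl | rfl
    · rcases essential_rank_two p hS hF hH hab' (hr ▸ Nat.pow_le_pow_right hp.out.pos hr2) with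
        ⟨-, h⟩ | ⟨hp3, k, ⟨e⟩⟩
      · rw [hcard] at h
        exact absurd (Nat.pow_right_injective hp.out.two_le h) (by norm_num)
      · have h := Nat.card_congr e.toEquiv
        rw [hcard, Nat.card_congr Multiplicative.toAdd, Nat.card_prod, Nat.card_zmod, ← pow_add] at h
        have hk := Nat.pow_right_injective hp.out.two_le h
        obtain rfl : k = 2 := by omega
        refine Or.inr (Or.inr (Or.inl ⟨?_, ⟨e⟩⟩))
        have := hp.out.two_le
        omega
    · exact Or.inr (Or.inl (abelian_iso hab hHp hcard hr))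
    · left
      have hbot : frattini H = ⊥ :=
        Subgroup.card_eq_one.1 (by rw [card_frattini hcard hr le_rfl]; simp)
      refine ⟨hab', fun x hx => ?_⟩
      have h := (CfsgLib.PGroupBasic.commutator_pow_le_frattini hHp).2 (⟨x, hx⟩ : H)
      rw [hbot, Subgroup.mem_bot] at h
      exact congrArg Subtype.val h
  rcases (show r ≤ 1 ∨ r = 2 ∨ r = 3 ∨ r = 4 by omega) with hr1 | rfl | rfl | rfl
  · exfalso
    refine hab ?_
    obtain ⟨a, ha⟩ : ∃ a : H, Subgroup.zpowers a ⊔ frattini H = ⊤ := by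
      rcases (show r = 0 ∨ r = 1 by omega) with rfl | rfl
      · exact ⟨1, by rw [Subgroup.index_eq_one.1 (hr.trans (pow_zero p)), sup_top_eq]⟩
      · rw [pow_one] at hr
        obtain ⟨a, ha⟩ : ∃ a : H, a ∉ frattini H := by
          by_contra h
          push Not at h
          rw [(Subgroup.eq_top_iff' _).2 h, Subgroup.index_top] at hr
          exact hp.out.one_lt.ne hr
        refine ⟨a, top_unique fun x _ => ?_⟩
        obtain ⟨i, hi⟩ := Subgroup.mem_zpowers_iff.1 (mem_zpowers_of_prime_card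
          (show Nat.card (H ⧸ frattini H) = p from hr)
          (g := (a : H ⧸ frattini H)) (g' := (x : H ⧸ frattini H))
          fun e => ha ((QuotientGroup.eq_one_iff a).1 e))
        rw [← QuotientGroup.mk_zpow] at hi
        exact Subgroup.mem_sup_of_normal_right.2 ⟨_, Subgroup.zpow_mem_zpowers a i, _,
          QuotientGroup.eq.1 hi, mul_inv_cancel_left _ _⟩
    have htop := frattini_nongenerating ha
    intro x y
    obtain ⟨i, rfl⟩ := Subgroup.mem_zpowers_iff.1 (htop.ge (Subgroup.mem_top x))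
    obtain ⟨j, rfl⟩ := Subgroup.mem_zpowers_iff.1 (htop.ge (Subgroup.mem_top y))
    exact ((Commute.refl a).zpow_zpow i j).eq
  · exfalso
    obtain ⟨M, hle, hne, hnt, hinv⟩ := exists_char_maximal hcard hab hr
    rcases essential_no_char p hS hF hH hr M hle (fun g _ => hinv g) with h | h
    exacts [hne h, hnt h]
  · obtain ⟨hZ, hΦZ, ⟨K, hZK, hK, hKi⟩ | h | h | ⟨hexp, hcyc⟩⟩ := three_gen hcard hab hr
    · exfalso
      have hΦ : Nat.card (frattini H) = p := by rw [card_frattini hcard hr (by norm_num)]; simp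
      have hcle := (CfsgLib.PGroupBasic.commutator_pow_le_frattini hHp).1
      have hnor : ∀ L : Subgroup H, frattini H ≤ L → L.Normal := fun L hL => ⟨fun x hx g => by
        have := mul_mem (hL (hcle (Subgroup.commutator_mem_commutator (Subgroup.mem_top g)
          (Subgroup.mem_top x)))) hx
        rwa [commutatorElement_def, inv_mul_cancel_right] at this⟩
      refine flag_false hS hF hH (m := 3) ![frattini H, Subgroup.center H, K, ⊤] ?_ ?_ ?_ rfl hΦ ?_
      · intro i
        fin_cases i
        · exact hnor _ le_rfl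
        · exact hnor _ hΦZ
        · exact hnor _ (hΦZ.trans hZK)
        · exact hnor _ le_top
      · intro i α _ x hx
        fin_cases i
        · exact Subgroup.characteristic_iff_le_comap.1 frattini_characteristic α hx
        · exact Subgroup.characteristic_iff_le_comap.1
            (inferInstance : (Subgroup.center H).Characteristic) α hx
        · exact hKi α x hx
        · trivial
      · refine Fin.monotone_iff_le_succ.2 fun i => ?_
        fin_cases i
        exacts [hΦZ, hZK, le_top]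
      · intro i
        fin_cases i
        · show Nat.card (Subgroup.center H) = p * Nat.card (frattini H)
          rw [hZ, hΦ, pow_two]
        · show Nat.card K = p * Nat.card (Subgroup.center H)
          rw [hK, hZ]; ring
        · show Nat.card (⊤ : Subgroup H) = p * Nat.card K
          rw [Subgroup.card_top, hK, hcard]; ring
    · exact Or.inr (Or.inr (Or.inr (Or.inl h)))
    · exact Or.inr (Or.inr (Or.inr (Or.inr (Or.inl h))))
    · refine Or.inr (Or.inr (Or.inr (Or.inr (Or.inr ⟨fun h => hab h.is_comm.comm, ?_, hcyc, hZ⟩))))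
      exact fun x hx => congrArg Subtype.val (hexp ⟨x, hx⟩)
  · exfalso
    refine hab fun a b => ?_
    have hbot : frattini H = ⊥ :=
      Subgroup.card_eq_one.1 (by rw [card_frattini hcard hr le_rfl]; simp)
    refine commutatorElement_eq_one_iff_mul_comm.1 (Subgroup.mem_bot.1 (hbot ▸ ?_))
    exact (CfsgLib.PGroupBasic.commutator_pow_le_frattini hHp).1
      (Subgroup.commutator_mem_commutator (Subgroup.mem_top a) (Subgroup.mem_top b))

end CfsgLib.Fusion.FourthEssential
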