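import Cfsg.Agent.Fusion.Invariant
import Cfsg.Agent.Fusion.Alperin

/-!
A subsystem containing the `p`-automorphisms of all centric subgroups satisfies the Frattini
condition and has index prime to `p`.
-/

set_option autoImplicit false

open Cfsg Cfsg.FusionSystem

namespace CfsgLib.Fusion

variable {Ω : Type*} [Group Ω] {S : Subgroup Ω}

/-- The image of `P` under an automorphism of `S`. -/
def autImage (α : MulAut S) (P : Subgroup Ω) : Subgroup Ω :=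
  (P.subgroupOf S).map (S.subtype.comp α.toMonoidHom)

theorem apply_mem_autImage {α : MulAut S} {P : Subgroup Ω} {x : S} (h : (x : Ω) ∈ P) :
    ((α x : S) : Ω) ∈ autImage α P := ⟨x, h, rfl⟩

theorem autImage_le (α : MulAut S) (P : Subgroup Ω) : autImage α P ≤ S := by
  rintro _ ⟨x, -, rfl⟩; exact (α x).2

theorem exists_of_mem_autImage {α : MulAut S} {P : Subgroup Ω} {y : Ω} (h : y ∈ autImage α P) :
    ∃ x : S, (x : Ω) ∈ P ∧ ((α x : S) : Ω) = y := by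
  obtain ⟨x, hx, rfl⟩ := h
  exact ⟨x, hx, rfl⟩

variable (F E : FusionSystem S)

/-- The largest subsystem of `E` invariant under `Aut_F(S)`. -/
def invPart : FusionSystem S where
  Hom P := {φ | φ ∈ E.Hom P ∧ ∀ α ∈ F.autGroup S, ∃ χ ∈ E.Hom (autImage α P),
    ∀ (x : P) (hx : (x : Ω) ∈ S) (hφx : φ x ∈ S) (hm : ((α ⟨x, hx⟩ : S) : Ω) ∈ autImage α P),
      χ ⟨_, hm⟩ = ((α ⟨φ x, hφx⟩ : S) : Ω)}
  le_of_mem h := E.le_of_mem h.1
  injective_of_mem h := E.injective_of_mem h.1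
  conj_mem := by
    intro P g hP hg
    refine ⟨E.conj_mem hP hg, fun α _ => ⟨conjHom _ ((α ⟨g, hg⟩ : S) : Ω),
      E.conj_mem (autImage_le α P) (α _).2, fun x hx hφx hm => ?_⟩⟩
    show ((α ⟨g, hg⟩ : S) : Ω) * ((α ⟨x, hx⟩ : S) : Ω) * ((α ⟨g, hg⟩ : S) : Ω)⁻¹ = _
    rw [← InvMemClass.coe_inv, ← map_inv, ← Subgroup.coe_mul, ← map_mul, ← Subgroup.coe_mul,
      ← map_mul]
    rfl
  comp_mem := by
    rintro P Q φ ψ ⟨hφ, hφt⟩ ⟨hψ, hψt⟩ h
    refine ⟨E.comp_mem hφ hψ h, fun α hα => ?_⟩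
    obtain ⟨χ₁, hχ₁, e₁⟩ := hφt α hα
    obtain ⟨χ₂, hχ₂, e₂⟩ := hψt α hα
    have hm : ∀ y, χ₁ y ∈ autImage α Q := by
      rintro ⟨_, x, hx, rfl⟩
      refine Set.mem_of_eq_of_mem (e₁ ⟨x, hx⟩ x.2 (apply_mem_S hφ _) (apply_mem_autImage hx)) ?_
      exact apply_mem_autImage (x := ⟨φ ⟨x, hx⟩, apply_mem_S hφ _⟩) (h ⟨x, hx⟩)
    refine ⟨χ₂.comp (χ₁.codRestrict _ hm), E.comp_mem hχ₁ hχ₂ hm, fun x hx hψx hmx => ?_⟩
    have h1 := e₁ x hx (apply_mem_S hφ x) hmx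
    have h2 := e₂ ⟨φ x, h x⟩ (apply_mem_S hφ x) hψx
      (apply_mem_autImage (x := ⟨φ x, apply_mem_S hφ x⟩) (h x))
    exact (apply_congr χ₂ h1).trans h2
  inv_mem := by
    rintro P φ ⟨hφ, hφt⟩
    obtain ⟨ψ, hψ, he⟩ := E.inv_mem hφ
    refine ⟨ψ, ⟨hψ, fun α hα => ?_⟩, he⟩
    obtain ⟨χ, hχ, e⟩ := hφt α hα
    obtain ⟨ν, hν, hνe⟩ := E.inv_mem hχ
    have hP := le_of_mem_hom hφ
    have key : ∀ x : P, ((α ⟨φ x, apply_mem_S hφ x⟩ : S) : Ω) =
        χ ⟨_, apply_mem_autImage (α := α) (x := ⟨x, hP x.2⟩) x.2⟩ := fun x =>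
      (e x _ _ _).symm
    have hle : autImage α φ.range ≤ χ.range := by
      intro y hy
      obtain ⟨z, ⟨x, hxz⟩, rfl⟩ := exists_of_mem_autImage hy
      rw [show z = ⟨φ x, apply_mem_S hφ x⟩ from Subtype.ext hxz.symm, key x]
      exact ⟨_, rfl⟩
    refine ⟨ν.comp (Subgroup.inclusion hle), restrict_mem hν hle, fun y hy hψy hm => ?_⟩
    obtain ⟨_, x, rfl⟩ := y
    have h1 : ψ ⟨φ x, ⟨x, rfl⟩⟩ = (x : Ω) := he x
    have h2 := hνe ⟨_, apply_mem_autImage (α := α) (x := ⟨x, hP x.2⟩) x.2⟩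
    refine ((apply_congr ν ?_).trans h2).trans ?_
    · exact key x
    · exact congrArg (fun z : S => ((α z : S) : Ω)) (Subtype.ext h1.symm)

variable {F E}

/-- The invariant part is invariant. -/
theorem invPart_twist {P : Subgroup Ω} {φ : P →* Ω} (hφ : φ ∈ (invPart F E).Hom P) {α : MulAut S}
    (hα : α ∈ F.autGroup S) :
    ∃ χ ∈ (invPart F E).Hom (autImage α P),
      ∀ (x : P) (hx : (x : Ω) ∈ S) (hφx : φ x ∈ S) (hm : ((α ⟨x, hx⟩ : S) : Ω) ∈ autImage α P),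
        χ ⟨_, hm⟩ = ((α ⟨φ x, hφx⟩ : S) : Ω) := by
  obtain ⟨hφE, hφt⟩ := hφ
  obtain ⟨χ, hχ, e⟩ := hφt α hα
  refine ⟨χ, ⟨hχ, fun β hβ => ?_⟩, e⟩
  obtain ⟨χ', hχ', e'⟩ := hφt (β * α) (mul_mem hβ hα)
  have hle : autImage β (autImage α P) ≤ autImage (β * α) P := by
    intro y hy
    obtain ⟨z, hz, rfl⟩ := exists_of_mem_autImage hy
    obtain ⟨x, hx, hxz⟩ := exists_of_mem_autImage hz
    rw [← show α x = z from Subtype.ext hxz]
    exact ⟨x, hx, rfl⟩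
  refine ⟨χ'.comp (Subgroup.inclusion hle), restrict_mem hχ' hle, fun z hz hχz hm => ?_⟩
  obtain ⟨_, x, hx, rfl⟩ := z
  have h1 := e ⟨x, hx⟩ x.2 (apply_mem_S hφE _) (apply_mem_autImage hx)
  have h2 := e' ⟨x, hx⟩ x.2 (apply_mem_S hφE _) ⟨x, hx, rfl⟩
  refine ((apply_congr χ' rfl).trans h2).trans ?_
  exact congrArg (fun w : S => ((β w : S) : Ω)) (Subtype.ext h1.symm)

variable (F E)

/-- The maps that are an automorphism of `S` after a map of the invariant part. -/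
def frattiniSystem (h : E.IsSubsystemOf F) : FusionSystem S where
  Hom P := {φ | ∃ α ∈ F.autGroup S, ∃ φ₀ ∈ (invPart F E).Hom P,
    ∀ (x : P) (hx : φ₀ x ∈ S), φ x = ((α ⟨φ₀ x, hx⟩ : S) : Ω)}
  le_of_mem := by
    rintro P φ ⟨α, -, φ₀, hφ₀, e⟩
    refine ⟨le_of_mem_hom hφ₀, fun x => ?_⟩
    rw [e x (apply_mem_S hφ₀ x)]
    exact (α _).2
  injective_of_mem := by
    rintro P φ ⟨α, -, φ₀, hφ₀, e⟩ a b hab
    rw [e a (apply_mem_S hφ₀ a), e b (apply_mem_S hφ₀ b)] at hab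
    exact (invPart F E).injective_of_mem hφ₀
      (congrArg Subtype.val (α.injective (Subtype.ext hab)))
  conj_mem hP hg := ⟨1, one_mem _, _, (invPart F E).conj_mem hP hg, fun _ _ => rfl⟩
  comp_mem := by
    rintro P Q φ ψ ⟨α, hα, φ₀, hφ₀, e⟩ ⟨β, hβ, ψ₀, hψ₀, e'⟩ hQ
    obtain ⟨χ, hχ, eχ⟩ := invPart_twist hψ₀ (inv_mem hα)
    have hφS : ∀ x : P, φ x ∈ S := fun x => le_of_mem_hom hψ₀ (hQ x)
    have hsrc : ∀ x : P, φ₀ x = (((α⁻¹ : MulAut S) ⟨φ x, hφS x⟩ : S) : Ω) := fun x => by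
      rw [show (⟨φ x, hφS x⟩ : S) = α ⟨φ₀ x, apply_mem_S hφ₀ x⟩ from Subtype.ext (e x _),
        MulAut.inv_apply_self]
    have hm : ∀ x, φ₀ x ∈ autImage α⁻¹ Q := fun x =>
      Set.mem_of_eq_of_mem (hsrc x) (apply_mem_autImage (hQ x))
    refine ⟨β * α, mul_mem hβ hα, χ.comp (φ₀.codRestrict _ hm),
      (invPart F E).comp_mem hφ₀ hχ hm, fun x hx => ?_⟩
    have h1 := eχ ⟨φ x, hQ x⟩ (hφS x) (apply_mem_S hψ₀ _) (apply_mem_autImage (hQ x))
    have h2 : (⟨(χ.comp (φ₀.codRestrict _ hm)) x, hx⟩ : S) =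
        (α⁻¹ : MulAut S) ⟨ψ₀ ⟨φ x, hQ x⟩, apply_mem_S hψ₀ _⟩ :=
      Subtype.ext ((apply_congr χ (hsrc x)).trans h1)
    rw [h2, MulAut.mul_apply, MulAut.apply_inv_self]
    exact e' ⟨φ x, hQ x⟩ _
  inv_mem := by
    rintro P φ ⟨α, hα, φ₀, hφ₀, e⟩
    obtain ⟨ν, hν, hνe⟩ := (invPart F E).inv_mem hφ₀
    obtain ⟨χ, hχ, eχ⟩ := invPart_twist hν hα
    have hval : ∀ x : P, φ x = ((α ⟨φ₀ x, apply_mem_S hφ₀ x⟩ : S) : Ω) := fun x => e x _
    have hle : φ.range ≤ autImage α φ₀.range := by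
      rintro _ ⟨x, rfl⟩
      rw [hval x]
      exact apply_mem_autImage (x := ⟨φ₀ x, apply_mem_S hφ₀ x⟩) ⟨x, rfl⟩
    let ψ : φ.range →* Ω := (S.subtype.comp (α⁻¹ : MulAut S).toMonoidHom).comp
      ((χ.comp (Subgroup.inclusion hle)).codRestrict S fun y => apply_mem_S hχ _)
    refine ⟨ψ, ⟨α⁻¹, inv_mem hα, _, restrict_mem hχ hle, fun y hy => rfl⟩, fun x => ?_⟩
    have h1 := eχ ⟨φ₀ x, ⟨x, rfl⟩⟩ (apply_mem_S hφ₀ x) (apply_mem_S hν _)
      (apply_mem_autImage (x := ⟨φ₀ x, apply_mem_S hφ₀ x⟩) ⟨x, rfl⟩)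
    show (((α⁻¹ : MulAut S) ⟨χ _, _⟩ : S) : Ω) = x
    have hxS : (x : Ω) ∈ S := le_of_mem_hom hφ₀ x.2
    rw [show (⟨χ (Subgroup.inclusion hle ⟨φ x, ⟨x, rfl⟩⟩), apply_mem_S hχ _⟩ : S) =
        α ⟨x, hxS⟩ from Subtype.ext (((apply_congr χ (hval x)).trans h1).trans
          (congrArg (fun z : S => ((α z : S) : Ω)) (Subtype.ext (hνe x)))),
      MulAut.inv_apply_self]

variable {F E}

/-- The hypothesis on the centric subgroups passes to the invariant part. -/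
theorem pPart_le_invPart {p : ℕ} (hEF : E.IsSubsystemOf F)
    (h : ∀ P : Subgroup Ω, F.IsCentric P → (Subgroup.closure {α : ↥(F.autGroup P) |
      ∃ k : ℕ, orderOf α = p ^ k}).map (F.autGroup P).subtype ≤ E.autGroup P)
    {P : Subgroup Ω} (hP : F.IsCentric P) {γ : MulAut P} (hγ : γ ∈ F.autGroup P)
    {k : ℕ} (hk : orderOf γ = p ^ k) : γ ∈ (invPart F E).autGroup P := by
  have hPS := hP.1
  have hmem : ∀ (Q : Subgroup Ω), F.IsCentric Q → ∀ (δ : MulAut Q), δ ∈ F.autGroup Q →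
      orderOf δ = p ^ k → δ ∈ E.autGroup Q := fun Q hQ δ hδ ho =>
    h Q hQ ⟨⟨δ, hδ⟩, Subgroup.subset_closure ⟨k, by rw [← Subgroup.orderOf_coe]; exact ho⟩, rfl⟩
  refine (autGroup_carrier hPS).2 ⟨(autGroup_carrier hPS).1 (hmem P hP γ hγ hk), fun α hα => ?_⟩
  have hφ : (S.subtype.comp α.toMonoidHom).comp (Subgroup.inclusion hPS) ∈ F.Hom P :=
    restrict_mem ((autGroup_carrier le_rfl).1 hα) hPS
  have hr : ((S.subtype.comp α.toMonoidHom).comp (Subgroup.inclusion hPS)).range = autImage α P :=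
    range_restrict _ hPS
  let e := isoRange _ (F.injective_of_mem hφ) hr
  have hQ : F.IsCentric (autImage α P) := isCentric_of_isConj hP ⟨_, hφ, hr⟩
  have hδ : MulAut.congr e γ ∈ F.autGroup (autImage α P) :=
    pow_mem_autGroup_iso hPS hφ e (fun _ => rfl) hγ
  have hδE := hmem _ hQ _ hδ (by rw [MulEquiv.orderOf_eq]; exact hk)
  refine ⟨_, (autGroup_carrier hQ.1).1 hδE, fun x hx hγx hm => ?_⟩
  show ((e (γ (e.symm ⟨_, hm⟩)) : autImage α P) : Ω) = _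
  rw [show e.symm ⟨_, hm⟩ = x from (MulEquiv.symm_apply_eq e).2 (Subtype.ext rfl)]
  rfl

theorem frattiniSystem_eq [Finite S] (p : ℕ) [Fact p.Prime] (hS : IsPGroup p S)
    (hF : F.IsSaturated p) (hEF : E.IsSubsystemOf F)
    (h : ∀ P : Subgroup Ω, F.IsCentric P → (Subgroup.closure {α : ↥(F.autGroup P) |
      ∃ k : ℕ, orderOf α = p ^ k}).map (F.autGroup P).subtype ≤ E.autGroup P) :
    ∀ P : Subgroup Ω, F.Hom P ⊆ (frattiniSystem F E hEF).Hom P := by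
  classical
  set G := frattiniSystem F E hEF with hG
  suffices key : ∀ k : ℕ, ∀ Q : Subgroup Ω, Nat.card S - Nat.card Q ≤ k → F.Hom Q ⊆ G.Hom Q from
    fun P => key _ P le_rfl
  intro k
  induction k using Nat.strong_induction_on with
  | _ k IH =>
  intro Q hQk
  refine alperin_above p hS hF G (Nat.card S - k) (fun P hP hPm => ?_) Q (by omega)
  rcases hP with heq | hess
  · intro α hα
    subst heq
    exact (autGroup_carrier le_rfl).2 ⟨α, hα, P.subtype,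
      subtype_mem (F := invPart F E) le_rfl, fun x hx => rfl⟩
  · obtain ⟨hc, hn, -⟩ := id hess
    have hPS := hc.1
    by_cases hPeq : P = S
    · intro α hα
      subst hPeq
      exact (autGroup_carrier le_rfl).2 ⟨α, hα, P.subtype,
        subtype_mem (F := invPart F E) le_rfl, fun x hx => rfl⟩
    have hlt : P < S := lt_of_le_of_ne hPS hPeq
    haveI : Finite P := finite_of_le hPS
    haveI : Finite (MulAut P) := finite_mulAut
    obtain ⟨⟨-, R, hR⟩, -⟩ := good_of_fullyNormalized p hS hF hn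
    let L : Subgroup (F.autGroup P) := Subgroup.closure {α | ∃ j : ℕ, orderOf α = p ^ j}
    haveI : L.Normal := by
      refine ⟨fun y hy g => ?_⟩
      have hmap : L.map (MulAut.conj g).toMonoidHom ≤ L := by
        rw [MonoidHom.map_closure, Subgroup.closure_le]
        rintro _ ⟨z, ⟨j, hj⟩, rfl⟩
        exact Subgroup.subset_closure ⟨j, by rw [← hj]; exact (MulAut.conj g).orderOf_eq z⟩
      exact hmap ⟨y, hy, rfl⟩
    have hRL : (R : Subgroup (F.autGroup P)) ≤ L := fun y hy => Subgroup.subset_closure (by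
      obtain ⟨j, hj⟩ := R.2 ⟨y, hy⟩
      obtain ⟨i, -, hi⟩ := (Nat.dvd_prime_pow (Fact.out : p.Prime)).1
        (orderOf_dvd_of_pow_eq_one hj)
      exact ⟨i, by rw [← Subgroup.orderOf_coe] at hi; exact hi⟩)
    suffices htop : (G.autGroup P).subgroupOf (F.autGroup P) = ⊤ from
      fun α hα => Subgroup.mem_subgroupOf.1 (htop.ge (Subgroup.mem_top (⟨α, hα⟩ : F.autGroup P)))
    rw [eq_top_iff, ← Sylow.normalizer_sup_eq_top' R hRL, sup_le_iff]
    constructor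
    · intro γ hγ
      obtain ⟨g, hgN, hgP⟩ := SetLike.exists_of_lt (lt_normalizerIn p hS le_rfl hlt)
      have hgS : g ∈ normalizerIn S P := ⟨hgN.1, hgN.2⟩
      let β := conjAut S P ⟨g, hgS⟩
      have hβ : β ∈ autInducedBy S P := mem_autInducedBy.2 ⟨g, hgS.1, fun _ => rfl⟩
      have hβI : β ∉ Inn P := fun hI => hgP ((inn_mem_iff hc hgS.1 fun _ => rfl).1 hI)
      have hconj : (γ : MulAut P) * β * (γ : MulAut P)⁻¹ ∈ autInducedBy S P := by
        have h1 : (⟨β, autInducedBy_le_autGroup hPS hβ⟩ : F.autGroup P) ∈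
            (R : Subgroup (F.autGroup P)) := by rw [hR]; exact hβ
        have h2 := (Subgroup.mem_normalizer_iff.1 hγ _).1 h1
        rw [hR] at h2
        exact h2
      obtain ⟨W, hPW, ψ, hψ, hψe⟩ := extends_of_conj_mem p hS hF hn γ.2 hβ hβI hconj
      have hWcard : Nat.card P < Nat.card W := by
        haveI : Finite W := finite_of_le (le_of_mem_hom hψ)
        refine lt_of_le_of_ne (Subgroup.card_le_of_le hPW.le) fun he => hPW.ne ?_
        exact Subgroup.eq_of_le_of_card_ge hPW.le he.ge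
      have hWS : Nat.card W ≤ Nat.card S := card_le_of_le le_rfl (le_of_mem_hom hψ)
      have hψG : ψ ∈ G.Hom W := IH (Nat.card S - Nat.card W) (by omega) W le_rfl hψ
      refine Subgroup.mem_subgroupOf.2 ((autGroup_carrier hPS).2 ?_)
      exact restrict_mem_of_eq hψG hPW.le fun x => (hψe x).symm
    · rw [Subgroup.closure_le]
      rintro γ ⟨j, hj⟩
      refine Subgroup.mem_subgroupOf.2 ((autGroup_carrier hPS).2 ⟨1, one_mem _, _,
        (autGroup_carrier hPS).1 (pPart_le_invPart hEF h hc γ.2 (k := j)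
          (by rw [Subgroup.orderOf_coe]; exact hj)), fun x hx => rfl⟩)

/-- **Index prime to `p` from the centric subgroups.** -/
theorem primeToP_of_centric [Finite S] (p : ℕ) [Fact p.Prime] (hS : IsPGroup p S)
    (hF : F.IsSaturated p) (hEF : E.IsSubsystemOf F)
    (h : ∀ P : Subgroup Ω, F.IsCentric P → (Subgroup.closure {α : ↥(F.autGroup P) |
      ∃ k : ℕ, orderOf α = p ^ k}).map (F.autGroup P).subtype ≤ E.autGroup P) :
    E.HasPrimeToPIndexIn F p ∧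
      (∀ (P : Subgroup Ω) (φ : P →* Ω), φ ∈ F.Hom P → ∃ α ∈ F.autGroup S, ∃ φ₀ ∈ E.Hom P,
        ∀ (x : P) (hx : φ₀ x ∈ S), φ x = ((α ⟨φ₀ x, hx⟩ : S) : Ω)) ∧
      ∀ P : Subgroup Ω, E.IsCentric P ↔ F.IsCentric P := by
  have hfr := frattiniSystem_eq p hS hF hEF h
  have hsub : (invPart F E).IsSubsystemOf F := fun P φ hφ => hEF P hφ.1
  have hinv : (invPart F E).IsInvariantIn F := by
    refine ⟨hsub, ⟨le_rfl, fun R _ φ hφ x => apply_mem_S hφ x⟩, fun P hP φ hφ α hα => ?_,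
      fun P _ φ hφ => hfr P hφ⟩
    obtain ⟨χ, hχ, e⟩ := invPart_twist hφ hα
    exact ⟨χ, hχ, fun x hφx hαx => e x (hP x.2) hφx hαx⟩
  refine ⟨⟨hEF, fun P hP => ?_⟩, fun P φ hφ => ?_, fun P => ⟨fun hc => ?_, isCentric_sub hEF⟩⟩
  · intro α hα
    have h1 := closure_pElements_le_of_invariant p hS hF hinv hP hα
    exact (autGroup_carrier hP).2 ((autGroup_carrier hP).1 h1).1
  · obtain ⟨α, hα, φ₀, hφ₀, e⟩ := hfr P hφ
    exact ⟨α, hα, φ₀, hφ₀.1, e⟩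
  · refine ⟨hc.1, ?_⟩
    rintro _ ⟨φ, hφ, rfl⟩ g hg
    obtain ⟨α, hα, φ₀, hφ₀, e⟩ := hfr P hφ
    obtain ⟨hgS, hgc⟩ := mem_centralizerIn.1 hg
    have hmem : (((α⁻¹ : MulAut S) ⟨g, hgS⟩ : S) : Ω) ∈ φ₀.range := by
      refine hc.2 _ ⟨φ₀, hφ₀.1, rfl⟩ (mem_centralizerIn.2 ⟨SetLike.coe_mem _, ?_⟩)
      rintro _ ⟨x, rfl⟩
      have h1 := hgc (φ x) ⟨x, rfl⟩
      rw [e x (apply_mem_S hφ₀ x)] at h1
      have h2 : α ⟨φ₀ x, apply_mem_S hφ₀ x⟩ * ⟨g, hgS⟩ = ⟨g, hgS⟩ * α ⟨φ₀ x, apply_mem_S hφ₀ x⟩ :=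
        Subtype.ext h1
      have h3 := congrArg (α⁻¹ : MulAut S) h2
      rw [map_mul, map_mul, MulAut.inv_apply_self] at h3
      exact congrArg Subtype.val h3
    obtain ⟨x, hx⟩ := hmem
    refine ⟨x, (e x (apply_mem_S hφ₀ x)).trans ?_⟩
    rw [show (⟨φ₀ x, apply_mem_S hφ₀ x⟩ : S) = (α⁻¹ : MulAut S) ⟨g, hgS⟩ from Subtype.ext hx,
      MulAut.apply_inv_self]

end CfsgLib.Fusion
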