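import Mathlib.GroupTheory.FreeGroup.Reduce
import Mathlib.GroupTheory.FreeGroup.NielsenSchreier
import Mathlib.GroupTheory.SemidirectProduct
import Mathlib.GroupTheory.Perm.Basic
import Mathlib.SetTheory.Cardinal.Finite
import Cfsg.Agent.Fusion.Basic

/-!
Realisation of an arbitrary fusion system on a finite group by a group which is an extension of a
free group by a group of permutations: reduced edge words of a finite-vertex graph on which
`Perm S` acts.
-/

set_option autoImplicit false

universe u

namespace CfsgLib.Fusion.FreeRealize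

/-! ### Reduced words -/

section Words

variable {α β : Type*}

theorem toWord_map_equiv [DecidableEq α] [DecidableEq β] (e : α ≃ β) (x : FreeGroup α) :
    (FreeGroup.freeGroupCongr e x).toWord = x.toWord.map (fun l => (e l.1, l.2)) := by
  conv_lhs => rw [← FreeGroup.mk_toWord (x := x)]
  change (FreeGroup.map e (FreeGroup.mk x.toWord)).toWord = _
  rw [FreeGroup.map.mk, FreeGroup.toWord_mk]
  apply FreeGroup.IsReduced.reduce_eq
  have h := FreeGroup.isReduced_toWord (x := x)
  unfold FreeGroup.IsReduced at h ⊢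
  rw [List.isChain_map]
  exact h.imp fun a b hab he => hab (e.injective he)

variable [DecidableEq α]

/-- Splitting off the longest common prefix. -/
theorem exists_common_prefix : ∀ (A B : List (α × Bool)), FreeGroup.IsReduced A →
    FreeGroup.IsReduced B → ∃ P A' B', A = P ++ A' ∧ B = P ++ B' ∧
      FreeGroup.IsReduced (FreeGroup.invRev A' ++ B')
  | [], B, _, hB => ⟨[], [], B, rfl, rfl, by simpa [FreeGroup.invRev] using hB⟩
  | a :: A, [], hA, _ => by
      refine ⟨[], a :: A, [], rfl, rfl, ?_⟩
      rw [List.append_nil, FreeGroup.isReduced_iff_reduce_eq, FreeGroup.reduce_invRev, hA.reduce_eq]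
  | a :: A, b :: B, hA, hB => by
      by_cases h : a = b
      · subst h
        obtain ⟨P, A', B', rfl, rfl, h3⟩ := exists_common_prefix A B
          (hA.infix ⟨[a], [], by simp⟩) (hB.infix ⟨[a], [], by simp⟩)
        exact ⟨a :: P, A', B', rfl, rfl, h3⟩
      · refine ⟨[], a :: A, b :: B, rfl, rfl, ?_⟩
        have h1 : FreeGroup.IsReduced (FreeGroup.invRev (a :: A)) := by
          rw [FreeGroup.isReduced_iff_reduce_eq, FreeGroup.reduce_invRev, hA.reduce_eq]
        have hmid : FreeGroup.IsReduced [(a.1, !a.2), b] := by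
          rw [FreeGroup.isReduced_cons_cons]
          refine ⟨fun he => ?_, FreeGroup.IsReduced.singleton⟩
          obtain ⟨a1, a2⟩ := a
          obtain ⟨b1, b2⟩ := b
          simp only at he ⊢
          subst he
          cases a2 <;> cases b2 <;> simp_all
        have hsplit : FreeGroup.invRev (a :: A) = FreeGroup.invRev A ++ [(a.1, !a.2)] := by
          simp [FreeGroup.invRev]
        rw [hsplit] at h1 ⊢
        have h2 := FreeGroup.IsReduced.append_overlap h1
          (L₃ := [b]) (by simpa using hmid) (by simp)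
        have h3 := FreeGroup.IsReduced.append_overlap (L₁ := FreeGroup.invRev A ++ [(a.1, !a.2)])
          (L₂ := [b]) (L₃ := B) h2 (by simpa using hB) (by simp)
        simpa using h3

/-- Distance in the tree of the free group. -/
def dist (x y : FreeGroup α) : ℕ := (x⁻¹ * y).toWord.length

theorem dist_mk_le (A B : List (α × Bool)) (P : List (α × Bool)) :
    dist (FreeGroup.mk (P ++ A)) (FreeGroup.mk (P ++ B)) ≤ A.length + B.length := by
  have e : (FreeGroup.mk (P ++ A))⁻¹ * FreeGroup.mk (P ++ B) =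
      FreeGroup.mk (FreeGroup.invRev A ++ B) := by
    rw [← FreeGroup.mul_mk, ← FreeGroup.mul_mk, mul_inv_rev, mul_assoc, inv_mul_cancel_left,
      FreeGroup.inv_mk, FreeGroup.mul_mk]
  unfold dist
  rw [e, FreeGroup.toWord_mk]
  refine le_trans (List.Sublist.length_le (FreeGroup.Red.sublist FreeGroup.reduce.red)) ?_
  simp

theorem dist_eq_prefix (x y : FreeGroup α) :
    ∃ P A B, x.toWord = P ++ A ∧ y.toWord = P ++ B ∧ dist x y = A.length + B.length := by
  obtain ⟨P, A, B, hA, hB, hred⟩ := exists_common_prefix x.toWord y.toWord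
    FreeGroup.isReduced_toWord FreeGroup.isReduced_toWord
  refine ⟨P, A, B, hA, hB, ?_⟩
  have hx : x = FreeGroup.mk (P ++ A) := by rw [← hA, FreeGroup.mk_toWord]
  have hy : y = FreeGroup.mk (P ++ B) := by rw [← hB, FreeGroup.mk_toWord]
  have e : x⁻¹ * y = FreeGroup.mk (FreeGroup.invRev A ++ B) := by
    rw [hx, hy, ← FreeGroup.mul_mk, ← FreeGroup.mul_mk, mul_inv_rev, mul_assoc,
      inv_mul_cancel_left, FreeGroup.inv_mk, FreeGroup.mul_mk]
  unfold dist
  rw [e, FreeGroup.toWord_mk, hred.reduce_eq]
  simp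

theorem dist_one (x : FreeGroup α) : dist 1 x = x.toWord.length := by simp [dist]

theorem dist_comm (x y : FreeGroup α) : dist x y = dist y x := by
  unfold dist
  rw [show x⁻¹ * y = (y⁻¹ * x)⁻¹ by group, FreeGroup.toWord_inv, FreeGroup.invRev_length]

theorem dist_take_le {L k : ℕ} {x w : FreeGroup α} (hw : w.toWord.length = L)
    (hk : k ≤ L) (hx : x.toWord.length ≤ L) (hxw : dist x w ≤ L) :
    dist (FreeGroup.mk (w.toWord.take k)) x ≤ max (L - k) k := by
  obtain ⟨P, A, B, hA, hB, hd⟩ := dist_eq_prefix x w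
  rw [hd] at hxw
  rw [hA, List.length_append] at hx
  rw [hB, List.length_append] at hw
  have hx' : x = FreeGroup.mk (P ++ A) := by rw [← hA, FreeGroup.mk_toWord]
  rw [hB, hx']
  by_cases h : k ≤ P.length
  · have e1 : (P ++ B).take k = P.take k ++ [] := by
      simp [List.take_append_of_le_length h]
    have e2 : P ++ A = P.take k ++ (P.drop k ++ A) := by
      rw [← List.append_assoc, List.take_append_drop]
    rw [e1, e2]
    refine le_trans (dist_mk_le _ _ _) ?_
    simp only [List.length_nil, List.length_append, List.length_drop]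
    omega
  · have e1 : (P ++ B).take k = P ++ B.take (k - P.length) := by
      rw [List.take_append, List.take_of_length_le (by omega)]
    rw [e1]
    refine le_trans (dist_mk_le _ _ _) ?_
    simp only [List.length_take]
    omega

theorem eq_take_of_dist {L k : ℕ} {c w : FreeGroup α} (hw : w.toWord.length = L)
    (h1 : c.toWord.length ≤ k) (h2 : dist c w ≤ k) (hk : 2 * k ≤ L + 1) :
    ∃ t, L ≤ t + k ∧ t ≤ k ∧ c = FreeGroup.mk (w.toWord.take t) := by
  obtain ⟨P, A, B, hA, hB, hd⟩ := dist_eq_prefix c w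
  rw [hd] at h2
  rw [hA, List.length_append] at h1
  rw [hB, List.length_append] at hw
  have hA0 : A = [] := List.eq_nil_of_length_eq_zero (by omega)
  refine ⟨P.length, by omega, by omega, ?_⟩
  rw [hB, List.take_left, ← FreeGroup.mk_toWord (x := c), hA, hA0, List.append_nil]

/-- A finite set of affine maps of the tree, closed under composition on the orbit of the origin,
has a common fixed vertex which is a prefix of an orbit point. -/
theorem exists_fixed {ι : Type*} [Finite ι] [Nonempty ι] (w : ι → FreeGroup α) (q : ι → α ≃ α)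
    (hback : ∀ i j, ∃ k, w i * FreeGroup.freeGroupCongr (q i) (w k) = w j)
    (hone : ∃ i, w i = 1) :
    ∃ i t, ∀ j, w j * FreeGroup.freeGroupCongr (q j) (FreeGroup.mk ((w i).toWord.take t)) =
      FreeGroup.mk ((w i).toWord.take t) := by
  obtain ⟨i0, hmax⟩ := Finite.exists_max fun i => (w i).toWord.length
  set L := (w i0).toWord.length with hL
  let f : ι → FreeGroup α → FreeGroup α := fun i x => w i * FreeGroup.freeGroupCongr (q i) x
  have hiso : ∀ i x y, dist (f i x) (f i y) = dist x y := by
    intro i x y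
    unfold dist
    have e : (f i x)⁻¹ * f i y = FreeGroup.freeGroupCongr (q i) (x⁻¹ * y) := by
      simp only [f, map_mul, map_inv]
      group
    rw [e, toWord_map_equiv, List.length_map]
  obtain ⟨i1, hi1⟩ := hone
  have hd : ∀ i j, dist (w i) (w j) ≤ L := by
    intro i j
    obtain ⟨k, hk⟩ := hback i j
    have e1 : f i 1 = w i := by simp [f]
    rw [← e1, ← hk]
    change dist (f i 1) (f i (w k)) ≤ L
    rw [hiso, dist_one]
    exact hmax k
  have hlen : ∀ i, (w i).toWord.length ≤ L := hmax
  -- vertices within the radius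
  have hball : ∀ k ≤ L, ∀ j, dist (FreeGroup.mk ((w i0).toWord.take k)) (w j) ≤ max (L - k) k :=
    fun k hk j => dist_take_le rfl hk (hlen j) (hd j i0)
  have himage : ∀ r c, (∀ j, dist c (w j) ≤ r) → ∀ i j, dist (f i c) (w j) ≤ r := by
    intro r c hc i j
    obtain ⟨k, hk⟩ := hback i j
    rw [← hk]
    change dist (f i c) (f i (w k)) ≤ r
    rw [hiso]
    exact hc k
  rcases Nat.even_or_odd' L with ⟨m, hm | hm⟩
  · refine ⟨i0, m, fun j => ?_⟩
    have hc : ∀ j, dist (FreeGroup.mk ((w i0).toWord.take m)) (w j) ≤ m := fun j =>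
      le_trans (hball m (by omega) j) (by omega)
    have h' := himage m _ hc j
    have h1 := h' i1
    rw [hi1, dist_comm, dist_one] at h1
    obtain ⟨t, ht1, ht2, ht3⟩ := eq_take_of_dist (L := L) (k := m) rfl h1 (h' i0) (by omega)
    have : t = m := by omega
    subst this
    exact ht3
  · exfalso
    set c := FreeGroup.mk ((w i0).toWord.take m) with hcdef
    set c' := FreeGroup.mk ((w i0).toWord.take (m + 1)) with hc'def
    have hc : ∀ j, dist c (w j) ≤ m + 1 := fun j =>
      le_trans (hball m (by omega) j) (by omega)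
    have hc' : ∀ j, dist c' (w j) ≤ m + 1 := fun j =>
      le_trans (hball (m + 1) (by omega) j) (by omega)
    have hcases : ∀ d, (∀ j, dist d (w j) ≤ m + 1) → ∀ i, f i d = c ∨ f i d = c' := by
      intro d hd' i
      have h' := himage (m + 1) d hd' i
      have h1 := h' i1
      rw [hi1, dist_comm, dist_one] at h1
      obtain ⟨t, ht1, ht2, ht3⟩ := eq_take_of_dist (L := L) (k := m + 1) rfl h1 (h' i0) (by omega)
      have : t = m ∨ t = m + 1 := by omega
      rcases this with rfl | rfl
      · exact Or.inl ht3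
      · exact Or.inr ht3
    have hclen : c.toWord.length = m := by
      rw [hcdef, FreeGroup.toWord_mk,
        (FreeGroup.isReduced_toWord.infix (List.take_prefix m _).isInfix).reduce_eq,
        List.length_take]
      omega
    have hlt : m < (w i0).toWord.length := by omega
    set l := (w i0).toWord[m] with hl
    have hstep : c' = c * FreeGroup.mk [l] := by
      rw [hcdef, hc'def, FreeGroup.mul_mk, ← List.take_concat_get' _ m hlt]
    by_cases hfix : ∀ i, f i c = c
    · have h1 : dist c (w i0) = m := by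
        have h2 := hiso i0 c 1
        rw [hfix i0] at h2
        have e1 : f i0 1 = w i0 := by simp [f]
        rw [e1, dist_comm c 1, dist_one, hclen] at h2
        exact h2
      obtain ⟨P, A, B, hA, hB, hd'⟩ := dist_eq_prefix c (w i0)
      have hA' := congrArg List.length hA
      have hB' := congrArg List.length hB
      rw [List.length_append] at hA' hB'
      rw [hclen] at hA'
      rw [h1] at hd'
      omega
    · push Not at hfix
      obtain ⟨i, hi⟩ := hfix
      have hic : f i c = c' := (hcases c hc i).resolve_left hi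
      have hne : c ≠ c' := fun he => hi (he ▸ hic)
      have hic' : f i c' = c := by
        rcases hcases c' hc' i with h | h
        · exact h
        · exfalso
          apply hne
          have h2 : f i c = f i c' := by rw [hic, h]
          exact (FreeGroup.freeGroupCongr (q i)).injective (mul_left_cancel h2)
      have h3 : f i c' = f i c * FreeGroup.freeGroupCongr (q i) (FreeGroup.mk [l]) := by
        simp only [f, hstep, map_mul, mul_assoc]
      rw [hic', hic, hstep, mul_assoc, left_eq_mul] at h3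
      have h4 := congrArg FreeGroup.toWord h3
      change (FreeGroup.mk [l] * FreeGroup.map (q i) (FreeGroup.mk [l])).toWord = _ at h4
      rw [FreeGroup.map.mk, FreeGroup.mul_mk, FreeGroup.toWord_mk, FreeGroup.toWord_one,
        FreeGroup.IsReduced.reduce_eq] at h4
      · simp at h4
      · simp

end Words

/-! ### Paths in a graph -/

section Paths

variable {E V : Type*} (src tgt : E → V)

/-- The first vertex of an oriented edge. -/
def lsrc (l : E × Bool) : V := if l.2 then src l.1 else tgt l.1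

/-- The last vertex of an oriented edge. -/
def ltgt (l : E × Bool) : V := if l.2 then tgt l.1 else src l.1

/-- A word is a path from `v` to `w`. -/
def Path : V → List (E × Bool) → V → Prop
  | v, [], w => v = w
  | v, l :: L, w => lsrc src tgt l = v ∧ Path (ltgt src tgt l) L w

variable {src tgt}

theorem path_append : ∀ {L₁ L₂ : List (E × Bool)} {v w : V},
    Path src tgt v (L₁ ++ L₂) w ↔ ∃ x, Path src tgt v L₁ x ∧ Path src tgt x L₂ w
  | [], L₂, v, w => by simp [Path]
  | l :: L, L₂, v, w => by
      simp only [List.cons_append, Path, path_append (L₁ := L)]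
      constructor
      · rintro ⟨h, x, h1, h2⟩; exact ⟨x, ⟨h, h1⟩, h2⟩
      · rintro ⟨x, ⟨h, h1⟩, h2⟩; exact ⟨h, x, h1, h2⟩

theorem path_reduce [DecidableEq E] {L : List (E × Bool)} {v w : V} (h : Path src tgt v L w) :
    Path src tgt v (FreeGroup.reduce L) w := by
  suffices ∀ L', FreeGroup.Red L L' → Path src tgt v L' w from this _ FreeGroup.reduce.red
  intro L' hr
  induction hr with
  | refl => exact h
  | tail _ hs ih =>
    obtain @⟨L₁, L₂, a, b⟩ := hs
    rw [path_append] at ih ⊢
    obtain ⟨x, h1, h2⟩ := ih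
    refine ⟨x, h1, ?_⟩
    simp only [Path] at h2
    obtain ⟨h2a, _, h2c⟩ := h2
    have : ltgt src tgt (a, !b) = x := by
      rw [← h2a]; cases b <;> rfl
    rwa [this] at h2c

theorem path_invRev : ∀ {L : List (E × Bool)} {v w : V}, Path src tgt v L w →
    Path src tgt w (FreeGroup.invRev L) v
  | [], v, w, h => by simpa [FreeGroup.invRev, Path] using h.symm
  | l :: L, v, w, h => by
      have e : FreeGroup.invRev (l :: L) = FreeGroup.invRev L ++ [(l.1, !l.2)] := by
        simp [FreeGroup.invRev]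
      rw [e, path_append]
      refine ⟨ltgt src tgt l, path_invRev h.2, ?_, ?_⟩
      · obtain ⟨a, b⟩ := l; cases b <;> rfl
      · change ltgt src tgt (l.1, !l.2) = v
        rw [← h.1]
        obtain ⟨a, b⟩ := l; cases b <;> rfl

theorem path_map (g : E → E) (γ : V → V) (hs : ∀ e, src (g e) = γ (src e))
    (ht : ∀ e, tgt (g e) = γ (tgt e)) :
    ∀ {L : List (E × Bool)} {v w : V}, Path src tgt v L w →
      Path src tgt (γ v) (L.map fun l => (g l.1, l.2)) (γ w)
  | [], v, w, h => congrArg γ h
  | (a, b) :: L, v, w, h => by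
      refine ⟨?_, ?_⟩
      · rw [← h.1]; cases b <;> simp [lsrc, hs, ht]
      · have := path_map g γ hs ht h.2
        have e : γ (ltgt src tgt (a, b)) = ltgt src tgt (g a, b) := by
          cases b <;> simp [ltgt, hs, ht]
        rwa [e] at this

end Paths

/-- A homomorphism between subgroups of a finite group is induced by a permutation of the group. -/
theorem exists_perm {H : Type*} [Group H] [Finite H] (Q : Subgroup H) (f : Q →* H)
    (hf : Function.Injective f) :
    ∃ σ : Equiv.Perm H, ∀ x : Q,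
      σ⁻¹ * MulAction.toPermHom H H (x : H) * σ = MulAction.toPermHom H H (f x) := by
  let e : Q ≃* f.range := MonoidHom.ofInjective hf
  have hc : Nat.card (H ⧸ Q) = Nat.card (H ⧸ f.range) := by
    have h1 := Q.card_eq_card_quotient_mul_card_subgroup
    have h2 := f.range.card_eq_card_quotient_mul_card_subgroup
    rw [← Nat.card_congr e.toEquiv, h1] at h2
    exact Nat.eq_of_mul_eq_mul_right Nat.card_pos h2
  have : Finite (H ⧸ Q) := Quotient.finite _
  have : Finite (H ⧸ f.range) := Quotient.finite _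
  let eq : H ⧸ Q ≃ H ⧸ f.range := (Finite.equivFin _).trans ((finCongr hc).trans (Finite.equivFin _).symm)
  let o : H ⧸ Q → H := Quotient.out
  let o' : H ⧸ f.range → H := Quotient.out
  let m : H → H := fun x => o' (eq (QuotientGroup.mk x)) *
    f ⟨(o (QuotientGroup.mk x))⁻¹ * x, QuotientGroup.eq.mp (QuotientGroup.out_eq' _)⟩
  have hm : ∀ (x : H) (y : Q), m (x * y) = m x * f y := by
    intro x y
    have e1 : (QuotientGroup.mk (x * y) : H ⧸ Q) = QuotientGroup.mk x :=
      QuotientGroup.mk_mul_of_mem x y.2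
    simp only [m]
    rw [mul_assoc, ← map_mul]
    congr 1
    · rw [e1]
    · congr 1
      apply Subtype.ext
      simp [e1, mul_assoc]
  have hinj : Function.Injective m := by
    intro x y hxy
    have h1 : (QuotientGroup.mk (m x) : H ⧸ f.range) = QuotientGroup.mk (m y) := by rw [hxy]
    simp only [m] at h1
    rw [QuotientGroup.mk_mul_of_mem _ (f.mem_range.2 ⟨_, rfl⟩),
      QuotientGroup.mk_mul_of_mem _ (f.mem_range.2 ⟨_, rfl⟩)] at h1
    simp only [o', QuotientGroup.out_eq'] at h1
    have h2 := eq.injective h1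
    simp only [m, h2] at hxy
    have h3 := congrArg Subtype.val (hf (mul_left_cancel hxy))
    simpa [h2] using h3
  let τ' : Equiv.Perm H := Equiv.ofBijective m ⟨hinj, Finite.surjective_of_injective hinj⟩
  let σ' : Equiv.Perm H := (Equiv.inv H).trans (τ'.trans (Equiv.inv H))
  refine ⟨σ'⁻¹, fun x => ?_⟩
  rw [inv_inv, mul_inv_eq_iff_eq_mul]
  apply Equiv.ext
  intro y
  simp only [Equiv.Perm.mul_apply, MulAction.toPermHom_apply, MulAction.toPerm_apply, smul_eq_mul]
  change (m ((x : H) * y)⁻¹)⁻¹ = f x * (m y⁻¹)⁻¹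
  have h := hm y⁻¹ x⁻¹
  rw [Subgroup.coe_inv, ← mul_inv_rev] at h
  rw [h, mul_inv_rev, map_inv, inv_inv]

section Construction

open Cfsg Cfsg.FusionSystem

variable {Ω : Type u} [Group Ω] {S : Subgroup Ω} [Finite S] (F : Cfsg.FusionSystem S)

/-- Indices of edge orbits: the maps of the system. -/
def Idx : Type u := Σ P : Subgroup Ω, {φ : P →* Ω // φ ∈ F.Hom P}

/-- The regular representation. -/
abbrev rho : ↥S →* Equiv.Perm ↥S := MulAction.toPermHom ↥S ↥S

omit [Finite ↥S] in
theorem rho_injective : Function.Injective (rho (S := S)) := by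
  intro a b h
  have := Equiv.ext_iff.1 h 1
  simpa using this

/-- The edge stabilizer. -/
def edgeStab (j : Idx F) : Subgroup (Equiv.Perm ↥S) := (j.1.subgroupOf S).map rho

/-- Vertices. -/
abbrev Vert (S : Subgroup Ω) : Type u := Equiv.Perm ↥S ⧸ (MulAction.toPermHom ↥S ↥S).range

/-- Edges. -/
abbrev Edge : Type u := Σ j : Idx F, Equiv.Perm ↥S ⧸ edgeStab F j

theorem exists_sigma (j : Idx F) : ∃ σ : Equiv.Perm ↥S, ∀ (x : ↥S) (hx : (x : Ω) ∈ j.1),
    σ⁻¹ * rho x * σ = rho ⟨j.2.1 ⟨x, hx⟩, (F.le_of_mem j.2.2).2 _⟩ := by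
  let f : ↥(j.1.subgroupOf S) →* ↥S :=
    { toFun := fun x => ⟨j.2.1 ⟨(x : ↥S), x.2⟩, (F.le_of_mem j.2.2).2 _⟩
      map_one' := Subtype.ext (map_one j.2.1)
      map_mul' := fun x y => Subtype.ext (map_mul j.2.1 ⟨(x : ↥S), x.2⟩ ⟨(y : ↥S), y.2⟩) }
  have hf : Function.Injective f := by
    intro x y h
    have h' := F.injective_of_mem j.2.2 (congrArg Subtype.val h)
    have h'' := congrArg Subtype.val h'
    exact Subtype.ext (Subtype.ext h'')
  obtain ⟨σ, hσ⟩ := exists_perm (j.1.subgroupOf S) f hf
  exact ⟨σ, fun x hx => hσ ⟨x, hx⟩⟩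

/-- The permutation inducing the map. -/
noncomputable def sigma (j : Idx F) : Equiv.Perm ↥S := (exists_sigma F j).choose

theorem sigma_spec (j : Idx F) (x : ↥S) (hx : (x : Ω) ∈ j.1) :
    (sigma F j)⁻¹ * rho x * sigma F j = rho ⟨j.2.1 ⟨x, hx⟩, (F.le_of_mem j.2.2).2 _⟩ :=
  (exists_sigma F j).choose_spec x hx

/-- Source vertex. -/
noncomputable def esrc (e : Edge F) : Vert S := QuotientGroup.mk e.2.out

/-- Target vertex. -/
noncomputable def etgt (e : Edge F) : Vert S := QuotientGroup.mk (e.2.out * sigma F e.1)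

omit [Finite ↥S] in
theorem esrc_mk (j : Idx F) (g : Equiv.Perm ↥S) :
    esrc F ⟨j, QuotientGroup.mk g⟩ = QuotientGroup.mk g := by
  obtain ⟨⟨a, x, _, hx⟩, ha⟩ := QuotientGroup.mk_out_eq_mul (edgeStab F j) g
  change (QuotientGroup.mk (Quotient.out (QuotientGroup.mk g : Equiv.Perm ↥S ⧸ edgeStab F j)) : Vert S) = _
  rw [ha]
  exact QuotientGroup.mk_mul_of_mem g ⟨x, hx⟩

theorem etgt_mk (j : Idx F) (g : Equiv.Perm ↥S) :
    etgt F ⟨j, QuotientGroup.mk g⟩ = QuotientGroup.mk (g * sigma F j) := by
  obtain ⟨⟨a, x, hxP, hx⟩, ha⟩ := QuotientGroup.mk_out_eq_mul (edgeStab F j) g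
  change (QuotientGroup.mk (Quotient.out (QuotientGroup.mk g : Equiv.Perm ↥S ⧸ edgeStab F j) *
    sigma F j) : Vert S) = _
  rw [ha]
  change (QuotientGroup.mk (g * a * sigma F j) : Vert S) = _
  rw [← hx, show g * rho x * sigma F j =
    g * sigma F j * ((sigma F j)⁻¹ * rho x * sigma F j) by group,
    sigma_spec F j x hxP]
  exact QuotientGroup.mk_mul_of_mem _ ⟨_, rfl⟩

/-- The action on edges. -/
def actEdge : Equiv.Perm ↥S →* Equiv.Perm (Edge F) where
  toFun g := Equiv.sigmaCongrRight fun j => MulAction.toPerm (β := Equiv.Perm ↥S ⧸ edgeStab F j) g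
  map_one' := by
    apply Equiv.ext
    rintro ⟨j, q⟩
    simp
  map_mul' g h := by
    apply Equiv.ext
    rintro ⟨j, q⟩
    change (⟨j, (g * h) • q⟩ : Edge F) = ⟨j, g • h • q⟩
    rw [mul_smul]

theorem esrc_act (g : Equiv.Perm ↥S) (e : Edge F) : esrc F (actEdge F g e) = g • esrc F e := by
  obtain ⟨j, q⟩ := e
  obtain ⟨z, rfl⟩ := QuotientGroup.mk_surjective q
  change esrc F ⟨j, g • (QuotientGroup.mk z : Equiv.Perm ↥S ⧸ edgeStab F j)⟩ = _
  rw [MulAction.Quotient.smul_mk, esrc_mk, esrc_mk, MulAction.Quotient.smul_mk]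

theorem etgt_act (g : Equiv.Perm ↥S) (e : Edge F) : etgt F (actEdge F g e) = g • etgt F e := by
  obtain ⟨j, q⟩ := e
  obtain ⟨z, rfl⟩ := QuotientGroup.mk_surjective q
  change etgt F ⟨j, g • (QuotientGroup.mk z : Equiv.Perm ↥S ⧸ edgeStab F j)⟩ = _
  rw [MulAction.Quotient.smul_mk, etgt_mk, etgt_mk, MulAction.Quotient.smul_mk, smul_eq_mul,
    smul_eq_mul, mul_assoc]

/-- The action on the free group on the edges. -/
def actFree : Equiv.Perm ↥S →* MulAut (FreeGroup (Edge F)) where
  toFun g := FreeGroup.freeGroupCongr (actEdge F g)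
  map_one' := by
    rw [map_one]
    exact FreeGroup.freeGroupCongr_refl
  map_mul' g h := by
    rw [map_mul]
    exact (FreeGroup.freeGroupCongr_trans (actEdge F h) (actEdge F g)).symm

omit [Finite ↥S] in
theorem toWord_act [DecidableEq (Edge F)] (g : Equiv.Perm ↥S) (x : FreeGroup (Edge F)) :
    (actFree F g x).toWord = x.toWord.map (fun l => (actEdge F g l.1, l.2)) :=
  toWord_map_equiv _ x

/-- The ambient semidirect product. -/
abbrev Amb : Type u := FreeGroup (Edge F) ⋊[actFree F] Equiv.Perm ↥S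

/-- The base vertex. -/
def base : Vert S := QuotientGroup.mk (1 : Equiv.Perm ↥S)

/-- The group of paths from the base vertex to its translates. -/
noncomputable def pathGroup [DecidableEq (Edge F)] : Subgroup (Amb F) where
  carrier := {x | Path (esrc F) (etgt F) (base (S := S)) x.left.toWord (x.right • base (S := S))}
  one_mem' := by
    change Path (esrc F) (etgt F) (base (S := S)) (1 : FreeGroup (Edge F)).toWord _
    rw [FreeGroup.toWord_one]
    exact (one_smul _ _).symm
  mul_mem' := by
    intro a b ha hb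
    change Path (esrc F) (etgt F) _ (a.left * actFree F a.right b.left).toWord
      ((a.right * b.right) • base (S := S))
    rw [FreeGroup.toWord_mul, toWord_act]
    refine path_reduce (path_append.2 ⟨_, ha, ?_⟩)
    rw [mul_smul]
    exact path_map _ (a.right • ·) (esrc_act F _) (etgt_act F _) hb
  inv_mem' := by
    intro a ha
    change Path (esrc F) (etgt F) _ (actFree F a.right⁻¹ a.left⁻¹).toWord
      (a.right⁻¹ • base (S := S))
    rw [toWord_act, FreeGroup.toWord_inv]
    have := path_map (actEdge F a.right⁻¹) (a.right⁻¹ • ·) (esrc_act F _) (etgt_act F _)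
      (path_invRev ha)
    simpa only [inv_smul_smul] using this

omit [Finite ↥S] in
theorem rho_smul_base (s : ↥S) : rho s • base (S := S) = base (S := S) := by
  change (QuotientGroup.mk (rho s * 1) : Vert S) = QuotientGroup.mk 1
  rw [mul_one, QuotientGroup.eq, mul_one]
  exact inv_mem ⟨s, rfl⟩

/-- The embedding of `S`. -/
noncomputable def embed [DecidableEq (Edge F)] : ↥S →* ↥(pathGroup F) :=
  (SemidirectProduct.inr.comp rho).codRestrict (pathGroup F) fun s => by
    change Path (esrc F) (etgt F) _ (1 : FreeGroup (Edge F)).toWord (rho s • base (S := S))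
    rw [FreeGroup.toWord_one]
    exact (rho_smul_base s).symm

theorem fix_edge {j : Idx F} {z : Equiv.Perm ↥S} {y : ↥S}
    (h : actEdge F (z * rho y * z⁻¹) ⟨j, QuotientGroup.mk z⟩ = ⟨j, QuotientGroup.mk z⟩) :
    (y : Ω) ∈ j.1 := by
  have h1 : (z * rho y * z⁻¹) • (QuotientGroup.mk z : Equiv.Perm ↥S ⧸ edgeStab F j) =
      QuotientGroup.mk z := eq_of_heq (Sigma.mk.inj_iff.mp h).2
  rw [MulAction.Quotient.smul_mk, smul_eq_mul, inv_mul_cancel_right, eq_comm, QuotientGroup.eq,
    inv_mul_cancel_left] at h1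
  obtain ⟨y', hy', he⟩ := h1
  rw [← rho_injective he]
  exact hy'

theorem fix_edge' {j : Idx F} {z : Equiv.Perm ↥S} {y : ↥S}
    (h : actEdge F (z * sigma F j * rho y * (z * sigma F j)⁻¹) ⟨j, QuotientGroup.mk z⟩ =
      ⟨j, QuotientGroup.mk z⟩) : ∃ p : j.1, j.2.1 p = y := by
  have h1 : (z * sigma F j * rho y * (z * sigma F j)⁻¹) •
      (QuotientGroup.mk z : Equiv.Perm ↥S ⧸ edgeStab F j) =
      QuotientGroup.mk z := eq_of_heq (Sigma.mk.inj_iff.mp h).2
  rw [MulAction.Quotient.smul_mk, smul_eq_mul, eq_comm, QuotientGroup.eq,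
    show z⁻¹ * (z * sigma F j * rho y * (z * sigma F j)⁻¹ * z) =
      sigma F j * rho y * (sigma F j)⁻¹ by group] at h1
  obtain ⟨p, hp, he⟩ := h1
  refine ⟨⟨p, hp⟩, ?_⟩
  have h2 := sigma_spec F j p hp
  rw [he, show (sigma F j)⁻¹ * (sigma F j * rho y * (sigma F j)⁻¹) * sigma F j = rho y by group]
    at h2
  exact congrArg Subtype.val (rho_injective h2).symm

/-- Conjugation along a path fixed edge by edge is a map of the system. -/
theorem path_map_mem : ∀ (L : List (Edge F × Bool)) (a b : Equiv.Perm ↥S) (A : Subgroup Ω)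
    (χ : A →* Ω) (hχ : χ ∈ F.Hom A),
    Path (esrc F) (etgt F) (QuotientGroup.mk a) L (QuotientGroup.mk b) →
    (∀ x : A, ∀ l ∈ L, actEdge F (a * rho ⟨χ x, (F.le_of_mem hχ).2 x⟩ * a⁻¹) l.1 = l.1) →
    ∃ ψ : A →* Ω, ∃ hψ : ψ ∈ F.Hom A, ∀ x : A,
      a * rho ⟨χ x, (F.le_of_mem hχ).2 x⟩ * a⁻¹ = b * rho ⟨ψ x, (F.le_of_mem hψ).2 x⟩ * b⁻¹
  | [], a, b, A, χ, hχ, hp, _ => by
      have hp' : (QuotientGroup.mk a : Vert S) = QuotientGroup.mk b := hp
      rw [QuotientGroup.eq] at hp'
      obtain ⟨s, hs⟩ := hp'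
      have hb : b = a * rho s := by
        rw [show rho s = a⁻¹ * b from hs]; group
      have hmem := comp_mem_of_eq (F := F) hχ
        (F.conj_mem (le_refl S) (S.inv_mem s.2))
        (fun x => (F.le_of_mem hχ).2 x)
        (χ := (conjHom S ((s : Ω)⁻¹)).comp (χ.codRestrict S fun x => (F.le_of_mem hχ).2 x))
        (fun _ => rfl)
      refine ⟨_, hmem, fun x => ?_⟩
      have e : (⟨_, (F.le_of_mem hmem).2 x⟩ : ↥S) = s⁻¹ * ⟨χ x, (F.le_of_mem hχ).2 x⟩ * s := by
        apply Subtype.ext
        simp [conjHom_apply]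
      rw [e, hb, map_mul, map_mul, map_inv]
      group
  | (⟨j, q⟩, d) :: L, a, b, A, χ, hχ, hp, hfix => by
      obtain ⟨z, rfl⟩ := QuotientGroup.mk_surjective q
      have hχS : ∀ x, χ x ∈ S := (F.le_of_mem hχ).2
      obtain ⟨hp1, hp2⟩ := hp
      -- align the representative
      obtain ⟨z', hz's, hz't⟩ : ∃ z', (lsrc (esrc F) (etgt F)
          ((⟨j, QuotientGroup.mk z⟩ : Edge F), d) = QuotientGroup.mk z') ∧
          z' = (if d then z else z * sigma F j) := by
        refine ⟨_, ?_, rfl⟩
        cases d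
        · exact etgt_mk F j z
        · exact esrc_mk F j z
      rw [hz's, QuotientGroup.eq] at hp1
      obtain ⟨s, hs⟩ := hp1
      have ha : a = z' * rho s := by
        rw [show rho s = z'⁻¹ * a from hs]; group
      have hmem := comp_mem_of_eq (F := F) hχ (F.conj_mem (le_refl S) s.2) hχS
        (χ := (conjHom S (s : Ω)).comp (χ.codRestrict S hχS)) (fun _ => rfl)
      set χ' := (conjHom S (s : Ω)).comp (χ.codRestrict S hχS) with hχ'
      have hconj : ∀ x, a * rho ⟨χ x, hχS x⟩ * a⁻¹ =
          z' * rho ⟨χ' x, (F.le_of_mem hmem).2 x⟩ * z'⁻¹ := by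
        intro x
        have e : (⟨χ' x, (F.le_of_mem hmem).2 x⟩ : ↥S) = s * ⟨χ x, hχS x⟩ * s⁻¹ := by
          apply Subtype.ext
          simp [hχ', conjHom_apply]
        rw [e, ha, map_mul, map_mul, map_inv]
        group
      have hhead : ∀ x, actEdge F (z' * rho ⟨χ' x, (F.le_of_mem hmem).2 x⟩ * z'⁻¹)
          ⟨j, QuotientGroup.mk z⟩ = ⟨j, QuotientGroup.mk z⟩ := fun x => by
        rw [← hconj x]
        exact hfix x _ List.mem_cons_self
      cases d
      · simp only [Bool.false_eq_true, if_false] at hz't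
        subst hz't
        have hin : ∀ x, χ' x ∈ j.2.1.range := fun x => fix_edge' F (hhead x)
        obtain ⟨ψ₀, hψ₀, hinv⟩ := F.inv_mem j.2.2
        have h1 := comp_mem_of_eq (F := F) hmem hψ₀ hin
          (χ := ψ₀.comp (χ'.codRestrict _ hin)) (fun _ => rfl)
        have key : ∀ x, z * rho ⟨_, (F.le_of_mem h1).2 x⟩ * z⁻¹ =
            a * rho ⟨χ x, hχS x⟩ * a⁻¹ := by
          intro x
          obtain ⟨p, hp⟩ := hin x
          have e : ψ₀.comp (χ'.codRestrict _ hin) x = (p : Ω) := by
            rw [← hinv p]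
            exact congrArg ψ₀ (Subtype.ext hp.symm)
          have hpS : (p : Ω) ∈ S := (F.le_of_mem j.2.2).1 p.2
          have e1 : (⟨_, (F.le_of_mem h1).2 x⟩ : ↥S) = ⟨(p : Ω), hpS⟩ := Subtype.ext e
          have e2 : (⟨χ' x, (F.le_of_mem hmem).2 x⟩ : ↥S) =
              ⟨j.2.1 p, (F.le_of_mem j.2.2).2 p⟩ := Subtype.ext hp.symm
          rw [hconj, e1, e2, ← sigma_spec F j ⟨p, hpS⟩ p.2]
          group
        have hp2' : Path (esrc F) (etgt F) (QuotientGroup.mk z) L (QuotientGroup.mk b) := by
          rw [← esrc_mk F j z]; exact hp2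
        obtain ⟨ψ, hψ, hψe⟩ := path_map_mem L z b A _ h1 hp2' fun x l hl => by
          rw [key]; exact hfix x l (List.mem_cons_of_mem _ hl)
        exact ⟨ψ, hψ, fun x => by rw [← key]; exact hψe x⟩
      · simp only [if_true] at hz't
        subst hz't
        have hin : ∀ x, χ' x ∈ j.1 := fun x => fix_edge F (hhead x)
        have h1 := comp_mem_of_eq (F := F) hmem j.2.2 hin
          (χ := j.2.1.comp (χ'.codRestrict _ hin)) (fun _ => rfl)
        have key : ∀ x, z' * sigma F j * rho ⟨_, (F.le_of_mem h1).2 x⟩ * (z' * sigma F j)⁻¹ =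
            a * rho ⟨χ x, hχS x⟩ * a⁻¹ := by
          intro x
          have e1 : (⟨_, (F.le_of_mem h1).2 x⟩ : ↥S) =
              ⟨j.2.1 ⟨χ' x, hin x⟩, (F.le_of_mem j.2.2).2 _⟩ := rfl
          rw [hconj, e1, ← sigma_spec F j ⟨χ' x, (F.le_of_mem hmem).2 x⟩ (hin x)]
          group
        have hp2' : Path (esrc F) (etgt F) (QuotientGroup.mk (z' * sigma F j)) L
            (QuotientGroup.mk b) := by
          rw [← etgt_mk F j z']; exact hp2
        obtain ⟨ψ, hψ, hψe⟩ := path_map_mem L _ b A _ h1 hp2' fun x l hl => by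
          rw [key]; exact hfix x l (List.mem_cons_of_mem _ hl)
        exact ⟨ψ, hψ, fun x => by rw [← key]; exact hψe x⟩

/-- The path group realizes the system. -/
theorem embed_realizes [DecidableEq (Edge F)] : F.IsRealizedBy (embed F) := by
  refine ⟨fun s t h => rho_injective (SemidirectProduct.inr_injective (congrArg Subtype.val h)),
    fun P hP φ hφ => ⟨fun h => ?_, fun ⟨g, hg⟩ => ?_⟩⟩
  · let j : Idx F := ⟨P, φ, h⟩
    let k : Amb F := ⟨FreeGroup.of ⟨j, QuotientGroup.mk 1⟩, sigma F j⟩
    have hk : k ∈ pathGroup F := by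
      change Path (esrc F) (etgt F) _ (FreeGroup.of _).toWord (sigma F j • base (S := S))
      rw [FreeGroup.toWord_of]
      refine ⟨?_, ?_⟩
      · exact esrc_mk F j 1
      · change etgt F ⟨j, QuotientGroup.mk 1⟩ = _
        rw [etgt_mk, one_mul]
        exact (congrArg QuotientGroup.mk (mul_one (sigma F j))).symm
    refine ⟨(⟨k, hk⟩ : pathGroup F)⁻¹, fun x => ?_⟩
    rw [inv_inv, eq_comm, mul_assoc, inv_mul_eq_iff_eq_mul]
    apply Subtype.ext
    have hs := sigma_spec F j ⟨(x : Ω), hP x.2⟩ x.2
    refine SemidirectProduct.ext ?_ ?_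
    · change (1 : FreeGroup (Edge F)) * actFree F (rho ⟨(x : Ω), hP x.2⟩) k.left =
        k.left * actFree F k.right 1
      rw [map_one, mul_one, one_mul]
      apply FreeGroup.toWord_injective
      rw [toWord_act]
      change List.map _ (FreeGroup.of _).toWord = (FreeGroup.of _).toWord
      rw [FreeGroup.toWord_of]
      change [(actEdge F _ ⟨j, QuotientGroup.mk 1⟩, true)] = _
      congr 2
      change (⟨j, (rho ⟨(x : Ω), hP x.2⟩) • (QuotientGroup.mk 1 : Equiv.Perm ↥S ⧸ edgeStab F j)⟩ :
        Edge F) = ⟨j, QuotientGroup.mk 1⟩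
      refine congrArg (Sigma.mk j) ?_
      rw [MulAction.Quotient.smul_mk, smul_eq_mul, mul_one, QuotientGroup.eq, mul_one]
      exact inv_mem ⟨_, x.2, rfl⟩
    · change rho ⟨(x : Ω), hP x.2⟩ * sigma F j = sigma F j * rho ⟨φ x, hφ x⟩
      have e : (⟨φ x, hφ x⟩ : ↥S) = ⟨j.2.1 ⟨(x : Ω), x.2⟩, (F.le_of_mem j.2.2).2 _⟩ := rfl
      rw [e, ← hs]
      group
  · set k := (g⁻¹ : pathGroup F) with hk
    have heq : ∀ x : P, (embed F ⟨(x : Ω), hP x.2⟩ : Amb F) * (k : Amb F) =
        (k : Amb F) * (embed F ⟨φ x, hφ x⟩ : Amb F) := by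
      intro x
      rw [← Subgroup.coe_mul, ← Subgroup.coe_mul, hg x, hk]
      congr 1
      group
    obtain ⟨qb, hqb⟩ : ∃ qb, qb = (k : Amb F).right := ⟨_, rfl⟩
    have hpath : Path (esrc F) (etgt F) (QuotientGroup.mk 1) (k : Amb F).left.toWord
        (QuotientGroup.mk qb) := by
      have := k.2
      change Path (esrc F) (etgt F) _ _ (_ • base (S := S)) at this
      rw [hqb]
      have e : (QuotientGroup.mk (k : Amb F).right : Vert S) = (k : Amb F).right • base (S := S) :=
        (congrArg QuotientGroup.mk (mul_one (k : Amb F).right)).symm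
      rw [e]
      exact this
    have hl : ∀ x : P, actFree F (rho ⟨(x : Ω), hP x.2⟩) (k : Amb F).left = (k : Amb F).left := by
      intro x
      have := congrArg SemidirectProduct.left (heq x)
      change (1 : FreeGroup (Edge F)) * _ = _ * actFree F _ 1 at this
      rw [one_mul, map_one, mul_one] at this
      exact this
    obtain ⟨ψ, hψ, hψe⟩ := path_map_mem F _ 1 qb P P.subtype (subtype_mem hP) hpath fun x l hl' => by
      have h := congrArg FreeGroup.toWord (hl x)
      rw [toWord_act] at h
      rw [one_mul, inv_one, mul_one]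
      exact congrArg Prod.fst (List.map_inj_left.1 (h.trans (List.map_id _).symm) l hl')
    have e : φ = ψ := by
      apply MonoidHom.ext
      intro x
      have h1 := congrArg SemidirectProduct.right (heq x)
      change rho ⟨(x : Ω), hP x.2⟩ * (k : Amb F).right = (k : Amb F).right * rho ⟨φ x, hφ x⟩ at h1
      have h2 := hψe x
      rw [one_mul, inv_one, mul_one] at h2
      change rho ⟨(x : Ω), hP x.2⟩ = _ at h2
      rw [h2, hqb, inv_mul_cancel_right] at h1
      exact congrArg Subtype.val (rho_injective (mul_left_cancel h1)).symm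
    rw [e]
    exact hψ

/-- Every finite subgroup of the path group is conjugate into the image of `S`. -/
theorem finite_conj [DecidableEq (Edge F)] (H : Subgroup ↥(pathGroup F)) (hH : Finite ↥H) :
    ∃ g : ↥(pathGroup F), ∀ h ∈ H, g * h * g⁻¹ ∈ (embed F).range := by
  let w : ↥H → FreeGroup (Edge F) := fun h => ((h : ↥(pathGroup F)) : Amb F).left
  let r : ↥H → Equiv.Perm ↥S := fun h => ((h : ↥(pathGroup F)) : Amb F).right
  have hmul : ∀ i j, w i * actFree F (r i) (w j) = w (i * j) := fun i j => rfl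
  obtain ⟨i, t, hfix⟩ := exists_fixed w (fun i => actEdge F (r i))
    (fun i j => ⟨i⁻¹ * j, (hmul i _).trans (by rw [mul_inv_cancel_left])⟩) ⟨1, rfl⟩
  have hp : Path (esrc F) (etgt F) (base (S := S)) (w i).toWord (r i • base (S := S)) := (i : ↥(pathGroup F)).2
  rw [← List.take_append_drop t (w i).toWord, path_append] at hp
  obtain ⟨v, hv, -⟩ := hp
  obtain ⟨z, rfl⟩ := QuotientGroup.mk_surjective v
  let c : Amb F := ⟨FreeGroup.mk ((w i).toWord.take t), z⟩
  have hc : c ∈ pathGroup F := by
    change Path (esrc F) (etgt F) _ (FreeGroup.mk _).toWord (z • base (S := S))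
    rw [FreeGroup.toWord_mk,
      (FreeGroup.isReduced_toWord.infix (List.take_prefix t _).isInfix).reduce_eq]
    convert hv using 2
    exact congrArg QuotientGroup.mk (mul_one z)
  refine ⟨(⟨c, hc⟩ : pathGroup F)⁻¹, fun h hh => ?_⟩
  set m := (⟨c, hc⟩ : pathGroup F)⁻¹ * h * (⟨c, hc⟩ : pathGroup F)⁻¹⁻¹ with hm
  have hhc : ((h : Amb F) * c).left = c.left := hfix ⟨h, hh⟩
  have hml : (m : Amb F).left = 1 := by
    have e : (⟨c, hc⟩ : pathGroup F) * m = h * ⟨c, hc⟩ := by rw [hm]; group
    have e' := congrArg (fun x : pathGroup F => (x : Amb F).left) e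
    simp only [Subgroup.coe_mul] at e'
    rw [hhc] at e'
    change c.left * actFree F c.right (m : Amb F).left = c.left at e'
    rw [mul_eq_left] at e'
    exact (MulEquiv.map_eq_one_iff _).1 e'
  have hmp := m.2
  change Path (esrc F) (etgt F) _ _ (_ • base (S := S)) at hmp
  rw [hml, FreeGroup.toWord_one] at hmp
  have hr : (m : Amb F).right ∈ (MulAction.toPermHom ↥S ↥S).range := by
    have h2 : (QuotientGroup.mk 1 : Vert S) = QuotientGroup.mk ((m : Amb F).right * 1) := hmp
    rw [QuotientGroup.eq] at h2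
    simpa using h2
  obtain ⟨s, hs⟩ := hr
  exact ⟨s, Subtype.ext (SemidirectProduct.ext hml.symm hs)⟩

/-- The kernel of the projection to the permutations is free of index dividing `|S|!`. -/
theorem exists_free [DecidableEq (Edge F)] : ∃ N : Subgroup ↥(pathGroup F),
    N.Normal ∧ IsFreeGroup ↥N ∧ N.index ∣ (Nat.card ↥S).factorial := by
  let π : ↥(pathGroup F) →* Equiv.Perm ↥S := SemidirectProduct.rightHom.comp (pathGroup F).subtype
  refine ⟨π.ker, inferInstance, ?_, ?_⟩
  · let l : ↥π.ker →* FreeGroup (Edge F) :=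
      { toFun := fun x => ((x : ↥(pathGroup F)) : Amb F).left
        map_one' := rfl
        map_mul' := fun x y => by
          have hx : ((x : ↥(pathGroup F)) : Amb F).right = 1 := x.2
          change _ * actFree F _ _ = _
          rw [hx, map_one]
          rfl }
    have hl : Function.Injective l := by
      intro x y h
      apply Subtype.ext
      apply Subtype.ext
      exact SemidirectProduct.ext h ((show _ = (1 : Equiv.Perm ↥S) from x.2).trans y.2.symm)
    exact IsFreeGroup.ofMulEquiv (MonoidHom.ofInjective hl).symm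
  · rw [Subgroup.index_ker, ← Nat.card_perm]
    exact Subgroup.card_subgroup_dvd_card _

/-- Every fusion system on a finite group is realized by a virtually free group. -/
theorem exists_realizing : ∃ (G : Type u) (_ : Group G) (ι : ↥S →* G), F.IsRealizedBy ι ∧
    (∀ H : Subgroup G, Finite ↥H → ∃ g : G, ∀ h ∈ H, g * h * g⁻¹ ∈ ι.range) ∧
    ∃ N : Subgroup G, N.Normal ∧ IsFreeGroup ↥N ∧ N.index ∣ (Nat.card ↥S).factorial := by
  classical
  exact ⟨↥(pathGroup F), inferInstance, embed F, embed_realizes F, finite_conj F, exists_free F⟩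

end Construction

end CfsgLib.Fusion.FreeRealize
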