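import Cfsg.Agent.Solvable.Basics
import Cfsg.Agent.ZJ.Replacement
import Cfsg.Agent.LocalB.QdSylow
import Cfsg.Agent.AutPOm.Extensions
import Mathlib.Algebra.Group.Shrink
import Mathlib.Logic.Small.Basic

/-!
Groups with derived subgroup of order `p` which have an elementary abelian subgroup of index `p`.
-/

set_option autoImplicit false
set_option linter.unusedSectionVars false
set_option linter.style.haveILetI false

open scoped commutatorElement Pointwise

namespace CfsgLib.GenExtraspecial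

universe u

variable {P : Type u} [Group P] [Finite P] {p : ℕ} [hp : Fact p.Prime] {z : P}

section hom

variable (hz : z ∈ Subgroup.center P) (hder : ∀ a b : P, ⁅a, b⁆ ∈ Subgroup.zpowers z)
include hz hder

theorem comm_central (a b g : P) : Commute ⁅a, b⁆ g :=
  (Subgroup.mem_center_iff.1 ((Subgroup.zpowers_le.2 hz) (hder a b)) g).symm

/-- Commutation with a fixed element is a homomorphism. -/
theorem comm_mul_left (a b y : P) : ⁅a * b, y⁆ = ⁅a, y⁆ * ⁅b, y⁆ := by
  have h : ⁅a * b, y⁆ = a * ⁅b, y⁆ * a⁻¹ * ⁅a, y⁆ := by simp only [commutatorElement_def]; group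
  rw [h, ← (comm_central hz hder b y a).eq, mul_inv_cancel_right]
  exact (comm_central hz hder b y _).eq

/-- The commutator map of an element. -/
def commWith (y : P) : P →* Subgroup.zpowers z :=
  MonoidHom.mk' (fun a => ⟨⁅a, y⁆, hder a y⟩) fun a b => Subtype.ext (comm_mul_left hz hder a b y)

theorem index_commWith_ker (hzo : orderOf z = p) {y g : P} (hgy : ¬ Commute g y) :
    (commWith hz hder y).ker.index = p := by
  have hc : Nat.card (Subgroup.zpowers z) = p := by rw [Nat.card_zpowers, hzo]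
  rw [Subgroup.index_ker]
  have hne : (commWith hz hder y).range ≠ ⊥ := fun h => hgy
    (commutatorElement_eq_one_iff_commute.1 (congrArg Subtype.val
      (Subgroup.mem_bot.1 (h.le ⟨g, rfl⟩) : commWith hz hder y g = 1)))
  rcases (Nat.dvd_prime hp.out).1 (hc ▸ Subgroup.card_subgroup_dvd_card (commWith hz hder y).range) with h | h
  · exact absurd (Subgroup.card_eq_one.1 h) hne
  · exact h

theorem mem_commWith_ker {y a : P} : a ∈ (commWith hz hder y).ker ↔ Commute a y := by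
  rw [MonoidHom.mem_ker, ← commutatorElement_eq_one_iff_commute]
  exact ⟨fun h => congrArg Subtype.val h, fun h => Subtype.ext h⟩

theorem mul_pow_eq (a b : P) (n : ℕ) : (a * b) ^ n = ⁅b, a⁆ ^ (n.choose 2) * (a ^ n * b ^ n) :=
  CfsgLib.ZJ.mul_pow_of_central (by rw [commutatorElement_def]; group)
    (comm_central hz hder b a a) (comm_central hz hder b a b) n

end hom

/-- `P` is the product of a nonabelian group of order `p³` with an elementary abelian group. -/
theorem exists_decomposition (hzo : orderOf z = p) (hz : z ∈ Subgroup.center P)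
    (hder : ∀ a b : P, ⁅a, b⁆ ∈ Subgroup.zpowers z) {C : Subgroup P} (hC : C.index = p)
    (hab : ∀ a ∈ C, ∀ b ∈ C, Commute a b) (hexp : ∀ a ∈ C, a ^ p = 1) (hzC : z ∈ C)
    {x : P} (hx : x ∉ C) (hxp : x ^ p = 1) (hnc : ∃ y ∈ C, ¬ Commute x y) :
    ∃ (E A : Subgroup P), Nat.card E = p ^ 3 ∧ (∃ a ∈ E, ∃ b ∈ E, a ^ p = 1 ∧ ¬ Commute a b) ∧
      (∀ a ∈ A, a ^ p = 1) ∧ (∀ a ∈ A, a ∈ Subgroup.center P) ∧ Nonempty (E × A ≃* P) := by
  classical
  obtain ⟨c, hcC, hxc⟩ := hnc
  have hzp : z ^ p = 1 := hzo ▸ pow_orderOf_eq_one z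
  have hzc : ∀ g : P, Commute z g := fun g => (Subgroup.mem_center_iff.1 hz g).symm
  let M := C ⊓ (commWith hz hder x).ker
  have hMx : ∀ m : P, m ∈ M ↔ m ∈ C ∧ Commute m x := fun m =>
    and_congr_right fun _ => mem_commWith_ker hz hder
  have hCn : C.Normal := ⟨fun a ha g => by
    have h : ⁅g, a⁆ ∈ C := Subgroup.zpowers_le.2 hzC (hder g a)
    have e : g * a * g⁻¹ = ⁅g, a⁆ * a := by rw [commutatorElement_def]; group
    rw [e]; exact mul_mem h ha⟩
  -- every element is `m * c ^ j * x ^ i`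
  have hCx : ∀ g : P, ∃ i : ℤ, g * (x ^ i)⁻¹ ∈ C := by
    intro g
    haveI := hCn
    have hcard : Nat.card (P ⧸ C) = p := by rw [← Subgroup.index_eq_card, hC]
    have hne : (x : P ⧸ C) ≠ 1 := fun h => hx ((QuotientGroup.eq_one_iff x).1 h)
    obtain ⟨i, hi⟩ := Subgroup.mem_zpowers_iff.1 (mem_zpowers_of_prime_card hcard hne (g' := (g : P ⧸ C)))
    refine ⟨i, (QuotientGroup.eq_one_iff _).1 ?_⟩
    rw [QuotientGroup.mk_mul, QuotientGroup.mk_inv, QuotientGroup.mk_zpow, hi, mul_inv_cancel]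
  have hCc : ∀ g ∈ C, ∃ j : ℤ, g * (c ^ j)⁻¹ ∈ M := by
    intro g hg
    have hc1 : commWith hz hder x c ≠ 1 := fun h =>
      hxc ((mem_commWith_ker hz hder).1 (MonoidHom.mem_ker.2 h)).symm
    obtain ⟨j, hj⟩ := Subgroup.mem_zpowers_iff.1 (mem_zpowers_of_prime_card
      (show Nat.card (Subgroup.zpowers z) = p by rw [Nat.card_zpowers, hzo]) hc1
      (g' := commWith hz hder x g))
    refine ⟨j, Subgroup.mem_inf.2 ⟨mul_mem hg (inv_mem (zpow_mem hcC j)), ?_⟩⟩
    show _ ∈ (commWith hz hder x).ker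
    rw [MonoidHom.mem_ker, map_mul, map_inv, map_zpow, hj, mul_inv_cancel]
  have hzM : z ∈ M := (hMx z).2 ⟨hzC, hzc x⟩
  have hMcen : ∀ m ∈ M, m ∈ Subgroup.center P := by
    intro m hm
    obtain ⟨hmC, hmx⟩ := (hMx m).1 hm
    refine Subgroup.mem_center_iff.2 fun g => ?_
    obtain ⟨i, hi⟩ := hCx g
    have h := ((hab m hmC _ hi).mul_right (hmx.zpow_right i)).eq
    rw [inv_mul_cancel_right] at h
    exact h.symm
  -- a complement of `⟨z⟩` in `M`
  obtain ⟨A, ⟨hAM, hzA⟩, hAmax⟩ := Set.Finite.exists_maximalFor (fun A : Subgroup P => Nat.card A)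
    {A : Subgroup P | A ≤ M ∧ z ∉ A} (Set.toFinite _)
    ⟨⊥, bot_le, fun h => by rw [Subgroup.mem_bot.1 h, orderOf_one] at hzo; exact hp.out.one_lt.ne hzo⟩
  have hMA : ∀ m ∈ M, ∃ k : ℤ, m * (z ^ k)⁻¹ ∈ A := by
    intro m hm
    by_cases hmA : m ∈ A
    · exact ⟨0, by simpa using hmA⟩
    have hmc : ∀ g : P, Commute m g := fun g => (Subgroup.mem_center_iff.1 (hMcen m hm) g).symm
    have hzm : z ∈ A ⊔ Subgroup.zpowers m := by
      by_contra hh
      have h1 := hAmax ⟨sup_le hAM (Subgroup.zpowers_le.2 hm), hh⟩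
        (Nat.card_le_card_of_injective _ (Subgroup.inclusion_injective le_sup_left))
      refine hmA ?_
      rw [Subgroup.eq_of_le_of_card_ge (le_sup_left : A ≤ A ⊔ Subgroup.zpowers m) h1]
      exact Subgroup.mem_sup_right (Subgroup.mem_zpowers m)
    haveI : (Subgroup.zpowers m).Normal := ⟨fun a ha g => by
      obtain ⟨k, rfl⟩ := Subgroup.mem_zpowers_iff.1 ha
      rw [← ((hmc g).zpow_left k).eq, mul_inv_cancel_right]
      exact ha⟩
    obtain ⟨a, haA, b, hb, hab'⟩ := Subgroup.mem_sup_of_normal_right.1 hzm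
    have hb1 : b ≠ 1 := fun h => hzA (by rw [← hab', h, mul_one]; exact haA)
    have hmord : orderOf m = p := orderOf_eq_prime (hexp m ((hMx m).1 hm).1) fun h =>
      hmA (h ▸ one_mem A)
    obtain ⟨k, hk⟩ := Subgroup.mem_zpowers_iff.1 (mem_zpowers_of_prime_card
      (show Nat.card (Subgroup.zpowers m) = p by rw [Nat.card_zpowers, hmord])
      (g := (⟨b, hb⟩ : Subgroup.zpowers m)) (fun h => hb1 (congrArg Subtype.val h))
      (g' := ⟨m, Subgroup.mem_zpowers m⟩))
    have hk' : b ^ k = m := congrArg Subtype.val hk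
    refine ⟨k, ?_⟩
    have hba : b = a⁻¹ * z := by rw [← hab', inv_mul_cancel_left]
    rw [← hk', hba, ((hzc _).symm).mul_zpow, mul_inv_cancel_right]
    exact zpow_mem (inv_mem haA) k
  -- the nonabelian factor
  have hzcx : ∀ j k i : ℤ, x ^ i * (c ^ j * z ^ k) * (x ^ i)⁻¹ ∈
      Subgroup.closure {c, z} := by
    intro j k i
    have h : ⁅x ^ i, c ^ j * z ^ k⁆ ∈ Subgroup.closure {c, z} :=
      Subgroup.zpowers_le.2 (Subgroup.subset_closure (by simp)) (hder _ _)
    rw [show x ^ i * (c ^ j * z ^ k) * (x ^ i)⁻¹ = ⁅x ^ i, c ^ j * z ^ k⁆ * (c ^ j * z ^ k) by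
      rw [commutatorElement_def]; group]
    exact mul_mem h (mul_mem (zpow_mem (Subgroup.subset_closure (by simp)) j)
      (zpow_mem (Subgroup.subset_closure (by simp)) k))
  let E : Subgroup P := Subgroup.closure {c, z} ⊔ Subgroup.zpowers x
  have hW : ∀ w ∈ Subgroup.closure ({c, z} : Set P), ∃ j k : ℤ, w = c ^ j * z ^ k := fun w hw => by
    induction hw using Subgroup.closure_induction with
    | mem a ha =>
      rcases ha with rfl | rfl
      exacts [⟨1, 0, by simp⟩, ⟨0, 1, by simp⟩]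
    | one => exact ⟨0, 0, by simp⟩
    | mul a b _ _ ha hb =>
      obtain ⟨j, k, rfl⟩ := ha
      obtain ⟨j', k', rfl⟩ := hb
      refine ⟨j + j', k + k', ?_⟩
      rw [mul_assoc, ← mul_assoc (z ^ k), ((hzc (c ^ j')).zpow_left k).eq, zpow_add, zpow_add]
      simp only [mul_assoc]
    | inv a _ ha =>
      obtain ⟨j, k, rfl⟩ := ha
      exact ⟨-j, -k, by rw [mul_inv_rev, ← zpow_neg, ← zpow_neg, ((hzc (c ^ (-j))).zpow_left (-k)).eq]⟩
  have hxn : Subgroup.zpowers x ≤ Subgroup.normalizer (Subgroup.closure ({c, z} : Set P) : Set P) := by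
    refine Subgroup.zpowers_le.2 (Subgroup.mem_normalizer_iff.2 fun w => ⟨fun hw => ?_, fun hw => ?_⟩)
    · obtain ⟨j, k, rfl⟩ := hW w hw
      simpa using hzcx j k 1
    · obtain ⟨j, k, e⟩ := hW _ hw
      have := hzcx j k (-1)
      rw [← e] at this
      simpa [mul_assoc] using this
  have hEmem : ∀ g : P, g ∈ E ↔ ∃ j k i : ℤ, g = c ^ j * z ^ k * x ^ i := by
    intro g
    constructor
    · intro hg
      have hg' : g ∈ ((Subgroup.closure {c, z} : Subgroup P) : Set P) * (Subgroup.zpowers x : Set P) := by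
        rw [← Subgroup.coe_mul_of_right_le_normalizer_left _ _ hxn]
        exact hg
      obtain ⟨w, hw, t, ht, rfl⟩ := hg'
      obtain ⟨j, k, rfl⟩ := hW w hw
      obtain ⟨i, rfl⟩ := Subgroup.mem_zpowers_iff.1 ht
      exact ⟨j, k, i, rfl⟩
    · rintro ⟨j, k, i, rfl⟩
      exact mul_mem (Subgroup.mem_sup_left (mul_mem (zpow_mem (Subgroup.subset_closure (by simp)) j)
        (zpow_mem (Subgroup.subset_closure (by simp)) k)))
        (Subgroup.mem_sup_right (zpow_mem (Subgroup.mem_zpowers x) i))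
  have hcM : c ∉ M := fun h => hxc ((hMx c).1 h).2.symm
  have hdvd : ∀ {g : P} {K : Subgroup P}, g ∉ K → g ^ p = 1 → ∀ i : ℤ, g ^ i ∈ K → g ^ i = 1 := by
    intro g K hg hgp i hi
    by_contra hne
    have hord : orderOf g = p := orderOf_eq_prime hgp fun h => hg (h ▸ one_mem K)
    obtain ⟨l, hl⟩ := Subgroup.mem_zpowers_iff.1 (mem_zpowers_of_prime_card
      (show Nat.card (Subgroup.zpowers g) = p by rw [Nat.card_zpowers, hord])
      (g := (⟨g ^ i, zpow_mem (Subgroup.mem_zpowers g) i⟩ : Subgroup.zpowers g))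
      (fun h => hne (congrArg Subtype.val h)) (g' := ⟨g, Subgroup.mem_zpowers g⟩))
    have hl' : (g ^ i) ^ l = g := congrArg Subtype.val hl
    exact hg (Set.mem_of_eq_of_mem hl'.symm (zpow_mem hi l))
  let ψ : E × A →* P := MonoidHom.noncommCoprod E.subtype A.subtype fun e a =>
    Subgroup.mem_center_iff.1 (hMcen _ (hAM a.2)) (e : P)
  have hinj : Function.Injective ψ := by
    refine (injective_iff_map_eq_one ψ).2 fun ⟨⟨e, he⟩, ⟨a, ha⟩⟩ h => ?_
    have h' : e * a = 1 := h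
    obtain ⟨j, k, i, rfl⟩ := (hEmem e).1 he
    have hxi : x ^ i = 1 := by
      refine hdvd hx hxp i ?_
      have : x ^ i = (c ^ j * z ^ k)⁻¹ * a⁻¹ := by
        rw [eq_inv_mul_iff_mul_eq, eq_inv_iff_mul_eq_one, h']
      rw [this]
      exact mul_mem (inv_mem (mul_mem (zpow_mem hcC j) (zpow_mem hzC k)))
        (inv_mem ((hMx a).1 (hAM ha)).1)
    rw [hxi, mul_one] at h'
    have hcj : c ^ j = 1 := by
      refine hdvd hcM (hexp c hcC) j ?_
      rw [show c ^ j = a⁻¹ * (z ^ k)⁻¹ by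
        rw [eq_mul_inv_iff_mul_eq, ← eq_inv_of_mul_eq_one_left h']]
      exact mul_mem (inv_mem (hAM ha)) (inv_mem (zpow_mem hzM k))
    rw [hcj, one_mul] at h'
    have hzk : z ^ k = 1 := hdvd hzA hzp k (by rw [eq_inv_of_mul_eq_one_left h']; exact inv_mem ha)
    rw [hzk, one_mul] at h'
    exact Prod.ext (Subtype.ext (by simp [hcj, hzk, hxi])) (Subtype.ext h')
  have hsurj : Function.Surjective ψ := by
    intro g
    obtain ⟨i, hi⟩ := hCx g
    obtain ⟨j, hj⟩ := hCc _ hi
    obtain ⟨k, hk⟩ := hMA _ hj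
    refine ⟨(⟨c ^ j * z ^ k * x ^ i, (hEmem _).2 ⟨j, k, i, rfl⟩⟩, ⟨_, hk⟩), ?_⟩
    show c ^ j * z ^ k * x ^ i * (g * (x ^ i)⁻¹ * (c ^ j)⁻¹ * (z ^ k)⁻¹) = g
    rw [Subgroup.mem_center_iff.1 (hMcen _ (hAM hk)) _, ← ((hzc (c ^ j)).zpow_left k).eq]
    group
  refine ⟨E, A, ?_, ⟨x, Subgroup.mem_sup_right (Subgroup.mem_zpowers x), c,
    Subgroup.mem_sup_left (Subgroup.subset_closure (by simp)), hxp, hxc⟩,
    fun a ha => hexp a ((hMx a).1 (hAM ha)).1, fun a ha => hMcen a (hAM ha),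
    ⟨MulEquiv.ofBijective ψ ⟨hinj, hsurj⟩⟩⟩
  -- the order of `E`
  have hcard := Nat.card_congr (MulEquiv.ofBijective ψ ⟨hinj, hsurj⟩).toEquiv
  rw [Nat.card_prod] at hcard
  have hP : Nat.card P = p * Nat.card C := by rw [← C.index_mul_card, hC]
  have hCM : Nat.card C = p * Nat.card M := by
    have h1 := Subgroup.card_mul_index (M.subgroupOf C)
    have h2 : (M.subgroupOf C).index = p := by
      have e : M.subgroupOf C = ((commWith hz hder x).comp C.subtype).ker := by
        ext ⟨g, hg⟩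
        simp [M, Subgroup.mem_subgroupOf, MonoidHom.mem_ker, hg]
      rw [e, Subgroup.index_ker]
      have hne : ((commWith hz hder x).comp C.subtype).range ≠ ⊥ := fun h =>
        hxc ((mem_commWith_ker hz hder).1 (MonoidHom.mem_ker.2
          (Subgroup.mem_bot.1 (h.le ⟨⟨c, hcC⟩, rfl⟩) : commWith hz hder x c = 1))).symm
      rcases (Nat.dvd_prime hp.out).1 ((show Nat.card (Subgroup.zpowers z) = p by
          rw [Nat.card_zpowers, hzo]) ▸ Subgroup.card_subgroup_dvd_card
            ((commWith hz hder x).comp C.subtype).range) with h | h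
      · exact absurd (Subgroup.card_eq_one.1 h) hne
      · exact h
    rw [h2, Nat.card_congr (Subgroup.subgroupOfEquivOfLe (inf_le_left : M ≤ C)).toEquiv] at h1
    rw [← h1, mul_comm]
  have hMcard : Nat.card M = p * Nat.card A := by
    let θ : Subgroup.zpowers z × A →* M := MonoidHom.noncommCoprod
      (Subgroup.inclusion (Subgroup.zpowers_le.2 hzM)) (Subgroup.inclusion hAM)
      fun e a => Subtype.ext (Subgroup.mem_center_iff.1 (hMcen _ (hAM a.2)) (e : P))
    have hθi : Function.Injective θ := by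
      refine (injective_iff_map_eq_one θ).2 fun ⟨⟨e, he⟩, ⟨a, ha⟩⟩ h => ?_
      have h' : e * a = 1 := congrArg Subtype.val h
      obtain ⟨k, rfl⟩ := Subgroup.mem_zpowers_iff.1 he
      have hzk : z ^ k = 1 := hdvd hzA hzp k (by rw [eq_inv_of_mul_eq_one_left h']; exact inv_mem ha)
      rw [hzk, one_mul] at h'
      exact Prod.ext (Subtype.ext hzk) (Subtype.ext h')
    have hθs : Function.Surjective θ := by
      rintro ⟨m, hm⟩
      obtain ⟨k, hk⟩ := hMA m hm
      refine ⟨(⟨z ^ k, zpow_mem (Subgroup.mem_zpowers z) k⟩, ⟨_, hk⟩), Subtype.ext ?_⟩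
      show z ^ k * (m * (z ^ k)⁻¹) = m
      rw [← mul_assoc, ((hzc m).zpow_left k).eq, mul_inv_cancel_right]
    rw [← Nat.card_congr (MulEquiv.ofBijective θ ⟨hθi, hθs⟩).toEquiv, Nat.card_prod,
      Nat.card_zpowers, hzo]
  have hApos : 0 < Nat.card A := Nat.card_pos
  rw [hP, hCM, hMcard] at hcard
  refine Nat.eq_of_mul_eq_mul_right hApos (hcard.trans ?_)
  ring

end CfsgLib.GenExtraspecial
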