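import Cfsg.Agent.Fusion.MetacyclicClosed
import Cfsg.Agent.Fusion.GenExtraspecialGroup
import Cfsg.Agent.Fusion.TransvectionCentre

/-!
Strongly closed generalized extraspecial subgroups are normal.
-/

set_option autoImplicit false
set_option linter.unusedSectionVars false
set_option linter.style.haveILetI false

open Cfsg Cfsg.FusionSystem
open scoped commutatorElement

namespace CfsgLib.Fusion

universe u

variable {Ω : Type u} [Group Ω] {S : Subgroup Ω} {F : FusionSystem S}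

/-- The excluded isomorphism types, from a decomposition. -/
theorem genExtraspecial_excluded {p : ℕ} [hp : Fact p.Prime] {W : Type u} [Group W] [Finite W]
    {z : W} (hzo : orderOf z = p) (hz : z ∈ Subgroup.center W)
    (hder : ∀ a b : W, ⁅a, b⁆ ∈ Subgroup.zpowers z) {C : Subgroup W} (hC : C.index = p)
    (hab : ∀ a ∈ C, ∀ b ∈ C, Commute a b) (hexp : ∀ a ∈ C, a ^ p = 1) (hzC : z ∈ C)
    {x : W} (hx : x ∉ C) (hxp : x ^ p = 1) (hnc : ∃ y ∈ C, ¬ Commute x y)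
    (h2 : p = 2 → ¬ ∃ (A : Type) (_ : CommGroup A), (∀ a : A, a ^ 2 = 1) ∧
      Nonempty (W ≃* DihedralGroup 4 × A))
    (hodd : p ≠ 2 → ¬ ∃ (E : Type) (_ : Group E) (A : Type) (_ : CommGroup A),
      Cfsg.IsExtraspecial p E ∧ Nat.card E = p ^ 3 ∧ Monoid.exponent E = p ∧
        (∀ a : A, a ^ p = 1) ∧ Nonempty (W ≃* E × A)) : False := by
  obtain ⟨E, A, hE, ⟨a, ha, b, hb, hap, hab'⟩, hA, hAc, ⟨e⟩⟩ :=
    CfsgLib.GenExtraspecial.exists_decomposition hzo hz hder hC hab hexp hzC hx hxp hnc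
  have hA₀ : ∀ v : A, v ^ p = 1 := fun v => Subtype.ext (hA _ v.2)
  letI : CommGroup A := { (inferInstance : Group A) with
    mul_comm := fun u v => Subtype.ext (Subgroup.mem_center_iff.1 (hAc _ v.2) u) }
  have hA' : ∀ v : Shrink.{0} A, v ^ p = 1 := fun v =>
    (Shrink.mulEquiv : Shrink.{0} A ≃* A).injective ((map_pow _ v p).trans ((hA₀ _).trans (map_one _).symm))
  by_cases hp2 : p = 2
  · subst hp2
    obtain ⟨d⟩ := CfsgLib.AutPOm.nonempty_equiv_dihedral (G := E) (by rw [hE]; norm_num)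
      (a := ⟨a, ha⟩) (b := ⟨b, hb⟩) (Subtype.ext ((pow_two a).symm.trans hap))
      (fun h => hab' (congrArg Subtype.val h))
    exact h2 rfl ⟨Shrink.{0} A, inferInstance, hA', ⟨e.symm.trans (d.prodCongr Shrink.mulEquiv.symm)⟩⟩
  have hW : ∀ w : W, w ^ p = 1 := by
    intro w
    haveI : C.Normal := ⟨fun c hc g => by
      rw [show g * c * g⁻¹ = ⁅g, c⁆ * c by rw [commutatorElement_def]; group]
      exact mul_mem (Subgroup.zpowers_le.2 hzC (hder g c)) hc⟩
    have hne : (x : W ⧸ C) ≠ 1 := fun h => hx ((QuotientGroup.eq_one_iff x).1 h)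
    obtain ⟨i, hi⟩ := Subgroup.mem_zpowers_iff.1 (mem_zpowers_of_prime_card
      (show Nat.card (W ⧸ C) = p by rw [← Subgroup.index_eq_card, hC]) hne (g' := (w : W ⧸ C)))
    have hc : w * (x ^ i)⁻¹ ∈ C := (QuotientGroup.eq_one_iff _).1 (by
      rw [QuotientGroup.mk_mul, QuotientGroup.mk_inv, QuotientGroup.mk_zpow, hi, mul_inv_cancel])
    rw [← inv_mul_cancel_right w (x ^ i), CfsgLib.GenExtraspecial.mul_pow_eq hz hder]
    have hxi : (x ^ i) ^ p = 1 := by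
      rw [← zpow_natCast, ← zpow_mul, mul_comm, zpow_mul, zpow_natCast, hxp, one_zpow]
    obtain ⟨m, hm⟩ := hp.out.dvd_choose_self two_ne_zero (lt_of_le_of_ne hp.out.two_le (Ne.symm hp2))
    rw [hexp _ hc, hxi, mul_one, mul_one, hm, pow_mul]
    obtain ⟨k, hk⟩ := hder (x ^ i) (w * (x ^ i)⁻¹)
    simp only at hk
    have hzk : (z ^ k) ^ p = 1 := by
      rw [← zpow_natCast, ← zpow_mul, mul_comm, zpow_mul, zpow_natCast, ← hzo, pow_orderOf_eq_one,
        one_zpow]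
    rw [← hk, hzk, one_pow]
  have hexpE : ∀ v : Shrink.{0} E, v ^ p = 1 := fun v =>
    (Shrink.mulEquiv : Shrink.{0} E ≃* E).injective (by rw [map_pow, map_one]; exact Subtype.ext (hW _))
  have hcE : Nat.card (Shrink.{0} E) = p ^ 3 :=
    (Nat.card_congr Shrink.mulEquiv.toEquiv).trans hE
  have : Finite (Shrink.{0} E) := Nat.finite_of_card_ne_zero (by rw [hcE]; exact pow_ne_zero _ hp.out.ne_zero)
  refine hodd hp2 ⟨Shrink.{0} E, inferInstance, Shrink.{0} A, inferInstance, ?_, hcE,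
    CfsgLib.LocalB.exponent_eq_prime hexpE (by rw [hcE]; exact Nat.one_lt_pow (by omega) hp.out.one_lt),
    hA', ⟨e.symm.trans (Shrink.mulEquiv.symm.prodCongr Shrink.mulEquiv.symm)⟩⟩
  refine CfsgLib.LocalB.isExtraspecial_of_cube hexpE hcE fun h => hab' ?_
  have h' := congrArg (fun v : Shrink.{0} E => (((Shrink.mulEquiv : Shrink.{0} E ≃* E) v : E) : W))
    (h (Shrink.mulEquiv.symm ⟨a, ha⟩) (Shrink.mulEquiv.symm ⟨b, hb⟩))
  exact (by simpa using h' : a * b = b * a)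

/-- A strongly closed generalized extraspecial subgroup is normal. -/
theorem isNormal_of_genExtraspecial [Finite S] (p : ℕ) [Fact p.Prime] (hS : IsPGroup p S)
    (hF : F.IsSaturated p) {P : Subgroup Ω} (hP : F.StronglyClosed P)
    (hge : frattini ↥P = commutator ↥P ∧ Nat.card ↥(commutator ↥P) = p)
    (h2 : p = 2 → ¬ ∃ (A : Type) (_ : CommGroup A), (∀ a : A, a ^ 2 = 1) ∧
      Nonempty (↥P ≃* DihedralGroup 4 × A))
    (hodd : p ≠ 2 → ¬ ∃ (E : Type) (_ : Group E) (A : Type) (_ : CommGroup A),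
      Cfsg.IsExtraspecial p E ∧ Nat.card E = p ^ 3 ∧ Monoid.exponent E = p ∧
        (∀ a : A, a ^ p = 1) ∧ Nonempty (↥P ≃* E × A)) : F.IsNormal P := by
  classical
  have hp := (Fact.out : p.Prime)
  have := finite_of_le hP.1
  have hPp : IsPGroup p P := isPGroup_of_le hS hP.1
  -- the derived subgroup
  obtain ⟨zP, hzPo⟩ := exists_prime_orderOf_dvd_card' (G := commutator ↥P) p (by rw [hge.2])
  obtain ⟨z, hzdef⟩ : ∃ z : P, (zP : P) = z := ⟨_, rfl⟩
  have hzo : orderOf z = p := by rw [← hzdef, Subgroup.orderOf_coe, hzPo]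
  have hZ : Subgroup.zpowers z = commutator ↥P := by
    refine Subgroup.eq_of_le_of_card_ge (Subgroup.zpowers_le.2 (hzdef ▸ zP.2)) ?_
    rw [hge.2, Nat.card_zpowers, hzo]
  have hder : ∀ a b : P, ⁅a, b⁆ ∈ Subgroup.zpowers z := fun a b => by
    rw [hZ]; exact Subgroup.commutator_mem_commutator (Subgroup.mem_top a) (Subgroup.mem_top b)
  have hpowZ : ∀ a : P, a ^ p ∈ Subgroup.zpowers z := fun a => by
    rw [hZ, ← hge.1]; exact (CfsgLib.PGroupBasic.commutator_pow_le_frattini hPp).2 a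
  have hzΩo : orderOf (z : Ω) = p := by rw [Subgroup.orderOf_coe, hzo]
  have hzΩp : (z : Ω) ^ p = 1 := by rw [← hzΩo, pow_orderOf_eq_one]
  have hz1 : (z : Ω) ≠ 1 := fun h => hp.one_lt.ne (by rw [← hzΩo, h, orderOf_one])
  have hZP' : ∀ w : Ω, w ∈ Subgroup.zpowers (z : Ω) ↔ w ∈ ⁅P, P⁆ := by
    intro w
    rw [← Subgroup.map_subtype_commutator, ← hZ, MonoidHom.map_zpowers]
    rfl
  have hzS : ∀ g ∈ S, Commute g (z : Ω) := by
    let Zs : Subgroup S := (Subgroup.zpowers (z : Ω)).subgroupOf S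
    have hNn : Zs.Normal := ⟨fun a ha b => by
      show ((b * a * b⁻¹ : S) : Ω) ∈ Subgroup.zpowers (z : Ω)
      exact (hZP' _).2 (conj_commutator_mem hP b.2 ((hZP' _).1 ha))⟩
    have hzZs : (⟨z, hP.1 z.2⟩ : S) ∈ Zs := Subgroup.mem_zpowers _
    have hNne : Zs ≠ ⊥ := fun hb => by
      rw [hb, Subgroup.mem_bot] at hzZs
      exact hz1 (congrArg Subtype.val hzZs)
    have := hS.isNilpotent
    obtain ⟨⟨w, hwS⟩, ⟨hwZ, hwc⟩, hw1⟩ := (Subgroup.bot_or_exists_ne_one _).resolve_left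
      (CfsgLib.PGroupBasic.inf_center_ne_bot Zs hNne)
    intro g hg
    have hw1' : w ≠ 1 := fun h => hw1 (Subtype.ext h)
    obtain ⟨i, hi⟩ := Subgroup.mem_zpowers_iff.1
      (mem_zpowers_symm (p := p) (hP.1 z.2) hzΩp hwZ hw1')
    rw [← hi]
    exact (show Commute g w from congrArg Subtype.val (Subgroup.mem_center_iff.1 hwc ⟨g, hg⟩)).zpow_right i
  have hzc : ∀ g ∈ S, ∀ d ∈ Subgroup.zpowers (z : Ω), Commute g d := by
    intro g hg d hd
    obtain ⟨i, rfl⟩ := Subgroup.mem_zpowers_iff.1 hd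
    exact (hzS g hg).zpow_right i
  have hzcen : z ∈ Subgroup.center P :=
    Subgroup.mem_center_iff.2 fun g => Subtype.ext (hzS g (hP.1 g.2)).eq
  have hZle : Subgroup.zpowers (z : Ω) ≤ P := Subgroup.zpowers_le.2 z.2
  suffices hw : F.WeaklyClosed (Subgroup.zpowers (z : Ω)) by
    refine isNormal_of_series p hS hF hP (n := 2) ![⊥, Subgroup.zpowers (z : Ω), P] rfl rfl ?_ ?_ ?_
    · intro i
      fin_cases i
      · show ⁅Subgroup.zpowers (z : Ω), P⁆ ≤ ⊥
        rw [Subgroup.commutator_le]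
        intro a ha b hb
        rw [Subgroup.mem_bot, commutatorElement_eq_one_iff_commute]
        exact (hzc b (hP.1 hb) a ha).symm
      · show ⁅P, P⁆ ≤ Subgroup.zpowers (z : Ω)
        exact fun w hw => (hZP' w).2 hw
    · intro i j hij
      fin_cases i <;> fin_cases j <;>
        first | exact le_rfl | exact bot_le | exact hZle | exact absurd hij (by decide)
    · intro i
      fin_cases i
      exacts [weaklyClosed_of_stronglyClosed stronglyClosed_bot, hw]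
  refine ⟨hZle.trans hP.1, fun φ hφ => ?_⟩
  obtain ⟨y, hydef⟩ : ∃ y, φ ⟨z, Subgroup.mem_zpowers _⟩ = y := ⟨_, rfl⟩
  by_cases hyZ : y ∈ Subgroup.zpowers (z : Ω)
  · have hle : φ.range ≤ Subgroup.zpowers (z : Ω) := by
      rintro _ ⟨⟨w, hw⟩, rfl⟩
      obtain ⟨i, rfl⟩ := Subgroup.mem_zpowers_iff.1 hw
      rw [show φ ⟨(z : Ω) ^ i, hw⟩ = y ^ i by
        rw [← hydef, ← map_zpow]; exact apply_congr φ (by simp)]
      exact zpow_mem hyZ i
    exact eq_of_le_of_card_le (hZle.trans hP.1) hle (card_range hφ).ge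
  exfalso
  have hyP : y ∈ P := hydef ▸ hP.2 _ hZle φ hφ _
  have hyp : y ^ p = 1 := by
    rw [← hydef, ← map_pow, show (⟨z, Subgroup.mem_zpowers (z : Ω)⟩ : Subgroup.zpowers (z : Ω)) ^ p = 1
      from Subtype.ext hzΩp, map_one]
  obtain ⟨χ, hχ, hχr, hχφ, -⟩ := exists_inv hφ rfl
  let M : Subgroup Ω := P ⊓ Subgroup.centralizer {y}
  have hMext : M ≤ extender S φ.range χ := by
    refine le_trans ?_ (centralizerIn_le_extender _ _)
    rintro g ⟨hgP, hgy⟩
    refine ⟨hP.1 hgP, Subgroup.mem_centralizer_iff.2 ?_⟩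
    rintro _ ⟨⟨w, hw⟩, rfl⟩
    obtain ⟨i, rfl⟩ := Subgroup.mem_zpowers_iff.1 hw
    rw [show φ ⟨(z : Ω) ^ i, hw⟩ = y ^ i by
      rw [← hydef, ← map_zpow]; exact apply_congr φ (by simp)]
    exact ((show Commute g y from Subgroup.mem_centralizer_singleton_iff.1 hgy).zpow_right i).symm.eq
  have hfc : F.IsFullyCentralized χ.range := by
    rw [hχr]
    refine ⟨hZle.trans hP.1, fun Q hQ => ?_⟩
    have e : centralizerIn S (Subgroup.zpowers (z : Ω)) = S := le_antisymm (centralizerIn_le_S _)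
      fun g hg => ⟨hg, Subgroup.mem_centralizer_iff.2 fun d hd => (hzc g hg d hd).symm.eq⟩
    rw [e]
    exact card_le_of_le le_rfl (centralizerIn_le_S Q)
  obtain ⟨ψ, hψ, hψχ⟩ := saturated_extend p hS hF hχ hfc hMext
  have hzM : (z : Ω) ∈ M :=
    ⟨z.2, Subgroup.mem_centralizer_singleton_iff.2 ((hzS y (hP.1 hyP)).symm.eq)⟩
  have hyM : y ∈ M := ⟨hyP, Subgroup.mem_centralizer_singleton_iff.2 rfl⟩
  have hψy : ψ ⟨y, hyM⟩ = z := by
    rw [hψχ y ⟨_, hydef⟩ hyM]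
    exact (apply_congr χ hydef.symm).trans (hχφ ⟨(z : Ω), Subgroup.mem_zpowers _⟩ ⟨_, rfl⟩)
  have hψP : ∀ v : M, ψ v ∈ P := fun v => hP.2 M inf_le_left ψ hψ v
  have hψz : ψ ⟨z, hzM⟩ ∉ Subgroup.zpowers (z : Ω) := by
    intro hu
    obtain ⟨i, hi⟩ := Subgroup.mem_zpowers_iff.1 hu
    have e : ψ ((⟨y, hyM⟩ : M) ^ i) = ψ ⟨z, hzM⟩ := by rw [map_zpow, hψy, hi]
    have e2 : y ^ i = z := congrArg Subtype.val (F.injective_of_mem hψ e)
    exact hyZ (mem_zpowers_symm (p := p) (hP.1 hyP) hyp ⟨i, e2⟩ hz1)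
  -- `M` is elementary abelian
  have hkill : ∀ v : M, (v : Ω) ∈ Subgroup.zpowers (z : Ω) → ψ v ∈ Subgroup.zpowers (z : Ω) →
      (v : Ω) = 1 := by
    intro v hv hψv
    by_contra hv1
    obtain ⟨i, hi⟩ := Subgroup.mem_zpowers_iff.1 (mem_zpowers_symm (p := p) (hP.1 z.2) hzΩp hv hv1)
    refine hψz ?_
    rw [show ψ ⟨z, hzM⟩ = ψ v ^ i by rw [← map_zpow]; exact apply_congr ψ (by simp [hi])]
    exact zpow_mem hψv i
  have hMab : ∀ a b : M, Commute (a : Ω) b := by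
    intro a b
    refine commutatorElement_eq_one_iff_commute.1 (hkill ⁅a, b⁆ ?_ ?_)
    · exact (hZP' _).2 (Subgroup.commutator_mem_commutator a.2.1 b.2.1)
    · rw [map_commutatorElement]
      exact (hZP' _).2 (Subgroup.commutator_mem_commutator (hψP _) (hψP _))
  have hMexp : ∀ a : M, (a : Ω) ^ p = 1 := by
    intro a
    have hpow : ∀ w ∈ P, w ^ p ∈ Subgroup.zpowers (z : Ω) := fun w hw => by
      obtain ⟨i, hi⟩ := Subgroup.mem_zpowers_iff.1 (hpowZ ⟨w, hw⟩)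
      exact ⟨i, congrArg Subtype.val hi⟩
    refine hkill (a ^ p) (hpow _ a.2.1) ?_
    rw [map_pow]
    exact hpow _ (hψP a)
  obtain ⟨x₀, hx₀P, hx₀y⟩ : ∃ x₀ ∈ P, ¬ Commute x₀ y := by
    by_contra hcon
    push Not at hcon
    have hMP : ∀ w ∈ P, w ∈ M := fun w hw =>
      ⟨hw, Subgroup.mem_centralizer_singleton_iff.2 (hcon w hw).eq⟩
    have hbot : commutator ↥P = ⊥ := by
      rw [eq_bot_iff, _root_.commutator_def, Subgroup.commutator_le]
      intro a _ b _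
      rw [Subgroup.mem_bot, commutatorElement_eq_one_iff_commute]
      exact Subtype.ext (hMab ⟨a, hMP a a.2⟩ ⟨b, hMP b b.2⟩).eq
    have := hge.2
    rw [hbot, Subgroup.card_bot] at this
    exact hp.one_lt.ne this
  let C : Subgroup P := (CfsgLib.GenExtraspecial.commWith hzcen hder ⟨y, hyP⟩).ker
  have hCM : ∀ w : P, w ∈ C ↔ (w : Ω) ∈ M := fun w => by
    rw [CfsgLib.GenExtraspecial.mem_commWith_ker hzcen hder]
    exact ⟨fun h => ⟨w.2, Subgroup.mem_centralizer_singleton_iff.2 (congrArg Subtype.val h.eq)⟩,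
      fun h => Subtype.ext (Subgroup.mem_centralizer_singleton_iff.1 h.2)⟩
  have hCi : C.index = p := CfsgLib.GenExtraspecial.index_commWith_ker hzcen hder hzo
    (g := ⟨x₀, hx₀P⟩) fun h => hx₀y (congrArg Subtype.val h.eq)
  by_cases hinv : ∃ x ∈ P, x ∉ M ∧ x ^ p = 1
  · obtain ⟨x, hxP, hxM, hxp⟩ := hinv
    exact genExtraspecial_excluded hzo hzcen hder hCi
      (fun a ha b hb => Subtype.ext (hMab ⟨a, (hCM a).1 ha⟩ ⟨b, (hCM b).1 hb⟩).eq)
      (fun a ha => Subtype.ext (hMexp ⟨a, (hCM a).1 ha⟩)) ((hCM z).2 hzM)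
      (x := ⟨x, hxP⟩) (fun h => hxM ((hCM _).1 h)) (Subtype.ext hxp)
      ⟨⟨y, hyP⟩, (hCM _).2 hyM, fun h => hxM ⟨hxP,
        Subgroup.mem_centralizer_singleton_iff.2 (congrArg Subtype.val h.eq)⟩⟩ h2 hodd
  push Not at hinv
  by_cases hp2 : p = 2
  · -- two: a product of two elements of order four would be an involution
    subst hp2
    have hxM : x₀ ∉ M := fun h => hx₀y (Subgroup.mem_centralizer_singleton_iff.1 h.2)
    have hxyM : x₀ * y ∉ M := fun h => hxM (by simpa using mul_mem h (inv_mem hyM))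
    have hz : ∀ w : P, w ∈ Subgroup.zpowers z → w ≠ 1 → w = z := by
      intro w hw hw1
      obtain ⟨i, rfl⟩ := Subgroup.mem_zpowers_iff.1 hw
      obtain ⟨k, rfl | rfl⟩ := Int.even_or_odd' i
      · exact absurd (by rw [zpow_mul, show z ^ (2 : ℤ) = 1 by
          rw [show (2 : ℤ) = ((2 : ℕ) : ℤ) from rfl, zpow_natCast, ← hzo, pow_orderOf_eq_one],
          one_zpow]) hw1
      · rw [zpow_add, zpow_mul, show z ^ (2 : ℤ) = 1 by
          rw [show (2 : ℤ) = ((2 : ℕ) : ℤ) from rfl, zpow_natCast, ← hzo, pow_orderOf_eq_one],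
          one_zpow, one_mul, zpow_one]
    have hx2 : (⟨x₀, hx₀P⟩ : P) ^ 2 = z := hz _ (hpowZ _) fun h =>
      hinv x₀ hx₀P hxM (congrArg Subtype.val h)
    have hyx : ⁅(⟨y, hyP⟩ : P), ⟨x₀, hx₀P⟩⁆ = z := hz _ (hder _ _) fun h =>
      hx₀y (congrArg Subtype.val (commutatorElement_eq_one_iff_mul_comm.1 h)).symm
    refine hinv (x₀ * y) (mul_mem hx₀P hyP) hxyM (congrArg Subtype.val (show
      ((⟨x₀, hx₀P⟩ : P) * ⟨y, hyP⟩) ^ 2 = 1 from ?_))
    rw [CfsgLib.GenExtraspecial.mul_pow_eq hzcen hder, hyx, hx2,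
      show (⟨y, hyP⟩ : P) ^ 2 = 1 from Subtype.ext hyp, mul_one, Nat.choose_self, pow_one,
      ← pow_two, ← hzo, pow_orderOf_eq_one]
  -- `M` is the set of elements of order dividing `p`
  have hMset : ∀ w ∈ P, w ^ p = 1 → w ∈ M := fun w hw hwp => by
    by_contra hwM
    exact hinv w hw hwM hwp
  have hMsc : F.StronglyClosed M := by
    refine ⟨inf_le_left.trans hP.1, fun R hR χ' hχ' v => hMset _ (hP.2 R (hR.trans inf_le_left) χ' hχ' v) ?_⟩
    rw [← map_pow, show v ^ p = 1 from Subtype.ext (hMexp ⟨v, hR v.2⟩), map_one]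
  have hMS : M ≤ S := inf_le_left.trans hP.1
  have := finite_of_le hMS
  have hMfn : F.IsFullyNormalized M := by
    refine ⟨hMS, fun Q hQ => ?_⟩
    rw [show normalizerIn S M = S from le_antisymm (normalizerIn_le_S M)
      fun g hg => ⟨hg, stronglyClosed_normal_in_S hMsc hg⟩]
    exact card_le_of_le le_rfl (normalizerIn_le_S Q)
  letI : CommGroup M := { (inferInstance : Group M) with mul_comm := fun a b => Subtype.ext (hMab a b).eq }
  have hxM : x₀ ∉ M := fun h => hx₀y (Subgroup.mem_centralizer_singleton_iff.1 h.2)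
  have hxpM : x₀ ^ p ∈ M := hMset _ (pow_mem hx₀P p) (by
    obtain ⟨i, hi⟩ := Subgroup.mem_zpowers_iff.1 (hpowZ ⟨x₀, hx₀P⟩)
    rw [show x₀ ^ p = (z : Ω) ^ i from (congrArg Subtype.val hi).symm, ← zpow_natCast, ← zpow_mul,
      mul_comm, zpow_mul, zpow_natCast, hzΩp, one_zpow])
  let z₀ : M := ⟨x₀ ^ p, hxpM⟩
  have hz₀ : ∀ w : M, w ∈ Subgroup.zpowers z₀ ↔ (w : Ω) ∈ Subgroup.zpowers (z : Ω) := by
    have hxz : x₀ ^ p ∈ Subgroup.zpowers (z : Ω) := by
      obtain ⟨i, hi⟩ := Subgroup.mem_zpowers_iff.1 (hpowZ ⟨x₀, hx₀P⟩)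
      exact ⟨i, congrArg Subtype.val hi⟩
    intro w
    constructor
    · intro hw
      obtain ⟨i, rfl⟩ := Subgroup.mem_zpowers_iff.1 hw
      simpa [z₀] using zpow_mem hxz i
    · intro hw
      obtain ⟨i, hi⟩ := Subgroup.mem_zpowers_iff.1 ((Subgroup.zpowers_le.2
        (mem_zpowers_symm (p := p) (hP.1 z.2) hzΩp hxz (hinv x₀ hx₀P hxM))) hw)
      exact ⟨i, Subtype.ext (by simpa [z₀] using hi)⟩
  have hz₀o : orderOf z₀ = p := orderOf_eq_prime (Subtype.ext (hMexp _))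
    fun h => hinv x₀ hx₀P hxM (congrArg Subtype.val h)
  let t : MulAut M := conjAut S M ⟨x₀, hP.1 hx₀P, stronglyClosed_normal_in_S hMsc (hP.1 hx₀P)⟩
  have htA : t ∈ autInducedBy S M := mem_autInducedBy.2 ⟨x₀, hP.1 hx₀P, fun _ => rfl⟩
  have htG : t ∈ F.autGroup M := autInducedBy_le_autGroup hMS htA
  have htd : ∀ m : M, m⁻¹ * t m ∈ Subgroup.zpowers z₀ := fun m => by
    refine (hz₀ _).2 ((hZP' _).2 ?_)
    rw [show ((m⁻¹ * t m : M) : Ω) = ⁅(m : Ω)⁻¹, x₀⁆ by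
      rw [commutatorElement_def, inv_inv]; simp [t, mul_assoc]]
    exact Subgroup.commutator_mem_commutator (inv_mem m.2.1) hx₀P
  have htz : t z₀ = z₀ := Subtype.ext (by simp [t, z₀, (Commute.self_pow x₀ p).eq])
  -- extension of automorphisms of `M` to `x₀`
  have key : ∀ g ∈ F.autGroup M, ∀ r ∈ S, (∀ m : M, (g (t m) : Ω) = r * (g m : Ω) * r⁻¹) →
      ∃ x' ∈ P, (g z₀ : Ω) = x' ^ p ∧ ∀ m : M, (g (t m) : Ω) = x' * (g m : Ω) * x'⁻¹ := by
    intro g hg r hr hgr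
    have hgm := (autGroup_carrier hMS).1 hg
    have hfc' : F.IsFullyCentralized (M.subtype.comp g.toMonoidHom).range := by
      rw [range_subtype_comp]
      exact fullyCentralized_of_fullyNormalized p hS hF hMfn
    have hN : M ⊔ Subgroup.zpowers x₀ ≤ extender S M (M.subtype.comp g.toMonoidHom) := by
      refine sup_le (le_extender hgm) (Subgroup.zpowers_le.2 (mem_extender.2
        ⟨hP.1 hx₀P, stronglyClosed_normal_in_S hMsc (hP.1 hx₀P), r, hr, fun m hm => ?_⟩))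
      exact hgr m
    obtain ⟨ψ', hψ', hψ'g⟩ := saturated_extend p hS hF hgm hfc' hN
    have hxN : x₀ ∈ M ⊔ Subgroup.zpowers x₀ := Subgroup.mem_sup_right (Subgroup.mem_zpowers _)
    refine ⟨ψ' ⟨x₀, hxN⟩, hP.2 _ (sup_le inf_le_left (Subgroup.zpowers_le.2 hx₀P)) ψ' hψ' _, ?_,
      fun m => ?_⟩
    · rw [← map_pow]
      exact (hψ'g _ hxpM (Subgroup.mem_sup_left hxpM)).symm.trans (apply_congr ψ' rfl)
    · have e1 := hψ'g _ (t m).2 (Subgroup.mem_sup_left (t m).2)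
      have e2 := hψ'g _ m.2 (Subgroup.mem_sup_left m.2)
      rw [show (g m : Ω) = ψ' ⟨m, Subgroup.mem_sup_left m.2⟩ from e2.symm, ← map_inv, ← map_mul,
        ← map_mul]
      exact e1.symm.trans (apply_congr ψ' rfl)
  have hpowP : ∀ x' ∈ P, x' ^ p ∈ Subgroup.zpowers (z : Ω) := fun w hw => by
    obtain ⟨i, hi⟩ := Subgroup.mem_zpowers_iff.1 (hpowZ ⟨w, hw⟩)
    exact ⟨i, congrArg Subtype.val hi⟩
  have key1 : ∀ g ∈ F.autGroup M, g * t * g⁻¹ ∈ autInducedBy S M → g z₀ ∈ Subgroup.zpowers z₀ := by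
    intro g hg hu
    obtain ⟨r, hr, hru⟩ := mem_autInducedBy.1 hu
    obtain ⟨x', hx', hgx, -⟩ := key g hg r hr fun m => by
      rw [← hru (g m)]; simp [MulAut.mul_apply]
    exact (hz₀ _).2 (hgx ▸ hpowP x' hx')
  have key2 : ∀ g ∈ F.autGroup M, Commute g t → g z₀ = z₀ := by
    intro g hg hgt
    obtain ⟨x', hx', hgx, hconj⟩ := key g hg x₀ (hP.1 hx₀P) fun m => by
      rw [show g (t m) = t (g m) from DFunLike.congr_fun hgt.eq m]; rfl
    have hc : ∀ m : M, Commute (x₀⁻¹ * x') (m : Ω) := fun m => by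
      have h := hconj (g⁻¹ m)
      rw [show g (t (g⁻¹ m)) = t (g (g⁻¹ m)) from DFunLike.congr_fun hgt.eq _] at h
      simp only [MulAut.apply_inv_self] at h
      have h' : x₀ * (m : Ω) * x₀⁻¹ = x' * (m : Ω) * x'⁻¹ := h
      show x₀⁻¹ * x' * (m : Ω) = (m : Ω) * (x₀⁻¹ * x')
      calc x₀⁻¹ * x' * (m : Ω) = x₀⁻¹ * (x' * (m : Ω) * x'⁻¹) * x' := by group
        _ = (m : Ω) * (x₀⁻¹ * x') := by rw [← h']; group
    have hcM : x₀⁻¹ * x' ∈ M := Subgroup.mem_inf.2 ⟨mul_mem (Subgroup.inv_mem _ hx₀P) hx',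
      Subgroup.mem_centralizer_singleton_iff.2 (hc ⟨y, hyM⟩).eq⟩
    refine Subtype.ext (hgx.trans ?_)
    show x' ^ p = x₀ ^ p
    obtain ⟨c, hcdef⟩ : ∃ c, x₀⁻¹ * x' = c := ⟨_, rfl⟩
    rw [show x' = x₀ * c by rw [← hcdef, mul_inv_cancel_left]]
    rw [hcdef] at hcM
    have e := CfsgLib.GenExtraspecial.mul_pow_eq hzcen hder (⟨x₀, hx₀P⟩ : P) ⟨c, hcM.1⟩ p
    obtain ⟨l, hl⟩ := hp.dvd_choose_self two_ne_zero (lt_of_le_of_ne hp.two_le (Ne.symm hp2))
    obtain ⟨k, hk⟩ := Subgroup.mem_zpowers_iff.1 (hder ⟨c, hcM.1⟩ ⟨x₀, hx₀P⟩)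
    have hcp : (⁅(⟨c, hcM.1⟩ : P), (⟨x₀, hx₀P⟩ : P)⁆ : P) ^ p = 1 := by
      rw [← hk, ← zpow_natCast, ← zpow_mul, mul_comm, zpow_mul, zpow_natCast, ← hzo,
        pow_orderOf_eq_one, one_zpow]
    rw [show (⟨c, hcM.1⟩ : P) ^ p = 1 from Subtype.ext (hMexp ⟨c, hcM⟩), mul_one, hl, pow_mul,
      hcp, one_pow, one_mul] at e
    exact congrArg Subtype.val e
  -- commuting conjugates of `t` lie in a common Sylow subgroup
  have : Finite (MulAut M) := finite_mulAut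
  obtain ⟨⟨-, R, hR⟩, -⟩ := good_of_fullyNormalized p hS hF hMfn
  have htp : IsPGroup p (Subgroup.zpowers (⟨t, htG⟩ : F.autGroup M)) :=
    R.2.to_le (Subgroup.zpowers_le.2 (hR ▸ htA))
  have key3 : ∀ g ∈ F.autGroup M, Commute t (g * t * g⁻¹) → g z₀ ∈ Subgroup.zpowers z₀ := by
    intro g hg hc
    let tG : F.autGroup M := ⟨t, htG⟩
    let gG : F.autGroup M := ⟨g, hg⟩
    have hup : IsPGroup p (Subgroup.zpowers (gG * tG * gG⁻¹)) := by
      have := htp.map (MulAut.conj gG).toMonoidHom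
      rwa [MonoidHom.map_zpowers] at this
    have hle : Subgroup.zpowers (gG * tG * gG⁻¹) ≤
        Subgroup.normalizer (Subgroup.zpowers tG : Set (F.autGroup M)) := by
      refine Subgroup.zpowers_le.2 (centralizer_le_normalizer' _ ?_)
      refine Subgroup.mem_centralizer_iff.2 fun v hv => ?_
      obtain ⟨i, rfl⟩ := Subgroup.mem_zpowers_iff.1 hv
      exact ((show Commute tG (gG * tG * gG⁻¹) from Subtype.ext hc.eq).zpow_left i).eq
    obtain ⟨R', hR'⟩ := (IsPGroup.to_sup_of_normal_right' hup htp hle).exists_le_sylow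
    obtain ⟨k, hk⟩ := MulAction.exists_smul_eq (F.autGroup M) R' R
    have hin : ∀ v : F.autGroup M, v ∈ R' → ((k * v * k⁻¹ : F.autGroup M) : MulAut M) ∈ autInducedBy S M := by
      intro v hv
      have h : k * v * k⁻¹ ∈ (R : Subgroup (F.autGroup M)) := by
        rw [← hk, Sylow.coe_subgroup_smul]
        exact ⟨v, hv, rfl⟩
      rw [hR] at h
      exact h
    have h₁ : (k : MulAut M) z₀ ∈ Subgroup.zpowers z₀ := key1 _ k.2
      (hin tG (hR' (Subgroup.mem_sup_right (Subgroup.mem_zpowers _))))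
    have h₂ : ((k : MulAut M) * g) z₀ ∈ Subgroup.zpowers z₀ := key1 _ (mul_mem k.2 hg) (by
      have := hin (gG * tG * gG⁻¹) (hR' (Subgroup.mem_sup_left (Subgroup.mem_zpowers _)))
      simpa [tG, gG, mul_assoc] using this)
    obtain ⟨i, hi⟩ := Subgroup.mem_zpowers_iff.1 h₁
    have hne : (k : MulAut M) z₀ ≠ 1 := by
      rw [Ne, map_eq_one_iff _ (k : MulAut M).injective]
      exact fun h => hp.one_lt.ne (by rw [← hz₀o, h, orderOf_one])
    obtain ⟨j, hj⟩ := Subgroup.mem_zpowers_iff.1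
      ((Subgroup.zpowers_le.2 (CfsgLib.TransvectionCentre.mem_zpowers_swap hz₀o h₁ hne)) h₂)
    refine ⟨j, (k : MulAut M).injective ?_⟩
    show (k : MulAut M) (z₀ ^ j) = (k : MulAut M) (g z₀)
    rw [map_zpow, hj, MulAut.mul_apply]
  -- conclusion
  have hψrange : ψ.range = M := by
    refine eq_of_le_of_card_le hMS ?_ (card_range hψ).ge
    rintro _ ⟨v, rfl⟩
    refine hMset _ (hψP v) ?_
    rw [← map_pow, show v ^ p = 1 from Subtype.ext (hMexp v), map_one]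
  let γ : MulAut M := autOfRange ψ (F.injective_of_mem hψ) hψrange
  have hγ : γ⁻¹ ∈ F.autGroup M := inv_mem (autOfRange_mem hψ hψrange)
  have hγy : γ⁻¹ ⟨z, hzM⟩ = ⟨y, hyM⟩ := by
    rw [show (⟨z, hzM⟩ : M) = γ ⟨y, hyM⟩ from Subtype.ext hψy.symm, MulAut.inv_apply_self]
  obtain ⟨i, hi⟩ := Subgroup.mem_zpowers_iff.1 ((hz₀ ⟨z, hzM⟩).2 (Subgroup.mem_zpowers _))
  have h := CfsgLib.TransvectionCentre.centre_invariant (G := F.autGroup M) hp2 htG hz₀o htz htd
    key3 key2 _ hγ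
  have h' := (hz₀ _).1 (zpow_mem h i)
  rw [← map_zpow, hi, hγy] at h'
  exact hyZ h'

end CfsgLib.Fusion
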