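import Cfsg.Agent.Fusion.Factor
import Cfsg.Agent.Fusion.NormalCriteria

/-!
Grün's lemma for fusion systems: for a perfect system the factor system modulo the centre has
trivial centre.
-/

set_option autoImplicit false

open Cfsg Cfsg.FusionSystem

namespace CfsgLib.Fusion

variable {Ω : Type*} [Group Ω] {S : Subgroup Ω} [Finite S] {F : FusionSystem S}
  {Ω' : Type*} [Group Ω'] [Finite Ω'] {θ : S →* Ω'} {E : FusionSystem (⊤ : Subgroup Ω')}

theorem grun_centre (p : ℕ) [Fact p.Prime] (hS : IsPGroup p S) (hF : F.IsSaturated p)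
    (hperf : F.hyperfocalSubgroup p = S) (hE : F.IsFactorSystem F.center θ E) :
    E.center = ⊥ := by
  classical
  haveI : Finite (⊤ : Subgroup Ω') := inferInstance
  have hk := hE.2.1
  have hZS : F.center ≤ S := center_le_S
  have hZc : F.IsCentral F.center := isCentral_center
  have hT : F.StronglyClosed F.center := stronglyClosed_of_isNormal (isNormal_of_isCentral hZc)
  have hEc : E.IsCentral E.center := isCentral_center
  have hcomm : ∀ z ∈ F.center, ∀ s ∈ S, s * z = z * s := by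
    intro z hz s hs
    have h1 : s * z * s⁻¹ = z := isCentral_fix hZc (F.conj_mem le_rfl hs) ⟨z, hZS hz⟩ hz
    calc s * z = s * z * s⁻¹ * s := by group
      _ = z * s := by rw [h1]
  set Q := preimg θ E.center with hQdef
  have hQS : Q ≤ S := preimg_le _
  -- equality modulo the centre
  have hmod : ∀ a b : S, θ a = θ b → ∃ z ∈ F.center, (a : Ω) = z * b := by
    intro a b h
    refine ⟨a * (b : Ω)⁻¹, ?_, by group⟩
    have : θ (a * b⁻¹) = 1 := by rw [map_mul, map_inv, h, mul_inv_cancel]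
    exact (hk _).1 this
  -- elements of `Q` are moved within their coset
  have hmove : ∀ {P : Subgroup Ω} {φ : P →* Ω}, φ ∈ F.Hom P → ∀ x : P, (x : Ω) ∈ Q →
      ∃ z ∈ F.center, φ x = z * x := by
    intro P φ hφ x hx
    obtain ⟨ψ, hψ, he, -⟩ := hZc.2 P φ hφ
    obtain ⟨φ', hφ', hind⟩ := exists_factor_hom hT hE hψ le_sup_right rfl
    obtain ⟨hxS, hxc⟩ := mem_preimg.1 hx
    have h1 := induced_apply hind (Subgroup.inclusion le_sup_left x) (hP := hxS)
      (hφ := apply_mem_S hψ _) (hP' := apply_mem_img (ι := θ) (x := ⟨x, hxS⟩) (Subgroup.mem_sup_left x.2))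
    rw [isCentral_fix hEc hφ' _ hxc] at h1
    obtain ⟨z, hz, hzx⟩ := hmod ⟨_, apply_mem_S hψ _⟩ ⟨x, hxS⟩ h1.symm
    exact ⟨z, hz, (he x).symm.trans hzx⟩
  -- the commutator with an element of `Q` is invariant
  have hinvar : ∀ (x : Ω), x ∈ Q → ∀ (P : Subgroup Ω), P ≤ S → ∀ α : MulAut P, α ∈ F.autGroup P →
      ∀ y : P, x * ((y : Ω)⁻¹ * (α y : P)) = ((y : Ω)⁻¹ * (α y : P)) * x := by
    intro x hxQ P hP α hα y
    obtain ⟨hxS, hxc⟩ := mem_preimg.1 hxQ
    obtain ⟨ψ₁, hψ₁, he₁, -⟩ := hZc.2 P _ ((autGroup_carrier hP).1 hα)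
    obtain ⟨φ', hφ', hind⟩ := exists_factor_hom hT hE hψ₁ le_sup_right rfl
    obtain ⟨ψ', hψ', he', hfix'⟩ := hEc.2 _ φ' hφ'
    obtain ⟨ψ, hψ, hind2⟩ := exists_lift_hom hE hψ'
    have hxW : x ∈ preimg θ (img θ (P ⊔ F.center) ⊔ E.center) :=
      mem_preimg.2 ⟨hxS, Subgroup.mem_sup_right hxc⟩
    have hyI : θ ⟨y, hP y.2⟩ ∈ img θ (P ⊔ F.center) :=
      apply_mem_img (ι := θ) (x := ⟨y, hP y.2⟩) (Subgroup.mem_sup_left y.2)
    have hyW : (y : Ω) ∈ preimg θ (img θ (P ⊔ F.center) ⊔ E.center) :=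
      mem_preimg.2 ⟨hP y.2, Subgroup.mem_sup_left hyI⟩
    -- the image of `x`
    have hx1 := induced_apply hind2 ⟨x, hxW⟩ (hP := hxS) (hφ := apply_mem_S hψ _)
      (hP' := Subgroup.mem_sup_right hxc)
    rw [show (⟨θ ⟨x, hxS⟩, Subgroup.mem_sup_right hxc⟩ :
        ↥(img θ (P ⊔ F.center) ⊔ E.center)) =
        Subgroup.inclusion le_sup_right (⟨θ ⟨x, hxS⟩, hxc⟩ : E.center) from rfl, hfix'] at hx1
    obtain ⟨z₁, hz₁, hψx⟩ := hmod ⟨_, apply_mem_S hψ _⟩ ⟨x, hxS⟩ hx1.symm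
    -- the image of `y`
    have hy1 := induced_apply hind2 ⟨y, hyW⟩ (hP := hP y.2) (hφ := apply_mem_S hψ _)
      (hP' := Subgroup.mem_sup_left hyI)
    rw [show (⟨θ ⟨y, hP y.2⟩, Subgroup.mem_sup_left hyI⟩ :
        ↥(img θ (P ⊔ F.center) ⊔ E.center)) =
        Subgroup.inclusion le_sup_left (⟨θ ⟨y, hP y.2⟩, hyI⟩ : img θ (P ⊔ F.center)) from rfl,
      he'] at hy1
    have hy2 := induced_apply hind (Subgroup.inclusion le_sup_left y) (hP := hP y.2)
      (hφ := apply_mem_S hψ₁ _) (hP' := hyI)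
    replace hy1 := hy2.symm.trans hy1
    obtain ⟨z₂, hz₂, hψy⟩ := hmod ⟨_, apply_mem_S hψ _⟩ ⟨_, apply_mem_S hψ₁ _⟩ hy1.symm
    have hey : ψ₁ (Subgroup.inclusion le_sup_left y) = ((α y : P) : Ω) := he₁ y
    rw [show ((⟨ψ₁ (Subgroup.inclusion le_sup_left y), apply_mem_S hψ₁ _⟩ : S) : Ω) =
      ((α y : P) : Ω) from hey] at hψy
    change ψ ⟨x, hxW⟩ = z₁ * x at hψx
    change ψ ⟨y, hyW⟩ = z₂ * ((α y : P) : Ω) at hψy
    -- the commutator is a central element
    set w := x * (y : Ω) * x⁻¹ * (y : Ω)⁻¹ with hw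
    have hwZ : w ∈ F.center := by
      obtain ⟨z, hz, hzx⟩ := hmove (F.conj_mem le_rfl (hP y.2)) ⟨x, hxS⟩ hxQ
      change (y : Ω) * x * (y : Ω)⁻¹ = z * x at hzx
      have : w = z⁻¹ := by
        have e : w = x * ((y : Ω) * x * (y : Ω)⁻¹)⁻¹ := by rw [hw]; group
        rw [e, hzx]; group
      rw [this]; exact inv_mem hz
    have hwW : w ∈ preimg θ (img θ (P ⊔ F.center) ⊔ E.center) :=
      ker_le_preimg hZS hk _ hwZ
    have hψw : ψ ⟨w, hwW⟩ = w := isCentral_fix hZc hψ ⟨w, hwW⟩ hwZ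
    have hsplit : (⟨w, hwW⟩ : ↥(preimg θ (img θ (P ⊔ F.center) ⊔ E.center))) =
        ⟨x, hxW⟩ * ⟨y, hyW⟩ * ⟨x, hxW⟩⁻¹ * ⟨y, hyW⟩⁻¹ := Subtype.ext rfl
    rw [hsplit, map_mul, map_mul, map_mul, map_inv, map_inv, hψx, hψy] at hψw
    set a := ((α y : P) : Ω) with ha
    have haS : a ∈ S := hP (α y).2
    have h3 : x * a * x⁻¹ * a⁻¹ = w := by
      calc x * a * x⁻¹ * a⁻¹ = x * (z₂ * a) * x⁻¹ * (z₂ * a)⁻¹ := by
            rw [show x * (z₂ * a) = z₂ * (x * a) by rw [← mul_assoc, hcomm z₂ hz₂ x hxS, mul_assoc],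
              mul_inv_rev, ← mul_assoc (z₂ * (x * a) * x⁻¹)]
            have h5 : x * a * x⁻¹ * a⁻¹ ∈ S := mul_mem (mul_mem (mul_mem hxS haS) (inv_mem hxS)) (inv_mem haS)
            have h6 := hcomm z₂ hz₂ _ h5
            rw [show z₂ * (x * a) * x⁻¹ * a⁻¹ * z₂⁻¹ = z₂ * (x * a * x⁻¹ * a⁻¹) * z₂⁻¹ by group, ← h6]
            group
        _ = z₁ * x * (z₂ * a) * (z₁ * x)⁻¹ * (z₂ * a)⁻¹ := by
            have h7 : x * (z₂ * a) * x⁻¹ ∈ S :=
              mul_mem (mul_mem hxS (mul_mem (hZS hz₂) haS)) (inv_mem hxS)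
            have h8 := hcomm z₁ hz₁ _ h7
            rw [show z₁ * x * (z₂ * a) * (z₁ * x)⁻¹ = z₁ * (x * (z₂ * a) * x⁻¹) * z₁⁻¹ by group,
              ← h8]
            group
        _ = w := hψw
    calc x * ((y : Ω)⁻¹ * a) = x * (y : Ω)⁻¹ * x⁻¹ * (x * a * x⁻¹ * a⁻¹) * a * x := by group
      _ = x * (y : Ω)⁻¹ * x⁻¹ * w * a * x := by rw [h3]
      _ = ((y : Ω)⁻¹ * a) * x := by rw [hw]; group
  -- `Q` is centralized by `S`
  have hQcen : ∀ x ∈ Q, ∀ s ∈ S, s * x = x * s := by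
    intro x hx
    have hle : F.hyperfocalSubgroup p ≤ Subgroup.centralizer ({x} : Set Ω) := by
      rw [hyperfocalSubgroup, Subgroup.closure_le]
      rintro _ ⟨P, α, y, hP, -, rfl⟩
      exact Subgroup.mem_centralizer_singleton_iff.2 (hinvar x hx P hP α α.2 y).symm
    rw [hperf] at hle
    exact fun s hs => Subgroup.mem_centralizer_singleton_iff.1 (hle hs)
  have hQcl : F.StronglyClosed Q := ⟨hQS, fun R hR φ hφ x => by
    obtain ⟨z, hz, hzx⟩ := hmove hφ x (hR x.2)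
    rw [hzx]
    exact mul_mem (ker_le_preimg hZS hk _ hz) (hR x.2)⟩
  have hab : IsMulCommutative Q :=
    ⟨⟨fun a b => Subtype.ext (hQcen b b.2 a (hQS a.2))⟩⟩
  have hQn : F.IsNormal Q := isNormal_of_abelian p hS hF hQcl hab
  have hQnorm := normal_S_le_normalizer hQn
  have hQfn : F.IsFullyNormalized Q := ⟨hQS, fun U _ => by
    have e : normalizerIn S Q = S := le_antisymm (normalizerIn_le_S Q) fun y hy => ⟨hy, hQnorm hy⟩
    rw [e]
    exact card_le_of_le le_rfl (normalizerIn_le_S U)⟩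
  obtain ⟨⟨-, R, hR⟩, -⟩ := good_of_fullyNormalized p hS hF hQfn
  haveI : Finite Q := finite_of_le hQS
  haveI : Finite (MulAut Q) := Finite.of_injective _ DFunLike.coe_injective
  have hRbot : (R : Subgroup (F.autGroup Q)) = ⊥ := by
    rw [hR, eq_bot_iff]
    intro β hβ
    obtain ⟨s, hs, he⟩ := mem_autInducedBy.1 (Subgroup.mem_subgroupOf.1 hβ)
    refine Subgroup.mem_bot.2 (Subtype.ext (MulEquiv.ext fun x => Subtype.ext ?_))
    rw [he x, hQcen x x.2 s hs, mul_inv_cancel_right]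
    rfl
  have hcop : ¬ p ∣ Nat.card (F.autGroup Q) := by
    have h := R.not_dvd_index
    rwa [hRbot, Subgroup.index_bot] at h
  -- every automorphism fixes `Q`
  have hfix : ∀ α ∈ F.autGroup Q, ∀ x : Q, α x = x := by
    intro α hα x
    obtain ⟨z, hz, hzx⟩ := hmove ((autGroup_carrier hQS).1 hα) x x.2
    change ((α x : Q) : Ω) = z * x at hzx
    let z' : Q := ⟨z, ker_le_preimg hZS hk _ hz⟩
    have hax : α x = z' * x := Subtype.ext hzx
    have haz : α z' = z' := Subtype.ext (isCentral_fix hZc ((autGroup_carrier hQS).1 hα) z' hz)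
    have hpow : ∀ n : ℕ, (α ^ n) x = z' ^ n * x := by
      intro n
      induction n with
      | zero => simp
      | succ n ih =>
        rw [pow_succ', MulAut.mul_apply, ih, map_mul, map_pow, haz, hax, pow_succ, mul_assoc]
    have h1 : α ^ Nat.card (F.autGroup Q) = 1 :=
      congrArg Subtype.val (pow_card_eq_one' (x := (⟨α, hα⟩ : F.autGroup Q)))
    have h2 : z' ^ Nat.card (F.autGroup Q) = 1 := by
      have h := hpow (Nat.card (F.autGroup Q))
      rw [h1] at h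
      simpa using h
    obtain ⟨k, hk'⟩ := isPGroup_of_le hS hQS z'
    have h3 : z' = 1 := by
      have hco : (Nat.card (F.autGroup Q)).Coprime (p ^ k) :=
        (((Fact.out : p.Prime).coprime_iff_not_dvd).2 hcop).symm.pow_right k
      rw [← orderOf_eq_one_iff]
      exact Nat.eq_one_of_dvd_coprimes hco (orderOf_dvd_of_pow_eq_one h2)
        (orderOf_dvd_of_pow_eq_one hk')
    rw [hax, h3, one_mul]
  have hQcent : F.IsCentral Q := isCentral_of_fixed p hS hF hQS fun x hx y hy => by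
    obtain ⟨φ, hφ, rfl⟩ := hy
    obtain ⟨ψ, hψ, he, hmap⟩ := hQn.2 _ φ hφ
    have hr : (ψ.comp (Subgroup.inclusion
        (le_sup_right : Q ≤ Subgroup.zpowers x ⊔ Q))).range = Q := by
      rw [← MonoidHom.map_range, Subgroup.inclusion_range]
      exact hmap
    have hm' := restrict_mem hψ (le_sup_right : Q ≤ Subgroup.zpowers x ⊔ Q)
    have h1 : ψ (Subgroup.inclusion le_sup_right (⟨x, hx⟩ : Q)) = x :=
      congrArg Subtype.val (hfix _ (autOfRange_mem hm' hr) ⟨x, hx⟩)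
    rw [← he]
    exact (apply_congr ψ rfl).trans h1
  have hQZ : Q ≤ F.center := le_center hQcent
  rw [eq_bot_iff]
  intro e he
  obtain ⟨s, rfl⟩ := hE.2.2.1.ge (Subgroup.mem_top e)
  exact Subgroup.mem_bot.2 ((hk s).2 (hQZ (mem_preimg.2 ⟨s.2, he⟩)))

end CfsgLib.Fusion
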