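import Cfsg.Agent.Fusion.ClosedProduct
import Cfsg.Agent.Fusion.ModelGroup
import Cfsg.Agent.AutPSL.Unipotent

/-!
Saturated fusion systems over a group resembling the unitriangular group of degree three: a nontrivial
core forces a normal centric subgroup.
-/

set_option autoImplicit false

open Cfsg Cfsg.FusionSystem

namespace CfsgLib.Fusion.Heis

universe u

variable {Ω : Type u} [Group Ω]

/-- The properties of the unitriangular group of degree three, `Z` being its centre. -/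
structure Like (S Z : Subgroup Ω) : Prop where
  mem_iff : ∀ z, z ∈ Z ↔ z ∈ S ∧ ∀ s ∈ S, s * z = z * s
  comm_mem : ∀ x ∈ S, ∀ y ∈ S, x * y * x⁻¹ * y⁻¹ ∈ Z
  abel : ∀ x ∈ S, x ∉ Z → ∀ a ∈ S, ∀ b ∈ S, x * a = a * x → x * b = b * x → a * b = b * a
  surj : ∀ x ∈ S, x ∉ Z → ∀ z ∈ Z, ∃ s ∈ S, s * x * s⁻¹ * x⁻¹ = z

variable {S Z : Subgroup Ω} {F : FusionSystem S} [Finite S]

omit [Finite S] in
theorem Like.le (H : Like S Z) : Z ≤ S := fun _ hz => ((H.mem_iff _).1 hz).1

omit [Finite S] in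
theorem Like.comm (H : Like S Z) {z s : Ω} (hz : z ∈ Z) (hs : s ∈ S) : s * z = z * s :=
  ((H.mem_iff _).1 hz).2 s hs

/-- A normal subgroup containing its centralizer is centric. -/
theorem isCentric_of_normal {Q : Subgroup Ω} (hQ : F.IsNormal Q) (hc : centralizerIn S Q ≤ Q) :
    F.IsCentric Q := by
  refine ⟨hQ.1, ?_⟩
  rintro R ⟨φ, hφ, rfl⟩
  rw [(weaklyClosed_of_stronglyClosed (stronglyClosed_of_isNormal hQ)).2 φ hφ]
  exact hc

theorem centric_Z_le {P : Subgroup Ω} (H : Like S Z) (hc : F.IsCentric P) : Z ≤ P := fun z hz =>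
  hc.2 P (isConj_refl hc.1) (mem_centralizerIn.2 ⟨H.le hz, fun _ hx => H.comm hz (hc.1 hx)⟩)

theorem normal_in_S {P : Subgroup Ω} (H : Like S Z) (hPS : P ≤ S) (hZ : Z ≤ P) :
    S ≤ normalizerIn S P := fun s hs => ⟨hs, mem_normalizer_of_conj_mem hPS fun x hx => by
  have h1 := P.mul_mem (hZ (H.comm_mem s hs x (hPS hx))) hx
  rwa [inv_mul_cancel_right] at h1⟩

/-- There are no essential subgroups next to a nontrivial central strongly closed subgroup. -/
theorem not_essential (p : ℕ) [Fact p.Prime] (hS : IsPGroup p S) (hF : F.IsSaturated p)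
    (H : Like S Z) {P Q : Subgroup Ω} (hQ : F.StronglyClosed Q) (hQne : Q ≠ ⊥) (hQZ : Q ≤ Z)
    (hP : F.IsEssential p P) : False := by
  classical
  have hPS : P ≤ S := hP.1.1
  have := finite_of_le hPS
  have : Finite (MulAut P) := finite_mulAut
  have hZ : Z ≤ P := centric_Z_le H hP.1
  set A := F.autGroup P
  obtain ⟨⟨-, R, hR⟩, -⟩ := good_of_fullyNormalized p hS hF hP.2.1
  set Zp := Z.subgroupOf P with hZp
  have hU : ∀ r ∈ (R : Subgroup A), ∀ x : P, x⁻¹ * (r : MulAut P) x ∈ Zp ∧ (x ∈ Zp → (r : MulAut P) x = x) := by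
    intro r hr x
    rw [hR, Subgroup.mem_subgroupOf] at hr
    obtain ⟨g, hg, he⟩ := mem_autInducedBy.1 hr
    refine ⟨?_, fun hx => Subtype.ext ?_⟩
    · show (x : Ω)⁻¹ * (((r : MulAut P) x : P) : Ω) ∈ Z
      have h1 := H.comm_mem _ (S.inv_mem (hPS x.2)) g hg
      rw [inv_inv] at h1
      rw [he]
      simpa [mul_assoc] using h1
    · rw [he, H.comm (Subgroup.mem_subgroupOf.1 hx) hg, mul_inv_cancel_right]
  let M : Subgroup A :=
    { carrier := {a | ∀ x : P, x⁻¹ * (a : MulAut P) x ∈ Zp ∧ (x ∈ Zp → (a : MulAut P) x = x)}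
      one_mem' := fun x => ⟨by simp, fun _ => rfl⟩
      mul_mem' := fun {a b} ha hb x => by
        refine ⟨?_, fun hx => ?_⟩
        · have h1 := Zp.mul_mem (hb x).1 (ha ((b : MulAut P) x)).1
          rw [mul_assoc, mul_inv_cancel_left] at h1
          exact h1
        · show (a : MulAut P) ((b : MulAut P) x) = x
          rw [(hb x).2 hx, (ha x).2 hx]
      inv_mem' := fun {a} ha x => by
        refine ⟨?_, fun hx => ?_⟩
        · have h1 := Zp.inv_mem (ha ((a : MulAut P)⁻¹ x)).1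
          rw [MulAut.apply_inv_self, _root_.mul_inv_rev, inv_inv] at h1
          exact h1
        · exact (a : MulAut P).injective
            ((MulAut.apply_inv_self P (a : MulAut P) x).trans ((ha x).2 hx).symm) }
  have hMp : IsPGroup p M := by
    intro a
    obtain ⟨k, hk⟩ := exists_pow_fix (hS.to_le hPS) ((a : A) : MulAut P) (m := 1) ![Zp, ⊤]
      (fun i x hx => by
        fin_cases i
        · show ((a : A) : MulAut P) x ∈ Zp
          rw [(a.2 x).2 hx]; exact hx
        · trivial)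
      (fun i x _ => by fin_cases i; exact (a.2 x).1)
      ⟨0, fun x hx => by rw [pow_zero, pow_one]; exact (a.2 x).2 hx⟩ 1
    exact ⟨k, Subtype.ext (Subtype.ext (MulEquiv.ext fun x => hk x trivial))⟩
  have hMR : M = (R : Subgroup A) := R.3 hMp hU
  have hRconj : ∀ b : A, (∀ x, x ∈ Zp ↔ (b : MulAut P) x ∈ Zp) → ∀ m ∈ M, b * m * b⁻¹ ∈ M := by
    intro b hb m hm x
    refine ⟨?_, fun hx => ?_⟩
    · have h1 := (hb _).1 (hm ((b : MulAut P)⁻¹ x)).1
      rwa [map_mul, map_inv, MulAut.apply_inv_self] at h1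
    · show (b : MulAut P) ((m : MulAut P) ((b : MulAut P)⁻¹ x)) = x
      have h1 : (b : MulAut P)⁻¹ x ∈ Zp := (hb _).2 (by rwa [MulAut.apply_inv_self])
      rw [(hm _).2 h1, MulAut.apply_inv_self]
  set img : A → Subgroup P := fun a => Zp.map (a : MulAut P).toMonoidHom
  have hfixed : ∀ b : A, img b = Zp → ∀ x, x ∈ Zp ↔ (b : MulAut P) x ∈ Zp := fun b hb x =>
    ⟨fun hx => hb.le ⟨x, hx, rfl⟩, fun hx => by
      obtain ⟨y, hy, e⟩ := hb.ge hx
      exact (b : MulAut P).injective e ▸ hy⟩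
  have hPel : ∀ b : A, img b = Zp → (∃ k, b ^ p ^ k = 1) → b ∈ M := by
    intro b hb hk
    have hz : IsPGroup p (Subgroup.zpowers b) := by
      obtain ⟨k, hk⟩ := hk
      obtain ⟨j, -, hj⟩ := (Nat.dvd_prime_pow Fact.out).1 (orderOf_dvd_of_pow_eq_one hk)
      exact IsPGroup.of_card (n := j) (by rw [Nat.card_zpowers, hj])
    have hbN : b ∈ Subgroup.normalizer (M : Set A) := by
      rw [Subgroup.mem_normalizer_iff]
      refine fun m => ⟨hRconj b (hfixed b hb) m, fun hm => ?_⟩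
      have hinv : ∀ x, x ∈ Zp ↔ ((b⁻¹ : A) : MulAut P) x ∈ Zp := fun x => by
        rw [hfixed b hb (((b⁻¹ : A) : MulAut P) x)]
        show _ ↔ (b : MulAut P) ((b : MulAut P)⁻¹ x) ∈ Zp
        rw [MulAut.apply_inv_self]
      have h1 := hRconj b⁻¹ hinv _ hm
      rwa [show b⁻¹ * (b * m * b⁻¹) * b⁻¹⁻¹ = m by group] at h1
    rw [hMR] at hbN ⊢
    rw [← R.3 (IsPGroup.to_sup_of_normal_right' hz R.2 (Subgroup.zpowers_le.2 hbN)) le_sup_right]
    exact Subgroup.mem_sup_left (Subgroup.mem_zpowers b)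
  by_cases hall : ∀ a : A, img a = Zp
  · refine not_essential_of_normal_sylow p hP R ?_
    rw [← hMR]
    exact ⟨fun m hm b => hRconj b (hfixed b (hall b)) m hm⟩
  -- a moved image meeting the centre as much as possible
  push Not at hall
  have := Fintype.ofFinite A
  obtain ⟨a, haB, hamax⟩ := Finset.exists_max_image (Finset.univ.filter fun a : A => img a ≠ Zp)
    (fun a => Nat.card ↥(Zp ⊓ img a))
    (by obtain ⟨a, ha⟩ := hall; exact ⟨a, by simp [ha]⟩)
  replace haB : img a ≠ Zp := (Finset.mem_filter.1 haB).2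
  obtain ⟨v, hv, hvZ⟩ : ∃ v ∈ img a, v ∉ Zp := by
    by_contra h
    push Not at h
    exact haB (Subgroup.eq_of_le_of_card_ge h
      (le_of_eq (Subgroup.card_map_of_injective (a : MulAut P).injective).symm))
  obtain ⟨w, hw, hw1⟩ : ∃ w ∈ Zp ⊓ img a, w ≠ 1 := by
    obtain ⟨q, hq, hq1⟩ : ∃ q ∈ Q, q ≠ 1 := by
      by_contra h
      push Not at h
      exact hQne ((Subgroup.eq_bot_iff_forall _).2 h)
    refine ⟨(a : MulAut P) ⟨q, hZ (hQZ hq)⟩,
      ⟨hQZ (le_of_stronglyClosed_aut hQ hPS a.2 ⟨q, hZ (hQZ hq)⟩ hq), ⟨_, hQZ hq, rfl⟩⟩, ?_⟩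
    intro h
    exact hq1 (congrArg Subtype.val ((a : MulAut P).injective (h.trans (map_one _).symm)))
  obtain ⟨s, hs, hse⟩ := H.surj v (hPS v.2) hvZ (w : Ω) hw.1
  have hsN := normal_in_S H hPS hZ hs
  let u : A := ⟨conjAut S P ⟨s, hsN⟩,
    autInducedBy_le_autGroup hPS (mem_autInducedBy.2 ⟨s, hs, fun _ => rfl⟩)⟩
  have hu : u ∈ (R : Subgroup A) := by
    rw [hR, Subgroup.mem_subgroupOf]
    exact mem_autInducedBy.2 ⟨s, hs, fun _ => rfl⟩
  have huv : (u : MulAut P) v = w * v := Subtype.ext (by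
    show s * (v : Ω) * s⁻¹ = (w : Ω) * v
    rw [← hse, inv_mul_cancel_right])
  set b : A := a⁻¹ * u * a with hb
  have hbp : ∃ k, b ^ p ^ k = 1 := by
    obtain ⟨k, hk⟩ := R.2 ⟨u, hu⟩
    refine ⟨k, ?_⟩
    rw [hb, show a⁻¹ * u * a = a⁻¹ * u * a⁻¹⁻¹ by rw [inv_inv], conj_pow,
      show u ^ p ^ k = 1 from congrArg Subtype.val hk, mul_one, mul_inv_cancel]
  obtain ⟨v0, hv0, rfl⟩ := hv
  by_cases hbZ : img b = Zp
  · have h1 := ((hPel b hbZ hbp) v0).2 hv0
    apply hw1
    have h2 := congrArg (a : MulAut P) h1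
    simp only [hb, Subgroup.coe_mul, Subgroup.coe_inv, MulAut.mul_apply, MulAut.apply_inv_self] at h2
    exact mul_eq_right.1 (huv.symm.trans h2)
  · have hmax := hamax b (by simp [hbZ])
    have hle : Zp ⊓ img a < (Zp ⊓ img b).map (a : MulAut P).toMonoidHom := by
      refine lt_of_le_of_ne (fun x hx => ?_) fun he => ?_
      · obtain ⟨y, hy, rfl⟩ := hx.2
        refine ⟨y, ⟨hy, ⟨y, hy, ?_⟩⟩, rfl⟩
        refine (a : MulAut P).injective ?_
        show (a : MulAut P) ((b : MulAut P) y) = (a : MulAut P) y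
        simp only [hb, Subgroup.coe_mul, Subgroup.coe_inv, MulAut.mul_apply, MulAut.apply_inv_self]
        exact (hU u hu _).2 hx.1
      · obtain ⟨w0, hw0, rfl⟩ := hw.2
        have hmem : (a : MulAut P).toMonoidHom w0 * (a : MulAut P).toMonoidHom v0 ∈
            (Zp ⊓ img b).map (a : MulAut P).toMonoidHom := by
          refine ⟨w0 * v0, ⟨Zp.mul_mem hw0 hv0, ⟨v0, hv0, ?_⟩⟩, map_mul _ _ _⟩
          refine (a : MulAut P).injective ?_
          show (a : MulAut P) ((b : MulAut P) v0) = (a : MulAut P) (w0 * v0)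
          simp only [hb, Subgroup.coe_mul, Subgroup.coe_inv, MulAut.mul_apply, MulAut.apply_inv_self]
          exact huv.trans (map_mul _ _ _).symm
        rw [← he] at hmem
        exact hvZ ((Zp.mul_mem_cancel_left hw.1).1 hmem.1)
    have h1 : Nat.card ↥(Zp ⊓ img a) < Nat.card ↥((Zp ⊓ img b).map (a : MulAut P).toMonoidHom) := by
      by_contra h
      exact hle.ne (Subgroup.eq_of_le_of_card_ge hle.le (not_lt.1 h))
    rw [Subgroup.card_map_of_injective (a : MulAut P).injective] at h1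
    omega

/-- **The dichotomy**: a nontrivial core gives a normal centric subgroup. -/
theorem exists_normal_centric (p : ℕ) [Fact p.Prime] (hS : IsPGroup p S) (hF : F.IsSaturated p)
    (H : Like S Z) (hne : F.core ≠ ⊥) : ∃ Q, F.IsNormal Q ∧ F.IsCentric Q := by
  have hQ : F.IsNormal F.core := isNormal_core
  have hQsc := stronglyClosed_of_isNormal hQ
  by_cases hQZ : F.core ≤ Z
  · have hnoess : ∀ P : Subgroup Ω, ¬ F.IsEssential p P := fun P hP =>
      not_essential p hS hF H hQsc hne hQZ hP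
    have hSn : F.IsNormal S := isNormal_of_essential p hS hF
      (fun P hP => hP.elim (fun e => e.ge) fun h => absurd h (hnoess P))
      fun P hP α _ x _ => hP.elim (fun e => e.le (α x).2) fun h => absurd h (hnoess P)
    exact ⟨S, hSn, isCentric_of_normal hSn inf_le_left⟩
  · obtain ⟨x, hx, hxZ⟩ := SetLike.not_le_iff_exists.1 hQZ
    refine ⟨F.core, hQ, isCentric_of_normal hQ fun c hc => ?_⟩
    obtain ⟨hcS, hcQ⟩ := mem_centralizerIn.1 hc
    by_cases hcZ : c ∈ Z
    · obtain ⟨s, hs, rfl⟩ := H.surj x (hQ.1 hx) hxZ c hcZ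
      exact Subgroup.mul_mem _ (conj_mem_of_stronglyClosed hQsc hs hx) (Subgroup.inv_mem _ hx)
    have hab : IsMulCommutative ↥(F.core ⊔ centralizerIn S F.core) := by
      rw [Subgroup.sup_eq_closure]
      refine Subgroup.isMulCommutative_closure ?_
      rintro a (ha | ha) b (hb | hb)
      · exact H.abel c hcS hcZ a (hQ.1 ha) b (hQ.1 hb) (hcQ a ha).symm (hcQ b hb).symm
      · exact (mem_centralizerIn.1 hb).2 a ha
      · exact ((mem_centralizerIn.1 ha).2 b hb).symm
      · exact H.abel x (hQ.1 hx) hxZ a (mem_centralizerIn.1 ha).1 b (mem_centralizerIn.1 hb).1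
          ((mem_centralizerIn.1 ha).2 x hx) ((mem_centralizerIn.1 hb).2 x hx)
    exact le_core (isNormal_of_abelian p hS hF (stronglyClosed_sup_centralizer p hS hF hQsc) hab)
      (le_sup_right (α := Subgroup Ω) hc)

/-! ### The unitriangular group -/

/-- The properties, intrinsic. -/
structure LikeGrp (G : Type*) [Group G] : Prop where
  comm_mem : ∀ x y : G, x * y * x⁻¹ * y⁻¹ ∈ Subgroup.center G
  abel : ∀ x : G, x ∉ Subgroup.center G → ∀ a b : G, x * a = a * x → x * b = b * x → a * b = b * a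
  surj : ∀ x : G, x ∉ Subgroup.center G → ∀ z ∈ Subgroup.center G, ∃ s, s * x * s⁻¹ * x⁻¹ = z

theorem LikeGrp.of_equiv {G G' : Type*} [Group G] [Group G'] (h : LikeGrp G') (e : G ≃* G') :
    LikeGrp G := by
  have hc : ∀ x : G, e x ∈ Subgroup.center G' ↔ x ∈ Subgroup.center G := fun x => by
    rw [Subgroup.mem_center_iff, Subgroup.mem_center_iff]
    exact ⟨fun h g => e.injective (by rw [map_mul, map_mul]; exact h _), fun h g => by
      obtain ⟨g, rfl⟩ := e.surjective g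
      rw [← map_mul, ← map_mul, h]⟩
  refine ⟨fun x y => (hc _).1 ?_, fun x hx a b ha hb => e.injective ?_, fun x hx z hz => ?_⟩
  · simpa [map_mul, map_inv] using h.comm_mem (e x) (e y)
  · rw [map_mul, map_mul]
    exact h.abel (e x) (fun h' => hx ((hc x).1 h')) _ _ (by rw [← map_mul, ha, map_mul])
      (by rw [← map_mul, hb, map_mul])
  · obtain ⟨s, hs⟩ := h.surj (e x) (fun h' => hx ((hc x).1 h')) (e z) ((hc z).2 hz)
    obtain ⟨s, rfl⟩ := e.surjective s
    exact ⟨s, e.injective (by simpa [map_mul, map_inv] using hs)⟩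

theorem like_of_likeGrp {S : Subgroup Ω} (h : LikeGrp S) :
    Like S ((Subgroup.center S).map S.subtype) where
  mem_iff z := by
    constructor
    · rintro ⟨z, hz, rfl⟩
      exact ⟨z.2, fun s hs => congrArg Subtype.val (Subgroup.mem_center_iff.1 hz ⟨s, hs⟩)⟩
    · rintro ⟨hz, hc⟩
      exact ⟨⟨z, hz⟩, Subgroup.mem_center_iff.2 fun s => Subtype.ext (hc s s.2), rfl⟩
  comm_mem x hx y hy := ⟨_, h.comm_mem ⟨x, hx⟩ ⟨y, hy⟩, rfl⟩
  abel x hx hxZ a ha b hb e1 e2 := congrArg Subtype.val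
    (h.abel ⟨x, hx⟩ (fun hc => hxZ ⟨_, hc, rfl⟩) ⟨a, ha⟩ ⟨b, hb⟩ (Subtype.ext e1) (Subtype.ext e2))
  surj x hx hxZ z hz := by
    obtain ⟨z, hz, rfl⟩ := hz
    obtain ⟨s, hs⟩ := h.surj ⟨x, hx⟩ (fun hc => hxZ ⟨_, hc, rfl⟩) z hz
    exact ⟨s, s.2, congrArg Subtype.val hs⟩

open AutPSL in
/-- The unitriangular group of degree three. -/
theorem likeGrp_unitri (K : Type*) [Field K] [Finite K] : LikeGrp ↥(unitriSL K 3) := by
  let M : ↥(unitriSL K 3) → Matrix (Fin 3) (Fin 3) K := fun x =>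
    ((x : Matrix.SpecialLinearGroup (Fin 3) K) : Matrix (Fin 3) (Fin 3) K)
  let a : ↥(unitriSL K 3) → K := fun x => M x 0 1
  let b : ↥(unitriSL K 3) → K := fun x => M x 1 2
  let c : ↥(unitriSL K 3) → K := fun x => M x 0 2
  have hext : ∀ x y, a x = a y → b x = b y → c x = c y → x = y := fun x y h1 h2 h3 =>
    Subtype.ext (Subtype.ext (Matrix.ext fun i j => by
      rcases lt_trichotomy i j with h | h | h
      · fin_cases i <;> fin_cases j <;> first | exact h1 | exact h2 | exact h3 | exact absurd h (by decide)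
      · subst h; exact (x.2.1 i).trans (y.2.1 i).symm
      · exact (x.2.2 i j h).trans (y.2.2 i j h).symm))
  have hz : ∀ (x : ↥(unitriSL K 3)), M x 0 0 = 1 ∧ M x 1 1 = 1 ∧ M x 2 2 = 1 ∧ M x 1 0 = 0 ∧
      M x 2 0 = 0 ∧ M x 2 1 = 0 := fun x =>
    ⟨x.2.1 0, x.2.1 1, x.2.1 2, x.2.2 1 0 (by decide), x.2.2 2 0 (by decide), x.2.2 2 1 (by decide)⟩
  have hmul : ∀ x y, a (x * y) = a x + a y ∧ b (x * y) = b x + b y ∧
      c (x * y) = c x + c y + a x * b y := by
    intro x y
    obtain ⟨x1, x2, x3, x4, x5, x6⟩ := hz x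
    obtain ⟨y1, y2, y3, y4, y5, y6⟩ := hz y
    have h : M (x * y) = M x * M y := rfl
    refine ⟨?_, ?_, ?_⟩ <;> simp only [a, b, c, h, Matrix.mul_apply, Fin.sum_univ_three] <;>
      simp only [x1, x2, x4, x6, y1, y2, y3, y4, y5, y6] <;> ring
  have hcomm : ∀ x y, x * y = y * x ↔ a x * b y = a y * b x := by
    intro x y
    obtain ⟨h1, h2, h3⟩ := hmul x y
    obtain ⟨g1, g2, g3⟩ := hmul y x
    constructor
    · intro e
      have := congrArg c e
      rw [h3, g3] at this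
      linear_combination this
    · intro e
      refine hext _ _ (by rw [h1, g1, add_comm]) (by rw [h2, g2, add_comm]) ?_
      rw [h3, g3]; linear_combination e
  have hmk : ∀ u v w : K, ∃ x, a x = u ∧ b x = v ∧ c x = w := by
    intro u v w
    refine ⟨⟨⟨!![1, u, w; 0, 1, v; 0, 0, 1], by simp [Matrix.det_fin_three]⟩, ?_, ?_⟩, rfl, rfl, rfl⟩
    · intro i; fin_cases i <;> rfl
    · intro i j h
      fin_cases i <;> fin_cases j <;> first | rfl | exact absurd h (by decide)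
  have hcen : ∀ x, x ∈ Subgroup.center ↥(unitriSL K 3) ↔ a x = 0 ∧ b x = 0 := by
    intro x
    rw [Subgroup.mem_center_iff]
    constructor
    · intro h
      obtain ⟨y, y1, y2, -⟩ := hmk 1 0 0
      obtain ⟨z, z1, z2, -⟩ := hmk 0 1 0
      have e1 := (hcomm y x).1 (h y)
      have e2 := (hcomm z x).1 (h z)
      rw [y1, y2, one_mul, mul_zero] at e1
      rw [z1, z2, zero_mul, mul_one] at e2
      exact ⟨e2.symm, e1⟩
    · rintro ⟨h1, h2⟩ y
      rw [hcomm, h1, h2]; ring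
  refine ⟨fun x y => ?_, fun x hx u v hu hv => ?_, fun x hx z hz => ?_⟩
  · rw [hcen]
    have hinv : ∀ t, a t⁻¹ = - a t ∧ b t⁻¹ = - b t := fun t => by
      obtain ⟨h1, h2, -⟩ := hmul t t⁻¹
      obtain ⟨g1, g2, -⟩ := hmul 1 1
      rw [mul_inv_cancel] at h1 h2
      rw [one_mul] at g1 g2
      exact ⟨by linear_combination -h1 - g1, by linear_combination -h2 - g2⟩
    simp only [(hmul _ _).1, (hmul _ _).2.1, (hinv _).1, (hinv _).2]
    exact ⟨by ring, by ring⟩
  · rw [hcomm] at hu hv ⊢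
    rw [hcen, not_and] at hx
    by_cases h : a x = 0
    · have hb := hx h
      rw [h, zero_mul] at hu hv
      simp [(mul_eq_zero.1 hu.symm).resolve_right hb, (mul_eq_zero.1 hv.symm).resolve_right hb]
    · refine mul_left_cancel₀ h ?_
      linear_combination (a u) * hv - (a v) * hu
  · obtain ⟨hz1, hz2⟩ := (hcen z).1 hz
    obtain ⟨u, v, huv⟩ : ∃ u v : K, u * b x - a x * v = c z := by
      rw [hcen, not_and] at hx
      by_cases h : a x = 0
      · exact ⟨c z / b x, 0, by field_simp [hx h]; ring⟩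
      · exact ⟨0, -(c z / a x), by field_simp; ring⟩
    obtain ⟨s, s1, s2, -⟩ := hmk u v 0
    refine ⟨s, mul_inv_eq_iff_eq_mul.2 (mul_inv_eq_iff_eq_mul.2 (hext _ _ ?_ ?_ ?_))⟩
    · simp only [(hmul _ _).1, hz1]; ring
    · simp only [(hmul _ _).2.1, hz2]; ring
    · simp only [(hmul _ _).2.2, (hmul _ _).1, hz1, s1, s2]
      linear_combination huv

open AutPSL in
theorem exists_sylow_unitriSL {p : ℕ} [Fact p.Prime] (K : Type*) [Field K] [Fintype K] [CharP K p]
    (n : ℕ) (hn : 1 ≤ n) :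
    ∃ P : Sylow p (Matrix.SpecialLinearGroup (Fin n) K),
      (P : Subgroup (Matrix.SpecialLinearGroup (Fin n) K)) = unitriSL K n := by
  classical
  obtain ⟨k, -, hk⟩ := FiniteField.card K p
  have hP : IsPGroup p (unitriSL K n) := IsPGroup.of_card (n := (k : ℕ) * ∑ j : Fin n, (j : ℕ)) (by
    rw [card_unitriSL, Nat.card_eq_fintype_card, hk, pow_mul])
  refine ⟨hP.toSylow ?_, rfl⟩
  intro hd
  have h := CfsgLib.Linear.card_SL_mul (F := K) rfl n hn
  have hprod : ∏ i : Fin n, (Fintype.card K ^ n - Fintype.card K ^ (i : ℕ)) =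
      Fintype.card K ^ (∑ j : Fin n, (j : ℕ)) * ∏ i : Fin n, (Fintype.card K ^ (n - (i : ℕ)) - 1) := by
    rw [← Finset.prod_pow_eq_pow_sum, ← Finset.prod_mul_distrib]
    refine Finset.prod_congr rfl fun i _ => ?_
    rw [Nat.mul_sub_one, ← pow_add, Nat.add_sub_cancel' (by omega)]
  rw [hprod, ← Subgroup.card_mul_index (unitriSL K n), card_unitriSL, Nat.card_eq_fintype_card] at h
  have h' : (Fintype.card K - 1) * (unitriSL K n).index =
      ∏ i : Fin n, (Fintype.card K ^ (n - (i : ℕ)) - 1) := by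
    refine Nat.eq_of_mul_eq_mul_left (pow_pos (Fintype.card_pos (α := K)) (∑ j : Fin n, (j : ℕ))) ?_
    rw [← h]; ring
  obtain ⟨i, -, hi⟩ := (Fact.out : p.Prime).prime.exists_mem_finset_dvd (h' ▸ hd.mul_left _)
  have hq : p ∣ Fintype.card K ^ (n - (i : ℕ)) :=
    dvd_pow (hk ▸ dvd_pow_self p k.pos.ne') (by omega)
  have := Nat.dvd_sub hq hi
  rw [Nat.sub_sub_self (Nat.one_le_pow _ _ Fintype.card_pos)] at this
  exact (Fact.out : p.Prime).not_dvd_one this

/-- **An exotic system over a Sylow subgroup of `SL₃` has trivial core.** -/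
theorem core_eq_bot_of_exotic (p : ℕ) [Fact p.Prime] (hS : IsPGroup p S) (hF : F.IsSaturated p)
    {K : Type*} [Field K] [Fintype K] [CharP K p]
    (T : Sylow p (Matrix.SpecialLinearGroup (Fin 3) K))
    (e : ↥S ≃* ↥(T : Subgroup (Matrix.SpecialLinearGroup (Fin 3) K))) (hex : F.IsExotic p) :
    F.core = ⊥ := by
  by_contra hne
  obtain ⟨P, hP⟩ := exists_sylow_unitriSL (p := p) K 3 (by norm_num)
  have hL : LikeGrp S := (likeGrp_unitri K).of_equiv
    ((e.trans (T.equiv P)).trans (MulEquiv.subgroupCongr hP))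
  obtain ⟨Q, hQn, hQc⟩ := exists_normal_centric p hS hF (like_of_likeGrp hL) hne
  obtain ⟨G, _, ι, hG, hr, hT, -⟩ := exists_model p hS hF hQn hQc
  exact hex.2 ⟨G, inferInstance, hG, ι, hr, hT⟩

end CfsgLib.Fusion.Heis
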