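import Cfsg.Agent.Fusion.SectionFree
import Cfsg.Agent.Fusion.NormalCriteria
import Cfsg.Agent.Fusion.LocalSaturation
import Cfsg.Agent.Fusion.ModelUnique

/-!
For `Q` normal in `F`: the subsystem of the maps acting on `Q` like elements of `S`.
-/

set_option autoImplicit false

open Cfsg Cfsg.FusionSystem

namespace CfsgLib.Fusion

universe u w

variable {Ω : Type u} [Group Ω] {S : Subgroup Ω} {F : FusionSystem S}

/-- The maps that extend to `Q` as conjugation by an element of `S`. -/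
def ActsInner (F : FusionSystem S) (Q P : Subgroup Ω) : Set (P →* Ω) :=
  {φ | ∃ ψ ∈ F.Hom (P ⊔ Q), (∀ x : P, ψ (Subgroup.inclusion le_sup_left x) = φ x) ∧
    ∃ s ∈ S, ∀ q : Q, ψ (Subgroup.inclusion le_sup_right q) = s * q * s⁻¹}

theorem mem_hom_of_actsInner {Q P : Subgroup Ω} {φ : P →* Ω} (h : φ ∈ ActsInner F Q P) :
    φ ∈ F.Hom P := by
  obtain ⟨ψ, hψ, he, -⟩ := h
  exact restrict_mem_of_eq hψ le_sup_left fun x => (he x).symm

/-- The subsystem of the maps acting on the normal subgroup `Q` like elements of `S`. -/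
def innerActSystem (F : FusionSystem S) (Q : Subgroup Ω) (hQ : Q ≤ S)
    (hQn : S ≤ Subgroup.normalizer (Q : Set Ω)) : FusionSystem S where
  Hom P := ActsInner F Q P
  le_of_mem h := ⟨le_of_mem_hom (mem_hom_of_actsInner h), apply_mem_S (mem_hom_of_actsInner h)⟩
  injective_of_mem h := F.injective_of_mem (mem_hom_of_actsInner h)
  conj_mem := by
    intro P g hP hg
    exact ⟨conjHom (P ⊔ Q) g, F.conj_mem (sup_le hP hQ) hg, fun x => rfl, g, hg, fun q => rfl⟩
  comp_mem := by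
    rintro P P' φ φ' ⟨ψ, hψ, he, s, hs, hq⟩ ⟨ψ', hψ', he', s', hs', hq'⟩ h
    have hmem : ∀ x, ψ x ∈ P' ⊔ Q := by
      intro x
      have hx : ψ x ∈ ψ.range := ⟨x, rfl⟩
      rw [range_eq_sup] at hx
      refine (sup_le ?_ ?_ : _ ≤ P' ⊔ Q) hx
      · intro y hy
        obtain ⟨z, hzm, hzP, rfl⟩ := mem_map_subgroupOf.1 hy
        exact Set.mem_of_eq_of_mem (he ⟨z, hzP⟩) (Subgroup.mem_sup_left (h ⟨z, hzP⟩))
      · intro y hy
        obtain ⟨z, hzm, hzQ, rfl⟩ := mem_map_subgroupOf.1 hy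
        exact Set.mem_of_eq_of_mem (hq ⟨z, hzQ⟩)
          (Subgroup.mem_sup_right ((Subgroup.mem_normalizer_iff.1 (hQn hs) z).1 hzQ))
    refine ⟨ψ'.comp (ψ.codRestrict _ hmem), F.comp_mem hψ hψ' hmem, fun x => ?_, s' * s,
      mul_mem hs' hs, fun q => ?_⟩
    · show ψ' ⟨_, _⟩ = φ' ⟨φ x, h x⟩
      exact (apply_congr ψ' (he x)).trans (he' ⟨φ x, h x⟩)
    · show ψ' ⟨_, _⟩ = _
      have hsq : s * q * s⁻¹ ∈ Q := (Subgroup.mem_normalizer_iff.1 (hQn hs) q).1 q.2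
      refine ((apply_congr ψ' (hq q)).trans (hq' ⟨_, hsq⟩)).trans ?_
      show s' * (s * q * s⁻¹) * s'⁻¹ = s' * s * q * (s' * s)⁻¹
      group
  inv_mem := by
    rintro P φ ⟨ψ, hψ, he, s, hs, hq⟩
    have hsn := Subgroup.mem_normalizer_iff.1 (hQn hs)
    have hr : ψ.range = φ.range ⊔ Q := by
      rw [range_eq_sup]
      congr 1
      · exact (map_subgroupOf_congr le_sup_left le_rfl fun x hx => he ⟨x, hx⟩).trans
          (map_subgroupOf_self φ)
      · ext y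
        rw [mem_map_subgroupOf]
        constructor
        · rintro ⟨x, -, hxQ, rfl⟩
          exact Set.mem_of_eq_of_mem (hq ⟨x, hxQ⟩) ((hsn x).1 hxQ)
        · intro hy
          have hy' : s⁻¹ * y * s ∈ Q := (hsn _).2 (by simpa [mul_assoc] using hy)
          refine ⟨_, Subgroup.mem_sup_right hy', hy', (hq ⟨_, hy'⟩).trans ?_⟩
          show s * (s⁻¹ * y * s) * s⁻¹ = y
          group
    obtain ⟨χ, hχ, -, h1, -⟩ := exists_inv hψ hr
    have key : ∀ (x : P) (hx : φ x ∈ φ.range ⊔ Q), χ ⟨φ x, hx⟩ = x := fun x hx =>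
      (apply_congr χ (he x).symm).trans
        (h1 (Subgroup.inclusion le_sup_left x) ((he x).symm ▸ hx))
    refine ⟨χ.comp (Subgroup.inclusion le_sup_left), ⟨χ, hχ, fun x => rfl, s⁻¹, inv_mem hs,
      fun q => ?_⟩, fun x => key x _⟩
    have hy : s⁻¹ * (q : Ω) * s ∈ Q := (hsn _).2 (by simpa [mul_assoc] using q.2)
    have e : ψ (Subgroup.inclusion le_sup_right ⟨_, hy⟩) = q := by
      rw [hq]
      show s * (s⁻¹ * q * s) * s⁻¹ = q
      group
    refine ((apply_congr χ e.symm).trans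
      (h1 _ (e.symm ▸ Subgroup.mem_sup_right (S := φ.range) q.2))).trans ?_
    show s⁻¹ * (q : Ω) * s = s⁻¹ * q * s⁻¹⁻¹
    group

variable [Finite S]

theorem innerActSystem_saturated (p : ℕ) [Fact p.Prime] (hS : IsPGroup p S) (hF : F.IsSaturated p)
    {Q : Subgroup Ω} (hQ : F.IsNormal Q) :
    (innerActSystem F Q hQ.1 (normal_S_le_normalizer hQ)).IsSaturated p := by
  have hQn := normal_S_le_normalizer hQ
  have hfn : F.IsFullyNormalized Q := ⟨hQ.1, fun R _ => by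
    rw [show normalizerIn S Q = S from le_antisymm (normalizerIn_le_S Q) (le_inf le_rfl hQn)]
    exact card_le_of_le le_rfl (normalizerIn_le_S R)⟩
  have hsn : ∀ g ∈ S, ∀ q ∈ Q, g * q * g⁻¹ ∈ Q := fun g hg q hq =>
    (Subgroup.mem_normalizer_iff.1 (hQn hg) q).1 hq
  have hk : IsKNorm F Q (autInducedBy S Q) (innerActSystem F Q hQ.1 hQn) := by
    refine ⟨hQ.1, fun g => ⟨fun hg => ⟨hg, conjAut S Q ⟨g, hg, hQn hg⟩,
      mem_autInducedBy.2 ⟨g, hg, fun _ => rfl⟩, fun q => rfl⟩, fun h => h.1⟩, fun P φ => ?_⟩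
    constructor
    · intro h
      have hφ := mem_hom_of_actsInner h
      obtain ⟨ψ, hψ, he, s, hs, hq⟩ := h
      exact ⟨hφ, le_of_mem_hom hφ, apply_mem_S hφ, ψ, hψ, he, conjAut S Q ⟨s, hs, hQn hs⟩,
        mem_autInducedBy.2 ⟨s, hs, fun _ => rfl⟩, hq⟩
    · rintro ⟨-, -, -, ψ, hψ, he, k, hk, hq⟩
      obtain ⟨s, hs, hks⟩ := mem_autInducedBy.1 hk
      exact ⟨ψ, hψ, he, s, hs, fun q => (hq q).trans (hks q)⟩
  refine hk.isSaturated p hS hF (good_of_fullyNormalized p hS hF hfn).2 ?_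
  rw [inf_idem, inf_eq_right.2 (autInducedBy_le_autGroup hQ.1)]
  refine ⟨le_rfl, ?_⟩
  have := finite_of_le hQ.1
  have : Finite (MulAut Q) := finite_mulAut
  obtain ⟨R, hR⟩ := ((isPGroup_autInducedBy hS Q).to_subgroup ⊤).exists_le_sylow
  exact ⟨R, by rw [Subgroup.subgroupOf_self]; exact top_le_iff.1 hR⟩

theorem isNormal_innerActSystem {Q : Subgroup Ω} (hQ : F.IsNormal Q) :
    (innerActSystem F Q hQ.1 (normal_S_le_normalizer hQ)).IsNormal Q := by
  have hQn := normal_S_le_normalizer hQ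
  refine ⟨hQ.1, fun P φ hφ => ?_⟩
  obtain ⟨ψ, hψ, he, s, hs, hq⟩ := hφ
  have hle : (P ⊔ Q) ⊔ Q ≤ P ⊔ Q := sup_le le_rfl le_sup_right
  refine ⟨ψ, ⟨ψ.comp (Subgroup.inclusion hle), restrict_mem hψ hle, fun x => rfl, s, hs, hq⟩, he,
    ?_⟩
  ext y
  rw [mem_map_subgroupOf]
  constructor
  · rintro ⟨x, -, hxQ, rfl⟩
    exact Set.mem_of_eq_of_mem (hq ⟨x, hxQ⟩)
      ((Subgroup.mem_normalizer_iff.1 (hQn hs) x).1 hxQ)
  · intro hy
    have hy' : s⁻¹ * y * s ∈ Q :=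
      (Subgroup.mem_normalizer_iff.1 (hQn hs) _).2 (by simpa [mul_assoc] using hy)
    refine ⟨_, Subgroup.mem_sup_right hy', hy', (hq ⟨_, hy'⟩).trans ?_⟩
    show s * (s⁻¹ * y * s) * s⁻¹ = y
    group

/-- A centric subgroup of the subsystem containing `Q` is centric in the system. -/
theorem isCentric_of_innerAct (p : ℕ) [Fact p.Prime] (hS : IsPGroup p S) (hF : F.IsSaturated p)
    {Q Y : Subgroup Ω} (hQ : F.IsNormal Q)
    (hY : (innerActSystem F Q hQ.1 (normal_S_le_normalizer hQ)).IsCentric Y) (hQY : Q ≤ Y) :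
    F.IsCentric Y := by
  have hQn := normal_S_le_normalizer hQ
  have hfn : F.IsFullyNormalized Q := ⟨hQ.1, fun R _ => by
    rw [show normalizerIn S Q = S from le_antisymm (normalizerIn_le_S Q) (le_inf le_rfl hQn)]
    exact card_le_of_le le_rfl (normalizerIn_le_S R)⟩
  refine ⟨hY.1, ?_⟩
  rintro _ ⟨φ, hφ, rfl⟩ g hg
  obtain ⟨hgS, hgc⟩ := mem_centralizerIn.1 hg
  have hwc := weaklyClosed_of_stronglyClosed (stronglyClosed_of_isNormal hQ)
  have hφQ : (Q.subgroupOf Y).map φ = Q := by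
    rw [← range_restrict φ hQY]
    exact hwc.2 _ (restrict_mem hφ hQY)
  have hQr : Q ≤ φ.range := hφQ.ge.trans (Subgroup.map_le_range _ _)
  obtain ⟨φi, hφi, -, hφi1, -⟩ := exists_inv hφ (rfl : φ.range = φ.range)
  let a : Q →* Ω := φi.comp (Subgroup.inclusion hQr)
  have ha : a ∈ F.Hom Q := restrict_mem hφi hQr
  have har : a.range = Q := hwc.2 a ha
  have hN : φ.range ⊔ centralizerIn S Q ≤ extender S Q a := by
    refine sup_le ?_ (centralizerIn_le_extender Q a)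
    rintro _ ⟨y, rfl⟩
    refine mem_extender.2 ⟨apply_mem_S hφ y, hQn (apply_mem_S hφ y), y, le_of_mem_hom hφ y.2,
      fun q hq => ?_⟩
    have h1 : φi ⟨φ y, ⟨y, rfl⟩⟩ = y := hφi1 y _
    show φi ⟨_, _⟩ = (y : Ω) * φi ⟨q, _⟩ * (y : Ω)⁻¹
    refine (apply_congr φi (y := ⟨φ y, ⟨y, rfl⟩⟩ * ⟨q, hQr q.2⟩ * (⟨φ y, ⟨y, rfl⟩⟩ : φ.range)⁻¹)
      rfl).trans ?_
    rw [map_mul, map_mul, map_inv, h1]
  obtain ⟨χ, hχ, hχe⟩ := receptive_extend (good_of_fullyNormalized p hS hF hfn).2 ha har hN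
  let e : Y →* Ω := (χ.comp (Subgroup.inclusion le_sup_left)).comp φ.rangeRestrict
  have he : e ∈ F.Hom Y :=
    comp_mem_of_eq hφ hχ (fun x => Subgroup.mem_sup_left ⟨x, rfl⟩) fun x => rfl
  have hefix : ∀ q : Q, e ⟨q, hQY q.2⟩ = q := fun q => by
    have hq' : φ ⟨q, hQY q.2⟩ ∈ Q :=
      hφQ.le (apply_mem_map_subgroupOf φ (x := ⟨q, hQY q.2⟩) q.2)
    refine (hχe _ hq' (Subgroup.mem_sup_left ⟨_, rfl⟩)).trans ?_
    exact hφi1 ⟨q, hQY q.2⟩ (hQr hq')
  have heE : e ∈ (innerActSystem F Q hQ.1 hQn).Hom Y := by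
    have hsub : Y ⊔ Q ≤ Y := sup_le le_rfl hQY
    exact ⟨e.comp (Subgroup.inclusion hsub), restrict_mem he hsub, fun x => rfl, 1, one_mem _,
      fun q => (hefix q).trans (by group)⟩
  have hgQ : g ∈ centralizerIn S Q := mem_centralizerIn.2 ⟨hgS, fun q hq => hgc q (hQr hq)⟩
  have hχg : χ ⟨g, Subgroup.mem_sup_right hgQ⟩ ∈ e.range := by
    refine hY.2 _ ⟨e, heE, rfl⟩ (mem_centralizerIn.2 ⟨apply_mem_S hχ _, ?_⟩)
    rintro _ ⟨y, rfl⟩
    show χ ⟨φ y, _⟩ * χ _ = χ _ * χ ⟨φ y, _⟩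
    rw [← map_mul, ← map_mul]
    exact apply_congr χ (hgc _ ⟨y, rfl⟩)
  obtain ⟨y, hy⟩ := hχg
  exact ⟨y, congrArg Subtype.val (F.injective_of_mem hχ hy :)⟩

/-- Freeness of a section passes to the subsystem. -/
theorem sectionFree_innerActSystem (p : ℕ) [Fact p.Prime] (hS : IsPGroup p S)
    (hF : F.IsSaturated p) {X : Type w} [Group X] (hfree : F.IsSectionFree p X) {Q : Subgroup Ω}
    (hQ : F.IsNormal Q) :
    (innerActSystem F Q hQ.1 (normal_S_le_normalizer hQ)).IsSectionFree p X := by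
  have hQS := normal_S_le_normalizer hQ
  set E := innerActSystem F Q hQ.1 (normal_S_le_normalizer hQ)
  have hEs : E.IsSaturated p := innerActSystem_saturated p hS hF hQ
  refine sectionFree_of_radical p hS hEs fun Y hfn hc hrad M hM L' _ ι' hι' hX => ?_
  have hQY : Q ≤ Y := le_centric_radical p hS (isNormal_innerActSystem hQ) hc hrad
  have hT : F.IsCentric Y := isCentric_of_innerAct p hS hF hQ hc hQY
  obtain ⟨T', N', L, _, ι, j, hT'fn, hT'c, -, hN', hι, hj, hjn, hjC⟩ :=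
    exists_localModel p hS hF hT
  refine hfree T' hT'fn hT'c N' hN' L ι hι ?_
  have := finite_of_le (normalizerIn_le_S (S := S) Y)
  have hUp := isPGroup_of_le hS (normalizerIn_le_S (S := S) Y)
  have hY : Y ≤ normalizerIn S Y := le_normalizerIn hc.1
  -- the elements acting on `Q` like elements of `S`
  let L1 : Subgroup L :=
    { carrier := {g | ∃ s ∈ S, ∀ x y : ↥(normalizerIn S Y), (x : Ω) ∈ Q →
        (y : Ω) = s * (x : Ω) * s⁻¹ → g * j x * g⁻¹ = j y}
      one_mem' := ⟨1, one_mem _, fun x y _ hy => by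
        rw [show x = y from Subtype.ext (by rw [hy]; group)]
        group⟩
      mul_mem' := by
        rintro g g' ⟨s, hs, hg⟩ ⟨s', hs', hg'⟩
        refine ⟨s * s', mul_mem hs hs', fun x y hx hy => ?_⟩
        have hxQ : s' * (x : Ω) * s'⁻¹ ∈ Q := (Subgroup.mem_normalizer_iff.1 (hQS hs') _).1 hx
        have h1 := hg' x ⟨_, hY (hQY hxQ)⟩ hx rfl
        have h2 := hg ⟨_, hY (hQY hxQ)⟩ y hxQ (by rw [hy]; group)
        calc g * g' * j x * (g * g')⁻¹ = g * (g' * j x * g'⁻¹) * g⁻¹ := by group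
          _ = j y := by rw [h1, h2]
      inv_mem' := by
        rintro g ⟨s, hs, hg⟩
        refine ⟨s⁻¹, inv_mem hs, fun x y hx hy => ?_⟩
        have hyQ : (y : Ω) ∈ Q := by
          rw [hy]
          exact (Subgroup.mem_normalizer_iff.1 (hQS (inv_mem hs)) _).1 hx
        have h1 := hg y x hyQ (by rw [hy]; group)
        rw [← h1]
        group }
  let j' : ↥(normalizerIn S Y) →* L1 := j.codRestrict L1 fun z =>
    ⟨z, normalizerIn_le_S Y z.2, fun x y _ hy => by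
      rw [← map_inv, ← map_mul, ← map_mul]
      exact congrArg j (Subtype.ext hy.symm)⟩
  have hj' : M.IsRealizedBy j' := by
    refine ⟨fun a b hab => hj.1 (congrArg Subtype.val hab :), fun P hP φ hφ => ?_⟩
    constructor
    · intro hφM
      rw [hM] at hφM
      obtain ⟨-, -, -, ψ, hψ, he, hm⟩ := hφM
      have hψF := mem_hom_of_actsInner hψ
      have hψN : ∀ x, ψ x ∈ normalizerIn S Y := by
        intro x
        have hx : ψ x ∈ ψ.range := ⟨x, rfl⟩
        rw [range_eq_sup, hm] at hx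
        refine (sup_le ?_ hY : _ ≤ normalizerIn S Y) hx
        intro y hy
        obtain ⟨z, hz, hzP, rfl⟩ := mem_map_subgroupOf.1 hy
        exact Set.mem_of_eq_of_mem ((apply_congr ψ rfl).trans (he ⟨z, hzP⟩)) (hφ _)
      have hψns : ψ ∈ (normSystem F Y hT.1).Hom (P ⊔ Y) :=
        ⟨hψF, sup_le hP hY, hψN, ψ.comp (Subgroup.inclusion (sup_le le_rfl le_sup_right)),
          restrict_mem hψF (sup_le le_rfl le_sup_right), fun x => rfl, by
            rw [map_subgroupOf_congr (ψ := ψ.comp (Subgroup.inclusion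
              (sup_le le_rfl le_sup_right : (P ⊔ Y) ⊔ Y ≤ P ⊔ Y))) (χ := ψ) le_sup_right
              le_sup_right fun _ _ => rfl, hm]⟩
      obtain ⟨g, hg⟩ := realized_hom hj hψns
      obtain ⟨χ, -, hχe, s, hs, hχq⟩ := hψ
      have hgL : g ∈ L1 := by
        refine ⟨s, hs, fun x y hx hy => ?_⟩
        rw [← hg ⟨x, Subgroup.mem_sup_right (hQY hx)⟩]
        exact congrArg j (Subtype.ext (((hχe _).symm.trans ((apply_congr χ rfl).trans
          (hχq ⟨x, hx⟩))).trans hy.symm))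
      refine ⟨⟨g, hgL⟩, fun x => Subtype.ext ?_⟩
      refine (congrArg j (Subtype.ext (he x).symm)).trans (hg (Subgroup.inclusion le_sup_left x))
    · rintro ⟨⟨g, s, hs, hgs⟩, hg⟩
      have hle : P ⊔ Y ≤
          (j.range.comap ((MulAut.conj g).toMonoidHom.comp j)).map (normalizerIn S Y).subtype := by
        refine sup_le (fun x hx => ⟨⟨x, hP hx⟩, ?_, rfl⟩) fun x hx => ⟨⟨x, hY hx⟩, ?_, rfl⟩
        · exact ⟨_, congrArg Subtype.val (hg ⟨x, hx⟩)⟩
        · exact img_le_range Y (hjn.conj_mem _ (apply_mem_img (ι := j) (x := ⟨x, hY hx⟩) hx) g)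
      obtain ⟨ψ, hψ, hψj⟩ := exists_realized_hom hj (sup_le hP hY) (g := g) fun x => by
        obtain ⟨y, hy, hyx⟩ := hle x.2
        rw [← show y = ⟨x, sup_le hP hY x.2⟩ from Subtype.ext hyx]
        exact hy
      have hψF : ψ ∈ F.Hom (P ⊔ Y) := hψ.1
      have hψN : ∀ x, ψ x ∈ normalizerIn S Y := hψ.2.2.1
      have hψE : ψ ∈ E.Hom (P ⊔ Y) := by
        have hsub : (P ⊔ Y) ⊔ Q ≤ P ⊔ Y := sup_le le_rfl (hQY.trans le_sup_right)
        refine ⟨ψ.comp (Subgroup.inclusion hsub), restrict_mem hψF hsub, fun x => rfl, s, hs,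
          fun q => ?_⟩
        have hsq : s * (q : Ω) * s⁻¹ ∈ Q := (Subgroup.mem_normalizer_iff.1 (hQS hs) _).1 q.2
        exact congrArg Subtype.val (hj.1 ((hψj ⟨q, Subgroup.mem_sup_right (hQY q.2)⟩).trans
          (hgs ⟨q, hY (hQY q.2)⟩ ⟨_, hY (hQY hsq)⟩ q.2 rfl)) :)
      have hψe : ∀ x : P, ψ (Subgroup.inclusion le_sup_left x) = φ x := fun x =>
        congrArg Subtype.val (hj.1 (a₁ := ⟨_, hψN (Subgroup.inclusion le_sup_left x)⟩)
          (a₂ := ⟨_, hφ x⟩)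
          ((hψj (Subgroup.inclusion le_sup_left x)).trans (congrArg Subtype.val (hg x)).symm))
      rw [hM]
      refine ⟨restrict_mem_of_eq hψE le_sup_left fun x => (hψe x).symm, hP, hφ, ψ, hψE, hψe, ?_⟩
      refine eq_of_le_of_card_le hc.1 ?_
        (card_map_subgroupOf (F.injective_of_mem hψF) le_sup_right).ge
      intro y hy
      obtain ⟨x, hx, hxY, rfl⟩ := mem_map_subgroupOf.1 hy
      refine (mem_img hj.1 (x := ⟨_, hψN ⟨x, hx⟩⟩)).1 ?_
      rw [hψj]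
      exact hjn.conj_mem _ (apply_mem_img hxY) g
  have himg : ∀ z : L1, z ∈ img j' Y ↔ (z : L) ∈ img j Y := fun z =>
    ⟨fun ⟨x, hx, hxz⟩ => ⟨x, hx, congrArg Subtype.val hxz⟩,
      fun ⟨x, hx, hxz⟩ => ⟨x, hx, Subtype.ext hxz⟩⟩
  have hn' : (img j' Y).Normal :=
    ⟨fun z hz g => (himg _).2 (hjn.conj_mem _ ((himg z).1 hz) g)⟩
  have hC' : Subgroup.centralizer (img j' Y : Set L1) ≤ img j' Y := by
    refine fun z hz => (himg z).2 (hjC (Subgroup.mem_centralizer_iff.2 ?_))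
    rintro _ ⟨x, hx, rfl⟩
    exact congrArg Subtype.val (Subgroup.mem_centralizer_iff.1 hz (j' x) ⟨x, hx, rfl⟩)
  have hMn := isNormal_normalizerSystem hc.1 hM
  have hMc := isCentric_normalizerSystem hc hM
  obtain ⟨Φ, -⟩ := realized_unique p hUp (normalizerSystem_saturated p hS hEs hfn hM) hMn hMc
    hι'.2.1 (normal_img_of_isNormal p hι' hMn) (centralizer_img_le p hUp hι' hMn hMc) hj' hn' hC'
  exact ZJ.involves_of_hom L1 Φ.symm.toMonoidHom Φ.symm.surjective hX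

end CfsgLib.Fusion
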