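import Cfsg.Agent.Fusion.InnerThompson

/-!
Inner systems from automizers of characteristic subgroups.
-/

set_option autoImplicit false

open Cfsg Cfsg.FusionSystem

namespace CfsgLib.Fusion

universe u

variable {Ω : Type u} [Group Ω] {S : Subgroup Ω} {F : FusionSystem S} [Finite S]

theorem characteristic_of_isCharIn {Q : Subgroup Ω} (h : IsCharIn S Q) :
    (Q.subgroupOf S).Characteristic :=
  Subgroup.characteristic_iff_comap_eq.2 fun a => Subgroup.ext fun x => h.2 a x

/-- `N_F(Q)` is inner when `Q` is normal in `S`, contains its centralizer and has a `p`-group as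
automizer. -/
theorem innerAt_of_isPGroup_aut (p : ℕ) [Fact p.Prime] (hS : IsPGroup p S) (hF : F.IsSaturated p)
    {Q : Subgroup Ω} (hQ : Q ≤ S) (hQn : S ≤ Subgroup.normalizer (Q : Set Ω))
    (hc : centralizerIn S Q ≤ Q) (hp : IsPGroup p (F.autGroup Q)) : InnerAt F Q := by
  obtain ⟨E, hE, hEs, -, hEn, hEF, hEc⟩ :=
    exists_normSystem_eq p hS hF (fun {_} _ => True) hQ hQn fun _ _ => trivial
  obtain ⟨G, hG, ι, hm⟩ := exists_model p hS hEs hEn (hEc hc)
  have hfin : Finite G := hm.1
  obtain ⟨α, -, hα⟩ := exists_modelAct p hm hEn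
  have hle : E.autGroup Q ≤ F.autGroup Q := fun a ha =>
    (autGroup_carrier hQ).2 (hEF _ ((autGroup_carrier hQ).1 ha))
  have hk : IsPGroup p α.ker := by
    refine IsPGroup.to_le ((hS.of_surjective ι.rangeRestrict ι.rangeRestrict_surjective).to_le
      (img_le_range Q)) fun g hg => ?_
    refine centralizer_img_le p hS hm hEn (hEc hc) (Subgroup.mem_centralizer_iff.2 ?_)
    rintro _ ⟨x, hx, rfl⟩
    have h1 := hα g ⟨x, hx⟩
    rw [MonoidHom.mem_ker.1 hg] at h1
    calc ι x * g = g * ι ⟨x, hQ hx⟩ * g⁻¹ * g := by rw [← h1]; rfl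
      _ = g * ι x := by rw [inv_mul_cancel_right]
  have hEp : IsPGroup p (E.autGroup Q) := hp.to_le hle
  have hGp : IsPGroup p G := by
    have h1 := (hEp.to_subgroup ⊤).comap_of_ker_isPGroup α hk
    rw [Subgroup.comap_top] at h1
    exact h1.of_equiv Subgroup.topEquiv
  have hinn := isInner_of_range_top hm.2.1
    (range_eq_top_of_hasNormalPComplement hm (hasNormalPComplement_of_isPGroup hGp))
  intro P φ hφ
  obtain ⟨g, hg, hgx⟩ := hinn P φ (hE P ▸ hφ)
  exact ⟨g, ⟨hg, hQn hg⟩, hgx⟩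

/-- For every characteristic subgroup, `N_F` is inner when the automizers are `p`-groups. -/
theorem innerAt_of_char_aut (p : ℕ) [Fact p.Prime] (C : InnerCriterion.{u} p) (hS : IsPGroup p S)
    (hF : F.IsSaturated p) (hfree : C.Free F)
    (h : ∀ Q, IsCharIn S Q → Q ≠ ⊥ → IsPGroup p (F.autGroup Q)) :
    ∀ (k : ℕ) (Q : Subgroup Ω), Nat.card S - Nat.card Q = k → IsCharIn S Q → Q ≠ ⊥ →
      InnerAt F Q := by
  intro k
  induction k using Nat.strong_induction_on with
  | _ k ih =>
    intro Q hk hch hQ1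
    refine innerAt_step p C (fun S' E h1 h2 _ => isInner_of_criterion p C _ S' E h1 h2 rfl)
      hS hF hfree hch.1 hQ1 hch.le_normalizer
      (fun hc => innerAt_of_isPGroup_aut p hS hF hch.1 hch.le_normalizer hc (h Q hch hQ1)) ?_ ?_
    · intro a ha _
      refine aut_S_inner p hS hF (h S ⟨le_rfl, fun b x => ⟨fun _ => x.2, fun _ => (b x).2⟩⟩ ?_) ha
      exact fun hb => hQ1 (eq_bot_iff.2 (hb ▸ hch.1))
    · intro P hQP hPS hP
      have h1 : Nat.card Q < Nat.card P := lt_of_le_of_ne (card_le_of_le hPS hQP.le)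
        fun he => hQP.ne (eq_of_le_of_card_le hPS hQP.le he.ge)
      have h2 := card_le_of_le le_rfl hPS
      exact ih _ (by omega) P rfl ⟨hPS, fun a => hP a (hch.2 a)⟩
        (fun h => by rw [h] at hQP; exact not_lt_bot hQP)

end CfsgLib.Fusion
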