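import Cfsg.Agent.ZJ.ThompsonTwo
import Cfsg.Agent.ZJ.ZJCenter
import Cfsg.Agent.ZJ.SL2Facts
import Cfsg.Agent.ZJ.Involve
import Cfsg.Agent.Solvable.CoprimeAct
import Cfsg.Agent.Fusion.InnerZJ
import Cfsg.Agent.Solvable.Fitting

/-
The group theorem behind the axiomatic Glauberman-Thompson criterion: a group with
`C(O_p) ≤ O_p`, p odd, and a family of abelian subgroups of a Sylow subgroup with invariance and
replacement is a p-group as soon as the normalizer of the intersection of the family is.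
-/

set_option autoImplicit false

namespace CfsgLib.ReplFamily

open Subgroup
open scoped commutatorElement

variable {G : Type*} [Group G]

/-- The intersection of the members contained in `U`. -/
def famInf (fam : Set (Subgroup G)) (U : Subgroup G) : Subgroup G :=
  sInf {A | A ∈ fam ∧ A ≤ U}

/-- Invariance and replacement for a family of abelian subgroups of `T`. -/
structure Axioms (T : Subgroup G) (fam : Set (Subgroup G)) : Prop where
  le : ∀ A ∈ fam, A ≤ T
  comm : ∀ A ∈ fam, ∀ x ∈ A, ∀ y ∈ A, x * y = y * x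
  nonempty : fam.Nonempty
  inv : ∀ U ≤ T, (∃ A ∈ fam, A ≤ U) → ∀ g ∈ normalizer (U : Set G), ∀ x ∈ famInf fam U,
    g * x * g⁻¹ ∈ famInf fam U
  rep : ∀ B ≤ T, ⁅⁅B, B⁆, B⁆ = ⊥ → (∃ A ∈ fam, ⁅B, B⁆ ≤ A ∧ ¬ B ≤ A) →
    ∃ A ∈ fam, ⁅B, B⁆ ≤ A ∧ ¬ B ≤ A ∧ B ≤ normalizer (A : Set G)

variable {T : Subgroup G} {fam : Set (Subgroup G)}

theorem famInf_self (h : Axioms T fam) : famInf fam T = sInf fam :=
  congrArg sInf (Set.ext fun A => ⟨fun hA => hA.1, fun hA => ⟨hA, h.le A hA⟩⟩)

theorem mem_normalizer_famInf (h : Axioms T fam) {U : Subgroup G} (hU : U ≤ T)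
    (hA : ∃ A ∈ fam, A ≤ U) {g : G} (hg : g ∈ normalizer (U : Set G)) :
    g ∈ normalizer ((famInf fam U : Subgroup G) : Set G) := by
  rw [mem_normalizer_iff]
  intro x
  refine ⟨h.inv U hU hA g hg x, fun hx => ?_⟩
  have := h.inv U hU hA g⁻¹ (inv_mem hg) _ hx
  simpa [mul_assoc] using this

theorem le_normalizer_sInf (h : Axioms T fam) : T ≤ normalizer ((sInf fam : Subgroup G) : Set G) := by
  obtain ⟨A, hA⟩ := h.nonempty
  rw [← famInf_self h]
  exact fun t ht => mem_normalizer_famInf h le_rfl ⟨A, hA, h.le A hA⟩ (le_normalizer ht)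

variable [Finite G] {p : ℕ} [Fact p.Prime]

/-- A group whose Sylow subgroup is maximal and not normal has abelian Sylow 2-subgroups, p odd. -/
theorem not_involves_qd_of_maximal (hp : p ≠ 2) (S : Sylow p G)
    (hmax : ∀ H : Subgroup G, (S : Subgroup G) ≤ H → H = S ∨ H = ⊤)
    (hne : (S : Subgroup G) ≠ Cfsg.pCore p G) (htop : (S : Subgroup G) ≠ ⊤) :
    ¬ Cfsg.Involves ↥(Cfsg.qd p) G := by
  set Q := Cfsg.pCore p G with hQ
  haveI hQn : Q.Normal := Solvable.pCore_normal p
  have hQp : IsPGroup p Q := Solvable.isPGroup_pCore p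
  have hQS : Q ≤ (S : Subgroup G) := Fitting.pCore_le_sylow S
  set π := QuotientGroup.mk' Q with hπ
  have hπs : Function.Surjective π := QuotientGroup.mk'_surjective Q
  set Sb : Sylow p (G ⧸ Q) := S.mapSurjective hπs with hSb
  have hSbe : (Sb : Subgroup (G ⧸ Q)) = (S : Subgroup G).map π := rfl
  have hcomap : ((S : Subgroup G).map π).comap π = S := by
    rw [comap_map_eq, QuotientGroup.ker_mk']
    exact sup_eq_left.2 hQS
  have hSb1 : (Sb : Subgroup (G ⧸ Q)) ≠ ⊥ := fun h => hne (le_antisymm (by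
    rw [hSbe, Subgroup.map_eq_bot_iff, QuotientGroup.ker_mk'] at h
    exact h) hQS)
  have hSbtop : (Sb : Subgroup (G ⧸ Q)) ≠ ⊤ := fun h => htop (by
    rw [← hcomap, ← hSbe, h, comap_top])
  have hmax' : ∀ H : Subgroup (G ⧸ Q), (Sb : Subgroup (G ⧸ Q)) ≤ H → H = Sb ∨ H = ⊤ := by
    intro H hH
    rcases hmax (H.comap π) (hcomap ▸ comap_mono hH) with h | h
    · left
      rw [← map_comap_eq_self_of_surjective hπs H, h]
      rfl
    · right
      rw [← map_comap_eq_self_of_surjective hπs H, h, map_top_of_surjective π hπs]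
  have hcore : ∀ N : Subgroup (G ⧸ Q), N.Normal → IsPGroup p N → N = ⊥ := by
    intro N hN hNp
    have h1 : N.comap π ≤ Q := Solvable.le_pCore p (hN.comap π)
      (hNp.comap_of_ker_isPGroup π (by rwa [QuotientGroup.ker_mk']))
    rw [← map_comap_eq_self_of_surjective hπs N, Subgroup.map_eq_bot_iff, QuotientGroup.ker_mk']
    exact h1
  -- the quotient has a normal p-complement
  have hpc : ∀ W : Subgroup (G ⧸ Q), W ≤ Sb → W ≠ ⊥ →
      ∀ H : Subgroup (G ⧸ Q), (Sb : Subgroup (G ⧸ Q)) ≤ H → H ≤ normalizer (W : Set (G ⧸ Q)) →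
        Cfsg.HasNormalPComplement p H := by
    intro W hW hW1 H hH hHW
    rcases hmax' H hH with h | h
    · exact Fusion.hasNormalPComplement_of_isPGroup (h ▸ Sb.2)
    · refine absurd (hcore W (normalizer_eq_top_iff.1 (top_le_iff.1 ?_)) (Sb.2.to_le hW)) hW1
      exact h ▸ hHW
  set Zb : Subgroup (G ⧸ Q) :=
    (Sb : Subgroup (G ⧸ Q)) ⊓ centralizer ((Sb : Subgroup (G ⧸ Q)) : Set (G ⧸ Q)) with hZb
  have hZb1 : Zb ≠ ⊥ := by
    intro h
    refine Fusion.center_ne_bot Sb.2 hSb1 (eq_bot_iff.2 fun z hz => ?_)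
    have h1 : (z : G ⧸ Q) ∈ Zb := ⟨z.2, mem_centralizer_iff.2 fun s hs =>
      congrArg Subtype.val (mem_center_iff.1 hz ⟨s, hs⟩)⟩
    rw [h, mem_bot] at h1
    exact mem_bot.2 (Subtype.ext h1)
  have hJle : Cfsg.thompsonSubgroupAOf (Sb : Subgroup (G ⧸ Q)) ≤ Sb := map_subtype_le _
  obtain ⟨P, M, hM, hMP⟩ : Cfsg.HasNormalPComplement p (G ⧸ Q) := by
    refine ZJ.hasNormalPComplement_thompsonA _ Sb (Or.inl hp) ?_ ?_
    · refine hpc Zb inf_le_left hZb1 _ (fun s hs => mem_centralizer_iff.2 fun z hz =>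
        (mem_centralizer_iff.1 hz.2 s hs).symm) (fun c hc => ?_)
      rw [mem_normalizer_iff]
      intro z
      constructor
      · intro hz
        rw [show c * z * c⁻¹ = z by rw [← mem_centralizer_iff.1 hc z hz, mul_inv_cancel_right]]
        exact hz
      · intro hz
        have h1 := mem_centralizer_iff.1 (inv_mem hc) _ hz
        rw [show z = c⁻¹ * (c * z * c⁻¹) * c⁻¹⁻¹ by group, ← h1, mul_inv_cancel_right]
        exact hz
    · exact hpc _ hJle (Fusion.thompsonAOf_ne_bot Sb.2 hSb1) _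
        (Fusion.isCharIn_thompsonAOf (S := (Sb : Subgroup (G ⧸ Q)))).le_normalizer le_rfl
  have hMcop : (Nat.card M).Coprime p := by
    rw [← hMP.index_eq_card]
    exact ((Fact.out : p.Prime).coprime_iff_not_dvd.2 P.not_dvd_index).symm
  have hdisj : ∀ K ≤ M, (Sb : Subgroup (G ⧸ Q)) ⊓ K = ⊥ := fun K hK =>
    eq_bot_iff.2 ((inf_le_inf_left _ hK).trans (ZJ.isPGroup_inf_coprime Sb.2 hMcop).le)
  have hcardM : Nat.card (Sb : Subgroup (G ⧸ Q)) * Nat.card M = Nat.card (G ⧸ Q) := by
    rw [Nat.card_congr (P.equiv Sb).toEquiv.symm, mul_comm, hMP.card_mul]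
  have hSbM : (Sb : Subgroup (G ⧸ Q)) ≤ normalizer (M : Set (G ⧸ Q)) := by
    rw [normalizer_eq_top M]; exact le_top
  have hM1 : M ≠ ⊥ := fun h => hSbtop (eq_top_of_card_eq _ (by
    rwa [h, card_bot, mul_one] at hcardM))
  -- it is a q-group
  obtain ⟨q, hq, hqM⟩ := Nat.exists_prime_and_dvd
    (fun h : Nat.card M = 1 => hM1 (card_eq_one.1 h))
  haveI := Fact.mk hq
  have hsolv : Group.IsSolvable (Sb : Subgroup (G ⧸ Q)) := by
    haveI := Sb.2.isNilpotent
    infer_instance
  have hcop : (Nat.card (Sb : Subgroup (G ⧸ Q))).Coprime (Nat.card M) := by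
    obtain ⟨k, hk⟩ := IsPGroup.iff_card.1 Sb.2
    rw [hk]
    exact Nat.Coprime.pow_left k hMcop.symm
  have hsup : ∀ K : Subgroup (G ⧸ Q), K ≤ M →
      (Sb : Subgroup (G ⧸ Q)) ≤ normalizer (K : Set (G ⧸ Q)) → K ≠ ⊥ → K = M := by
    intro K hKM hK hK1
    rcases hmax' ((Sb : Subgroup (G ⧸ Q)) ⊔ K) le_sup_left with h | h
    · exact absurd (eq_bot_iff.2 ((le_inf (h ▸ le_sup_right) le_rfl).trans (hdisj K hKM).le)) hK1
    · refine Solvable.eq_of_le_of_card_le hKM ?_
      have h1 := Solvable.card_sup_of_disjoint hK (hdisj K hKM)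
      rw [h, card_top, ← hcardM] at h1
      exact (Nat.eq_of_mul_eq_mul_left Nat.card_pos h1).le
  obtain ⟨Q1, hQ1⟩ := CoprimeAct.exists_invariant_sylow hSbM hcop (Or.inl hsolv) q
  have hQ1M : (Q1 : Subgroup M).map M.subtype = M := by
    refine hsup _ (map_subtype_le _) hQ1 fun h => ?_
    rw [map_eq_bot_iff_of_injective _ M.subtype_injective] at h
    exact Q1.ne_bot_of_dvd_card hqM h
  have hMq : IsPGroup q M := by
    have h1 := Q1.2.map M.subtype
    rwa [hQ1M] at h1
  have hMc : ⁅M, M⁆ = ⊥ := by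
    by_contra h
    have hlt : ⁅M, M⁆ < M := by
      haveI := hMq.isNilpotent
      haveI : Nontrivial M := (nontrivial_iff_ne_bot M).2 hM1
      have h := Group.IsSolvable.commutator_lt_top_of_nontrivial M
      rw [← map_subtype_lt_map_subtype, map_subtype_commutator] at h
      rwa [← MonoidHom.range_eq_map, range_subtype] at h
    exact hlt.ne (hsup _ hlt.le (by rw [normalizer_eq_top ⁅M, M⁆]; exact le_top) h)
  -- the Sylow 2-subgroups commute
  intro hinv
  obtain ⟨K, f, hf⟩ := ZJ.exists_surjective_of_involves hinv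
  obtain ⟨g, hg, -⟩ := ZJ.exists_qd_linear (p := p)
  obtain ⟨T₂⟩ := (inferInstance : Nonempty (Sylow 2 G))
  refine ZJ.sylow_two_noncomm hp K (g.comp f) (hg.comp hf) T₂ ⟨⟨fun x y => Subtype.ext ?_⟩⟩
  have hmem : ∀ z : (T₂ : Subgroup G), π z ∈ M := by
    intro z
    obtain ⟨k, hk⟩ := T₂.2 z
    obtain ⟨j, hj⟩ := IsPGroup.iff_card.1 P.2
    refine (QuotientGroup.eq_one_iff _).1 ?_
    have h1 : (QuotientGroup.mk (π z) : (G ⧸ Q) ⧸ M) ^ 2 ^ k = 1 := by
      rw [← QuotientGroup.mk_pow, ← map_pow, ← SubmonoidClass.coe_pow, hk, coe_one, map_one]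
      rfl
    have h2 : orderOf (QuotientGroup.mk (π z) : (G ⧸ Q) ⧸ M) ∣ p ^ j := by
      rw [← hj, ← hMP.symm.index_eq_card, index_eq_card]
      exact orderOf_dvd_natCard _
    exact orderOf_eq_one_iff.1 (Nat.eq_one_of_dvd_coprimes
      (Nat.Coprime.pow k j ((Nat.coprime_primes Nat.prime_two Fact.out).2 (Ne.symm hp)))
      (orderOf_dvd_of_pow_eq_one h1) h2)
  have h1 : π ⁅(x : G), (y : G)⁆ = 1 := by
    rw [map_commutatorElement, ← mem_bot, ← hMc]
    exact commutator_mem_commutator (hmem x) (hmem y)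
  have h2 : ⁅(x : G), (y : G)⁆ ∈ Q ⊓ (T₂ : Subgroup G) :=
    ⟨(QuotientGroup.eq_one_iff _).1 h1, by
      rw [commutatorElement_def]
      exact mul_mem (mul_mem (mul_mem x.2 y.2) (Subgroup.inv_mem _ x.2)) (Subgroup.inv_mem _ y.2)⟩
  have h3 : Q ⊓ (T₂ : Subgroup G) = ⊥ := by
    refine eq_bot_iff.2 (ZJ.isPGroup_inf_coprime hQp ?_).le
    obtain ⟨k, hk⟩ := IsPGroup.iff_card.1 T₂.2
    rw [hk]
    exact Nat.Coprime.pow_left k ((Nat.coprime_primes Nat.prime_two Fact.out).2 (Ne.symm hp))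
  rw [h3, mem_bot, commutatorElement_eq_one_iff_mul_comm] at h2
  exact h2

/-- The theorem, for a maximal Sylow subgroup. -/
theorem eq_top_of_maximal (hp : p ≠ 2) (S : Sylow p G) {fam : Set (Subgroup G)}
    (hmax : ∀ H : Subgroup G, (S : Subgroup G) ≤ H → H = S ∨ H = ⊤)
    (hC : centralizer ((Cfsg.pCore p G : Subgroup G) : Set G) ≤ Cfsg.pCore p G)
    (h : Axioms (S : Subgroup G) fam)
    (hN : normalizer ((sInf fam : Subgroup G) : Set G) ≤ S) : (S : Subgroup G) = ⊤ := by
  by_contra htop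
  set I := sInf fam with hI
  obtain ⟨A₀, hA₀⟩ := h.nonempty
  set Q := Cfsg.pCore p G with hQ
  haveI hQn : Q.Normal := Solvable.pCore_normal p
  have hQS : Q ≤ (S : Subgroup G) := Fitting.pCore_le_sylow S
  have hIN : (S : Subgroup G) ≤ normalizer (I : Set G) := le_normalizer_sInf h
  have hIS : I ≤ (S : Subgroup G) := (sInf_le hA₀).trans (h.le A₀ hA₀)
  have hIc : ∀ x ∈ I, ∀ y ∈ I, x * y = y * x := fun x hx y hy =>
    h.comm A₀ hA₀ x (sInf_le hA₀ hx) y (sInf_le hA₀ hy)
  have hnotn : ¬ I.Normal := fun hn => htop (top_le_iff.1 ((normalizer_eq_top I).ge.trans hN))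
  have hne : (S : Subgroup G) ≠ Q := fun he => htop (top_le_iff.1 (le_trans ?_ hN))
  swap
  · intro g _
    rw [hI, ← famInf_self h]
    refine mem_normalizer_famInf h le_rfl ⟨A₀, hA₀, h.le A₀ hA₀⟩ ?_
    rw [he, normalizer_eq_top Q]
    exact mem_top g
  have hst : ZJ.StableNormal p G :=
    ZJ.stableNormal_of_free hp (not_involves_qd_of_maximal hp S hmax hne htop)
  have hnormS : ∀ K : Subgroup G, K.Normal → K ≤ (S : Subgroup G) → K ≤ Q := fun K hK hKS =>
    Solvable.le_pCore p hK (S.2.to_le hKS)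
  have hquad : ∀ B : Subgroup G, B.Normal → IsPGroup p B → centralizer (B : Set G) ≤ Q →
      ∀ a : G, ⁅⁅B, zpowers a⁆, zpowers a⁆ = ⊥ → a ∈ Q := by
    intro B hB hBp hCB a hq
    obtain ⟨D, hD, haD, hDp⟩ := @hst B hB hBp a hq
    refine Solvable.le_pCore p hD ?_ haD
    intro x
    obtain ⟨k, hk⟩ := hDp x x.2
    obtain ⟨j, hj⟩ := Solvable.isPGroup_pCore p (G := G) ⟨_, hCB hk⟩
    refine ⟨k + j, Subtype.ext ?_⟩
    rw [pow_add, pow_mul, SubmonoidClass.coe_pow, SubmonoidClass.coe_pow]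
    exact congrArg Subtype.val hj
  -- `I` lies in the p-core
  have hIQ : I ≤ Q := by
    intro x hx
    refine hquad Q hQn (Solvable.isPGroup_pCore p) hC x ?_
    have h1 : ⁅Q, zpowers x⁆ ≤ I := by
      refine commutator_le.2 fun u hu v hv => ?_
      have hvI : v ∈ I := zpowers_le.2 hx hv
      rw [commutatorElement_def]
      exact mul_mem ((mem_normalizer_iff.1 (hIN (hQS hu)) v).1 hvI) (inv_mem hvI)
    refine le_bot_iff.1 ((commutator_mono h1 (zpowers_le.2 hx)).trans ?_)
    refine commutator_le.2 fun u hu v hv => mem_bot.2 ?_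
    exact commutatorElement_eq_one_iff_mul_comm.2 (hIc u hu v hv)
  suffices hall : ∀ B : Subgroup G, B.Normal → IsPGroup p B → (B ⊓ I).Normal by
    refine hnotn ?_
    have := hall Q hQn (Solvable.isPGroup_pCore p)
    rwa [inf_eq_right.2 hIQ] at this
  intro B hBn hBp
  obtain ⟨n, hn⟩ : ∃ n, Nat.card B = n := ⟨_, rfl⟩
  induction n using Nat.strong_induction_on generalizing B with
  | _ n ih =>
    subst hn
    set Y := B ⊓ I with hY
    set B1 := normalClosure (Y : Set G) with hB1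
    by_contra hnot
    have hB1B : B1 ≤ B := normalClosure_le_normal (fun x hx => hx.1)
    have hB1eq : B1 = B := by
      by_contra hne'
      apply hnot
      have h1 := ih _ (Solvable.card_lt_of_lt (lt_of_le_of_ne hB1B hne')) B1 normalClosure_normal
        (hBp.to_le hB1B) rfl
      rwa [le_antisymm (inf_le_inf_right I hB1B)
        (le_inf subset_normalClosure inf_le_right)] at h1
    have hBS : B ≤ S := (Solvable.le_pCore p hBn hBp).trans hQS
    have hB0 : B ≠ ⊥ := by
      intro h0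
      apply hnot
      have : Y = ⊥ := le_bot_iff.mp (inf_le_left.trans h0.le)
      rw [this]
      infer_instance
    have hB'lt : ⁅B, B⁆ < B := by
      haveI := hBp.isNilpotent
      haveI : Nontrivial B := (nontrivial_iff_ne_bot B).2 hB0
      have h := Group.IsSolvable.commutator_lt_top_of_nontrivial B
      rw [← map_subtype_lt_map_subtype, map_subtype_commutator] at h
      rwa [← MonoidHom.range_eq_map, range_subtype] at h
    have hB'n : (⁅B, B⁆ ⊓ I).Normal :=
      ih _ (Solvable.card_lt_of_lt hB'lt) _ inferInstance (hBp.to_le (commutator_le_self B)) rfl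
    have hYB : ∀ y ∈ Y, ∀ x ∈ B, ⁅x, y⁆ ∈ ⁅B, B⁆ ⊓ I := by
      intro y hy x hx
      refine ⟨commutator_mem_commutator hx hy.1, ?_⟩
      rw [commutatorElement_def]
      exact mul_mem ((mem_normalizer_iff.mp (hIN (hBS hx)) y).mp hy.2) (Subgroup.inv_mem _ hy.2)
    have hB'I : ⁅B, B⁆ ≤ I := by
      haveI := hB'n
      haveI : (B.map (QuotientGroup.mk' (⁅B, B⁆ ⊓ I))).Normal :=
        hBn.map _ (QuotientGroup.mk'_surjective _)
      have h1 : B ≤ (centralizer
          ((B.map (QuotientGroup.mk' (⁅B, B⁆ ⊓ I)) : Subgroup _) : Set _)).comap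
          (QuotientGroup.mk' (⁅B, B⁆ ⊓ I)) := by
        conv_lhs => rw [← hB1eq]
        refine normalClosure_le_normal fun y hy => ?_
        rw [SetLike.mem_coe, mem_comap, mem_centralizer_iff]
        rintro _ ⟨x, hx, rfl⟩
        rw [← commutatorElement_eq_one_iff_mul_comm, ← map_commutatorElement]
        exact (QuotientGroup.eq_one_iff _).mpr (hYB y hy x hx)
      refine (commutator_le.mpr fun x hx y hy => ?_).trans (inf_le_right (a := ⁅B, B⁆))
      refine (QuotientGroup.eq_one_iff _).mp ?_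
      rw [← QuotientGroup.mk'_apply (N := ⁅B, B⁆ ⊓ I), map_commutatorElement,
        commutatorElement_eq_one_iff_mul_comm]
      exact mem_centralizer_iff.mp (h1 hy) _ (mem_map_of_mem _ hx)
    have hB'cent : ⁅⁅B, B⁆, B⁆ = ⊥ := by
      rw [commutator_eq_bot_iff_le_centralizer]
      intro c hc
      rw [mem_centralizer_iff]
      intro x hx
      have h1 : B1 ≤ centralizer ((⁅B, B⁆ : Subgroup G) : Set G) :=
        normalClosure_le_normal fun y hy => mem_centralizer_iff.mpr fun d hd =>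
          hIc d (hB'I hd) y hy.2
      exact (mem_centralizer_iff.mp (h1 (hB1eq.symm ▸ hx)) c hc).symm
    by_cases hex : ∃ A ∈ fam, ¬ B ≤ A
    swap
    · push Not at hex
      apply hnot
      rw [show Y = B from inf_eq_left.2 (le_sInf hex)]
      exact hBn
    obtain ⟨A1, hA1, hA1B⟩ := hex
    obtain ⟨A, hA, -, hAB, hBA⟩ :=
      h.rep B hBS hB'cent ⟨A1, hA1, hB'I.trans (sInf_le hA1), hA1B⟩
    -- the centralizer of `B` lies in the p-core
    have hSY : (S : Subgroup G) ≤ normalizer (Y : Set G) := by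
      intro s hs
      rw [mem_normalizer_iff]
      intro x
      exact and_congr ⟨fun h => hBn.conj_mem x h s, fun h => by
        have := hBn.conj_mem _ h s⁻¹
        simpa [mul_assoc] using this⟩ (mem_normalizer_iff.mp (hIN hs) x)
    have hNY : normalizer (Y : Set G) = S := (hmax _ hSY).resolve_right fun he =>
      hnot (normalizer_eq_top_iff.1 he)
    have hCB : centralizer (B : Set G) ≤ Q := by
      refine hnormS _ inferInstance (fun c hc => hNY.le ?_)
      rw [mem_normalizer_iff]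
      intro x
      have key : ∀ z ∈ B, c * z * c⁻¹ = z := fun z hz => by
        rw [← mem_centralizer_iff.1 hc z hz, mul_inv_cancel_right]
      constructor
      · intro hx
        rw [key x hx.1]
        exact hx
      · intro hx
        have h1 : x = c * x * c⁻¹ := by
          have h2 := key _ hx.1
          exact (mul_left_cancel (mul_right_cancel h2)).symm
        rw [h1]
        exact hx
    have hAQ : A ≤ Q := by
      intro a ha
      refine hquad B hBn hBp hCB a ?_
      have h1 : ⁅B, zpowers a⁆ ≤ A := by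
        refine commutator_le.2 fun u hu v hv => ?_
        have hvA : v ∈ A := zpowers_le.2 ha hv
        rw [commutatorElement_def]
        exact mul_mem ((mem_normalizer_iff.1 (hBA hu) v).1 hvA) (inv_mem hvA)
      refine le_bot_iff.1 ((commutator_mono h1 (zpowers_le.2 ha)).trans ?_)
      refine commutator_le.2 fun u hu v hv => mem_bot.2 ?_
      exact commutatorElement_eq_one_iff_mul_comm.2 (h.comm A hA u hu v hv)
    have hIQn : (famInf fam Q).Normal := normalizer_eq_top_iff.1 (top_le_iff.1 fun g _ =>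
      mem_normalizer_famInf h hQS ⟨A, hA, hAQ⟩ (by rw [normalizer_eq_top Q]; exact mem_top g))
    have hYIQ : Y ≤ famInf fam Q :=
      inf_le_right.trans (le_sInf fun C hC => sInf_le hC.1)
    exact hAB ((hB1eq.ge.trans (normalClosure_le_normal hYIQ)).trans (sInf_le ⟨hA, hAQ⟩))

/-- The general group theorem. -/
theorem eq_top (hp : p ≠ 2) (S : Sylow p G) {fam : Set (Subgroup G)}
    (hC : centralizer ((Cfsg.pCore p G : Subgroup G) : Set G) ≤ Cfsg.pCore p G)
    (h : Axioms (S : Subgroup G) fam)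
    (hN : normalizer ((sInf fam : Subgroup G) : Set G) ≤ S) : (S : Subgroup G) = ⊤ := by
  by_contra htop
  obtain ⟨H, ⟨hSH, hHS⟩, hmin⟩ := Set.exists_min_image
    {H : Subgroup G | (S : Subgroup G) ≤ H ∧ H ≠ S} (fun H => Nat.card H) (Set.toFinite _)
    ⟨⊤, le_top, fun h => htop h.symm⟩
  set SH : Sylow p H := S.subtype hSH with hSHdef
  have hSHe : (SH : Subgroup H) = (S : Subgroup G).subgroupOf H := rfl
  set fam' : Set (Subgroup H) := (fun A => A.subgroupOf H) '' fam with hfam'
  have hmap : ∀ A ≤ (S : Subgroup G), (A.subgroupOf H).map H.subtype = A := fun A hA =>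
    map_subgroupOf_eq_of_le (hA.trans hSH)
  have hmax : ∀ K : Subgroup H, (SH : Subgroup H) ≤ K → K = SH ∨ K = ⊤ := by
    intro K hK
    have h1 : (S : Subgroup G) ≤ K.map H.subtype := (hmap _ le_rfl).ge.trans (map_mono hK)
    by_cases he : K.map H.subtype = S
    · left
      apply map_injective H.subtype_injective
      rw [he, hSHe, hmap _ le_rfl]
    · right
      apply map_injective H.subtype_injective
      rw [Solvable.eq_of_le_of_card_le (map_subtype_le K) (hmin _ ⟨h1, he⟩),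
        ← MonoidHom.range_eq_map, range_subtype]
  haveI hQn : (Cfsg.pCore p G).Normal := Solvable.pCore_normal p
  have hQS : Cfsg.pCore p G ≤ (S : Subgroup G) := Fitting.pCore_le_sylow S
  have hle : (Cfsg.pCore p G).subgroupOf H ≤ Cfsg.pCore p H :=
    Solvable.le_pCore p inferInstance
      ((Solvable.isPGroup_pCore p).comap_of_injective H.subtype H.subtype_injective)
  have hC' : centralizer ((Cfsg.pCore p H : Subgroup H) : Set H) ≤ Cfsg.pCore p H := by
    refine le_trans (fun c hc => ?_) hle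
    refine mem_subgroupOf.2 (hC (mem_centralizer_iff.2 fun y hy => ?_))
    exact congrArg Subtype.val (mem_centralizer_iff.1 hc ⟨y, hSH (hQS hy)⟩
      (hle (mem_subgroupOf.2 hy)))
  have hnormmap : ∀ (U : Subgroup H) (g : H), g ∈ normalizer (U : Set H) →
      (g : G) ∈ normalizer ((U.map H.subtype : Subgroup G) : Set G) := fun U g hg =>
    le_normalizer_map H.subtype ⟨g, hg, rfl⟩
  have hInf : ∀ U ≤ (SH : Subgroup H), ∀ x : H,
      x ∈ famInf fam' U ↔ (∀ A ∈ fam, A ≤ U.map H.subtype → (x : G) ∈ A) := by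
    intro U _ x
    simp only [famInf, mem_sInf, Set.mem_ofPred_eq]
    constructor
    · intro hx A hA hAU
      refine mem_subgroupOf.1 (hx (A.subgroupOf H) ⟨⟨A, hA, rfl⟩, ?_⟩)
      rw [← map_le_map_iff_of_injective H.subtype_injective, hmap A (h.le A hA)]
      exact hAU
    · rintro hx _ ⟨⟨A, hA, rfl⟩, hAU⟩
      refine mem_subgroupOf.2 (hx A hA ?_)
      rw [← hmap A (h.le A hA)]
      exact map_mono hAU
  have h' : Axioms (SH : Subgroup H) fam' := by
    refine ⟨?_, ?_, h.nonempty.image _, ?_, ?_⟩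
    · rintro _ ⟨A, hA, rfl⟩
      exact fun x hx => h.le A hA hx
    · rintro _ ⟨A, hA, rfl⟩ x hx y hy
      exact Subtype.ext (h.comm A hA x hx y hy)
    · rintro U hU ⟨_, ⟨A, hA, rfl⟩, hAU⟩ g hg x hx
      have hUS : U.map H.subtype ≤ S := (map_mono hU).trans (hmap _ le_rfl).le
      have hA' : A ≤ U.map H.subtype := (hmap A (h.le A hA)).ge.trans (map_mono hAU)
      rw [hInf U hU] at hx ⊢
      intro C hC hCU
      have hxI : (x : G) ∈ famInf fam (U.map H.subtype) := by
        simp only [famInf, mem_sInf, Set.mem_ofPred_eq]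
        exact fun D hD => hx D hD.1 hD.2
      exact (mem_sInf.1 (h.inv _ hUS ⟨A, hA, hA'⟩ g (hnormmap U g hg) x hxI)) C ⟨hC, hCU⟩
    · rintro B hB hB2 ⟨_, ⟨A, hA, rfl⟩, hAB, hnB⟩
      have hBS : B.map H.subtype ≤ S := (map_mono hB).trans (hmap _ le_rfl).le
      obtain ⟨C, hC, hCB, hnC, hBC⟩ := h.rep (B.map H.subtype) hBS
        (by rw [← map_commutator, ← map_commutator, hB2, Subgroup.map_bot])
        ⟨A, hA, by
          rw [← map_commutator]
          exact (map_mono hAB).trans (hmap A (h.le A hA)).le,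
          fun hle' => hnB fun x hx => hle' ⟨x, hx, rfl⟩⟩
      refine ⟨_, ⟨C, hC, rfl⟩, fun x hx => ?_, fun hle' => ?_, fun x hx => ?_⟩
      · refine mem_subgroupOf.2 (hCB ?_)
        rw [← map_commutator]
        exact ⟨x, hx, rfl⟩
      · refine hnC ?_
        rintro _ ⟨x, hx, rfl⟩
        exact hle' hx
      · rw [mem_normalizer_iff]
        intro y
        exact mem_normalizer_iff.1 (hBC ⟨x, hx, rfl⟩) (y : G)
  have hI : sInf fam' = (sInf fam).subgroupOf H := by
    rw [← famInf_self h']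
    ext x
    rw [hInf _ le_rfl, mem_subgroupOf, mem_sInf]
    exact ⟨fun hx A hA => hx A hA ((h.le A hA).trans (hmap _ le_rfl).ge),
      fun hx A hA _ => hx A hA⟩
  have hN' : normalizer ((sInf fam' : Subgroup H) : Set H) ≤ SH := by
    intro g hg
    refine mem_subgroupOf.2 (hN ?_)
    obtain ⟨A₀, hA₀⟩ := h.nonempty
    have h1 := hnormmap _ g hg
    rwa [hI, hmap _ ((sInf_le hA₀).trans (h.le A₀ hA₀))] at h1
  have h1 := eq_top_of_maximal hp SH hmax hC' h' hN'
  refine hHS (le_antisymm (fun x hx => ?_) hSH)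
  exact mem_subgroupOf.1 (h1.ge (mem_top (⟨x, hx⟩ : H)))

end CfsgLib.ReplFamily
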