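import Cfsg.Agent.Fusion.InnerThompson
import Cfsg.Agent.Fusion.InnerCriterion
import Cfsg.Agent.Fusion.ReplacementFamily

/-
The axiomatic Glauberman-Thompson criterion: a saturated fusion system (p odd) is inner as soon as
the normalizer system of the intersection of an invariant replacement family is inner.
-/

set_option autoImplicit false

open Cfsg Cfsg.FusionSystem

namespace CfsgLib.Fusion

universe u

variable {Ω : Type u} [Group Ω] {S : Subgroup Ω} {F : FusionSystem S} [Finite S]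

/-- Invariance and replacement for a family of abelian subgroups of `S`. -/
structure ReplData (F : FusionSystem S) (𝒜 : Set (Subgroup Ω)) : Prop where
  le : ∀ A ∈ 𝒜, A ≤ S
  comm : ∀ A ∈ 𝒜, ∀ x ∈ A, ∀ y ∈ A, x * y = y * x
  nonempty : 𝒜.Nonempty
  inv : ∀ Q : Subgroup Ω, Q ≤ S → (∃ A ∈ 𝒜, A ≤ Q) → ∀ α ∈ F.autGroup Q, ∀ x : ↥Q,
    (∀ A ∈ 𝒜, A ≤ Q → (x : Ω) ∈ A) → ∀ A ∈ 𝒜, A ≤ Q → ((α x : ↥Q) : Ω) ∈ A
  rep : ∀ B : Subgroup Ω, B ≤ S → ⁅⁅B, B⁆, B⁆ = ⊥ → (∃ A ∈ 𝒜, ⁅B, B⁆ ≤ A ∧ ¬ B ≤ A) →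
    ∃ A ∈ 𝒜, ⁅B, B⁆ ≤ A ∧ ¬ B ≤ A ∧ B ≤ Subgroup.normalizer (A : Set Ω)

variable {𝒜 : Set (Subgroup Ω)}

theorem ReplData.sInf_le_S (h : ReplData F 𝒜) : sInf 𝒜 ≤ S := by
  obtain ⟨A, hA⟩ := h.nonempty
  exact (sInf_le hA).trans (h.le A hA)

theorem ReplData.stab (h : ReplData F 𝒜) {α : MulAut S} (hα : α ∈ F.autGroup S) (x : S)
    (hx : (x : Ω) ∈ sInf 𝒜) : ((α x : S) : Ω) ∈ sInf 𝒜 := by
  obtain ⟨A₀, hA₀⟩ := h.nonempty
  exact Subgroup.mem_sInf.2 fun A hA => h.inv S le_rfl ⟨A₀, hA₀, h.le A₀ hA₀⟩ α hα x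
    (fun B hB _ => Subgroup.mem_sInf.1 hx B hB) A hA (h.le A hA)

theorem ReplData.le_normalizer (h : ReplData F 𝒜) :
    S ≤ Subgroup.normalizer ((sInf 𝒜 : Subgroup Ω) : Set Ω) := fun g hg =>
  mem_normalizer_of_conj_mem h.sInf_le_S fun x hx =>
    h.stab (α := MulAut.conj ⟨g, hg⟩)
      ((autGroup_carrier le_rfl).2 (conj_mem_of_eq le_rfl hg fun _ => rfl))
      ⟨x, h.sInf_le_S hx⟩ hx

/-- The constrained case. -/
theorem ReplData.innerAt_centric (h : ReplData F 𝒜) (p : ℕ) [Fact p.Prime] (hp : p ≠ 2)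
    (hS : IsPGroup p S) (hF : F.IsSaturated p) (hI : InnerAt F (sInf 𝒜)) {Q : Subgroup Ω}
    (hQ : Q ≤ S) (hQn : S ≤ Subgroup.normalizer (Q : Set Ω)) (hc : centralizerIn S Q ≤ Q) :
    InnerAt F Q := by
  obtain ⟨E, hE, hEs, -, hEn, hEF, hEc⟩ :=
    exists_normSystem_eq p hS hF (fun {_} _ => True) hQ hQn fun _ _ => trivial
  have hcon := hEc hc
  suffices hinn : IsInner E by
    intro P φ hφ
    obtain ⟨g, hg, he⟩ := hinn P φ ((hE P).ge hφ)
    exact ⟨g, ⟨hg, hQn hg⟩, he⟩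
  obtain ⟨G, hG, ι, hm⟩ := exists_model p hS hEs hEn hcon
  have := hm.1
  have hinj := hm.2.1.1
  obtain ⟨T, hT⟩ := hm.2.2.1
  have hNle := normalizer_img_le p hS hm hEn hcon h.sInf_le_S h.le_normalizer
    (hI.of_le hEF)
  have himg : ∀ A, A ≤ S → img ι A ≤ (T : Subgroup G) := fun A _ =>
    hT ▸ img_le_range A
  have hfam : ∀ A ≤ S, ∀ U : Subgroup G, U ≤ ι.range → (img ι A ≤ U ↔ A ≤ preimg ι U) := by
    intro A hA U hU
    constructor
    · exact fun hle x hx => mem_preimg.2 ⟨hA hx, hle (apply_mem_img (x := ⟨x, hA hx⟩) hx)⟩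
    · rintro hle _ ⟨x, hx, rfl⟩
      exact (mem_preimg.1 (hle hx)).2
  have hax : ReplFamily.Axioms (T : Subgroup G) ((fun A => img ι A) '' 𝒜) := by
    refine ⟨?_, ?_, h.nonempty.image _, ?_, ?_⟩
    · rintro _ ⟨A, hA, rfl⟩
      exact himg A (h.le A hA)
    · rintro _ ⟨A, hA, rfl⟩ _ ⟨x, hx, rfl⟩ _ ⟨y, hy, rfl⟩
      rw [← map_mul, ← map_mul]
      exact congrArg ι (Subtype.ext (h.comm A hA x hx y hy))
    · rintro U hU ⟨_, ⟨A, hA, rfl⟩, hAU⟩ g hg z hz
      rw [hT] at hU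
      have hzU : z ∈ U := hAU (Subgroup.mem_sInf.1 hz _ ⟨⟨A, hA, rfl⟩, hAU⟩)
      obtain ⟨s, rfl⟩ := hU hzU
      set P := preimg ι U with hP
      have hPS : P ≤ S := preimg_le U
      obtain ⟨φ, hφ, hφι⟩ := exists_realized_hom hm.2.1 hPS (g := g) fun x =>
        hU ((Subgroup.mem_normalizer_iff.1 hg _).1 (mem_preimg.1 x.2).2)
      have hr : φ.range = P := by
        refine eq_of_le_of_card_le hPS ?_ (card_range hφ).ge
        rintro _ ⟨x, rfl⟩
        refine mem_preimg.2 ⟨apply_mem_S hφ x, ?_⟩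
        rw [hφι]
        exact (Subgroup.mem_normalizer_iff.1 hg _).1 (mem_preimg.1 x.2).2
      have hα : autOfRange φ (E.injective_of_mem hφ) hr ∈ F.autGroup P :=
        autGroup_mono hEF P (autOfRange_mem hφ hr)
      have hsP : (s : Ω) ∈ P := mem_preimg.2 ⟨s.2, hzU⟩
      have key := h.inv P hPS ⟨A, hA, (hfam A (h.le A hA) U hU).1 hAU⟩ _ hα ⟨s, hsP⟩
        fun B hB hBP => (mem_img hinj).1
          (Subgroup.mem_sInf.1 hz _ ⟨⟨B, hB, rfl⟩, (hfam B (h.le B hB) U hU).2 hBP⟩)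
      refine Subgroup.mem_sInf.2 ?_
      rintro _ ⟨⟨B, hB, rfl⟩, hBU⟩
      have h1 := key B hB ((hfam B (h.le B hB) U hU).1 hBU)
      rw [coe_autOfRange] at h1
      rw [← hφι ⟨s, hsP⟩]
      exact apply_mem_img (x := ⟨φ ⟨s, hsP⟩, apply_mem_S hφ _⟩) h1
    · rintro B hB hB2 ⟨_, ⟨A, hA, rfl⟩, hAB, hnB⟩
      rw [hT] at hB
      set B' := preimg ι B with hB'
      have hBS : B' ≤ S := preimg_le B
      have hcomm : ∀ x ∈ B', ∀ y ∈ B', ∃ hxy : x * y * x⁻¹ * y⁻¹ ∈ S,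
          ι ⟨x * y * x⁻¹ * y⁻¹, hxy⟩ ∈ ⁅B, B⁆ := by
        intro x hx y hy
        obtain ⟨hxS, hxB⟩ := mem_preimg.1 hx
        obtain ⟨hyS, hyB⟩ := mem_preimg.1 hy
        refine ⟨mul_mem (mul_mem (mul_mem hxS hyS) (Subgroup.inv_mem _ hxS))
          (Subgroup.inv_mem _ hyS), ?_⟩
        have h1 := Subgroup.commutator_mem_commutator hxB hyB
        rw [commutatorElement_def, ← map_inv, ← map_inv, ← map_mul, ← map_mul, ← map_mul] at h1
        exact h1
      have hle : ⁅B', B'⁆ ≤ preimg ι ⁅B, B⁆ := Subgroup.commutator_le.2 fun x hx y hy => by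
        obtain ⟨hS', hm'⟩ := hcomm x hx y hy
        exact mem_preimg.2 ⟨by rw [commutatorElement_def]; exact hS',
          by simp only [commutatorElement_def]; exact hm'⟩
      have hle2 : ⁅⁅B', B'⁆, B'⁆ = ⊥ := by
        refine le_bot_iff.1 (Subgroup.commutator_le.2 fun x hx y hy => Subgroup.mem_bot.2 ?_)
        obtain ⟨hxS, hxB⟩ := mem_preimg.1 (hle hx)
        obtain ⟨hyS, hyB⟩ := mem_preimg.1 hy
        have h1 := Subgroup.commutator_mem_commutator hxB hyB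
        rw [hB2, Subgroup.mem_bot, commutatorElement_eq_one_iff_mul_comm, ← map_mul, ← map_mul] at h1
        rw [commutatorElement_eq_one_iff_mul_comm]
        exact congrArg Subtype.val (hinj h1)
      have himgB : img ι B' = B := img_preimg hB
      have hcommle : ⁅B', B'⁆ ≤ A := fun x hx => by
        obtain ⟨hxS, hxB⟩ := mem_preimg.1 (hle hx)
        exact (mem_img hinj).1 (hAB hxB)
      obtain ⟨C, hC, hCB, hnC, hBC⟩ := h.rep B' hBS hle2
        ⟨A, hA, hcommle, fun hle' => hnB (himgB ▸ Subgroup.map_mono fun x hx => hle' hx)⟩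
      refine ⟨_, ⟨C, hC, rfl⟩, ?_, ?_, ?_⟩
      · refine Subgroup.commutator_le.2 fun u hu v hv => ?_
        obtain ⟨x, hx, rfl⟩ := himgB.ge hu
        obtain ⟨y, hy, rfl⟩ := himgB.ge hv
        rw [← map_commutatorElement]
        refine apply_mem_img (hCB ?_)
        have := Subgroup.commutator_mem_commutator (Subgroup.mem_subgroupOf.1 hx)
          (Subgroup.mem_subgroupOf.1 hy)
        rw [commutatorElement_def] at this ⊢
        simpa using this
      · exact fun hle' => hnC fun x hx => (mem_img hinj).1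
          (hle' (himgB ▸ apply_mem_img (x := ⟨x, hBS hx⟩) hx))
      · intro u hu
        obtain ⟨x, hx, rfl⟩ := himgB.ge hu
        rw [Subgroup.mem_normalizer_iff]
        intro z
        constructor
        · rintro ⟨c, hc, rfl⟩
          rw [← map_inv, ← map_mul, ← map_mul]
          exact apply_mem_img ((Subgroup.mem_normalizer_iff.1 (hBC hx) _).1 hc)
        · intro hz
          obtain ⟨c, hc, hce⟩ := hz
          have : z = ι (x⁻¹ * c * x) := by
            rw [map_mul, map_mul, map_inv, hce]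
            group
          rw [this]
          exact apply_mem_img ((Subgroup.mem_normalizer_iff''.1 (hBC hx) _).1 hc)
  refine isInner_of_range_top hm.2.1 ?_
  rw [← hT]
  refine ReplFamily.eq_top hp T hm.2.2.2 hax ?_
  have heq : sInf ((fun A => img ι A) '' 𝒜) = img ι (sInf 𝒜) := by
    refine le_antisymm (fun z hz => ?_) (le_sInf ?_)
    · obtain ⟨A₀, hA₀⟩ := h.nonempty
      obtain ⟨s, hs, rfl⟩ := Subgroup.mem_sInf.1 hz _ ⟨A₀, hA₀, rfl⟩
      exact apply_mem_img (Subgroup.mem_sInf.2 fun A hA =>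
        (mem_img hinj).1 (Subgroup.mem_sInf.1 hz _ ⟨A, hA, rfl⟩))
    · rintro _ ⟨A, hA, rfl⟩
      exact Subgroup.map_mono fun x hx => sInf_le hA hx
  rw [heq, hT]
  exact hNle

/-- **The criterion**. -/
theorem ReplData.isInner (h : ReplData F 𝒜) (p : ℕ) [Fact p.Prime] (hp : p ≠ 2)
    (hS : IsPGroup p S) (hF : F.IsSaturated p) (hI : InnerAt F (sInf 𝒜)) : IsInner F := by
  by_cases hS1 : S = ⊥
  · intro P φ hφ
    refine ⟨1, one_mem _, fun x => ?_⟩
    have h1 := Subgroup.mem_bot.1 (hS1 ▸ apply_mem_S hφ x)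
    have h2 := Subgroup.mem_bot.1 (hS1 ▸ le_of_mem_hom hφ x.2)
    rw [h1, h2]
    group
  have hIn := h.le_normalizer
  have hautS : ∀ a ∈ F.autGroup S, ∃ g ∈ S, ∀ x : S, ((a x : S) : Ω) = g * x * g⁻¹ := by
    intro a ha
    have hφ := (autGroup_carrier le_rfl).1 ha
    have hsub : S ⊔ sInf 𝒜 ≤ S := sup_le le_rfl h.sInf_le_S
    obtain ⟨g, hg, he⟩ := hI S (S.subtype.comp a.toMonoidHom) ⟨hφ, le_inf le_rfl hIn,
      fun x => ⟨(a x).2, hIn (a x).2⟩, (S.subtype.comp a.toMonoidHom).comp (Subgroup.inclusion hsub),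
      restrict_mem hφ hsub, fun x => rfl, by
        refine eq_of_le_of_card_le h.sInf_le_S ?_
          (card_map_subgroupOf (F.injective_of_mem (restrict_mem hφ hsub)) le_sup_right).ge
        intro y hy
        obtain ⟨x, hx, hxI, rfl⟩ := mem_map_subgroupOf.1 hy
        exact h.stab ha ⟨x, hsub hx⟩ hxI⟩
    exact ⟨g, hg.1, he⟩
  have hall : ∀ (k : ℕ) (Q : Subgroup Ω), Nat.card S - Nat.card Q = k → Q ≤ S → Q ≠ ⊥ →
      S ≤ Subgroup.normalizer (Q : Set Ω) → InnerAt F Q := by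
    intro k
    induction k using Nat.strong_induction_on with
    | _ k ihk =>
    intro Q hk hQS hQ1 hQn
    refine innerAt_step p (criterionThompson p)
      (fun S' E hfin hS' _ hEs hfree hloc =>
        isInner_of_criterion p (criterionThompson p) _ S' E hfin hS' rfl hEs hfree hloc)
      hS hF (Or.inl hp) hQS hQ1 hQn (fun hc => h.innerAt_centric p hp hS hF hI hQS hQn hc)
      (fun a ha _ => hautS a ha) fun P hQP hPS hPst => ?_
    have hPn : S ≤ Subgroup.normalizer (P : Set Ω) := fun g hg => by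
      refine mem_normalizer_of_conj_mem hPS fun x hx => ?_
      exact (hPst (MulAut.conj ⟨g, hg⟩)
        (fun y => ((Subgroup.mem_normalizer_iff.1 (hQn hg)) y).symm) ⟨x, hPS hx⟩).2 hx
    have := finite_of_le hPS
    have h1 : Nat.card Q < Nat.card P :=
      lt_of_le_of_ne (card_le_of_le hPS hQP.le) fun he =>
        hQP.ne (eq_of_le_of_card_le hPS hQP.le he.ge)
    have h2 := card_le_of_le le_rfl hPS
    exact ihk _ (by omega) P rfl hPS
      (fun hb => by rw [hb, Subgroup.card_bot] at h1; have := finite_of_le hQS; have := Nat.card_pos (α := Q); omega)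
      hPn
  have hloc := thompsonLoc_of_char p hS hS1 fun C hC hC1 =>
    hall _ C rfl hC.1 hC1 hC.le_normalizer
  exact isInner_of_thompson p hS hF (Or.inl hp) hloc.1 hloc.2

end CfsgLib.Fusion
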