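import Cfsg.Agent.Fusion.InnerZJ
import Cfsg.Agent.Fusion.Quotient
import Cfsg.Agent.LocalB.Tate
import Cfsg.Agent.Transfer.Basic

/-!
Innerness of normalizers between the derived and the Frattini subgroup.
-/

set_option autoImplicit false

open Cfsg Cfsg.FusionSystem
open scoped commutatorElement

namespace CfsgLib.Fusion

universe u

/-- The Frattini subgroup is preserved by isomorphisms. -/
theorem map_frattini_le_of_equiv {G H : Type*} [Group G] [Group H] (e : G ≃* H) :
    (frattini G).map e.toMonoidHom ≤ frattini H := by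
  rw [Subgroup.map_le_iff_le_comap]
  exact frattini_le_comap_frattini_of_surjective e.surjective

/-- A group with a self-normalizing Sylow subgroup `T` and a normal subgroup between `[T,T]` and
`Φ(T)` has a normal `p`-complement. -/
theorem hasNormalPComplement_of_frattini {G : Type*} [Group G] [Finite G] {p : ℕ} [Fact p.Prime]
    (T : Sylow p G) (N : Subgroup G) [N.Normal] (hN1 : ⁅(T : Subgroup G), (T : Subgroup G)⁆ ≤ N)
    (hN2 : N ≤ (frattini (T : Subgroup G)).map (T : Subgroup G).subtype)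
    (hnorm : Subgroup.normalizer ((T : Subgroup G) : Set G) ≤ T) : HasNormalPComplement p G := by
  have hNT : N ≤ T := hN2.trans (Subgroup.map_subtype_le _)
  let π := QuotientGroup.mk' N
  have hπ : Function.Surjective π := QuotientGroup.mk'_surjective N
  set Tb : Sylow p (G ⧸ N) := T.mapSurjective hπ
  have hTbc : (Tb : Subgroup (G ⧸ N)) = (T : Subgroup G).map π := Sylow.coe_mapSurjective ..
  have hback : (T : Subgroup G) = (Tb : Subgroup (G ⧸ N)).comap π := by
    rw [hTbc, Subgroup.comap_map_eq, QuotientGroup.ker_mk', sup_eq_left.2 hNT]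
  have hab : ∀ x ∈ (Tb : Subgroup (G ⧸ N)), ∀ y ∈ (Tb : Subgroup (G ⧸ N)), x * y = y * x := by
    intro x hx y hy
    rw [hTbc] at hx hy
    obtain ⟨a, ha, rfl⟩ := hx
    obtain ⟨b, hb, rfl⟩ := hy
    refine commutatorElement_eq_one_iff_mul_comm.1 ?_
    rw [← map_commutatorElement]
    exact (QuotientGroup.eq_one_iff _).2 (hN1 (Subgroup.commutator_mem_commutator ha hb))
  have hNb : Subgroup.normalizer ((Tb : Subgroup (G ⧸ N)) : Set (G ⧸ N)) ≤
      Subgroup.centralizer ((Tb : Subgroup (G ⧸ N)) : Set (G ⧸ N)) := by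
    intro y hy
    obtain ⟨x, rfl⟩ := hπ y
    have hxN : x ∈ Subgroup.normalizer ((T : Subgroup G) : Set G) := by
      rw [hback]
      exact Subgroup.le_normalizer_comap π hy
    have hxT : π x ∈ (Tb : Subgroup (G ⧸ N)) := hback.le (hnorm hxN)
    exact Subgroup.mem_centralizer_iff.2 fun z hz => hab z hz _ hxT
  obtain ⟨P, K, hK, hKP⟩ := CfsgLib.TransferBasic.hasNormalPComplement_of_le_centralizer Tb hNb
  have hcop : (Nat.card K).Coprime p := by
    rw [← hKP.index_eq_card]
    exact ((Fact.out : p.Prime).coprime_iff_not_dvd.2 P.not_dvd_index).symm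
  obtain ⟨k, hk⟩ := IsPGroup.iff_card.1 P.2
  have hidx : (K.comap π).index = p ^ k := by
    rw [Subgroup.index_comap_of_surjective _ hπ, hKP.symm.index_eq_card, hk]
  have hle := CfsgLib.PResidual.pResidual_le (p := p) hidx
  have hTR : ∀ x : (T : Subgroup G), (x : G) ∈ pResidual p G → x = 1 := by
    refine CfsgLib.LocalB.Tate.inf_pResidual_eq_bot T fun x hx => ?_
    have h1 : π x ∈ (Tb : Subgroup (G ⧸ N)) ⊓ K := ⟨hback.le x.2, hle hx⟩
    rw [CfsgLib.ZJ.isPGroup_inf_coprime Tb.2 hcop, Subgroup.mem_bot] at h1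
    obtain ⟨y, hy, hyx⟩ := hN2 ((QuotientGroup.eq_one_iff _).1 h1)
    rwa [← show y = x from Subtype.ext hyx]
  rw [CfsgLib.PResidual.hasNormalPComplement_iff]
  refine CfsgLib.PResidual.coprime_of_not_dvd Fact.out fun hdvd => ?_
  obtain ⟨x, hx⟩ := exists_prime_orderOf_dvd_card' p hdvd
  have hxo : orderOf (x : G) = p := by rw [Subgroup.orderOf_coe, hx]
  have hxp : IsPGroup p (Subgroup.zpowers (x : G)) :=
    IsPGroup.of_card (n := 1) (by rw [Nat.card_zpowers, hxo, pow_one])
  obtain ⟨T', hT'⟩ := hxp.exists_le_sylow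
  obtain ⟨g, hg⟩ := MulAction.exists_smul_eq G T' T
  have h1 : g * (x : G) * g⁻¹ ∈ (T : Subgroup G) := by
    rw [← hg, Sylow.coe_subgroup_smul]
    exact ⟨x, hT' (Subgroup.mem_zpowers _), rfl⟩
  haveI := CfsgLib.PResidual.pResidual_normal (G := G) p
  have h2 : g * (x : G) * g⁻¹ ∈ pResidual p G :=
    (CfsgLib.PResidual.pResidual_normal (G := G) p).conj_mem _ x.2 g
  have h3 : g * (x : G) * g⁻¹ = 1 := congrArg Subtype.val (hTR ⟨_, h1⟩ h2)
  rw [conj_eq_one_iff] at h3
  rw [h3, orderOf_one] at hxo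
  exact (Fact.out : p.Prime).ne_one hxo.symm

variable {Ω : Type u} [Group Ω] {S : Subgroup Ω} {F : FusionSystem S} [Finite S]

/-- If `N_F(S)` is inner then so is `N_F(Q)` for `S' ≤ Q ≤ Φ(S)`. -/
theorem innerAt_of_le_frattini (p : ℕ) [Fact p.Prime] (hS : IsPGroup p S) (hF : F.IsSaturated p)
    (hinn : InnerAt F S) {Q : Subgroup Ω} (h1 : (commutator S).map S.subtype ≤ Q)
    (h2 : Q ≤ (frattini S).map S.subtype) : InnerAt F Q := by
  have hQ : Q ≤ S := h2.trans (Subgroup.map_subtype_le _)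
  have hcomm : ∀ X : Subgroup Ω, Q ≤ X → X ≤ S → S ≤ Subgroup.normalizer (X : Set Ω) := by
    intro X hQX hXS g hg
    refine mem_normalizer_of_conj_mem hXS fun x hx => ?_
    have hc : ⁅(⟨g, hg⟩ : S), (⟨x, hXS hx⟩ : S)⁆ ∈ commutator S := by
      rw [commutator_def]
      exact Subgroup.commutator_mem_commutator (Subgroup.mem_top _) (Subgroup.mem_top _)
    have h3 : g * x * g⁻¹ * x⁻¹ ∈ X := hQX (h1 ⟨_, hc, rfl⟩)
    simpa using X.mul_mem h3 hx
  have hQn := hcomm Q le_rfl hQ
  obtain ⟨E, hE, hEs, -, hEn, hEF, -⟩ :=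
    exists_normSystem_eq p hS hF (fun {_} _ => True) hQ hQn fun _ _ => trivial
  have hEinn := hinn.of_le hEF
  have hsc := stronglyClosed_of_isNormal hEn
  suffices hle : E ≤ innerFusionSystem S by
    intro P φ hφ
    obtain ⟨-, g, hg, hgx⟩ := hle P (hE P ▸ hφ)
    exact ⟨g, ⟨hg, hQn hg⟩, hgx⟩
  refine alperin_saturated p hS hEs _ fun X hX α hα => ?_
  rcases hX with rfl | hess
  · have hsub : X ⊔ X ≤ X := sup_le le_rfl le_rfl
    obtain ⟨g, hg, hgx⟩ := hEinn X (X.subtype.comp α.toMonoidHom)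
      ⟨(autGroup_carrier le_rfl).1 hα, normalizerIn_self.ge,
        fun x => normalizerIn_self.ge (α x).2,
        (X.subtype.comp α.toMonoidHom).comp (Subgroup.inclusion hsub),
        restrict_mem ((autGroup_carrier le_rfl).1 hα) hsub, fun x => rfl, by
          rw [map_subgroupOf_congr (ψ := (X.subtype.comp α.toMonoidHom).comp
            (Subgroup.inclusion hsub)) (χ := X.subtype.comp α.toMonoidHom) le_sup_right
            le_rfl fun _ _ => rfl, map_subgroupOf_self, range_subtype_comp]⟩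
    exact (autGroup_carrier le_rfl).2 ⟨le_rfl, g, hg.1, hgx⟩
  exfalso
  have hXS := hess.1.1
  have hQX := le_essential p hS hEn hess
  have hXn := hcomm X hQX hXS
  obtain ⟨EX, hEX, hEXs, -, hEXn, hEXF, hEXc⟩ :=
    exists_normSystem_eq p hS hEs (fun {_} _ => True) hXS hXn fun _ _ => trivial
  have hXc := hEXc (centralizerIn_le_self hess.1)
  obtain ⟨G, _, ι, hm⟩ := exists_model p hS hEXs hEXn hXc
  have hle := normalizer_img_le p hS hm hEXn hXc le_rfl Subgroup.le_normalizer (hEinn.of_le hEXF)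
  have hfin : Finite G := hm.1
  obtain ⟨T, hT⟩ := hm.2.2.1
  have hinj := hm.2.1.1
  have hscX : EX.StronglyClosed Q :=
    ⟨hQ, fun R hR φ hφ x => hsc.2 R hR φ (hEXF _ hφ) x⟩
  have hQn' : (img ι Q).Normal := normal_img_of_stronglyClosed hm.2.1 hXS
    (normal_img_of_isNormal p hm hEXn) hscX hQX
  have himgS : img ι S = ι.range := by
    unfold img
    rw [Subgroup.subgroupOf_self, MonoidHom.range_eq_map]
  have hGnpc : HasNormalPComplement p G := by
    refine hasNormalPComplement_of_frattini T (img ι Q) ?_ ?_ ?_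
    · rw [hT, ← himgS]
      unfold img
      rw [← Subgroup.map_commutator, Subgroup.subgroupOf_self]
      refine Subgroup.map_mono fun x hx => h1 ⟨x, ?_, rfl⟩
      rwa [commutator_def]
    · rintro _ ⟨x, hx, rfl⟩
      obtain ⟨y, hy, hyx⟩ := h2 hx
      let e : S ≃* (T : Subgroup G) :=
        (MonoidHom.ofInjective hinj).trans (MulEquiv.subgroupCongr hT.symm)
      refine ⟨e y, ?_, (congrArg ι (Subtype.ext hyx) :)⟩
      have : e y ∈ (frattini S).map e.toMonoidHom := ⟨y, hy, rfl⟩
      exact map_frattini_le_of_equiv e this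
    · rw [hT]
      rw [himgS] at hle
      exact hle
  have hinner := isInner_of_range_top hm.2.1 (range_eq_top_of_hasNormalPComplement hm hGnpc)
  have hauts : E.autGroup X ≤ autInducedBy S X := by
    intro a ha
    have hsub : X ⊔ X ≤ X := sup_le le_rfl le_rfl
    have hmem : X.subtype.comp a.toMonoidHom ∈ EX.Hom X := by
      rw [hEX]
      exact ⟨(autGroup_carrier hXS).1 ha, hXS.trans (le_inf le_rfl hXn),
        fun x => ⟨hXS (a x).2, hXn (hXS (a x).2)⟩,
        (X.subtype.comp a.toMonoidHom).comp (Subgroup.inclusion hsub),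
        restrict_mem ((autGroup_carrier hXS).1 ha) hsub, fun x => rfl, by
          rw [map_subgroupOf_congr (ψ := (X.subtype.comp a.toMonoidHom).comp
            (Subgroup.inclusion hsub)) (χ := X.subtype.comp a.toMonoidHom) le_sup_right
            le_rfl fun _ _ => rfl, map_subgroupOf_self, range_subtype_comp]⟩
    obtain ⟨g, hg, hgx⟩ := hinner _ _ hmem
    exact mem_autInducedBy.2 ⟨g, hg, hgx⟩
  have := finite_of_le hXS
  have : Finite (MulAut X) := finite_mulAut
  obtain ⟨R, hR⟩ := (((isPGroup_autInducedBy hS X).to_le hauts).to_subgroup ⊤).exists_le_sylow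
  refine not_essential_of_normal_sylow p hess R ?_
  rw [top_le_iff.1 hR]
  infer_instance

end CfsgLib.Fusion
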