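import Cfsg.Agent.Fusion.InnerZJ
import Cfsg.Agent.ZJ.ControlMain
import Cfsg.Agent.Solvable.CoprimeAct

/-!
The Glauberman–Thompson criterion relative to a strongly closed subgroup.
-/

set_option autoImplicit false
set_option linter.style.haveILetI false

open Cfsg Cfsg.FusionSystem

namespace CfsgLib.Fusion

universe u

/-! ### The group statement -/

/-- If `C(O_p(G)) ≤ O_p(G)` and `N_G(Z(J(D)))` is inside the Sylow subgroup, for `D` strongly closed
in it, then `G` is a `p`-group (`p` odd). -/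
theorem eq_top_of_stronglyClosed (p : ℕ) [Fact p.Prime] (hp : p ≠ 2) :
    ∀ (n : ℕ) (G : Type u) [Group G] [Finite G] (P : Sylow p G), Nat.card G = n →
      Subgroup.centralizer (pCore p G : Set G) ≤ pCore p G →
      ∀ D : Subgroup G, Cfsg.IsStronglyClosed D (P : Subgroup G) →
        Subgroup.normalizer ((centerThompsonAOf D : Subgroup G) : Set G) ≤ P →
        (P : Subgroup G) = ⊤ := by
  intro n
  induction n using Nat.strong_induction_on with
  | _ n ih =>
    intro G _ _ P hn hC D hD hN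
    subst hn
    have KA := CfsgLib.ZJ.zkind_centerThompsonA.{u} (p := p) hp
    set O := pCore p G with hO
    have hOn : O.Normal := (CfsgLib.Solvable.pCore_spec (G := G) p).1
    have hOp : IsPGroup p O := CfsgLib.Solvable.isPGroup_pCore (G := G) p
    have hOP : O ≤ P := CfsgLib.ZJ.pCore_le_sylow P
    -- `P` is maximal
    have hmax : ∀ M : Subgroup G, (P : Subgroup G) ≤ M → M ≠ ⊤ → M ≤ P := by
      intro M hPM hM x hx
      have hcM : Subgroup.centralizer (pCore p M : Set M) ≤ pCore p M := by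
        have hle : O.subgroupOf M ≤ pCore p M := by
          haveI := hOn
          exact CfsgLib.Solvable.le_pCore p inferInstance
            (hOp.comap_of_injective _ M.subtype_injective)
        refine fun y hy => hle (hC (Subgroup.mem_centralizer_iff.2 fun z hz => ?_))
        exact congrArg Subtype.val
          (Subgroup.mem_centralizer_iff.1 hy ⟨z, hPM (hOP hz)⟩ (hle hz))
      have hDM : D ≤ M := hD.1.trans hPM
      have h := ih _ (CfsgLib.Solvable.card_lt_of_ne_top hM) M (P.subtype hPM) rfl hcM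
        (D.subgroupOf M) ⟨fun y hy => hD.1 hy, fun y hy g hg => hD.2 y hy g hg⟩ fun y hy => by
          refine hN ?_
          have e : centerThompsonAOf D = (centerThompsonAOf (D.subgroupOf M)).map M.subtype := by
            rw [← KA.map M G M.subtype _ M.subtype_injective,
              Subgroup.map_subgroupOf_eq_of_le hDM]
          rw [e]
          exact Subgroup.le_normalizer_map _ ⟨y, hy, rfl⟩
      exact (h.ge (Subgroup.mem_top (⟨x, hx⟩ : M)) :)
    -- the quotient modulo `O_p(G)`
    let π := QuotientGroup.mk' O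
    have hπ : Function.Surjective π := QuotientGroup.mk'_surjective O
    set Pb : Sylow p (G ⧸ O) := P.mapSurjective hπ with hPb
    have hPbc : (Pb : Subgroup (G ⧸ O)) = (P : Subgroup G).map π := Sylow.coe_mapSurjective ..
    have hback : (P : Subgroup G) = (Pb : Subgroup (G ⧸ O)).comap π := by
      rw [hPbc, Subgroup.comap_map_eq, QuotientGroup.ker_mk', sup_eq_left.2 hOP]
    by_cases hPb1 : (Pb : Subgroup (G ⧸ O)) = ⊥
    · have hPn : (P : Subgroup G).Normal := by
        rw [hback, hPb1]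
        exact inferInstance
      refine top_le_iff.1 (le_trans (fun g _ => KA.normalizer_le D ?_) hN)
      refine mem_normalizer_of_conj_mem le_rfl fun x hx => ?_
      exact hD.2 x hx g (hPn.conj_mem x (hD.1 hx) g)
    have hOb : pCore p (G ⧸ O) = ⊥ := by
      have h1 : (pCore p (G ⧸ O)).comap π ≤ O := CfsgLib.Solvable.le_pCore p
        ((CfsgLib.Solvable.pCore_spec (G := G ⧸ O) p).1.comap π)
        ((CfsgLib.Solvable.isPGroup_pCore (G := G ⧸ O) p).comap_of_ker_isPGroup π
          (by rw [QuotientGroup.ker_mk']; exact hOp))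
      rw [eq_bot_iff]
      intro y hy
      obtain ⟨x, rfl⟩ := hπ y
      exact (QuotientGroup.eq_one_iff x).2 (h1 hy)
    set Nb := Subgroup.normalizer ((centerThompsonAOf (Pb : Subgroup (G ⧸ O)) : Subgroup (G ⧸ O)) :
      Set (G ⧸ O))
    have hPbN : (Pb : Subgroup (G ⧸ O)) ≤ Nb :=
      Subgroup.le_normalizer.trans (KA.normalizer_le _)
    have hNb : Nb ≤ Pb := by
      by_cases hT : Nb.comap π = ⊤
      · exfalso
        have hZn : (centerThompsonAOf (Pb : Subgroup (G ⧸ O))).Normal := by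
          refine Subgroup.normalizer_eq_top_iff.1 (eq_top_iff.2 fun y _ => ?_)
          obtain ⟨x, rfl⟩ := hπ y
          exact hT.ge (Subgroup.mem_top x)
        exact KA.ne_bot _ _ Pb.2 hPb1 (eq_bot_iff.2
          ((CfsgLib.Solvable.le_pCore p hZn (Pb.2.to_le (KA.le _ _))).trans hOb.le))
      · intro y hy
        obtain ⟨x, rfl⟩ := hπ y
        rw [hPbc]
        exact ⟨x, hmax _ (hback.le.trans (Subgroup.comap_mono hPbN)) hT hy, rfl⟩
    obtain ⟨P', Kb, hKn, hKP⟩ := (CfsgLib.ZJ.zkind_centerThompsonA hp).hasNormalPComplement hp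
      (G ⧸ O) Pb (hasNormalPComplement_of_isPGroup (Pb.2.to_le hNb))
    have hcop : (Nat.card Kb).Coprime p := by
      rw [← hKP.index_eq_card]
      exact ((Fact.out : p.Prime).coprime_iff_not_dvd.2 P'.not_dvd_index).symm
    have hd : (Pb : Subgroup (G ⧸ O)) ⊓ Kb = ⊥ := CfsgLib.ZJ.isPGroup_inf_coprime Pb.2 hcop
    have hnK : (Pb : Subgroup (G ⧸ O)) ≤ Subgroup.normalizer (Kb : Set (G ⧸ O)) :=
      Subgroup.le_normalizer_of_normal
    have hPP : Nat.card Pb = Nat.card P' := by
      rw [Pb.card_eq_multiplicity, P'.card_eq_multiplicity]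
    have htop : (Pb : Subgroup (G ⧸ O)) ⊔ Kb = ⊤ := by
      refine Subgroup.eq_top_of_card_eq _ ?_
      rw [CfsgLib.Solvable.card_sup_of_disjoint hnK hd, hPP, mul_comm]
      exact hKP.card_mul_card
    have hmin : ∀ X : Subgroup (G ⧸ O), X ≤ Kb →
        (Pb : Subgroup (G ⧸ O)) ≤ Subgroup.normalizer (X : Set (G ⧸ O)) → X = ⊥ ∨ X = Kb := by
      intro X hX hPX
      have hdX : (Pb : Subgroup (G ⧸ O)) ⊓ X = ⊥ :=
        eq_bot_iff.2 ((inf_le_inf_left _ hX).trans hd.le)
      by_cases hT : ((Pb : Subgroup (G ⧸ O)) ⊔ X).comap π = ⊤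
      · right
        refine CfsgLib.Solvable.eq_of_le_of_card_le hX ?_
        have e1 := CfsgLib.Solvable.card_sup_of_disjoint hPX hdX
        have e2 := CfsgLib.Solvable.card_sup_of_disjoint hnK hd
        have hT' : (Pb : Subgroup (G ⧸ O)) ⊔ X = ⊤ := by
          rw [← Subgroup.map_comap_eq_self_of_surjective hπ ((Pb : Subgroup (G ⧸ O)) ⊔ X), hT]
          exact Subgroup.map_top_of_surjective π hπ
        rw [htop, ← hT', e1] at e2
        exact ((Nat.eq_of_mul_eq_mul_left Nat.card_pos e2).symm).le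
      · left
        rw [eq_bot_iff]
        intro y hy
        obtain ⟨x, rfl⟩ := hπ y
        have hxP := hmax _ (hback.le.trans (Subgroup.comap_mono le_sup_left)) hT
          (show x ∈ ((Pb : Subgroup (G ⧸ O)) ⊔ X).comap π from Subgroup.mem_sup_right hy)
        exact hdX.le ⟨hback.le hxP, hy⟩
    have hab : ∀ x ∈ Kb, ∀ y ∈ Kb, x * y = y * x := by
      intro x hx y hy
      by_cases hK1 : Kb = ⊥
      · have hx1 : x = 1 := Subgroup.mem_bot.1 (hK1 ▸ hx)
        rw [hx1, one_mul, mul_one]
      haveI := Pb.2.isNilpotent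
      obtain ⟨q, hq, hqK⟩ := Nat.exists_prime_and_dvd
        (n := Nat.card Kb) (fun h => hK1 (Subgroup.eq_bot_of_card_eq Kb h))
      haveI : Fact q.Prime := ⟨hq⟩
      obtain ⟨j, hj⟩ := Pb.2.exists_card_eq
      obtain ⟨Q, hQ⟩ := CfsgLib.CoprimeAct.exists_invariant_sylow hnK
        (by rw [hj]; exact (hcop.symm.pow_left j)) (Or.inl inferInstance) q
      have hQK := (hmin _ (Subgroup.map_subtype_le _) hQ).resolve_left fun h => by
        rw [Subgroup.map_eq_bot_iff_of_injective _ Kb.subtype_injective] at h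
        exact Q.ne_bot_of_dvd_card hqK h
      have hKq : IsPGroup q Kb := hQK ▸ Q.2.map _
      haveI := hKq.isNilpotent
      haveI : Nontrivial Kb := (Subgroup.nontrivial_iff_ne_bot Kb).2 hK1
      have hlt := Group.IsSolvable.commutator_lt_top_of_nontrivial Kb
      have e : ⁅Kb, Kb⁆ = (commutator Kb).map Kb.subtype := by
        rw [commutator_def, Subgroup.map_commutator, ← MonoidHom.range_eq_map,
          Subgroup.range_subtype]
      have hcK : ⁅Kb, Kb⁆ ≤ Kb := e ▸ Subgroup.map_subtype_le _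
      rcases hmin _ hcK (fun a ha => by
        rw [CfsgLib.Functor.mem_normalizer_iff_cj, CfsgLib.Functor.cj_commutator,
          CfsgLib.Functor.mem_normalizer_iff_cj.1 (hnK ha)]) with h | h
      · exact commutatorElement_eq_one_iff_mul_comm.1
          (Subgroup.mem_bot.1 (h ▸ Subgroup.commutator_mem_commutator hx hy))
      · refine absurd ?_ hlt.ne
        apply Subgroup.map_injective Kb.subtype_injective
        rw [← e, h, ← MonoidHom.range_eq_map, Subgroup.range_subtype]
    -- `G` has no `Qd(p)` section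
    have hfree : ¬ Cfsg.Involves ↥(Cfsg.qd p) G := by
      refine CfsgLib.ZJ.free_of_critical hp (Kb.comap π) (fun x => ?_) fun x hx y hy => ?_
      · obtain ⟨a, ha, k, hk, hak⟩ :=
          (CfsgLib.Solvable.mem_sup_of_le_normalizer hnK).1 (htop.ge (Subgroup.mem_top (π x)))
        obtain ⟨j, hj⟩ := Pb.2 ⟨a, ha⟩
        refine ⟨j, Subgroup.mem_comap.2 ((QuotientGroup.eq_one_iff _).1 ?_)⟩
        rw [map_pow, QuotientGroup.mk_pow, ← hak, QuotientGroup.mk_mul,
          (QuotientGroup.eq_one_iff k).2 hk, mul_one, ← QuotientGroup.mk_pow,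
          show a ^ p ^ j = 1 from congrArg Subtype.val hj, QuotientGroup.mk_one]
      · refine (QuotientGroup.eq_one_iff _).1 ?_
        show π (x * y * x⁻¹ * y⁻¹) = 1
        simp only [map_mul, map_inv]
        rw [hab _ hx _ hy]
        group
    refine top_le_iff.1 fun g _ => ?_
    obtain ⟨z, hz, hzg⟩ := CfsgLib.ZJ.control_of_free hp KA G hfree P D hD O g hOP
      (by rintro _ ⟨x, hx, rfl⟩; exact hOP (hOn.conj_mem x hx g))
    have h1 : z⁻¹ * g ∈ O := hC (Subgroup.mem_centralizer_iff.2 fun a ha => by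
      calc a * (z⁻¹ * g) = z⁻¹ * (z * a * z⁻¹) * g := by group
        _ = z⁻¹ * (g * a * g⁻¹) * g := by rw [hzg a ha]
        _ = z⁻¹ * g * a := by group)
    have := (P : Subgroup G).mul_mem (hN hz) (hOP h1)
    rwa [mul_inv_cancel_left] at this

/-! ### The fusion system statement -/

variable {Ω : Type u} [Group Ω] {S : Subgroup Ω} {F : FusionSystem S}

theorem le_normalizer_centerThompsonAOf [Finite S] {D : Subgroup Ω} (hD : F.StronglyClosed D) :
    S ≤ Subgroup.normalizer ((centerThompsonAOf D : Subgroup Ω) : Set Ω) := by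
  intro g hg
  have hDn : g ∈ Subgroup.normalizer (D : Set Ω) := by
    refine mem_normalizer_of_conj_mem hD.1 fun x hx => ?_
    exact hD.2 D le_rfl (conjHom D g) (F.conj_mem hD.1 hg) ⟨x, hx⟩
  have hch := isCharIn_centerThompsonAOf (S := D)
  refine mem_normalizer_of_conj_mem (hch.1.trans hD.1) fun x hx => ?_
  exact (hch.2 (Subgroup.normalizerMonoidHom D ⟨g, hDn⟩) ⟨x, hch.1 hx⟩).2 hx

variable [Finite S]

theorem isInner_of_constrained_strong (p : ℕ) [Fact p.Prime] (hp : p ≠ 2) (hS : IsPGroup p S)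
    (hF : F.IsConstrained p) {D : Subgroup Ω} (hD : F.StronglyClosed D)
    (hinn : InnerAt F (centerThompsonAOf D)) : IsInner F := by
  obtain ⟨hFs, Q, hQ, hQc⟩ := hF
  obtain ⟨G, hG, ι, hm⟩ := exists_model p hS hFs hQ hQc
  have hch := isCharIn_centerThompsonAOf (S := D)
  have hle := normalizer_img_le p hS hm hQ hQc (hch.1.trans hD.1)
    (le_normalizer_centerThompsonAOf hD) hinn
  have := hm.1
  obtain ⟨T, hT⟩ := hm.2.2.1
  have hinj := hm.2.1.1
  refine isInner_of_range_top hm.2.1 ?_
  rw [← hT]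
  refine eq_top_of_stronglyClosed p hp _ G T rfl hm.2.2.2 (img ι D) ⟨?_, ?_⟩ ?_
  · exact hT ▸ img_le_range D
  · rintro _ ⟨x, hx, rfl⟩ g hg
    rw [hT] at hg
    have hxS : Subgroup.zpowers (x : Ω) ≤ S := (Subgroup.zpowers_le).2 x.2
    obtain ⟨φ, hφ, hφι⟩ := exists_realized_hom hm.2.1 hxS (g := g) fun y => by
      obtain ⟨i, hi⟩ := Subgroup.mem_zpowers_iff.1 y.2
      rw [show (⟨y, hxS y.2⟩ : S) = x ^ i from Subtype.ext hi.symm, map_zpow, ← conj_zpow]
      exact zpow_mem hg i
    exact ⟨⟨φ ⟨x, Subgroup.mem_zpowers _⟩, apply_mem_S hφ _⟩,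
      hD.2 _ ((Subgroup.zpowers_le).2 hx) φ hφ _, hφι ⟨x, Subgroup.mem_zpowers _⟩⟩
  · rw [hT]
    refine le_trans (le_of_eq ?_) hle
    let f : D →* G := ι.comp (Subgroup.inclusion hD.1)
    have hf : Function.Injective f := hinj.comp (Subgroup.inclusion_injective _)
    have e1 : img ι D = f.range := by
      ext y
      constructor
      · rintro ⟨x, hx, rfl⟩
        exact ⟨⟨x, hx⟩, rfl⟩
      · rintro ⟨x, rfl⟩
        exact apply_mem_img (ι := ι) (x := Subgroup.inclusion hD.1 x) x.2
    have e2 : img ι (centerThompsonAOf D) = (centerThompsonA D).map f := by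
      rw [centerThompsonAOf_eq]
      ext y
      constructor
      · rintro ⟨x, ⟨d, hd, hdx⟩, rfl⟩
        exact ⟨d, hd, congrArg ι (Subtype.ext hdx)⟩
      · rintro ⟨d, hd, rfl⟩
        exact apply_mem_img (ι := ι) (x := Subgroup.inclusion hD.1 d) ⟨d, hd, rfl⟩
    rw [e1, centerThompsonAOf_range f hf, e2]

/-- The data of the relative criterion. -/
def criterionStrong (p : ℕ) [Fact p.Prime] (hp : p ≠ 2) : InnerCriterion.{u} p where
  Free := fun {_} _ {_} _ => True
  Loc := fun {_} _ {_} F => ∃ D, F.StronglyClosed D ∧ InnerAt F (centerThompsonAOf D)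
  free_norm := fun _ _ _ _ _ _ _ _ _ => trivial
  free_factor := by intros; trivial
  loc_of_char := by
    intro _ _ S F hfin hS hne _ h
    haveI := hfin
    exact ⟨S, ⟨le_rfl, fun _ _ _ hφ x => apply_mem_S hφ x⟩,
      h _ isCharIn_centerThompsonAOf (centerThompsonAOf_ne_bot hS hne)⟩
  loc_mono := fun _ _ hle h =>
    h.elim fun D hD => ⟨D, ⟨hD.1.1, fun R hR φ hφ => hD.1.2 R hR φ (hle _ hφ)⟩, hD.2.of_le hle⟩
  group := by
    intro _ _ S F hfin hS hF _ hL
    haveI := hfin
    obtain ⟨D, hD, hinn⟩ := hL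
    exact isInner_of_constrained_strong p hp hS hF hD hinn

/-- `F` is inner as soon as `N_F(Z(J(D)))` is, for a strongly closed `D`. -/
theorem isInner_of_strong (p : ℕ) [Fact p.Prime] (hp : p ≠ 2)
    (hS : IsPGroup p S) (hF : F.IsSaturated p) {D : Subgroup Ω} (hD : F.StronglyClosed D)
    (hinn : InnerAt F (centerThompsonAOf D)) : IsInner F :=
  isInner_of_criterion p (criterionStrong p hp) (Nat.card S) S F inferInstance hS rfl hF trivial
    ⟨D, hD, hinn⟩

end CfsgLib.Fusion
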