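import Cfsg.Agent.Fusion.MaximalClassUnfused
import Cfsg.Prelude.Def_CaseTheorems

/-!
A group with a Sylow subgroup of maximal class, without normal subgroups of order or index prime to
`p`: either some element of the Sylow subgroup has a centraliser whose `p`-part is `p ^ 2`, or the
group is quasisimple with centre of order at most `p`.
-/

set_option autoImplicit false
set_option linter.style.haveILetI false
set_option linter.unusedSectionVars false

open Cfsg Cfsg.FusionSystem Subgroup

namespace CfsgLib.MaxClassQS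

open CfsgLib.Fusion CfsgLib.FGSA CfsgLib.FGSA.MaxClass CfsgLib.MaxClassAvoid CfsgLib.MaxClassUnfused
open scoped commutatorElement

universe u

variable {G : Type u} [Group G] [Finite G] {p : ℕ} [hp : Fact p.Prime] {n : ℕ}

/-- The centre of a `p`-group of maximal class has order `p`. -/
theorem card_center {X : Type u} [Group X] [Finite X] (hX : IsPGroup p X) (hn : Nat.card X = p ^ n)
    (h3 : 3 ≤ n) (hmax : lcs X (n - 2) ≠ ⊥) : Nat.card (center X) = p := by
  haveI : Nontrivial X := Finite.one_lt_card_iff_nontrivial.1 (by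
    rw [hn]; exact Nat.one_lt_pow (by omega) hp.out.one_lt)
  obtain ⟨s, -, hs⟩ := exists_card_centralizer hX hn h3 hmax ⊥ bot_ne_top
  have hle : center X ≤ centralizer ({s} : Set X) := fun z hz =>
    mem_centralizer_singleton_iff.2 (mem_center_iff.1 hz s).symm
  obtain ⟨l, hl⟩ := IsPGroup.iff_card.1 (hX.to_subgroup (center X))
  haveI := hX.center_nontrivial
  have h1 : 1 < Nat.card (center X) := Finite.one_lt_card
  have h2 : Nat.card (center X) < p ^ 2 := by
    refine lt_of_le_of_ne (hs ▸ card_le_of_le hle) fun e => ?_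
    have e' := eq_of_le_of_card_ge hle (by rw [hs, e])
    have hsc : s ∈ center X := e' ▸ mem_centralizer_singleton_iff.2 rfl
    have htop : centralizer ({s} : Set X) = ⊤ := top_le_iff.1 fun y _ =>
      mem_centralizer_singleton_iff.2 (mem_center_iff.1 hsc y)
    rw [htop, card_top, hn] at hs
    have := Nat.pow_right_injective hp.out.two_le hs
    omega
  rw [hl] at h1 h2 ⊢
  have := (Nat.pow_lt_pow_iff_right hp.out.one_lt).1 h2
  have : l ≠ 0 := fun e => by rw [e, pow_zero] at h1; omega
  rw [show l = 1 by omega, pow_one]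

/-- A nontrivial normal subgroup contains a centre of order `p`. -/
theorem center_le {X : Type u} [Group X] [Finite X] (hX : IsPGroup p X) (hZ : Nat.card (center X) = p)
    (Q : Subgroup X) [Q.Normal] (hQ : Q ≠ ⊥) : center X ≤ Q := by
  haveI := hX.isNilpotent
  have h1 := CfsgLib.PGroupBasic.inf_center_ne_bot Q hQ
  rcases (Nat.dvd_prime hp.out).1 (hZ ▸ card_dvd_of_le (inf_le_right : Q ⊓ center X ≤ center X)) with
    h | h
  · exact absurd (card_eq_one.1 h) h1
  · exact (eq_of_le_of_card_ge inf_le_right (by rw [h, hZ])).ge.trans inf_le_left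

/-- A normal subgroup meeting the Sylow subgroup in more than its centre gives the element. -/
theorem exists_of_large (P : Sylow p G) (hn : Nat.card P = p ^ n) (h3 : 3 ≤ n)
    (hmax : lcs ↥(P : Subgroup G) (n - 2) ≠ ⊥) (N : Subgroup G) [N.Normal]
    (hNP : ¬ (P : Subgroup G) ≤ N) (hbig : p < Nat.card (N.subgroupOf (P : Subgroup G))) :
    ∃ x ∈ (P : Subgroup G), (Nat.card (centralizer ({x} : Set G))).factorization p = 2 := by
  classical
  set S := (P : Subgroup G) with hS'
  have hS : IsPGroup p S := P.2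
  have hF := CfsgLib.Fusion.groupFusion_saturated P
  set Q := N.subgroupOf S with hQ
  have hQtop : Q ≠ ⊤ := fun e => hNP (subgroupOf_eq_top.1 e)
  have hZ := card_center hS hn h3 hmax
  have hQbot : Q ≠ ⊥ := fun e => by
    rw [e, card_bot] at hbig
    exact absurd hp.out.one_lt (by omega)
  have hZQ := center_le hS hZ Q hQbot
  obtain ⟨x, hxQ, hxc⟩ := exists_card_centralizer hS hn h3 hmax Q hQtop
  -- an element of `Q` in the second centre
  obtain ⟨w, hwQ, hwZ, hwc⟩ : ∃ w ∈ Q, w ∉ center S ∧ ∀ s : S, ⁅w, s⁆ ∈ center S := by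
    haveI := hS.isNilpotent
    set π := QuotientGroup.mk' (center S)
    haveI : Group.IsNilpotent (↥S ⧸ center S) := (hS.to_quotient _).isNilpotent
    haveI : (Q.map π).Normal := Subgroup.Normal.map inferInstance π (QuotientGroup.mk'_surjective _)
    have hne : Q.map π ≠ ⊥ := fun e => by
      rw [Subgroup.map_eq_bot_iff, QuotientGroup.ker_mk'] at e
      have := Subgroup.card_le_of_le e
      omega
    obtain ⟨v, ⟨hv, hvc⟩, hv1⟩ :=
      (bot_or_exists_ne_one _).resolve_left (CfsgLib.PGroupBasic.inf_center_ne_bot _ hne)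
    obtain ⟨w, hw, rfl⟩ := hv
    refine ⟨w, hw, fun h => hv1 ((QuotientGroup.eq_one_iff _).2 h), fun s => ?_⟩
    rw [← QuotientGroup.eq_one_iff, ← QuotientGroup.mk'_apply, map_commutatorElement,
      commutatorElement_eq_one_iff_mul_comm]
    exact (mem_center_iff.1 hvc (π s)).symm
  -- good elements stay good
  have key : ∀ R : Subgroup G, (groupFusionSystem S).IsEssential p R → ∀ y ∈ R, ¬ Good S N p y := by
    intro R hE y hy hgood
    haveI : Nontrivial (center S) := Finite.one_lt_card_iff_nontrivial.1 (by rw [hZ]; exact hp.out.one_lt)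
    obtain ⟨z, hz1⟩ := exists_ne (1 : center S)
    refine not_good_of_essential hS hF (fun v hv hvc => ?_) ⟨((z : S) : G), (z : S).2, ?_, fun s hs => ?_⟩
      w.2 hwQ ?_ (fun s hs t ht => ?_) hE hy hgood
    · exact hZQ (x := ⟨v, hv⟩) (mem_center_iff.2 fun s => Subtype.ext (hvc s s.2).symm)
    · exact fun h => hz1 (Subtype.ext (Subtype.ext h))
    · exact congrArg Subtype.val (mem_center_iff.1 z.2 ⟨s, hs⟩).symm
    · by_contra! h
      exact hwZ (mem_center_iff.2 fun s => Subtype.ext (h s s.2).symm)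
    · have := congrArg Subtype.val (mem_center_iff.1 (hwc ⟨s, hs⟩) ⟨t, ht⟩)
      exact this.symm
  have hle : groupFusionSystem S ≤ goodSystem S N p := by
    refine alperin_saturated p hS hF (goodSystem S N p) fun R hR => ?_
    have hRS : R ≤ S := by
      rcases hR with rfl | h
      · exact le_rfl
      · exact h.1.1
    intro α hα
    refine (autGroup_carrier hRS).2 ⟨(autGroup_carrier hRS).1 hα, fun y => ?_⟩
    obtain ⟨g, hg⟩ := aut_conj hRS hα
    rcases hR with rfl | h
    · show Good S N p ((α y : ↥S) : G) ↔ Good S N p (y : G)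
      have h1 := card_centralizer_aut α y
      have hN : ((α y : ↥S) : G) ∈ N ↔ (y : G) ∈ N := by
        rw [hg]
        exact ⟨fun h => by simpa [mul_assoc] using (inferInstance : N.Normal).conj_mem' _ h g,
          fun h => (inferInstance : N.Normal).conj_mem _ h g⟩
      exact ⟨fun ⟨_, hn', hc⟩ => ⟨y.2, fun h => hn' (hN.2 h), h1 ▸ hc⟩,
        fun ⟨_, hn', hc⟩ => ⟨(α y).2, fun h => hn' (hN.1 h), h1.trans hc⟩⟩
    · exact ⟨fun hh => (key R h _ (α y).2 hh).elim, fun hh => (key R h _ y.2 hh).elim⟩
  have hxgood : Good S N p (x : G) := ⟨x.2, hxQ, by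
    refine Eq.trans (Nat.card_congr ?_) hxc
    exact {
      toFun := fun a => ⟨⟨a.1, a.2.1⟩, mem_centralizer_singleton_iff.2
        (Subtype.ext (mem_centralizer_singleton_iff.1 a.2.2))⟩
      invFun := fun a => ⟨a.1.1, a.1.2, mem_centralizer_singleton_iff.2
        (congrArg Subtype.val (mem_centralizer_singleton_iff.1 a.2))⟩
      left_inv := fun a => rfl
      right_inv := fun a => rfl }⟩
  refine ⟨x, x.2, ?_⟩
  set C := centralizer ({(x : G)} : Set G) with hC
  refine le_antisymm ?_ ?_
  · by_contra h3'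
    obtain ⟨U, hU⟩ := Sylow.exists_subgroup_card_pow_prime (G := C) p (n := 3)
      ((pow_dvd_pow p (not_le.1 h3')).trans (Nat.ordProj_dvd _ _))
    set U' := U.map C.subtype
    have hU'card : Nat.card U' = p ^ 3 := by rw [card_map_of_injective C.subtype_injective, hU]
    have hxn : zpowers (x : G) ≤ normalizer (U' : Set G) := by
      rw [zpowers_le]
      refine mem_normalizer_of_conj_le ?_
      rintro _ ⟨u, hu, rfl⟩
      refine ⟨u, hu, ?_⟩
      show (u : G) = x * u * (x : G)⁻¹
      rw [← mem_centralizer_singleton_iff.1 u.2, mul_inv_cancel_right]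
    have hxp : IsPGroup p (zpowers (x : G)) := hS.to_le (zpowers_le.2 x.2)
    have hJ : IsPGroup p ↥(U' ⊔ zpowers (x : G)) :=
      (IsPGroup.of_card hU'card).to_sup_of_normal_left' hxp hxn
    obtain ⟨P', hP'⟩ := hJ.exists_le_sylow
    obtain ⟨g, hg⟩ := MulAction.exists_smul_eq G P' P
    have hmove : ∀ a ∈ U' ⊔ zpowers (x : G), g * a * g⁻¹ ∈ S := fun a ha => by
      rw [hS', ← hg]
      exact ⟨a, hP' ha, rfl⟩
    have hφ : (MulAut.conj g).toMonoidHom.comp (zpowers (x : G)).subtype ∈
        (groupFusionSystem S).Hom (zpowers (x : G)) :=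
      ⟨zpowers_le.2 x.2, fun a => hmove _ (mem_sup_right a.2), g, fun a => rfl⟩
    obtain ⟨-, -, hc⟩ := ((hle _ hφ).2 ⟨x, mem_zpowers _⟩).2 hxgood
    have h4 : p ^ 3 ≤ p ^ 2 := by
      rw [← hU'card, ← hc]
      refine Nat.card_le_card_of_injective (fun a => (⟨g * a * g⁻¹, hmove _ (mem_sup_left a.2), ?_⟩ :
        ↥(S ⊓ centralizer ({((MulAut.conj g).toMonoidHom.comp (zpowers (x : G)).subtype)
          ⟨x, mem_zpowers _⟩} : Set G)))) fun a b hab => ?_
      · obtain ⟨u, -, hu⟩ := a.2
        refine mem_centralizer_singleton_iff.2 ?_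
        show g * (a : G) * g⁻¹ * (g * x * g⁻¹) = g * x * g⁻¹ * (g * a * g⁻¹)
        rw [Subgroup.coe_subtype] at hu
        rw [← hu]
        calc g * (u : G) * g⁻¹ * (g * x * g⁻¹) = g * ((u : G) * x) * g⁻¹ := by group
          _ = g * (x * u) * g⁻¹ := by rw [mem_centralizer_singleton_iff.1 u.2]
          _ = _ := by group
      · exact Subtype.ext (by simpa using congrArg Subtype.val hab)
    exact absurd ((Nat.pow_le_pow_iff_right hp.out.one_lt).1 h4) (by omega)
  · refine (hp.out.pow_dvd_iff_le_factorization Nat.card_pos.ne').1 ?_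
    rw [← hxgood.2.2]
    exact card_dvd_of_le inf_le_right

/-- A normal subgroup meeting the Sylow subgroup in a subgroup of order `p` is that subgroup. -/
theorem card_eq_prime (P : Sylow p G) (hn : Nat.card P = p ^ n) (h3 : 3 ≤ n)
    (hmax : lcs ↥(P : Subgroup G) (n - 2) ≠ ⊥) (hcore : Cfsg.pPrimeCore p G = ⊥) (N : Subgroup G)
    [N.Normal] (hQ : Nat.card (N.subgroupOf (P : Subgroup G)) = p) : Nat.card N = p := by
  classical
  set S := (P : Subgroup G) with hS'
  have hS : IsPGroup p S := P.2
  set Z := S ⊓ N with hZ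
  have hZcard : Nat.card Z = p := by
    rw [← hQ, ← inf_subgroupOf_left, ← hZ,
      Nat.card_congr (subgroupOfEquivOfLe (inf_le_left : Z ≤ S)).toEquiv]
  -- the trace on `N` is a Sylow subgroup
  have hsyl : ¬ p ∣ (Z.subgroupOf N).index := by
    obtain ⟨-, R, hR⟩ := SylowIn.inf_normal (L := (⊤ : Subgroup G))
      (show SylowIn p S ⊤ from ⟨le_top, P.subtype le_top, rfl⟩) (le_top : N ≤ ⊤)
      (fun g _ => mem_normalizer_of_conj_le fun y hy => (inferInstance : N.Normal).conj_mem y hy g)
    rw [hZ, ← hR]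
    exact R.not_dvd_index
  set T : Sylow p N := (IsPGroup.of_card (n := 1) (by
    rw [Nat.card_congr (subgroupOfEquivOfLe (inf_le_right : Z ≤ N)).toEquiv, hZcard, pow_one]) :
      IsPGroup p ↥(Z.subgroupOf N)).toSylow hsyl
  have hT : (T : Subgroup N) = Z.subgroupOf N := rfl
  by_cases hNC : normalizer ((T : Subgroup N) : Set N) ≤ centralizer ((T : Subgroup N) : Set N)
  · -- a normal complement is trivial
    have hcomp := MonoidHom.ker_transferSylow_isComplement' T hNC
    set K := (MonoidHom.transferSylow T hNC).ker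
    have hKcop : (Nat.card K).Coprime p := by
      rw [Nat.coprime_comm, hp.out.coprime_iff_not_dvd]
      intro hd
      apply hsyl
      rw [← hT, hcomp.index_eq_card]
      exact hd
    have hKi : K.index = p := by
      rw [hcomp.symm.index_eq_card, hT,
        Nat.card_congr (subgroupOfEquivOfLe (inf_le_right : Z ≤ N)).toEquiv, hZcard]
    haveI : (K.map N.subtype).Normal := by
      refine ⟨fun a ha g => ?_⟩
      obtain ⟨k, hk, rfl⟩ := ha
      refine ⟨⟨g * k * g⁻¹, (inferInstance : N.Normal).conj_mem _ k.2 g⟩, ?_, rfl⟩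
      show _ ∈ K
      rw [← QuotientGroup.eq_one_iff, ← orderOf_eq_one_iff]
      set k' : N := ⟨g * k * g⁻¹, (inferInstance : N.Normal).conj_mem _ k.2 g⟩
      have h1 : orderOf (k' : ↥N ⧸ K) ∣ orderOf k' := orderOf_map_dvd (QuotientGroup.mk' K) k'
      have h2 : orderOf k' ∣ Nat.card K := by
        rw [← Subgroup.orderOf_coe k', show (k' : G) = MulAut.conj g (k : G) from rfl,
          MulEquiv.orderOf_eq, Subgroup.orderOf_coe]
        exact orderOf_dvd_natCard K hk
      have h3 : orderOf (k' : ↥N ⧸ K) ∣ p :=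
        (_root_.orderOf_dvd_natCard _).trans (dvd_of_eq (K.index_eq_card.symm.trans hKi))
      exact Nat.eq_one_of_dvd_coprimes hKcop (h1.trans h2) h3
    have hKbot : K = ⊥ := by
      refine (Subgroup.map_eq_bot_iff_of_injective K N.subtype_injective).1 ?_
      rw [← le_bot_iff, ← hcore]
      exact le_sSup ⟨inferInstance, by rwa [card_map_of_injective N.subtype_injective]⟩
    rw [hKbot, index_bot] at hKi
    exact hKi
  · exfalso
    obtain ⟨s₀, hs₀, hs₀'⟩ := SetLike.not_le_iff_exists.1 hNC
    -- adjust to normalise `S`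
    set M := centralizer (Z : Set G) ⊓ (S ⊔ N) with hM
    haveI hSn : (N.subgroupOf S).Normal := inferInstance
    have hZc : Nat.card (center S) = p := card_center hS hn h3 hmax
    have hQbot : N.subgroupOf S ≠ ⊥ := fun e => by
      rw [e, card_bot] at hQ; exact hp.out.one_lt.ne hQ
    have hcq : center S = N.subgroupOf S := eq_of_le_of_card_ge (center_le hS hZc _ hQbot) (by rw [hQ, hZc])
    have hSC : S ≤ centralizer (Z : Set G) := fun a ha => mem_centralizer_iff.2 fun z hz => by
      have hzc : (⟨z, hz.1⟩ : S) ∈ center S := by rw [hcq]; exact mem_subgroupOf.2 hz.2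
      exact (congrArg Subtype.val (mem_center_iff.1 hzc ⟨a, ha⟩)).symm
    have hSM : S ≤ M := le_inf hSC le_sup_left
    set s : G := (s₀ : G)
    have hsZ : ∀ z, z ∈ Z ↔ s * z * s⁻¹ ∈ Z := fun z => by
      constructor
      · intro hz
        exact ((mem_normalizer_iff.1 hs₀) ⟨z, hz.2⟩).1 hz
      · intro hz
        have hzN : z ∈ N := by
          have := (inferInstance : N.Normal).conj_mem' _ hz.2 s
          simpa [mul_assoc] using this
        exact ((mem_normalizer_iff.1 hs₀) ⟨z, hzN⟩).2 hz
    have hsM : ∀ a ∈ M, s * a * s⁻¹ ∈ M := fun a ha => by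
      refine ⟨mem_centralizer_iff.2 fun z hz => ?_,
        mul_mem (mul_mem (mem_sup_right s₀.2) ha.2) (Subgroup.inv_mem _ (mem_sup_right s₀.2))⟩
      have hz' : s⁻¹ * z * s ∈ Z := (hsZ _).2 (by simpa [mul_assoc] using hz)
      calc z * (s * a * s⁻¹) = s * ((s⁻¹ * z * s) * a) * s⁻¹ := by group
        _ = s * (a * (s⁻¹ * z * s)) * s⁻¹ := by rw [mem_centralizer_iff.1 ha.1 _ hz']
        _ = _ := by group
    set S₂ : Sylow p M := P.subtype hSM
    set S₁ : Subgroup M := (S.map (MulAut.conj s).toMonoidHom).subgroupOf M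
    have hS₁ : S.map (MulAut.conj s).toMonoidHom ≤ M := by
      rintro _ ⟨a, ha, rfl⟩
      exact hsM a (hSM ha)
    obtain ⟨T₁, hT₁⟩ := (IsPGroup.comap_of_injective (hS.map (MulAut.conj s).toMonoidHom) M.subtype
      M.subtype_injective).exists_le_sylow
    obtain ⟨m, hm⟩ := MulAction.exists_smul_eq M T₁ S₂
    set w : G := (m : G) * s
    have hw : w ∈ normalizer (S : Set G) := mem_normalizer_of_conj_le fun a ha => by
      have h1 : (⟨s * a * s⁻¹, hsM a (hSM ha)⟩ : M) ∈ (T₁ : Subgroup M) := hT₁ ⟨a, ha, rfl⟩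
      have h2 : m * (⟨s * a * s⁻¹, hsM a (hSM ha)⟩ : M) * m⁻¹ ∈ (S₂ : Subgroup M) := by
        rw [← hm]; exact ⟨_, h1, rfl⟩
      have h3 : (m : G) * (s * a * s⁻¹) * (m : G)⁻¹ ∈ S := h2
      simpa [w, mul_assoc] using h3
    have hwSN : w ∈ S ⊔ N := mul_mem m.2.2 (mem_sup_right s₀.2)
    rw [sup_comm, mem_sup_of_normal_left] at hwSN
    obtain ⟨v, hvN, a, haS, hva⟩ := hwSN
    have hvS : v ∈ normalizer (S : Set G) := by
      rw [show v = w * a⁻¹ by rw [← hva, mul_inv_cancel_right]]
      exact mul_mem hw (Subgroup.inv_mem _ (le_normalizer haS))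
    -- `v` fixes every commutator
    have hfix : commutator S ≤ (centralizer ({v} : Set G)).comap S.subtype := by
      rw [_root_.commutator_def, commutator_le]
      intro y _ y' _
      refine mem_centralizer_singleton_iff.2 ?_
      have hy : ∀ t : S, ∃ c ∈ center S, v * t * v⁻¹ = ((c * t : S) : G) := fun t => by
        have hvt : v * t * v⁻¹ ∈ S := (mem_normalizer_iff.1 hvS _).1 t.2
        refine ⟨⟨v * t * v⁻¹, hvt⟩ * t⁻¹, ?_, by rw [inv_mul_cancel_right]⟩
        rw [hcq, mem_subgroupOf]
        show v * t * v⁻¹ * (t : G)⁻¹ ∈ N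
        rw [mul_assoc, mul_assoc]
        refine mul_mem hvN ?_
        rw [← mul_assoc]
        exact (inferInstance : N.Normal).conj_mem _ (Subgroup.inv_mem _ hvN) _
      obtain ⟨c, hc, hcy⟩ := hy y
      obtain ⟨c', hc', hcy'⟩ := hy y'
      have h1 : v * ((⁅y, y'⁆ : S) : G) * v⁻¹ = ((⁅c * y, c' * y'⁆ : S) : G) := by
        simp only [commutatorElement_def, Subgroup.coe_mul, Subgroup.coe_inv]
        calc v * ((y : G) * y' * (y : G)⁻¹ * (y' : G)⁻¹) * v⁻¹ = (v * y * v⁻¹) * (v * y' * v⁻¹) *
              (v * y * v⁻¹)⁻¹ * (v * y' * v⁻¹)⁻¹ := by group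
          _ = _ := by rw [hcy, hcy']; rfl
      have h2 : (⁅c * y, c' * y'⁆ : S) = ⁅y, y'⁆ := by
        have hc1 := fun g : S => mem_center_iff.1 hc g
        have hc2 := fun g : S => mem_center_iff.1 hc' g
        simp only [commutatorElement_def]
        calc c * y * (c' * y') * (c * y)⁻¹ * (c' * y')⁻¹
            = c * (y * c') * y' * y⁻¹ * (c⁻¹ * y'⁻¹) * c'⁻¹ := by group
          _ = c * (c' * y) * y' * y⁻¹ * (y'⁻¹ * c⁻¹) * c'⁻¹ := by
            rw [hc2, mem_center_iff.1 (inv_mem hc) y'⁻¹]
          _ = (c * c') * (y * y' * y⁻¹ * y'⁻¹) * (c⁻¹ * c'⁻¹) := by group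
          _ = (y * y' * y⁻¹ * y'⁻¹) * (c * c') * (c⁻¹ * c'⁻¹) := by
            rw [mem_center_iff.1 (mul_mem hc hc') (y * y' * y⁻¹ * y'⁻¹)]
          _ = y * y' * y⁻¹ * y'⁻¹ := by rw [hc2 c]; group
      show ((⁅y, y'⁆ : S) : G) * v = v * ((⁅y, y'⁆ : S) : G)
      rw [h2] at h1
      rw [← mul_inv_eq_iff_eq_mul.1 h1]
    have hS'bot : commutator S ≠ ⊥ := fun e => by
      refine not_le_succ hS hn (by omega) hmax (i := 1) (by omega) ?_
      rw [lcs_one_eq, e]
      exact bot_le
    have hZS' := (center_le hS hZc (commutator S) hS'bot).trans hfix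
    refine hs₀' (mem_centralizer_iff.2 fun z hz => ?_)
    have hzZ : (z : G) ∈ Z := hz
    have hzc : (⟨z, hzZ.1⟩ : S) ∈ center S := by rw [hcq]; exact mem_subgroupOf.2 hzZ.2
    have h1 : (z : G) * v = v * z := mem_centralizer_singleton_iff.1 (hZS' hzc)
    have h2 : a * (z : G) = (z : G) * a :=
      congrArg Subtype.val (mem_center_iff.1 hzc ⟨a, haS⟩)
    have h3 : (z : G) * w = w * z := by
      rw [← hva, ← mul_assoc, h1, mul_assoc, ← h2, mul_assoc]
    have h4 : (z : G) * m = m * z := mem_centralizer_iff.1 m.2.1 _ hzZ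
    refine Subtype.ext (mul_left_cancel (a := (m : G)) ?_)
    show (m : G) * ((z : G) * s) = m * (s * z)
    rw [← mul_assoc, ← h4, mul_assoc]
    rw [← mul_assoc (m : G) s z]
    exact h3

theorem main (P : Sylow p G) (hn : Nat.card P = p ^ n) (h3 : 3 ≤ n)
    (hmax : lcs ↥(P : Subgroup G) (n - 2) ≠ ⊥) (hcore : Cfsg.pPrimeCore p G = ⊥)
    (hres : ∀ N : Subgroup G, N.Normal → (N.index).Coprime p → N = ⊤) :
    (∃ x ∈ (P : Subgroup G), (Nat.card (centralizer ({x} : Set G))).factorization p = 2) ∨
      (Cfsg.IsQuasisimple G ∧ Nat.card (center G) ≤ p) := by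
  classical
  set S := (P : Subgroup G) with hS'
  have hS : IsPGroup p S := P.2
  have htop : ∀ N : Subgroup G, N.Normal → S ≤ N → N = ⊤ := fun N hN hSN =>
    hres N hN ((hp.out.coprime_iff_not_dvd.2 fun hd =>
      P.not_dvd_index (hd.trans (index_dvd_of_le hSN))).symm)
  by_cases hlarge : ∃ N : Subgroup G, N.Normal ∧ ¬ S ≤ N ∧ p < Nat.card (N.subgroupOf S)
  · obtain ⟨N, hN, hNP, hbig⟩ := hlarge
    exact Or.inl (exists_of_large P hn h3 hmax N hNP hbig)
  push Not at hlarge
  right
  have hZc : Nat.card (center S) = p := card_center hS hn h3 hmax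
  -- every proper nontrivial normal subgroup is the centre of the Sylow subgroup
  have hnorm : ∀ N : Subgroup G, N.Normal → N ≠ ⊤ → N ≠ ⊥ → N = (center S).map S.subtype := by
    intro N hN htop' hbot
    have hNP : ¬ S ≤ N := fun h => htop' (htop N hN h)
    have hle := hlarge N hN hNP
    have hQ : Nat.card (N.subgroupOf S) = p := by
      obtain ⟨k, hk⟩ := IsPGroup.iff_card.1 (hS.to_subgroup (N.subgroupOf S))
      have hk0 : k ≠ 0 := by
        intro e
        refine hbot (le_bot_iff.1 (hcore ▸ le_sSup ⟨hN, ?_⟩))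
        rw [Nat.coprime_comm, hp.out.coprime_iff_not_dvd]
        intro hd
        obtain ⟨y, hy⟩ := exists_prime_orderOf_dvd_card' (G := N) p hd
        have hyp : IsPGroup p (zpowers (y : G)) := IsPGroup.of_card (n := 1) (by
          rw [Nat.card_zpowers, Subgroup.orderOf_coe, hy, pow_one])
        obtain ⟨P', hP'⟩ := hyp.exists_le_sylow
        obtain ⟨g, hg⟩ := MulAction.exists_smul_eq G P' P
        have hmem : g * (y : G) * g⁻¹ ∈ S := by
          rw [hS', ← hg]; exact ⟨y, hP' (mem_zpowers _), rfl⟩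
        have hb : N.subgroupOf S = ⊥ := card_eq_one.1 (by rw [hk, e, pow_zero])
        have h1 : (⟨_, hmem⟩ : S) ∈ (⊥ : Subgroup S) := hb ▸ mem_subgroupOf.2 (hN.conj_mem _ y.2 g)
        replace h1 : g * (y : G) * g⁻¹ = 1 := congrArg Subtype.val (mem_bot.1 h1)
        rw [conj_eq_one_iff, OneMemClass.coe_eq_one] at h1
        rw [h1, orderOf_one] at hy
        exact hp.out.one_lt.ne hy
      refine le_antisymm hle ?_
      rw [hk]
      exact Nat.le_self_pow hk0 p
    have hcard := card_eq_prime P hn h3 hmax hcore N hQ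
    have hZQ : center S ≤ N.subgroupOf S := center_le hS hZc _ fun e => by
      rw [e, card_bot] at hQ; exact hp.out.one_lt.ne hQ
    refine (eq_of_le_of_card_ge ?_ ?_).symm
    · rintro _ ⟨z, hz, rfl⟩
      exact hZQ hz
    · rw [card_map_of_injective S.subtype_injective, hZc, hcard]
  have hSne : commutator S ≠ ⊥ := fun e => not_le_succ hS hn (by omega) hmax (i := 1) (by omega) (by
    rw [lcs_one_eq, e]; exact bot_le)
  set Z := (center S).map S.subtype with hZ
  have hZcard : Nat.card Z = p := by rw [hZ, card_map_of_injective S.subtype_injective, hZc]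
  have hZcentral : Z.Normal → Z ≤ center G := by
    intro hZn
    have h1 := htop (centralizer (Z : Set G)) inferInstance fun a ha => mem_centralizer_iff.2 (by
      rintro _ ⟨z, hz, rfl⟩
      exact (congrArg Subtype.val (mem_center_iff.1 hz ⟨a, ha⟩)).symm)
    exact fun z hz => mem_center_iff.2 fun g => ((mem_centralizer_iff.1 (h1 ▸ mem_top g)) z hz).symm
  -- perfect
  have hperf : commutator G = ⊤ := by
    by_contra hne
    by_cases hb : commutator G = ⊥
    · refine hSne ((eq_bot_iff_forall _).2 fun y hy => ?_)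
      have := mem_map_of_mem S.subtype hy
      rw [Subgroup.map_subtype_commutator] at this
      have h' : (y : G) ∈ commutator G := by
        rw [_root_.commutator_def]
        exact Subgroup.commutator_mono le_top le_top this
      rw [hb, mem_bot] at h'
      exact Subtype.ext h'
    have hG' := hnorm _ inferInstance hne hb
    have hSn : S.Normal := ⟨fun a ha g => by
      have h1 : ⁅g, a⁆ ∈ Z := by
        rw [← hG', _root_.commutator_def]
        exact commutator_mem_commutator (mem_top g) (mem_top a)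
      have h2 := mul_mem (map_subtype_le _ h1) ha
      simpa [commutatorElement_def] using h2⟩
    have hStop := htop S hSn le_rfl
    obtain ⟨M, hM⟩ := Sylow.exists_subgroup_card_pow_prime (G := G) p (n := n - 1)
      (by rw [← card_top (G := G), ← hStop, hn]; exact pow_dvd_pow p (by omega))
    have hMn : M.Normal := by
      refine normal_of_index_eq_minFac_card ?_
      have h := M.index_mul_card
      have hG : Nat.card G = p * p ^ (n - 1) := by
        rw [← card_top (G := G), ← hStop, hn, ← pow_succ', show n - 1 + 1 = n by omega]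
      rw [hM, hG] at h
      rw [Nat.eq_of_mul_eq_mul_right (pow_pos hp.out.pos _) h, hG, ← pow_succ',
        hp.out.pow_minFac (by omega)]
    have h1 := hlarge M hMn fun h => by
      have := Subgroup.card_le_of_le h
      rw [hM, show Nat.card S = p ^ n from hn] at this
      have := (Nat.pow_le_pow_iff_right hp.out.one_lt).1 this
      omega
    rw [Nat.card_congr (subgroupOfEquivOfLe (show M ≤ S from hStop ▸ le_top)).toEquiv, hM] at h1
    have h2 : p ^ 2 ≤ p ^ (n - 1) := Nat.pow_le_pow_right hp.out.pos (by omega)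
    have h3' : p * 1 < p * p := Nat.mul_lt_mul_of_pos_left hp.out.one_lt hp.out.pos
    rw [sq] at h2
    omega
  have hctop : center G ≠ ⊤ := fun e => by
    have : commutator G = ⊥ := by
      rw [_root_.commutator_def, ← le_bot_iff, commutator_le]
      exact fun a _ b _ => mem_bot.2 (commutatorElement_eq_one_iff_mul_comm.2
        (mem_center_iff.1 (e ▸ mem_top b : b ∈ center G) a))
    rw [this] at hperf
    have h1 : Nat.card (⊤ : Subgroup G) = 1 := by rw [← hperf, card_bot]
    rw [card_top] at h1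
    have h2 : Nat.card S ≤ Nat.card G := card_le_card_group S
    rw [show Nat.card S = p ^ n from hn, h1] at h2
    exact absurd (Nat.one_lt_pow (by omega) hp.out.one_lt) (not_lt.2 h2)
  refine ⟨⟨⟨hperf⟩, ?_⟩, ?_⟩
  · haveI : Nontrivial (G ⧸ center G) := (QuotientGroup.nontrivial_iff).2 hctop
    refine ⟨fun H hH => ?_⟩
    set K := H.comap (QuotientGroup.mk' (center G))
    have hsurj := QuotientGroup.mk'_surjective (center G)
    by_cases hK : K = ⊤
    · exact Or.inr (comap_injective hsurj (hK.trans (comap_top _).symm))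
    have hCK : center G ≤ K := fun z hz => by
      show (z : G ⧸ center G) ∈ H
      rw [(QuotientGroup.eq_one_iff z).2 hz]; exact one_mem _
    refine Or.inl (comap_injective hsurj ?_)
    rw [MonoidHom.comap_bot, QuotientGroup.ker_mk']
    refine le_antisymm ?_ hCK
    by_cases hKb : K = ⊥
    · exact hKb.trans_le bot_le
    have hKZ := hnorm K inferInstance hK hKb
    have hZn : Z.Normal := hKZ ▸ inferInstance
    exact hKZ.trans_le (hZcentral hZn)
  · by_cases hb : center G = ⊥
    · rw [hb, card_bot]; exact hp.out.one_le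
    · rw [hnorm _ inferInstance hctop hb, hZcard]

end CfsgLib.MaxClassQS
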