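import Cfsg.Agent.Fusion.FourthEssential
import Cfsg.Agent.Fusion.Alperin
import Cfsg.Agent.FGSA.MaximalClassAvoid
import Cfsg.Agent.S0112

/-!
In a group with a Sylow subgroup `S` of maximal class and a normal subgroup `N` meeting `S` in more
than its centre, an element of `S` outside `N` with centraliser of order `p ^ 2` in `S` keeps this
property under fusion: no essential subgroup contains it.
-/

set_option autoImplicit false
set_option linter.style.haveILetI false
set_option linter.unusedSectionVars false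

open Cfsg Cfsg.FusionSystem Subgroup

namespace CfsgLib.MaxClassUnfused

open CfsgLib.Fusion CfsgLib.FGSA CfsgLib.FGSA.MaxClass CfsgLib.MaxClassAvoid
open scoped commutatorElement

universe u

variable {G : Type u} [Group G] [Finite G] {p : ℕ} [hp : Fact p.Prime]

/-- Outside `N`, with centraliser of order `p ^ 2` in `S`. -/
def Good (S N : Subgroup G) (p : ℕ) (x : G) : Prop :=
  x ∈ S ∧ x ∉ N ∧ Nat.card ↥(S ⊓ centralizer ({x} : Set G)) = p ^ 2

theorem aut_conj {S R : Subgroup G} (hR : R ≤ S) {α : MulAut R}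
    (hα : α ∈ (groupFusionSystem S).autGroup R) :
    ∃ g : G, ∀ x : R, ((α x : R) : G) = g * (x : G) * g⁻¹ := by
  obtain ⟨-, -, g, hg⟩ := (autGroup_carrier hR).1 hα
  exact ⟨g, hg⟩

theorem mem_normalizer_of_conj_le {E : Subgroup G} {v : G} (h : ∀ e ∈ E, v * e * v⁻¹ ∈ E) :
    v ∈ normalizer (E : Set G) := by
  refine mem_normalizer_iff.2 fun e => ⟨h e, fun he => ?_⟩
  have hmap : E.map (MulAut.conj v).toMonoidHom = E := Subgroup.eq_of_le_of_card_ge
    (by rintro _ ⟨a, ha, rfl⟩; exact h a ha)
    (card_map_of_injective (MulAut.conj v).injective).ge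
  obtain ⟨a, ha, e'⟩ := hmap.ge he
  exact (MulAut.conj v).injective e' ▸ ha

/-- The image of the automorphisms of `S` preserves centraliser orders. -/
theorem card_centralizer_aut {S : Subgroup G} (α : MulAut S) (x : S) :
    Nat.card ↥(S ⊓ centralizer ({((α x : S) : G)} : Set G)) =
      Nat.card ↥(S ⊓ centralizer ({(x : G)} : Set G)) := by
  have key : ∀ y : S, Nat.card ↥(S ⊓ centralizer ({(y : G)} : Set G)) =
      Nat.card (centralizer ({y} : Set S)) := fun y => by
    refine (Nat.card_congr ?_)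
    exact {
      toFun := fun a => ⟨⟨a.1, a.2.1⟩, mem_centralizer_singleton_iff.2
        (Subtype.ext (mem_centralizer_singleton_iff.1 a.2.2))⟩
      invFun := fun a => ⟨a.1.1, a.1.2, mem_centralizer_singleton_iff.2
        (congrArg Subtype.val (mem_centralizer_singleton_iff.1 a.2))⟩
      left_inv := fun a => rfl
      right_inv := fun a => rfl }
  rw [key, key]
  refine Nat.card_congr (Equiv.symm ?_)
  exact Equiv.subtypeEquiv α.toEquiv fun a => by
    simp only [mem_centralizer_singleton_iff, MulEquiv.toEquiv_eq_coe, EquivLike.coe_coe]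
    rw [← map_mul, ← map_mul, α.injective.eq_iff]

/-- A subgroup with a suitable invariant maximal subgroup is not essential. -/
theorem flag_of_max {S R : Subgroup G} (hS : IsPGroup p S)
    (hF : (groupFusionSystem S).IsSaturated p) (hE : (groupFusionSystem S).IsEssential p R)
    {m : ℕ} (hcard : Nat.card R = p ^ m) (hm : 2 ≤ m) (hmax : lcs ↥R (m - 2) ≠ ⊥) (T : Subgroup R)
    (hT : Nat.card T = p ^ (m - 1))
    (hinv : ∀ α ∈ (groupFusionSystem S).autGroup R, ∀ x ∈ T, α x ∈ T) : False := by
  have hRp : IsPGroup p R := IsPGroup.of_card hcard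
  have hidx : T.index = p := by
    have h := T.index_mul_card
    rw [hT, hcard, show p ^ m = p * p ^ (m - 1) by rw [← pow_succ', show m - 1 + 1 = m by omega]] at h
    exact Nat.eq_of_mul_eq_mul_right (pow_pos hp.out.pos _) h
  haveI hTn : T.Normal := by
    refine normal_of_index_eq_minFac_card ?_
    rw [hidx, hcard, hp.out.pow_minFac (by omega)]
  have hlT : lcs ↥R 1 ≤ T := by
    rw [lcs_one_eq, _root_.commutator_def, commutator_le]
    intro a _ b _
    have hcy : IsCyclic (↥R ⧸ T) := isCyclic_of_prime_card (p := p) (by rw [← index_eq_card, hidx])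
    rw [← QuotientGroup.eq_one_iff, ← QuotientGroup.mk'_apply, map_commutatorElement,
      commutatorElement_eq_one_iff_mul_comm]
    exact (hcy.commGroup).mul_comm _ _
  let D : Fin (m - 1 + 1) → Subgroup R := fun i =>
    if (i : ℕ) + 1 = m then ⊤ else if (i : ℕ) + 2 = m then T else lcs ↥R (m - 2 - i)
  have hchar : ∀ (j : ℕ) (α : MulAut R), ∀ x ∈ lcs ↥R j, α x ∈ lcs ↥R j := fun j α x hx => by
    have h := mem_map_of_mem α.toMonoidHom hx
    unfold lcs at h ⊢
    rw [Subgroup.map_lowerCentralSeries, Subgroup.map_top_of_surjective _ α.surjective] at h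
    exact h
  have hDcard : ∀ i, Nat.card (D i) = p ^ ((i : ℕ) + 1) := by
    intro i
    have := i.2
    simp only [D]
    split_ifs with h1 h2
    · rw [card_top, hcard, h1]
    · rw [hT]; congr 1; omega
    · rw [card_lcs hRp hcard hmax (by omega) (by omega)]; congr 1; omega
  refine CfsgLib.Fusion.FourthEssential.flag_false hS hF hE D (fun i => ?_) (fun i α hα x hx => ?_) ?_ ?_ ?_ (fun i => ?_)
  · simp only [D]; split_ifs <;> infer_instance
  · revert hx
    simp only [D]
    split_ifs
    · exact fun _ => mem_top _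
    · exact hinv α hα x
    · exact hchar _ α x
  · refine Fin.monotone_iff_le_succ.2 fun i => ?_
    have := i.2
    simp only [D, Fin.val_castSucc, Fin.val_succ]
    split_ifs <;> first
      | exact le_top
      | omega
      | exact (MaxClassPow.lcs_anti (by omega)).trans hlT
      | exact MaxClassPow.lcs_anti (by omega)
  · simp only [D, Fin.val_last]
    rw [if_pos (by omega)]
  · rw [hDcard]; simp
  · rw [hDcard, hDcard, Fin.val_castSucc, Fin.val_succ, pow_succ']

/-- No essential subgroup contains a good element. -/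
theorem not_good_of_essential {S N : Subgroup G} [N.Normal] (hS : IsPGroup p S)
    (hF : (groupFusionSystem S).IsSaturated p) (hZN : ∀ z ∈ S, (∀ s ∈ S, z * s = s * z) → z ∈ N)
    (hZ1 : ∃ z ∈ S, z ≠ 1 ∧ ∀ s ∈ S, z * s = s * z)
    {w : G} (hwS : w ∈ S) (hwN : w ∈ N) (hwZ : ∃ s ∈ S, w * s ≠ s * w)
    (hwc : ∀ s ∈ S, ∀ t ∈ S, ⁅w, s⁆ * t = t * ⁅w, s⁆)
    {R : Subgroup G} (hE : (groupFusionSystem S).IsEssential p R) {x : G} (hxR : x ∈ R)
    (hx : Good S N p x) : False := by
  classical
  obtain ⟨hxS, hxN, hxc⟩ := hx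
  have hRS : R ≤ S := hE.1.1
  set E := S ⊓ centralizer ({x} : Set G) with hE'
  -- the centre of `S` lies in `R`
  have hZR : ∀ z ∈ S, (∀ s ∈ S, z * s = s * z) → z ∈ R := fun z hz hzc =>
    hE.1.2 R ⟨R.subtype, (CfsgLib.Fusion.subtype_mem hRS), R.range_subtype⟩
      ⟨hz, mem_centralizer_iff.2 fun r hr => (hzc r (hRS hr)).symm⟩
  -- `E` is generated by `x` and the centre
  set ES : Subgroup S := centralizer ({(⟨x, hxS⟩ : S)} : Set S) with hES
  have hEScard : Nat.card ES = p ^ 2 := by
    rw [← hxc]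
    exact (Nat.card_congr ({
      toFun := fun a => ⟨⟨a.1, a.2.1⟩, mem_centralizer_singleton_iff.2
        (Subtype.ext (mem_centralizer_singleton_iff.1 a.2.2))⟩
      invFun := fun a => ⟨a.1.1, a.1.2, mem_centralizer_singleton_iff.2
        (congrArg Subtype.val (mem_centralizer_singleton_iff.1 a.2))⟩
      left_inv := fun a => rfl
      right_inv := fun a => rfl } : ↥E ≃ ES)).symm
  obtain ⟨z, hzS, hz1, hzc⟩ := hZ1
  have hER : E ≤ R := by
    set L : Subgroup G := zpowers x ⊔ zpowers z with hL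
    have hLR : L ≤ R := sup_le (zpowers_le.2 hxR) (zpowers_le.2 (hZR z hzS hzc))
    have hLE : L ≤ E := sup_le (zpowers_le.2 ⟨hxS, mem_centralizer_singleton_iff.2 rfl⟩)
      (zpowers_le.2 ⟨hzS, mem_centralizer_singleton_iff.2 (hzc x hxS)⟩)
    have hlt : zpowers z < L := lt_of_le_of_ne le_sup_right fun e =>
      hxN (zpowers_le.2 (hZN z hzS hzc) (e ▸ mem_sup_left (mem_zpowers x) : x ∈ zpowers z))
    rw [← Subgroup.eq_of_le_of_card_ge hLE ?_]
    · exact hLR
    · rw [hxc]
      have h1 := CfsgLib.Uniserial.mul_card_le hS (hLE.trans inf_le_left) hlt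
      refine le_trans ?_ h1
      rw [sq]
      refine Nat.mul_le_mul_left _ ?_
      obtain ⟨k, hk⟩ := IsPGroup.iff_card.1 (hS.to_le (zpowers_le.2 hzS))
      rw [hk]
      refine Nat.le_self_pow (fun e => hz1 ?_) p
      rw [Nat.card_zpowers, e, pow_zero] at hk
      exact orderOf_eq_one_iff.1 hk
  have hlt := essential_lt p hS hF hE
  obtain ⟨m, hm⟩ := IsPGroup.iff_card.1 (hS.to_le hRS)
  -- `E` is self-centralising in `R`
  set E₁ := E.subgroupOf R with hE₁
  have hE₁card : Nat.card E₁ = p ^ 2 := by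
    rw [hE₁, Nat.card_congr (subgroupOfEquivOfLe hER).toEquiv, hxc]
  have hm2 : 2 ≤ m := (Nat.pow_le_pow_iff_right hp.out.one_lt).1
    (hm ▸ hE₁card ▸ Nat.le_of_dvd Nat.card_pos (card_subgroup_dvd_card E₁))
  have hxE₁ : (⟨x, hxR⟩ : R) ∈ E₁ := ⟨hxS, mem_centralizer_singleton_iff.2 rfl⟩
  have hcomm : ∀ a ∈ E₁, ∀ b ∈ E₁, a * b = b * a := fun a ha b hb =>
    congrArg Subtype.val (IsPGroup.commutative_of_card_eq_prime_sq hE₁card ⟨a, ha⟩ ⟨b, hb⟩)
  have hC : centralizer (E₁ : Set R) = E₁ := le_antisymm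
    (fun r hr => ⟨hRS r.2, mem_centralizer_singleton_iff.2
      (congrArg Subtype.val (mem_centralizer_iff.1 hr _ hxE₁)).symm⟩)
    (fun a ha => mem_centralizer_iff.2 fun b hb => hcomm b hb a ha)
  have hmax : lcs ↥R (m - 2) ≠ ⊥ := by
    intro h
    haveI := (IsPGroup.of_card hm).isNilpotent
    have h1 := Cfsg.Agent.S0112.result m hm E₁ hE₁card hC
    have h2 := Subgroup.lowerCentralSeries_eq_bot_iff_nilpotencyClass_le.1 h
    omega
  -- the intersection with `N`
  set T := N.subgroupOf R with hT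
  have hTinv : ∀ α ∈ (groupFusionSystem S).autGroup R, ∀ y ∈ T, α y ∈ T := fun α hα y hy => by
    obtain ⟨g, hg⟩ := aut_conj hRS hα
    rw [hT, mem_subgroupOf, hg]
    exact (inferInstance : N.Normal).conj_mem _ hy g
  obtain ⟨t, ht⟩ := IsPGroup.iff_card.1 ((IsPGroup.of_card hm).to_subgroup T)
  have htm : t < m := by
    by_contra h
    refine hxN ?_
    have : (⟨x, hxR⟩ : R) ∈ T := by
      rw [Subgroup.eq_top_of_card_eq T (le_antisymm (card_le_card_group T) (by
        rw [ht, hm]; exact Nat.pow_le_pow_right hp.out.pos (not_lt.1 h)))]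
      exact mem_top _
    exact this
  have hzT : (⟨z, hZR z hzS hzc⟩ : R) ∈ T := hZN z hzS hzc
  have ht1 : 1 ≤ t := by
    by_contra h
    have : Nat.card T = 1 := by rw [ht, show t = 0 by omega, pow_zero]
    rw [card_eq_one.1 this, mem_bot, Subtype.ext_iff] at hzT
    exact hz1 hzT
  rcases Nat.lt_or_ge m 4 with hm4 | hm4
  · -- small subgroups: `R ∩ N` is maximal
    refine flag_of_max hS hF hE hm hm2 hmax T ?_ hTinv
    rw [ht]
    rcases (show m = 2 ∨ m = 3 by omega) with rfl | rfl
    · congr 1; omega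
    -- `R` is the normaliser of `E` in `S`
    congr 1
    by_contra ht2
    have ht' : t = 1 := by omega
    set K := S ⊓ normalizer (E : Set G) with hK
    have hRK : R ≤ K := by
      refine le_inf hRS fun r hr => ?_
      haveI : E₁.Normal := normal_of_index_eq_minFac_card (by
        rw [hm, hp.out.pow_minFac (by omega)]
        have h := E₁.index_mul_card
        rw [hE₁card, hm, show p ^ 3 = p * p ^ 2 by ring] at h
        exact Nat.eq_of_mul_eq_mul_right (pow_pos hp.out.pos _) h)
      refine mem_normalizer_iff.2 fun e => ⟨fun he => ?_, fun he => ?_⟩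
      · exact (inferInstance : E₁.Normal).conj_mem ⟨e, hER he⟩ he ⟨r, hr⟩
      · have heR : e ∈ R := by
          have := mul_mem (mul_mem (inv_mem hr) (hER he)) hr
          simpa [mul_assoc] using this
        have := (inferInstance : E₁.Normal).conj_mem' ⟨_, hER he⟩ he ⟨r, hr⟩
        simpa [E₁, mem_subgroupOf, mul_assoc] using this
    have hwK : w ∈ K := by
      refine ⟨hwS, ?_⟩
      have hmove : ∀ v : G, (∀ e ∈ E, ⁅v, e⁆ ∈ E) → ∀ e ∈ E, v * e * v⁻¹ ∈ E := fun v hv e he => by
        have := mul_mem (hv e he) he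
        simpa [commutatorElement_def] using this
      have hin : ∀ e ∈ E, ⁅w, e⁆ ∈ E := fun e he => by
        refine ⟨?_, mem_centralizer_singleton_iff.2 (hwc e he.1 x hxS)⟩
        rw [commutatorElement_def]
        exact S.mul_mem (S.mul_mem (S.mul_mem hwS he.1) (S.inv_mem hwS)) (S.inv_mem he.1)
      haveI : Finite E := inferInstance
      exact mem_normalizer_of_conj_le (hmove w hin)
    have hKcard : Nat.card K ≤ p ^ 3 := by
      set x' : K := ⟨x, hRK hxR⟩
      have h1 := CfsgLib.Char.card_conj_class_mul_card_centralizer x'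
      have h2 : Nat.card (centralizer ({x'} : Set K)) ≤ p ^ 2 := by
        rw [← hxc]
        exact Nat.card_le_card_of_injective (fun a => (⟨a.1.1, a.1.2.1, mem_centralizer_singleton_iff.2
          (congrArg Subtype.val (mem_centralizer_singleton_iff.1 a.2))⟩ : ↥E))
          fun a b hab => Subtype.ext (Subtype.ext (congrArg (fun e : ↥E => (e : G)) hab))
      obtain ⟨j, hj⟩ : ∃ j, Nat.card {y : K // _root_.IsConj x' y} = p ^ j := by
        have hKp : IsPGroup p K := hS.to_le inf_le_left
        obtain ⟨k, hk⟩ := IsPGroup.iff_card.1 hKp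
        obtain ⟨j, -, hj⟩ := (Nat.dvd_prime_pow hp.out).1 (hk ▸ Dvd.intro _ h1)
        exact ⟨j, hj⟩
      have h3 : Nat.card {y : K // _root_.IsConj x' y} < p ^ 2 := by
        rw [← hxc]
        have hmem : ∀ y : K, _root_.IsConj x' y → (y : G) ∈ E := fun y hy => by
          obtain ⟨c, rfl⟩ := isConj_iff.1 hy
          exact (mem_normalizer_iff.1 c.2.2 x).1 ⟨hxS, mem_centralizer_singleton_iff.2 rfl⟩
        let f : {y : K // _root_.IsConj x' y} → ↥E := fun y => ⟨(y : K), hmem y y.2⟩
        have hf : Function.Injective f := fun a b hab => by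
          exact Subtype.ext (Subtype.ext (congrArg (fun e : ↥E => (e : G)) hab))
        refine lt_of_le_of_ne (Nat.card_le_card_of_injective f hf) fun e => hxN ?_
        obtain ⟨y, hy⟩ := ((Nat.bijective_iff_injective_and_card f).2 ⟨hf, e⟩).2 1
        have hy1 : (y : K) = 1 := Subtype.ext (congrArg (fun e : ↥E => (e : G)) hy)
        have : x' = 1 := isConj_one_left.1 (hy1 ▸ y.2)
        rw [show x = 1 from congrArg Subtype.val this]
        exact one_mem _
      rw [hj] at h1 h3
      have hj1 : p ^ j ≤ p := by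
        calc p ^ j ≤ p ^ 1 := Nat.pow_le_pow_right hp.out.pos
              (Nat.lt_succ_iff.1 ((Nat.pow_lt_pow_iff_right hp.out.one_lt).1 h3))
          _ = p := pow_one p
      calc Nat.card K = p ^ j * Nat.card (centralizer ({x'} : Set K)) := h1.symm
        _ ≤ p * p ^ 2 := Nat.mul_le_mul hj1 h2
        _ = p ^ 3 := by ring
    have hRK' : R = K := Subgroup.eq_of_le_of_card_ge hRK (hm ▸ hKcard)
    have hwR : w ∈ R := hRK' ▸ hwK
    obtain ⟨s, hs, hws⟩ := hwZ
    have hlt' : zpowers (⟨z, hZR z hzS hzc⟩ : R) < T := by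
      refine lt_of_le_of_ne (zpowers_le.2 hzT) fun e => hws ?_
      obtain ⟨k, hk⟩ := mem_zpowers_iff.1 (e.symm ▸ (show (⟨w, hwR⟩ : R) ∈ T from hwN))
      have hk' : z ^ k = w := by simpa using congrArg Subtype.val hk
      rw [← hk']
      exact Commute.zpow_left (hzc s hs) k
    have h1 := CfsgLib.Uniserial.mul_card_le (IsPGroup.of_card hm |>.to_subgroup ⊤) le_top hlt'
    have h2 : p ≤ Nat.card (zpowers (⟨z, hZR z hzS hzc⟩ : R)) := by
      obtain ⟨k, hk⟩ := IsPGroup.iff_card.1 ((IsPGroup.of_card hm).to_subgroup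
        (zpowers (⟨z, hZR z hzS hzc⟩ : R)))
      rw [hk]
      refine Nat.le_self_pow (fun e => hz1 ?_) p
      rw [Nat.card_zpowers, e, pow_zero] at hk
      exact congrArg Subtype.val (orderOf_eq_one_iff.1 hk)
    rw [ht, ht', pow_one] at h1
    have h3 := Nat.mul_le_mul_left p h2
    have h4 : p * p ≤ p * 1 := by rw [mul_one]; omega
    exact absurd (Nat.le_of_mul_le_mul_left h4 hp.out.pos) (not_le.2 hp.out.one_lt)
  · -- the two-step centraliser is maximal and invariant
    refine flag_of_max hS hF hE hm hm2 hmax (twoStep ↥R 1) ?_ fun α _ y hy => mem_twoStep.2 fun g hg => ?_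
    · have h1 := index_twoStep_le (IsPGroup.of_card hm) hm hm2 hmax (j := 1) le_rfl (by omega)
      have h2 : p ≤ (twoStep ↥R 1).index := by
        obtain ⟨k, hk⟩ := (IsPGroup.of_card hm).index (twoStep ↥R 1)
        rw [hk]
        exact Nat.le_self_pow (fun e => twoStep_ne_top (IsPGroup.of_card hm) hm hm2 hmax (j := 1) (by omega)
          (index_eq_one.1 (by rw [hk, e, pow_zero]))) p
      have h3 := (twoStep ↥R 1).index_mul_card
      rw [show (twoStep ↥R 1).index = p by omega, hm,
        show p ^ m = p * p ^ (m - 1) by rw [← pow_succ', show m - 1 + 1 = m by omega]] at h3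
      exact Nat.eq_of_mul_eq_mul_left hp.out.pos h3
    · have hmap : ∀ (j : ℕ) (β : MulAut R), ∀ v ∈ lcs ↥R j, β v ∈ lcs ↥R j := fun j β v hv => by
        have h := mem_map_of_mem β.toMonoidHom hv
        unfold lcs at h ⊢
        rw [Subgroup.map_lowerCentralSeries, Subgroup.map_top_of_surjective _ β.surjective] at h
        exact h
      have h := hmap _ α _ (mem_twoStep.1 hy (α.symm g) (hmap 1 α.symm g hg))
      rwa [map_commutatorElement, MulEquiv.apply_symm_apply] at h

/-- The system of maps preserving good elements. -/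
def goodSystem (S N : Subgroup G) [N.Normal] (p : ℕ) : FusionSystem S where
  Hom P := {φ | φ ∈ (groupFusionSystem S).Hom P ∧ ∀ y : P, Good S N p (φ y) ↔ Good S N p (y : G)}
  le_of_mem h := (groupFusionSystem S).le_of_mem h.1
  injective_of_mem h := (groupFusionSystem S).injective_of_mem h.1
  conj_mem {P g} hP hg := by
    refine ⟨(groupFusionSystem S).conj_mem hP hg, fun y => ?_⟩
    have hy := hP y.2
    have h1 : Nat.card ↥(S ⊓ centralizer ({conjHom P g y} : Set G)) =
        Nat.card ↥(S ⊓ centralizer ({(y : G)} : Set G)) :=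
      card_centralizer_aut (MulAut.conj (⟨g, hg⟩ : S)) ⟨y, hy⟩
    constructor
    · rintro ⟨-, hN, hc⟩
      exact ⟨hy, fun h => hN ((inferInstance : N.Normal).conj_mem _ h g), h1 ▸ hc⟩
    · rintro ⟨-, hN, hc⟩
      refine ⟨mul_mem (mul_mem hg hy) (inv_mem hg), fun h => hN ?_, h1.trans hc⟩
      have := (inferInstance : N.Normal).conj_mem' _ h g
      simpa [conjHom, mul_assoc] using this
  comp_mem hφ hψ h := ⟨(groupFusionSystem S).comp_mem hφ.1 hψ.1 h,
    fun y => (hψ.2 _).trans (hφ.2 y)⟩
  inv_mem {P φ} hφ := by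
    obtain ⟨ψ, hψ, hinv⟩ := (groupFusionSystem S).inv_mem hφ.1
    refine ⟨ψ, ⟨hψ, fun y => ?_⟩, hinv⟩
    obtain ⟨_, x, rfl⟩ := y
    rw [hinv x]
    exact (hφ.2 x).symm

end CfsgLib.MaxClassUnfused
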