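import Cfsg.Agent.Fusion.NormalCentralizer
import Cfsg.Agent.Fusion.PPrime.Twist
import Cfsg.Agent.Fusion.PPrime.Trivial

/-!
The automorphisms of a normal subsystem on a centric fully normalized subgroup `P` extend to
`P C_S(P)` trivially modulo `P`.
-/

set_option autoImplicit false
set_option linter.style.haveILetI false
set_option linter.unusedSectionVars false

open Cfsg Cfsg.FusionSystem CfsgLib.Fusion CfsgLib.FocCent CfsgLib.NormCent

namespace CfsgLib.NormExt

variable {Ω : Type*} [Group Ω] {S T : Subgroup Ω} {F : FusionSystem S} {E : FusionSystem T}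

/-- A normal subgroup containing a Sylow subgroup and a `p`-power of every element normalizing it is
everything. -/
theorem eq_top_of_normalizer_pow {A : Type*} [Group A] [Finite A] (p : ℕ) [Fact p.Prime]
    (R : Sylow p A) {B : Subgroup A} [B.Normal] (hR : (R : Subgroup A) ≤ B)
    (h : ∀ b ∈ Subgroup.normalizer ((R : Subgroup A) : Set A), ∃ j : ℕ, b ^ p ^ j ∈ B) : B = ⊤ := by
  refine top_le_iff.1 ((Sylow.normalizer_sup_eq_top' R hR).ge.trans (sup_le (fun b hb => ?_) le_rfl))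
  obtain ⟨j, hj⟩ := h b hb
  have hi : ¬ p ∣ B.index := fun hd => R.not_dvd_index (hd.trans (Subgroup.index_dvd_of_le hR))
  rw [← QuotientGroup.eq_one_iff (N := B) b, ← orderOf_eq_one_iff]
  refine Nat.eq_one_of_dvd_coprimes
    (Nat.Coprime.pow_left j ((Fact.out : p.Prime).coprime_iff_not_dvd.2 hi)) ?_
    (orderOf_dvd_natCard _)
  rw [orderOf_dvd_iff_pow_eq_one]
  exact (QuotientGroup.eq_one_iff _).2 hj

/-- The automorphisms acting trivially modulo `U`. -/
def modStab (U V : Subgroup Ω) : Subgroup (MulAut V) where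
  carrier := {A | ∀ v : V, (v : Ω)⁻¹ * ((A v : V) : Ω) ∈ U}
  one_mem' v := by simp
  mul_mem' {A B} hA hB v := by simpa [mul_assoc] using U.mul_mem (hB v) (hA (B v))
  inv_mem' {A} hA v := by simpa using U.inv_mem (hA (A⁻¹ v))

theorem mem_modStab {U V : Subgroup Ω} {A : MulAut V} :
    A ∈ modStab U V ↔ ∀ v : V, (v : Ω)⁻¹ * ((A v : V) : Ω) ∈ U := Iff.rfl

theorem modStab_conj {U V : Subgroup Ω} {A M : MulAut V}
    (hA : ∀ v : V, (v : Ω) ∈ U → ((A v : V) : Ω) ∈ U) (hM : M ∈ modStab U V) :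
    A * M * A⁻¹ ∈ modStab U V := fun v => by
  have h := hA ((A⁻¹ v)⁻¹ * M (A⁻¹ v)) (by simpa using hM (A⁻¹ v))
  simpa using h

theorem exists_mul_sup {U : Subgroup Ω} {x : Ω} (hx : x ∈ U ⊔ centralizerIn S U) :
    ∃ u ∈ U, ∃ c ∈ centralizerIn S U, x = u * c := by
  have hC : centralizerIn S U ≤ Subgroup.normalizer ((U : Subgroup Ω) : Set Ω) :=
    fun c hc => centralizer_le_normalizer' U hc.2
  have h : x ∈ ((U ⊔ centralizerIn S U : Subgroup Ω) : Set Ω) := hx
  rw [Subgroup.coe_mul_of_right_le_normalizer_left U _ hC] at h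
  obtain ⟨u, hu, c, hc, rfl⟩ := h
  exact ⟨u, hu, c, hc, rfl⟩

/-- An automorphism of `U C_S(U)` centralizing `U` with `p`-power order is conjugation by an element
of `C_S(U)`. -/
theorem fix_mem_induced [Finite S] (p : ℕ) [Fact p.Prime] (hS : IsPGroup p S)
    (hF : F.IsSaturated p) {U : Subgroup Ω} (hU : F.IsFullyCentralized U)
    {y : MulAut ↥(U ⊔ centralizerIn S U)} (hy : y ∈ F.autGroup (U ⊔ centralizerIn S U))
    (h1 : Agree le_sup_left y (1 : MulAut U)) {k : ℕ} (hp : y ^ p ^ k = 1) :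
    ∃ w ∈ centralizerIn S U, ∀ v : ↥(U ⊔ centralizerIn S U),
      ((y v : ↥(U ⊔ centralizerIn S U)) : Ω) = w * (v : Ω) * w⁻¹ := by
  have hVS : U ⊔ (centralizerIn S U) ≤ S := sup_le hU.1 (centralizerIn_le_S U)
  haveI : Finite (centralizerIn S U) := finite_of_le (centralizerIn_le_S U)
  haveI : Finite (MulAut (centralizerIn S U)) := finite_mulAut
  have hC : IsPGroup p (centralizerIn S U) := isPGroup_of_le hS (centralizerIn_le_S U)
  have hsat := centralizerSystem_saturated p hS hF hU (centSystem_spec F U hU.1)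
  obtain ⟨y0, hy0⟩ := exists_agree (le_sup_right : (centralizerIn S U) ≤ U ⊔ (centralizerIn S U)) y fun x hx => map_cent h1 hVS hx
  have hy0m : y0 ∈ (centSystem F U hU.1).autGroup (centralizerIn S U) := by
    refine (autGroup_carrier le_rfl).2 ?_
    rw [centSystem_spec F U hU.1]
    refine ⟨restrict_mem_of_eq ((autGroup_carrier hVS).1 hy) le_sup_right fun x => (hy0 x).symm,
      le_rfl, fun x => SetLike.coe_mem _,
      (U ⊔ (centralizerIn S U)).subtype.comp (y.toMonoidHom.comp (Subgroup.inclusion (sup_comm (centralizerIn S U) U).le)),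
      restrict_mem_of_eq ((autGroup_carrier hVS).1 hy) (sup_comm (centralizerIn S U) U).le fun x => rfl,
      fun x => hy0 x, fun x => h1 x⟩
  obtain ⟨⟨-, R, hR⟩, -⟩ := good_of_fullyNormalized p hC hsat (isFullyNormalized_S (S := (centralizerIn S U)))
  have hinn : ((R : Subgroup ((centSystem F U hU.1).autGroup (centralizerIn S U)))).Normal := by
    rw [hR, ← inn_eq_autInducedBy]
    exact inn_subgroupOf_normal (centralizerIn S U)
  have hpow : y0 ^ p ^ k = 1 := ((hy0.pow _).eq_one hp)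
  have hmem : (⟨y0, hy0m⟩ : (centSystem F U hU.1).autGroup (centralizerIn S U)) ∈
      (R : Subgroup ((centSystem F U hU.1).autGroup (centralizerIn S U))) := by
    have hz : IsPGroup p (Subgroup.zpowers (⟨y0, hy0m⟩ : (centSystem F U hU.1).autGroup (centralizerIn S U))) := by
      refine IsPGroup.iff_card.2 ?_
      obtain ⟨i, -, hi⟩ := (Nat.dvd_prime_pow Fact.out).1
        (orderOf_dvd_of_pow_eq_one (x := (⟨y0, hy0m⟩ : (centSystem F U hU.1).autGroup (centralizerIn S U)))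
          (Subtype.ext hpow))
      exact ⟨i, by rw [Nat.card_zpowers, hi]⟩
    obtain ⟨R', hR'⟩ := hz.exists_le_sylow
    obtain ⟨g, hg⟩ := MulAction.exists_smul_eq ((centSystem F U hU.1).autGroup (centralizerIn S U)) R R'
    haveI := hinn
    rw [Sylow.smul_eq_of_normal (g := g) (P := R)] at hg
    exact hg ▸ hR' (Subgroup.mem_zpowers _)
  rw [hR] at hmem
  obtain ⟨w, hw, hwe⟩ := mem_autInducedBy.1 (Subgroup.mem_subgroupOf.1 hmem)
  refine ⟨w, hw, fun v => ?_⟩
  obtain ⟨u, hu, c, hc, he⟩ := exists_mul_sup v.2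
  have hv : v = Subgroup.inclusion le_sup_left (⟨u, hu⟩ : U) *
      Subgroup.inclusion le_sup_right (⟨c, hc⟩ : (centralizerIn S U)) := Subtype.ext he
  have hcw : w * u * w⁻¹ = u := conj_eq_of_mem_centralizerIn hw hu
  rw [hv, map_mul, Subgroup.coe_mul, h1, hy0, hwe]
  show u * (w * c * w⁻¹) = w * (u * c) * w⁻¹
  calc u * (w * c * w⁻¹) = (w * u * w⁻¹) * (w * c * w⁻¹) := by rw [hcw]
    _ = w * (u * c) * w⁻¹ := by group

/-- Transport of `modAut`. -/
theorem modAut_map [Finite S] {P P' N : Subgroup Ω} (hP : P ≤ S) (hP' : P' ≤ S) {φ : N →* Ω}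
    (hφ : φ ∈ F.Hom N) (hN : P ⊔ centralizerIn S P ≤ N) (hPP : (P.subgroupOf N).map φ = P')
    (hC : ((centralizerIn S P).subgroupOf N).map φ = centralizerIn S P') (e : P ≃* P')
    (he : ∀ x : P, ((e x : P') : Ω) = φ (Subgroup.inclusion (le_sup_left.trans hN) x))
    {a : MulAut P} (ha : a ∈ modAut F hP) : MulAut.congr e a ∈ modAut F hP' := by
  obtain ⟨β, hβ, hβa, hβm⟩ := ha
  have hV : P ⊔ centralizerIn S P ≤ S := sup_le hP (centralizerIn_le_S P)
  have hψ := restrict_mem hφ hN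
  have hr : (φ.comp (Subgroup.inclusion hN)).range = P' ⊔ centralizerIn S P' := by
    rw [range_restrict φ hN, ← hC, ← hPP,
      Subgroup.subgroupOf_sup (le_sup_left.trans hN) (le_sup_right.trans hN), Subgroup.map_sup]
  let e2 := isoRange _ (F.injective_of_mem hψ) hr
  have he2 : ∀ x, ((e2 x : ↥(P' ⊔ centralizerIn S P')) : Ω) = φ (Subgroup.inclusion hN x) :=
    fun x => rfl
  refine ⟨MulAut.congr e2 β, pow_mem_autGroup_iso hV hψ e2 he2 hβ, fun x' => ?_, fun c' hc' => ?_⟩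
  · obtain ⟨x, rfl⟩ := e.surjective x'
    have h0 : Subgroup.inclusion (le_sup_left : P' ≤ _) (e x) =
        e2 (Subgroup.inclusion le_sup_left x) := Subtype.ext ((he x).trans (apply_congr φ rfl))
    simp only [h0, MulAut.congr_apply, MulEquiv.trans_apply, MulEquiv.symm_apply_apply]
    rw [he2, he]
    exact apply_congr φ (hβa x)
  · obtain ⟨c, rfl⟩ := e2.surjective c'
    have hcC : (c : Ω) ∈ centralizerIn S P := by
      obtain ⟨d, hd, hde⟩ := hC.ge hc'
      have h := F.injective_of_mem hφ (hde.trans (he2 c))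
      rw [h] at hd
      exact hd
    simp only [MulAut.congr_apply, MulEquiv.trans_apply, MulEquiv.symm_apply_apply]
    rw [he2, he2, ← map_inv, ← map_mul, ← hPP]
    exact ⟨_, hβm c hcC, rfl⟩

/-- One step of the induction: an automorphism of `P` that extends to an automorphism of `U` in
`modAut` has a `p`-power in `modAut`. -/
theorem exists_pow_modAut [Finite S] (p : ℕ) [Fact p.Prime] (hS : IsPGroup p S)
    (hE : E.IsWeaklyNormalIn F p) {P U : Subgroup Ω} (hP : E.IsCentric P) (hPU : P ≤ U)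
    (hUT : U ≤ T) (hU : F.IsFullyCentralized U) (hPS : P ≤ S)
    (hnorm : ∀ c ∈ centralizerIn S P, c ∈ Subgroup.normalizer (U : Set Ω))
    {β : MulAut U} (hβE : β ∈ E.autGroup U) (hβ : β ∈ modAut F hU.1) {b : MulAut P}
    (hb : Agree hPU β b) : ∃ j : ℕ, b ^ p ^ j ∈ modAut F hPS := by
  obtain ⟨hEs, hF, hinv⟩ := hE
  have hTS : T ≤ S := hinv.2.1.1
  haveI : Finite T := finite_of_le hTS
  have hTp : IsPGroup p T := isPGroup_of_le hS hTS
  obtain ⟨B, hB, hBβ, hBm⟩ := hβ
  have hVS : (U ⊔ centralizerIn S U) ≤ S := sup_le hU.1 (centralizerIn_le_S U)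
  haveI : Finite ↥(U ⊔ centralizerIn S U) := finite_of_le hVS
  have hUV : U ≤ (U ⊔ centralizerIn S U) := le_sup_left
  have hCUP : (centralizerIn S U) ≤ centralizerIn S P := centralizerIn_anti hPU
  have hBst : B ∈ modStab U (U ⊔ centralizerIn S U) := fun v => by
    obtain ⟨u, hu, c, hc, he⟩ := exists_mul_sup v.2
    have hv : v = Subgroup.inclusion le_sup_left (⟨u, hu⟩ : U) *
        Subgroup.inclusion le_sup_right (⟨c, hc⟩ : (centralizerIn S U)) := Subtype.ext he
    have h1 : u⁻¹ * ((β ⟨u, hu⟩ : U) : Ω) ∈ U := U.mul_mem (U.inv_mem hu) (SetLike.coe_mem _)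
    rw [hv, map_mul, Subgroup.coe_mul, Subgroup.coe_mul, hBβ]
    show (u * c)⁻¹ * (_ * _) ∈ U
    have h2 := hBm (Subgroup.inclusion le_sup_right (⟨c, hc⟩ : (centralizerIn S U))) hc
    have h3 : c⁻¹ * (u⁻¹ * ((β ⟨u, hu⟩ : U) : Ω)) * c = u⁻¹ * ((β ⟨u, hu⟩ : U) : Ω) := by
      rw [mul_assoc, hc.2 _ h1, inv_mul_cancel_left]
    have h4 := U.mul_mem h1 h2
    rw [← h3] at h4
    simpa [mul_assoc] using h4
  -- `(U ⊔ centralizerIn S U)` is centric in `F`
  have hVc : F.IsCentric (U ⊔ centralizerIn S U) := ⟨hVS, fun V' hV' => by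
    obtain ⟨φ, hφ, rfl⟩ := hV'
    set U' := (U.subgroupOf (U ⊔ centralizerIn S U)).map φ with hU'
    have hconj : F.IsConj U U' := ⟨_, restrict_mem hφ hUV, range_restrict φ hUV⟩
    have hU'r : U' ≤ φ.range := Subgroup.map_le_range _ _
    have h1 : ((centralizerIn S U).subgroupOf (U ⊔ centralizerIn S U)).map φ ≤ centralizerIn S U' := by
      rintro _ ⟨x, hx, rfl⟩
      exact map_mem_centralizerIn hφ hUV hx x.2
    have h2 : ((centralizerIn S U).subgroupOf (U ⊔ centralizerIn S U)).map φ = centralizerIn S U' := by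
      refine eq_of_le_of_card_le (centralizerIn_le_S U') h1 ((hU.2 U' hconj).trans_eq ?_)
      exact (card_map_subgroupOf (F.injective_of_mem hφ) le_sup_right).symm
    exact (centralizerIn_anti hU'r).trans (h2.ge.trans (Subgroup.map_le_range _ _))⟩
  have hVrec := receptive_of_fullyCentralized p hS hF (isFullyCentralized_of_centric hVc)
  -- the conjugates of `C_S(P)` by `B`
  have key : ∀ c ∈ centralizerIn S P, ∃ d ∈ (U ⊔ centralizerIn S U), ∀ v : ↥(U ⊔ centralizerIn S U), ((B v : ↥(U ⊔ centralizerIn S U)) : Ω) ∈ (U ⊔ centralizerIn S U) ∧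
      ∀ hv : c * (v : Ω) * c⁻¹ ∈ (U ⊔ centralizerIn S U),
        ((B ⟨c * (v : Ω) * c⁻¹, hv⟩ : ↥(U ⊔ centralizerIn S U)) : Ω) = c * d * ((B v : ↥(U ⊔ centralizerIn S U)) : Ω) * (c * d)⁻¹ := by
    intro c hc
    have hcU := hnorm c hc
    have hcV : c ∈ Subgroup.normalizer ((U ⊔ centralizerIn S U : Subgroup Ω) : Set Ω) :=
      mem_normalizer_sup hU.1 (centralizerIn_le_S U) hcU
        (mem_normalizer_of_conj_mem (centralizerIn_le_S U) fun x hx => by
          refine mem_centralizerIn.2 ⟨mul_mem (mul_mem hc.1 hx.1) (inv_mem hc.1), fun u hu => ?_⟩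
          have hu' : c⁻¹ * u * c ∈ U := (Subgroup.mem_normalizer_iff''.1 hcU u).1 hu
          calc u * (c * x * c⁻¹) = c * ((c⁻¹ * u * c) * x) * c⁻¹ := by group
            _ = c * (x * (c⁻¹ * u * c)) * c⁻¹ := by rw [hx.2 _ hu']
            _ = c * x * c⁻¹ * u := by group)
    let cV := conjAut S (U ⊔ centralizerIn S U) ⟨c, hc.1, hcV⟩
    let cU := conjAut S U ⟨c, hc.1, hcU⟩
    have hcVU : Agree hUV cV cU := fun x => rfl
    have hcVF : cV ∈ F.autGroup (U ⊔ centralizerIn S U) :=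
      autInducedBy_le_autGroup hVS (mem_autInducedBy.2 ⟨c, hc.1, fun _ => rfl⟩)
    have hcUF : cU ∈ F.autGroup U :=
      autInducedBy_le_autGroup hU.1 (mem_autInducedBy.2 ⟨c, hc.1, fun _ => rfl⟩)
    obtain ⟨g, hg⟩ : ∃ g, g = β * (cU * β⁻¹ * cU⁻¹) := ⟨_, rfl⟩
    obtain ⟨γ, hγ⟩ : ∃ γ, γ = B * (cV * B⁻¹ * cV⁻¹) := ⟨_, rfl⟩
    have hgE : g ∈ E.autGroup U := hg ▸ mul_mem hβE (invariant_conj_aut hinv hUT hcUF (inv_mem hβE))
    have hγg : Agree hUV γ g := by
      rw [hg, hγ]; exact Agree.mul hBβ ((hcVU.mul (Agree.inv hBβ)).mul hcVU.inv)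
    have hgP : ∀ x : U, (x : Ω) ∈ P → g x = x := by
      intro x hx
      have hcfix : ∀ z : U, (z : Ω) ∈ P → cU z = z := fun z hz =>
        Subtype.ext (conj_eq_of_mem_centralizerIn hc hz)
      have h1 : cU⁻¹ x = x := by
        conv_lhs => rw [← hcfix x hx, MulAut.inv_apply_self]
      have h2 : (β⁻¹ x : Ω) ∈ P := (Agree.inv hb).map_mem hx
      rw [hg]
      show β (cU (β⁻¹ (cU⁻¹ x))) = x
      rw [h1, hcfix _ h2, MulAut.apply_inv_self]
    obtain ⟨z, hzP, -, hz⟩ := centric_uniqueness p hTp hEs hPU hP (φ := U.subtype)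
      (φ' := U.subtype.comp g.toMonoidHom) (subtype_mem hUT) ((autGroup_carrier hUT).1 hgE)
      fun x hx => (congrArg Subtype.val (hgP x hx)).symm
    have hzn : (z : Ω) ∈ Subgroup.normalizer ((U ⊔ centralizerIn S U : Subgroup Ω) : Set Ω) :=
      Subgroup.le_normalizer (hUV z.2)
    let zV := conjAut S (U ⊔ centralizerIn S U) ⟨(z : Ω), hU.1 z.2, hzn⟩
    let zU := conjAut S U ⟨(z : Ω), hU.1 z.2, Subgroup.le_normalizer z.2⟩
    have hzU : zU = g := MulEquiv.ext fun x => Subtype.ext (hz x).symm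
    obtain ⟨y, hy⟩ : ∃ y, y = zV⁻¹ * γ := ⟨_, rfl⟩
    have hy1 : Agree hUV y (1 : MulAut U) := by
      have h : Agree hUV zV g := hzU ▸ (fun x => rfl : Agree hUV zV zU)
      have := h.inv.mul hγg
      rw [hy]
      rwa [inv_mul_cancel] at this
    have hyF : y ∈ F.autGroup (U ⊔ centralizerIn S U)  := by
      rw [hy, hγ]
      exact mul_mem (inv_mem (autInducedBy_le_autGroup hVS (mem_autInducedBy.2 ⟨z, hU.1 z.2, fun _ => rfl⟩)))
        (mul_mem hB (mul_mem (mul_mem hcVF (inv_mem hB)) (inv_mem hcVF)))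
    have hUn : (U ⊔ centralizerIn S U) ≤ Subgroup.normalizer (U : Set Ω) :=
      sup_le Subgroup.le_normalizer fun x hx => centralizer_le_normalizer' U hx.2
    have hzst : zV ∈ modStab U (U ⊔ centralizerIn S U) := fun v => by
      show (v : Ω)⁻¹ * ((z : Ω) * v * (z : Ω)⁻¹) ∈ U
      have h := (Subgroup.mem_normalizer_iff''.1 (hUn v.2) (z : Ω)).1 z.2
      simpa [mul_assoc] using U.mul_mem h (U.inv_mem z.2)
    have hyst : y ∈ modStab U (U ⊔ centralizerIn S U)  := by
      rw [hy, hγ]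
      exact mul_mem (inv_mem hzst) (mul_mem hBst (modStab_conj (fun v hv => hcVU.map_mem hv) (inv_mem hBst)))
    obtain ⟨k, hk⟩ := isPGroup_pStab (F := F) hS (P := U) hVS
      ⟨⟨y, hyF⟩, fun x hx => Subtype.ext ((hy1 ⟨x, hx⟩).trans rfl), fun x => hyst x⟩
    obtain ⟨w, hw, hwy⟩ := fix_mem_induced p hS hF hU hyF hy1 (k := k)
      (congrArg (fun q : F.autGroup (U ⊔ centralizerIn S U) => (q : MulAut ↥(U ⊔ centralizerIn S U))) (congrArg Subtype.val hk))
    refine ⟨c⁻¹ * ((z : Ω) * w) * c, ?_, fun v => ⟨SetLike.coe_mem _, fun hv => ?_⟩⟩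
    · exact (Subgroup.mem_normalizer_iff''.1 hcV _).1
        ((U ⊔ centralizerIn S U).mul_mem (hUV z.2) (Subgroup.mem_sup_right hw))
    have h1 : B * cV = zV * y * cV * B := by rw [hy, hγ]; group
    have h2 := congrArg (fun A : MulAut ↥(U ⊔ centralizerIn S U) => ((A v : ↥(U ⊔ centralizerIn S U)) : Ω)) h1
    refine h2.trans ?_
    show (z : Ω) * ((y (cV (B v)) : ↥(U ⊔ centralizerIn S U)) : Ω) * (z : Ω)⁻¹ = _
    rw [hwy]
    show (z : Ω) * (w * (c * ((B v : ↥(U ⊔ centralizerIn S U)) : Ω) * c⁻¹) * w⁻¹) * (z : Ω)⁻¹ = _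
    group
  -- extend `B`
  have hBm' := (autGroup_carrier hVS).1 hB
  have hBr : ((U ⊔ centralizerIn S U).subtype.comp B.toMonoidHom).range = (U ⊔ centralizerIn S U) := range_subtype_comp B
  have hCN : ∀ c ∈ centralizerIn S P, c ∈ normalizerIn S (U ⊔ centralizerIn S U) := fun c hc => by
    obtain ⟨d, hd, h⟩ := key c hc
    exact ⟨hc.1, mem_normalizer_sup hU.1 (centralizerIn_le_S U) (hnorm c hc)
      (mem_normalizer_of_conj_mem (centralizerIn_le_S U) fun x hx => by
        refine mem_centralizerIn.2 ⟨mul_mem (mul_mem hc.1 hx.1) (inv_mem hc.1), fun u hu => ?_⟩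
        have hu' : c⁻¹ * u * c ∈ U := (Subgroup.mem_normalizer_iff''.1 (hnorm c hc) u).1 hu
        calc u * (c * x * c⁻¹) = c * ((c⁻¹ * u * c) * x) * c⁻¹ := by group
          _ = c * (x * (c⁻¹ * u * c)) * c⁻¹ := by rw [hx.2 _ hu']
          _ = c * x * c⁻¹ * u := by group)⟩
  have hle : (U ⊔ centralizerIn S U) ⊔ centralizerIn S P ≤ extender S (U ⊔ centralizerIn S U) ((U ⊔ centralizerIn S U).subtype.comp B.toMonoidHom) :=
    sup_le (le_extender hBm') fun c hc => by
      obtain ⟨d, hd, h⟩ := key c hc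
      exact mem_extender_of (hCN c hc) (mul_mem hc.1 (hVS hd)) fun x hx => (h x).2 hx
  obtain ⟨ψ, hψ, hψe⟩ := receptive_extend hVrec hBm' hBr hle
  have hWS : ((U ⊔ centralizerIn S U) ⊔ centralizerIn S P) ≤ S := le_of_mem_hom hψ
  have hPV : P ≤ (U ⊔ centralizerIn S U) := hPU.trans hUV
  have hψP : ∀ x : P, ψ ⟨x, Subgroup.mem_sup_left (hPV x.2)⟩ = ((b x : P) : Ω) := fun x => by
    rw [← hb x, ← hBβ (Subgroup.inclusion hPU x)]
    exact hψe _ (hPV x.2) _
  have hψc : ∀ c (hc : c ∈ centralizerIn S P),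
      ψ ⟨c, Subgroup.mem_sup_right hc⟩ ∈ centralizerIn S P ∧
        c⁻¹ * ψ ⟨c, Subgroup.mem_sup_right hc⟩ ∈ (U ⊔ centralizerIn S U) := by
    intro c hc
    refine ⟨mem_centralizerIn.2 ⟨apply_mem_S hψ _, fun x hx => ?_⟩, ?_⟩
    · obtain ⟨x', hx'⟩ := b.surjective ⟨x, hx⟩
      have e : x = ψ ⟨(x' : Ω), Subgroup.mem_sup_left (hPV x'.2)⟩ := by rw [hψP, hx']
      rw [e, ← map_mul, ← map_mul]
      exact apply_congr ψ (hc.2 (x' : Ω) x'.2)
    obtain ⟨d, hd, h⟩ := key c hc
    set h' := ψ ⟨c, Subgroup.mem_sup_right hc⟩ with hh'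
    have hcd : (c * d)⁻¹ * h' ∈ centralizerIn S (U ⊔ centralizerIn S U) := by
      refine mem_centralizerIn.2
        ⟨mul_mem (inv_mem (mul_mem hc.1 (hVS hd))) (apply_mem_S hψ _), fun x hx => ?_⟩
      obtain ⟨v, hv⟩ := B.surjective ⟨x, hx⟩
      have hcv : c * (v : Ω) * c⁻¹ ∈ (U ⊔ centralizerIn S U) := (Subgroup.mem_normalizer_iff.1 (hCN c hc).2 _).1 v.2
      have h1 := (h v).2 hcv
      have hcv' : c * (v : Ω) * c⁻¹ ∈ ((U ⊔ centralizerIn S U) ⊔ centralizerIn S P) := Subgroup.mem_sup_left hcv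
      have e1 : ψ ⟨c * (v : Ω) * c⁻¹, hcv'⟩ = ((B ⟨_, hcv⟩ : ↥(U ⊔ centralizerIn S U)) : Ω) := hψe _ hcv hcv'
      have e2 : ψ ⟨(v : Ω), Subgroup.mem_sup_left v.2⟩ = x := (hψe _ v.2 _).trans (congrArg Subtype.val hv)
      have e3 : ψ ⟨c * (v : Ω) * c⁻¹, hcv'⟩ = h' * x * h'⁻¹ := by
        rw [← e2, hh', ← map_inv, ← map_mul, ← map_mul]
        exact apply_congr ψ rfl
      have h4 : c * d * x * (c * d)⁻¹ = h' * x * h'⁻¹ := by
        rw [← e3, e1, h1, hv]
      calc x * ((c * d)⁻¹ * h') = (c * d)⁻¹ * (c * d * x * (c * d)⁻¹) * h' := by group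
        _ = (c * d)⁻¹ * (h' * x * h'⁻¹) * h' := by rw [h4]
        _ = (c * d)⁻¹ * h' * x := by group
    have := (U ⊔ centralizerIn S U).mul_mem hd (hVc.2 (U ⊔ centralizerIn S U) (isConj_refl hVS) hcd)
    rwa [show d * ((c * d)⁻¹ * h') = c⁻¹ * h' by group] at this
  have hWr : ψ.range = (U ⊔ centralizerIn S U) ⊔ centralizerIn S P := by
    refine eq_of_le_of_card_le hWS ?_ (card_range hψ).ge
    rw [← map_subgroupOf_self, Subgroup.subgroupOf_sup le_sup_left le_sup_right, Subgroup.map_sup]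
    refine sup_le_sup ?_ ?_
    · rintro _ ⟨x, hx, rfl⟩
      exact Set.mem_of_eq_of_mem (hψe (x : Ω) hx x.2) (SetLike.coe_mem _)
    · rintro _ ⟨x, hx, rfl⟩
      exact (hψc x hx).1
  let A := autOfRange ψ (F.injective_of_mem hψ) hWr
  have hAV : Agree le_sup_left A B := fun v => hψe _ v.2 _
  have hPC : P ⊔ centralizerIn S P ≤ (U ⊔ centralizerIn S U) ⊔ centralizerIn S P :=
    sup_le_sup_right hPV _
  haveI : Finite ↥(P ⊔ centralizerIn S P) := finite_of_le (hPC.trans hWS)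
  obtain ⟨A0, hA0⟩ := exists_agree hPC A (by
    intro x hx
    have h : x ∈ ((P ⊔ centralizerIn S P).subgroupOf
        ((U ⊔ centralizerIn S U) ⊔ centralizerIn S P)) := hx
    have hle : ((P ⊔ centralizerIn S P).subgroupOf
        ((U ⊔ centralizerIn S U) ⊔ centralizerIn S P)) ≤
        ((P ⊔ centralizerIn S P).subgroupOf
          ((U ⊔ centralizerIn S U) ⊔ centralizerIn S P)).comap A.toMonoidHom := by
      rw [Subgroup.subgroupOf_sup (hPV.trans le_sup_left) le_sup_right]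
      refine sup_le ?_ ?_
      · intro y hy
        rw [Subgroup.mem_comap, ← Subgroup.subgroupOf_sup (hPV.trans le_sup_left) le_sup_right]
        exact Subgroup.mem_sup_left (Set.mem_of_eq_of_mem (hψP ⟨y, hy⟩) (SetLike.coe_mem _))
      · intro y hy
        rw [Subgroup.mem_comap, ← Subgroup.subgroupOf_sup (hPV.trans le_sup_left) le_sup_right]
        exact Subgroup.mem_sup_right (hψc y hy).1
    exact hle h)
  have hA0P : Agree le_sup_left A0 b := fun x => (hA0 _).symm.trans (hψP x)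
  have hA0F : A0 ∈ F.autGroup (P ⊔ centralizerIn S P) :=
    hA0.mem hWS (autOfRange_mem hψ hWr)
  haveI : Finite ↥(U ⊔ centralizerIn S U) := finite_of_le hVS
  obtain ⟨j, hj⟩ := IsPGroup.iff_card.1 (isPGroup_of_le hS hVS)
  refine ⟨j, A0 ^ p ^ j, pow_mem hA0F _, hA0P.pow _, fun c hc => ?_⟩
  obtain ⟨hψcC, hdV⟩ := hψc c hc
  let cW : ↥((U ⊔ centralizerIn S U) ⊔ centralizerIn S P) := Subgroup.inclusion hPC c
  have hcd : ψ ⟨c, Subgroup.mem_sup_right hc⟩ = ((A cW : _) : Ω) := apply_congr ψ rfl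
  rw [hcd] at hdV
  let dV : ↥(U ⊔ centralizerIn S U) := ⟨_, hdV⟩
  have hit : ∀ n : ℕ, ∃ u : ↥(U ⊔ centralizerIn S U), (u : Ω) ∈ U ∧
      (A ^ n) cW = cW * Subgroup.inclusion le_sup_left (dV ^ n * u) := by
    intro n
    induction n with
    | zero => exact ⟨1, U.one_mem, Subtype.ext (by simp)⟩
    | succ n ih =>
      obtain ⟨u, hu, hn⟩ := ih
      refine ⟨(dV ^ n)⁻¹ * B (dV ^ n) * B u,
        U.mul_mem (hBst (dV ^ n)) ((hBβ ⟨u, hu⟩).symm ▸ SetLike.coe_mem _), ?_⟩
      have h1 : A cW = cW * Subgroup.inclusion le_sup_left dV :=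
        Subtype.ext (mul_inv_cancel_left (cW : Ω) (A cW : Ω)).symm
      rw [pow_succ', MulAut.mul_apply, hn, map_mul, Agree.apply hAV, h1, mul_assoc, ← map_mul,
        map_mul B, pow_succ']
      congr 2
      group
  obtain ⟨u, hu, hn⟩ := hit (p ^ j)
  rw [← hj, pow_card_eq_one', one_mul] at hn
  have hval : (c : Ω)⁻¹ * (((A0 ^ p ^ j) c : ↥(P ⊔ centralizerIn S P)) : Ω) = (u : Ω) := by
    rw [← (hA0.pow (p ^ j)) c, ← hj, hn]
    exact inv_mul_cancel_left _ _
  have hcT : (c : Ω)⁻¹ * (((A0 ^ p ^ j) c : ↥(P ⊔ centralizerIn S P)) : Ω) ∈ centralizerIn S P :=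
    mul_mem (inv_mem hc) (map_cent (hA0P.pow _) (hPC.trans hWS) hc)
  rw [hval] at hcT ⊢
  exact hP.2 P (isConj_refl (hPU.trans hUT))
    (mem_centralizerIn.2 ⟨hUT hu, fun x hx => hcT.2 x hx⟩)

theorem mor_map {P N : Subgroup Ω} {φ : N →* Ω} {f : Ω → Ω} (e : ∀ x : N, φ x = f x) (hPN : P ≤ N) :
    Im f P ((P.subgroupOf N).map φ) := fun y => by
  constructor
  · rintro ⟨x, hx, rfl⟩
    exact ⟨x, hx, (e x).symm⟩
  · rintro ⟨x, hx, rfl⟩
    exact ⟨⟨x, hPN hx⟩, hx, e _⟩

/-- **Extension lemma**: the automorphisms of a normal subsystem on a centric subgroup `P`, fully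
normalized in `F`, extend to `P C_S(P)` trivially modulo `P`. -/
theorem autGroup_le_modAut [Finite S] (p : ℕ) [Fact p.Prime] (hS : IsPGroup p S)
    (hE : E.IsNormalIn F p) {P : Subgroup Ω} (hP : E.IsCentric P) (hPn : F.IsFullyNormalized P) :
    E.autGroup P ≤ modAut F hPn.1 := by
  induction hn : Nat.card T - Nat.card P using Nat.strong_induction_on generalizing P with
  | _ n IH =>
  subst hn
  obtain ⟨⟨hEs, hF, hinv⟩, hext⟩ := id hE
  have hTc := hinv.2.1
  have hTS : T ≤ S := hTc.1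
  haveI : Finite T := finite_of_le hTS
  have hTp : IsPGroup p T := isPGroup_of_le hS hTS
  have hPT : P ≤ T := hP.1
  have hPS : P ≤ S := hPn.1
  haveI : Finite P := finite_of_le hPS
  haveI : Finite (MulAut P) := finite_mulAut
  have hPc := fullyCentralized_of_fullyNormalized p hS hF hPn
  obtain ⟨⟨-, R, hR⟩, hrec⟩ :=
    good_of_fullyNormalized p hTp hEs (fullyNormalized_sub p hS hF hTc hinv.1 hPT hPn)
  let B := (modAut F hPn.1).subgroupOf (E.autGroup P)
  haveI : B.Normal := ⟨fun a ha g => by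
    rw [Subgroup.mem_subgroupOf] at ha ⊢
    exact modAut_conj p hS hF hPc ha (autGroup_mono' hinv.1 P g.2)⟩
  have hRB : (R : Subgroup (E.autGroup P)) ≤ B := by
    intro a ha
    rw [hR, Subgroup.mem_subgroupOf] at ha
    obtain ⟨u, hu, hua⟩ := mem_autInducedBy.1 ha
    have h := conj_mem_modAut p hS hF hTc hPS hPc (hP.2 P (isConj_refl hPT))
      (subtype_mem (normalizerIn_le_S P)) (MulEquiv.refl P) (fun x => rfl) hu hua
      (one_mem (F.autGroup P))
    rw [Subgroup.mem_subgroupOf]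
    have e1 : MulAut.congr (MulEquiv.refl P) (a : MulAut P) = a := MulEquiv.ext fun x => rfl
    rwa [one_mul, inv_one, mul_one, e1] at h
  suffices h : B = ⊤ from fun a ha => (h.ge (Subgroup.mem_top ⟨a, ha⟩) :)
  refine eq_top_of_normalizer_pow p R hRB fun b hb => ?_
  suffices h : ∃ j : ℕ, (b : MulAut P) ^ p ^ j ∈ modAut F hPn.1 from h
  rcases hPT.eq_or_lt with heq | hlt
  · subst heq
    obtain ⟨β, hβ, h1, h2⟩ := hext _ b.2
    exact ⟨0, by
      rw [pow_zero, pow_one]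
      exact ⟨β, hβ, h1, fun c hc => (h2 c hc).1⟩⟩
  -- extend `b` to `U = N_T(P)`
  have hPU : P < normalizerIn T P := lt_normalizerIn p hTp le_rfl hlt
  have hUT : normalizerIn T P ≤ T := normalizerIn_le_S P
  let φb := P.subtype.comp (b : MulAut P).toMonoidHom
  have hφb : φb ∈ E.Hom P := (autGroup_carrier hPT).1 b.2
  have hle : normalizerIn T P ≤ extender T P φb := by
    intro g hg
    have hg' : (⟨conjAut T P ⟨g, hg⟩, autInducedBy_le_autGroup hPT
        (mem_autInducedBy.2 ⟨g, hg.1, fun _ => rfl⟩)⟩ : E.autGroup P) ∈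
        (R : Subgroup (E.autGroup P)) := by
      rw [hR]
      exact Subgroup.mem_subgroupOf.2 (mem_autInducedBy.2 ⟨g, hg.1, fun _ => rfl⟩)
    have h1 := (Subgroup.mem_normalizer_iff.1 hb _).1 hg'
    rw [hR] at h1
    obtain ⟨h, hh, hhe⟩ := mem_autInducedBy.1 (Subgroup.mem_subgroupOf.1 h1)
    refine mem_extender_of hg hh fun x hx => ?_
    have h2 := hhe ((b : MulAut P) x)
    refine Eq.trans ?_ h2
    show (((b : MulAut P) ⟨_, hx⟩ : P) : Ω) = _
    simp [MulAut.mul_apply]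
    rfl
  obtain ⟨ψ, hψ, hψe⟩ := receptive_extend hrec hφb (range_subtype_comp _) hle
  have hψm : (P.subgroupOf (normalizerIn T P)).map ψ = P :=
    (map_eq_range_of_eq hPU.le hψe).trans (range_subtype_comp _)
  have hψr : ψ.range = normalizerIn T P := by
    refine eq_of_le_of_card_le hUT ?_ (card_range hψ).ge
    rintro _ ⟨x, rfl⟩
    have := map_mem_normalizerIn hψ hPU.le x.2 x.2
    rwa [hψm] at this
  let β := autOfRange ψ (E.injective_of_mem hψ) hψr
  have hβE : β ∈ E.autGroup (normalizerIn T P) := autOfRange_mem hψ hψr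
  have hβb : Agree hPU.le β b := fun x => hψe _ x.2 _
  -- move `N_T(P)` to a fully normalized conjugate
  have hUS := hUT.trans hTS
  obtain ⟨U', hUU', hU'n⟩ := exists_fullyNormalized F hUS
  obtain ⟨g1, g2⟩ := good_of_fullyNormalized p hS hF hU'n
  obtain ⟨χ, hχ, hχN, hχU⟩ := exists_map_normalizer p hS g1 g2 hUU'
  have hUN : normalizerIn T P ≤ normalizerIn S (normalizerIn T P) := le_normalizerIn hUS
  have hNN : normalizerIn S P ≤ normalizerIn S (normalizerIn T P) := fun s hs => by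
    refine ⟨hs.1, mem_normalizer_of_conj_mem hUS fun x hx => ⟨?_, ?_⟩⟩
    · exact hTc.2 T le_rfl _ (F.conj_mem hTS hs.1) ⟨x, hx.1⟩
    · exact mul_mem (mul_mem hs.2 hx.2) (Subgroup.inv_mem _ hs.2)
  have hCN : centralizerIn S P ≤ normalizerIn S P := centralizerIn_le_normalizerIn P
  have hPN : P ≤ normalizerIn S (normalizerIn T P) := hPU.le.trans hUN
  obtain ⟨f, hf, hfχ⟩ := Mor.of_mem hχ
  let P' := (P.subgroupOf (normalizerIn S (normalizerIn T P))).map χ
  have hfP : Im f P P' := mor_map (fun x => (hfχ x).symm) hPN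
  have hfU : Im f (normalizerIn T P) U' := hχU ▸ mor_map (fun x => (hfχ x).symm) hUN
  have hP'U' : P' ≤ U' := hχU ▸ Subgroup.map_mono (Subgroup.comap_mono hPU.le)
  have hU'T : U' ≤ T := fun y hy => by
    obtain ⟨x, hx, rfl⟩ := hfU.surj hy
    exact mor_T hinv hUT (hf.mono hUN) hx
  have hconj : F.IsConj P P' := hf.isConj hPN hfP
  have hP'S : P' ≤ S := IsConj.le_right hconj
  have hfN : ∀ x ∈ normalizerIn S P, f x ∈ normalizerIn S P' := fun x hx =>
    hf.mem_normalizerIn hPN hfP (hNN hx) hx.2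
  obtain ⟨W, hW⟩ := hf.exists_im hNN
  have hP'n : F.IsFullyNormalized P' := ⟨hP'S, fun Q hQ =>
    (hPn.2 Q (isConj_trans hconj hQ)).trans <| (hf.card_im hNN hW).ge.trans <|
      card_le_of_le (normalizerIn_le_S P') fun y hy => by
        obtain ⟨x, hx, rfl⟩ := hW.surj hy
        exact hfN x hx⟩
  have hP'c := fullyCentralized_of_fullyNormalized p hS hF hP'n
  have hP'E : E.IsCentric P' := ⟨hP'U'.trans hU'T, fun Q hQ =>
    centralizer_le_of_isConj hinv hP (isConj_trans hconj (isConj_of_subsystem hinv.1 hQ))⟩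
  have hC : ((centralizerIn S P).subgroupOf (normalizerIn S (normalizerIn T P))).map χ =
      centralizerIn S P' := by
    refine eq_of_le_of_card_le (centralizerIn_le_S P') ?_ ?_
    · rintro _ ⟨x, hx, rfl⟩
      exact map_mem_centralizerIn hχ hPN hx x.2
    · rw [card_map_subgroupOf (F.injective_of_mem hχ) (hCN.trans hNN)]
      exact hPc.2 P' hconj
  obtain ⟨e, he, -⟩ := hf.exists_equiv hPN hfP
  obtain ⟨eU, heU, -⟩ := hf.exists_equiv hUN hfU
  have hb' : MulAut.congr e (b : MulAut P) ∈ E.autGroup P' :=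
    autGroup_transfer hinv hPT (hf.mono hPN) hfP e he b.2
  have hβ'E : MulAut.congr eU β ∈ E.autGroup U' :=
    autGroup_transfer hinv hUT (hf.mono hUN) hfU eU heU hβE
  have hagree : Agree hP'U' (MulAut.congr eU β) (MulAut.congr e (b : MulAut P)) := fun x' => by
    obtain ⟨x, rfl⟩ := e.surjective x'
    have h0 : Subgroup.inclusion hP'U' (e x) = eU (Subgroup.inclusion hPU.le x) :=
      Subtype.ext ((he x).trans (heU (Subgroup.inclusion hPU.le x)).symm)
    simp only [h0, MulAut.congr_apply, MulEquiv.trans_apply, MulEquiv.symm_apply_apply]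
    rw [heU, he]
    exact congrArg f (hβb x)
  have hU'c : E.IsCentric U' := isCentric_mono hP'E hP'U' hU'T
  have hlt' : Nat.card P < Nat.card (normalizerIn T P) := lt_of_not_ge fun h =>
    hPU.ne (eq_of_le_of_card_le hUS hPU.le h)
  have hle' := card_le_of_le hTS hUT
  have hcU' : Nat.card U' = Nat.card (normalizerIn T P) := hf.card_im hUN hfU
  have hIH := IH (Nat.card T - Nat.card U') (by omega) hU'c hU'n rfl
  obtain ⟨j, hj⟩ := exists_pow_modAut p hS hE.1 hP'E hP'U' hU'T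
    (fullyCentralized_of_fullyNormalized p hS hF hU'n) hP'S
    (fun c hc => by
      obtain ⟨d, hd, rfl⟩ := hC.ge hc
      have h := hχN d
      exact h.2) hβ'E (hIH hβ'E) hagree
  refine ⟨j, ?_⟩
  -- come back to `P`
  have hsub : P ⊔ centralizerIn S P ≤ normalizerIn S (normalizerIn T P) :=
    sup_le hPN (hCN.trans hNN)
  obtain ⟨V, hV⟩ := hf.exists_im hsub
  obtain ⟨g, ⟨γ, hγ, hγg⟩, hgi, hgf, -⟩ := (hf.mono hsub).exists_inv hV
  have hPV : P' ≤ V := fun y hy => by
    obtain ⟨x, hx, rfl⟩ := hfP.surj hy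
    exact hV.mem (Subgroup.mem_sup_left hx)
  have hCV : centralizerIn S P' ≤ V := fun y hy => by
    obtain ⟨x, hx, rfl⟩ := hC.ge hy
    rw [← hfχ x]
    exact hV.mem (Subgroup.mem_sup_right hx)
  have hback := modAut_map hP'S hPS hγ (sup_le hPV hCV) (by
      ext y
      constructor
      · rintro ⟨x, hx, rfl⟩
        obtain ⟨w, hw, hwe⟩ := hfP.surj hx
        rw [hγg, show (x : Ω) = f w from hwe.symm, hgf w (Subgroup.mem_sup_left hw)]
        exact hw
      · intro hy
        exact ⟨⟨f y, hPV (hfP.mem hy)⟩, hfP.mem hy,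
          (hγg _).trans (hgf y (Subgroup.mem_sup_left hy))⟩) (by
      ext y
      constructor
      · rintro ⟨x, hx, rfl⟩
        obtain ⟨w, hw, hwe⟩ := hC.ge hx
        rw [hγg, show (x : Ω) = f w from (hwe.symm.trans (hfχ w).symm), hgf w (Subgroup.mem_sup_right hw)]
        exact hw
      · intro hy
        have h : f y ∈ centralizerIn S P' := by
          have := hC.le ⟨⟨y, hsub (Subgroup.mem_sup_right hy)⟩, hy, rfl⟩
          rwa [← hfχ] at this
        exact ⟨⟨f y, hCV h⟩, h, (hγg _).trans (hgf y (Subgroup.mem_sup_right hy))⟩)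
    e.symm (fun x => by
      obtain ⟨w, rfl⟩ := e.surjective x
      rw [e.symm_apply_apply]
      refine (hgf w (Subgroup.mem_sup_left w.2)).symm.trans ?_
      rw [← he w]
      exact (hγg (Subgroup.inclusion _ (e w))).symm) hj
  have e2 : MulAut.congr e.symm ((MulAut.congr e (b : MulAut P)) ^ p ^ j) = (b : MulAut P) ^ p ^ j := by
    rw [← map_pow]
    ext x
    simp
  rwa [e2] at hback

end CfsgLib.NormExt
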