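import Cfsg.Prelude.Def_FusionReduction
import Cfsg.Agent.Fusion.PPowerIndex
import Cfsg.Agent.Fusion.PIndex.Main

/-!
Uniqueness of the residual limit, and the hyperfocal subgroup of a normal subsystem of `p`-power
index.
-/

set_option autoImplicit false

open Cfsg Cfsg.FusionSystem

namespace CfsgLib.Fusion

universe u

variable {Ω : Type u} [Group Ω]

/-- Two systems, possibly written over different expressions of the same subgroup, agree. -/
def SameMaps {U V : Subgroup Ω} (A : FusionSystem U) (B : FusionSystem V) : Prop :=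
  U = V ∧ ∀ P : Subgroup Ω, A.Hom P = B.Hom P

theorem eq_of_pResidual {S U : Subgroup Ω} [Finite U] {F : FusionSystem S} {p : ℕ} [Fact p.Prime]
    (hU : IsPGroup p U) {D₁ D₂ : FusionSystem U} (hs₁ : D₁.IsSaturated p)
    (hi₁ : D₁.HasPPowerIndexIn F p) (hs₂ : D₂.IsSaturated p) (hi₂ : D₂.HasPPowerIndexIn F p) :
    D₁ = D₂ :=
  ext_hom fun P => Set.Subset.antisymm
    (CfsgLib.PPowerIndex.hom_subset_of_pPowerIndex p hU le_rfl hi₁.1 hs₁ hi₂ P)
    (CfsgLib.PPowerIndex.hom_subset_of_pPowerIndex p hU le_rfl hi₂.1 hs₂ hi₁ P)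

theorem eq_of_pPrimeResidual {U : Subgroup Ω} {D E₁ E₂ : FusionSystem U} {p : ℕ}
    (h₁ : D.IsPPrimeResidual p E₁) (h₂ : D.IsPPrimeResidual p E₂) : E₁ = E₂ :=
  ext_hom fun P => Set.Subset.antisymm (h₁.2.2 E₂ h₂.1 h₂.2.1 P) (h₂.2.2 E₁ h₁.1 h₁.2.1 P)

/-- Every limit comes from the residual pair, also for a stable system. -/
theorem exists_residual_pair {X S : Subgroup Ω} {A : FusionSystem X} {F : FusionSystem S} {p : ℕ}
    [Finite S] (hF : F.IsSaturated p) (h : A.IsResidualLimitOf F p) :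
    ∃ (U : Subgroup Ω) (D D' : FusionSystem U), U = F.hyperfocalSubgroup p ∧ D.IsSaturated p ∧
      D.HasPPowerIndexIn F p ∧ D.IsPPrimeResidual p D' ∧ A.IsResidualLimitOf D' p := by
  cases h with
  | stable _ _ h1 h2 =>
    exact ⟨_, _, _, h1.symm, hF, hasPPowerIndexIn_self _ p, h2, .stable _ p h1 h2⟩
  | step _ _ D D' h1 h2 h3 => exact ⟨_, D, D', rfl, h1.1, h1.2, h2, h3⟩

/-- A stable system is its only limit. -/
theorem limit_of_stable (p : ℕ) [Fact p.Prime] {X : Subgroup Ω} {A : FusionSystem X}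
    {S : Subgroup Ω} {F : FusionSystem S} {q : ℕ} (h : A.IsResidualLimitOf F q) :
    q = p → Finite S → IsPGroup p S → F.hyperfocalSubgroup p = S → F.IsPPrimeResidual p F →
      SameMaps A F := by
  induction h with
  | stable F q _ _ => exact fun _ _ _ _ _ => ⟨rfl, fun _ => rfl⟩
  | @step S A F q D D' h1 h2 _ ih =>
    rintro rfl hfin hS hst hres
    have key : ∀ (U : Subgroup Ω) (D₁ D₁' : FusionSystem U), U = S → D₁.IsSaturated q →
        D₁.HasPPowerIndexIn F q → D₁.IsPPrimeResidual q D₁' → SameMaps D₁' F := by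
      rintro U D₁ D₁' rfl hs hi hr
      rw [eq_of_pResidual hS hs hi hres.1 (hasPPowerIndexIn_self F q)] at hr
      rw [eq_of_pPrimeResidual hr hres]
      exact ⟨rfl, fun _ => rfl⟩
    obtain ⟨e, he⟩ := key _ D D' hst h1.1 h1.2 h2
    have tr : ∀ (U : Subgroup Ω) (B : FusionSystem U), U = S →
        (∀ P, B.Hom P = F.Hom P) →
        (q = q → Finite U → IsPGroup q U → B.hyperfocalSubgroup q = U → B.IsPPrimeResidual q B →
          SameMaps A B) → SameMaps A F := by
      rintro U B rfl hB hA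
      obtain rfl : B = F := ext_hom hB
      exact hA rfl hfin hS hst hres
    exact tr _ D' e he ih

/-- The residual limit is unique. -/
theorem limit_unique (p : ℕ) [Fact p.Prime] {X : Subgroup Ω} {A : FusionSystem X}
    {S : Subgroup Ω} {F : FusionSystem S} {q : ℕ} (h : A.IsResidualLimitOf F q) :
    q = p → Finite S → IsPGroup p S → F.IsSaturated p → ∀ {Y : Subgroup Ω} {B : FusionSystem Y},
      B.IsResidualLimitOf F p → SameMaps A B := by
  induction h with
  | stable F q h1 h2 =>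
    rintro rfl hfin hS - Y B hB
    obtain ⟨e, he⟩ := limit_of_stable q hB rfl hfin hS h1 h2
    exact ⟨e.symm, fun P => (he P).symm⟩
  | @step S A F q D D' h1 h2 _ ih =>
    rintro rfl hfin hS hF Y B hB
    obtain ⟨U, D₁, D₁', hU, hs, hi, hr, hB'⟩ := exists_residual_pair hF hB
    subst hU
    have hle := hyperfocalSubgroup_le_S (F := F) q
    have hfin' := finite_of_le hle
    rw [eq_of_pResidual (isPGroup_of_le hS hle) hs hi h1.1 h1.2] at hr
    rw [eq_of_pPrimeResidual hr h2] at hB'
    exact ih rfl hfin' (isPGroup_of_le hS hle) h2.1 hB'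

/-- A normal subsystem of `p`-power index has the same hyperfocal subgroup. -/
theorem hyperfocal_eq_of_pPowerIndex {S T : Subgroup Ω} [Finite S] (p : ℕ) [Fact p.Prime]
    (hS : IsPGroup p S) {F : FusionSystem S} {E : FusionSystem T} (hT : F.StronglyClosed T)
    (hi : E.HasPPowerIndexIn F p) : E.hyperfocalSubgroup p = F.hyperfocalSubgroup p := by
  have hTS := hT.1
  have := finite_of_le hTS
  refine le_antisymm (hyperfocal_mono_subsystem hTS hi.1 p) ((Subgroup.closure_le _).2 ?_)
  rintro _ ⟨P, ⟨α, hα⟩, x₀, hPS, hαr, rfl⟩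
  let Q := P ⊓ T
  suffices key : ∀ a : F.autGroup P, a ∈ pResidual p (F.autGroup P) → ∀ x : P,
      (x : Ω)⁻¹ * ((a : MulAut P) x : P) ∈ E.hyperfocalSubgroup p from key ⟨α, hα⟩ hαr x₀
  intro a ha
  induction ha using Subgroup.closure_induction with
  | one => intro x; simp
  | mul a b _ _ iha ihb =>
    intro x
    have h := mul_mem (ihb x) (iha ((b : MulAut P) x))
    simpa [mul_assoc] using h
  | inv a _ iha =>
    intro x
    have h := Subgroup.inv_mem _ (iha ((a : MulAut P)⁻¹ x))
    simpa [mul_assoc] using h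
  | mem a ha =>
    intro x
    have := finite_of_le hPS
    have : Finite (MulAut P) := finite_mulAut
    set d : Ω := (x : Ω)⁻¹ * ((a : MulAut P) x : P) with hd
    have hdT : d ∈ T := hi.2.1 (Subgroup.subset_closure
      ⟨P, a, x, hPS, Subgroup.subset_closure ha, rfl⟩)
    have hdP : d ∈ P := P.mul_mem (P.inv_mem x.2) ((a : MulAut P) x).2
    have hQS : Q ≤ S := inf_le_left.trans hPS
    have := finite_of_le hQS
    have : Finite (MulAut Q) := finite_mulAut
    -- `a` on `P ∩ T`
    have haH := (autGroup_carrier hPS).1 a.2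
    have hres := restrict_mem haH (inf_le_left : Q ≤ P)
    have hr : ((P.subtype.comp (a : MulAut P).toMonoidHom).comp
        (Subgroup.inclusion (inf_le_left : Q ≤ P))).range = Q := by
      refine eq_of_le_of_card_le hQS ?_ (card_range hres).ge
      rintro _ ⟨y, rfl⟩
      exact ⟨((a : MulAut P) _).2, map_mem_of_stronglyClosed hT haH
        (x := Subgroup.inclusion (inf_le_left : Q ≤ P) y) y.2.2⟩
    let b : F.autGroup Q := ⟨autOfRange _ (F.injective_of_mem hres) hr, autOfRange_mem hres hr⟩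
    have hb : ∀ (i : ℕ) (y : Q), ((((b : MulAut Q) ^ i) y : Q) : Ω) =
        (((a : MulAut P) ^ i) (Subgroup.inclusion inf_le_left y) : P) := by
      intro i
      induction i with
      | zero => intro y; rfl
      | succ i ih =>
        intro y
        rw [pow_succ', pow_succ', MulAut.mul_apply, MulAut.mul_apply]
        exact congrArg (fun z : P => (((a : MulAut P) z : P) : Ω)) (Subtype.ext (ih y))
    have hn1 : (a : MulAut P) ^ orderOf a = 1 := congrArg Subtype.val (pow_orderOf_eq_one a)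
    have hbn : b ^ orderOf a = 1 := Subtype.ext (MulEquiv.ext fun y => Subtype.ext (by
      show ((((b : MulAut Q) ^ orderOf a) y : Q) : Ω) = y
      rw [hb, hn1]; rfl))
    have hcop : Nat.Coprime (orderOf b) p :=
      Nat.Coprime.coprime_dvd_left (orderOf_dvd_of_pow_eq_one hbn) ha
    have hbE : (b : MulAut Q) ∈ E.autGroup Q :=
      hi.2.2 Q inf_le_right ⟨b, Subgroup.subset_closure hcop, rfl⟩
    have hH : ∀ (y : Ω) (hy : y ∈ Q),
        y⁻¹ * ((a : MulAut P) ⟨y, hy.1⟩ : P) ∈ E.hyperfocalSubgroup p := by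
      intro y hy
      refine Subgroup.subset_closure ⟨Q, ⟨b, hbE⟩, ⟨y, hy⟩, inf_le_right,
        Subgroup.subset_closure ?_, rfl⟩
      show Nat.Coprime (orderOf (⟨(b : MulAut Q), hbE⟩ : E.autGroup Q)) p
      rw [← Subgroup.orderOf_coe]
      show Nat.Coprime (orderOf (b : MulAut Q)) p
      rwa [Subgroup.orderOf_coe]
    set H := E.hyperfocalSubgroup p with hHd
    have hHT : H ≤ T := hyperfocalSubgroup_le_S (F := E) p
    have hpow : ∀ i : ℕ, ∃ h ∈ H,
        (x : Ω)⁻¹ * (((a : MulAut P) ^ i) x : P) = d ^ i * h := by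
      intro i
      induction i with
      | zero => exact ⟨1, one_mem _, by simp⟩
      | succ i ih =>
        obtain ⟨h, hh, he⟩ := ih
        have hzP : d ^ i * h ∈ P := by
          rw [← he]; exact P.mul_mem (P.inv_mem x.2) (((a : MulAut P) ^ i) x).2
        have hzQ : d ^ i * h ∈ Q := ⟨hzP, T.mul_mem (T.pow_mem hdT i) (hHT hh)⟩
        refine ⟨h * ((d ^ i * h)⁻¹ * ((a : MulAut P) ⟨_, hzP⟩ : P)),
          mul_mem hh (hH _ hzQ), ?_⟩
        have e : ((a : MulAut P) ^ i) x = x * ⟨_, hzP⟩ := Subtype.ext (by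
          show _ = (x : Ω) * (d ^ i * h)
          rw [← he]; group)
        have hax : (((a : MulAut P) x : P) : Ω) = x * d := by rw [hd]; group
        rw [pow_succ' (a : MulAut P) i, MulAut.mul_apply, e, map_mul, Subgroup.coe_mul, hax,
          pow_succ']
        group
    obtain ⟨h, hh, he⟩ := hpow (orderOf a)
    rw [hn1, MulAut.one_apply, inv_mul_cancel] at he
    have hdn : d ^ orderOf a ∈ H := by
      rw [eq_inv_of_mul_eq_one_left he.symm]
      exact Subgroup.inv_mem _ hh
    obtain ⟨k, hk⟩ := hS ⟨d, hPS hdP⟩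
    have hdk : d ^ p ^ k = 1 := congrArg Subtype.val hk
    have hg : d ^ Nat.gcd (orderOf a) (p ^ k) ∈ H := by
      obtain ⟨u, w, huw⟩ : ∃ u w : ℤ,
          (Nat.gcd (orderOf a) (p ^ k) : ℤ) = orderOf a * u + (p ^ k : ℕ) * w :=
        ⟨_, _, Nat.gcd_eq_gcd_ab _ _⟩
      rw [← zpow_natCast, huw, zpow_add, zpow_mul, zpow_mul, zpow_natCast, zpow_natCast, hdk,
        one_zpow, mul_one]
      exact Subgroup.zpow_mem _ hdn u
    rwa [Nat.Coprime.gcd_eq_one (Nat.Coprime.pow_right k ha), pow_one] at hg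

/-- A normal subsystem of `p`-power index has the residual limits of the system. -/
theorem residualLimit_eq_of_pPowerIndex {S T : Subgroup Ω} [Finite S] (p : ℕ) [Fact p.Prime]
    (hS : IsPGroup p S) {F : FusionSystem S} (hF : F.IsSaturated p) {E : FusionSystem T}
    (hE : E.IsNormalIn F p) (hidx : E.HasPPowerIndexIn F p) {U V : Subgroup Ω}
    {Finf : FusionSystem U} (hFinf : Finf.IsResidualLimitOf F p) {Einf : FusionSystem V}
    (hEinf : Einf.IsResidualLimitOf E p) : SameMaps Finf Einf := by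
  obtain ⟨⟨hEs, -, -, hT, -⟩, -⟩ := hE
  have hTS := hT.1
  have := finite_of_le hTS
  have hle := hyperfocalSubgroup_le_S (F := F) p
  have := finite_of_le hle
  have hH : IsPGroup p (F.hyperfocalSubgroup p) := isPGroup_of_le hS hle
  obtain ⟨U₁, D, D', hU₁, hs, hi, hr, hA⟩ := exists_residual_pair hF hFinf
  subst hU₁
  obtain ⟨U₂, D₂, D₂', hU₂, hs₂, hi₂, hr₂, hB⟩ := exists_residual_pair hEs hEinf
  have hT₂ : F.hyperfocalSubgroup p ≤ T := hidx.2.1
  rw [hyperfocal_eq_of_pPowerIndex p hS hT hidx] at hU₂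
  subst hU₂
  have hi₂' : D₂.HasPPowerIndexIn F p := HasPPowerIndexIn_trans hidx hi₂ hTS hT₂ le_rfl
  rw [eq_of_pResidual hH hs₂ hi₂' hs hi] at hr₂
  rw [eq_of_pPrimeResidual hr₂ hr] at hB
  exact limit_unique p hA rfl inferInstance hH hr.1 hB

end CfsgLib.Fusion
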