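import Cfsg.Agent.Fusion.Invariant
import Cfsg.Agent.Fusion.Centric

/-!
Strong invariance of a subsystem implies invariance.
-/

set_option autoImplicit false

open Cfsg Cfsg.FusionSystem

namespace CfsgLib.Fusion

variable {Ω : Type*} [Group Ω] {S T : Subgroup Ω} {F : FusionSystem S} {E : FusionSystem T}

/-- Conjugates of maps of `E` by maps of `F` lie in `E`. -/
def StronglyInvariant (F : FusionSystem S) (E : FusionSystem T) : Prop :=
  ∀ (P Q : Subgroup Ω) (hPQ : P ≤ Q) (_ : Q ≤ T) (φ : P →* Ω) (_ : φ ∈ E.Hom P)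
    (hφQ : ∀ x : P, φ x ∈ Q) (ψ : Q →* Ω) (_ : ψ ∈ F.Hom Q),
    ∃ χ ∈ E.Hom ((P.subgroupOf Q).map ψ),
      ∀ (x : P) (hx : ψ (Subgroup.inclusion hPQ x) ∈ (P.subgroupOf Q).map ψ),
        χ ⟨ψ (Subgroup.inclusion hPQ x), hx⟩ = ψ ⟨φ x, hφQ x⟩

/-- A map is a map of `E` followed by an automorphism of `T` in `F`. -/
def Splits (F : FusionSystem S) (E : FusionSystem T) {P : Subgroup Ω} (φ : P →* Ω) : Prop :=
  ∃ α ∈ F.autGroup T, ∃ φ₀ ∈ E.Hom P, ∀ (x : P) (hx : φ₀ x ∈ T), φ x = ((α ⟨φ₀ x, hx⟩ : T) : Ω)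

variable (hsub : E.IsSubsystemOf F) (h : StronglyInvariant F E)

include hsub h in
/-- The conjugate of a map of `E` by an automorphism of `T`. -/
theorem exists_aut_conj {α : MulAut T} (hα : α ∈ F.autGroup T) {P : Subgroup Ω} {φ : P →* Ω}
    (hφ : φ ∈ E.Hom P) :
    ∃ χ ∈ E.Hom ((P.subgroupOf T).map (T.subtype.comp α.toMonoidHom)),
      ∀ (x : P) (hx : ((α ⟨x, le_of_mem_hom hφ x.2⟩ : T) : Ω) ∈
          (P.subgroupOf T).map (T.subtype.comp α.toMonoidHom)),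
        χ ⟨_, hx⟩ = ((α ⟨φ x, apply_mem_S hφ x⟩ : T) : Ω) :=
  h P T (le_of_mem_hom hφ) le_rfl φ hφ (fun x => apply_mem_S hφ x) _
    ((autGroup_carrier (le_of_subsystem hsub)).1 hα)

theorem Splits.of_sub {P : Subgroup Ω} {φ : P →* Ω} (hφ : φ ∈ E.Hom P) : Splits F E φ :=
  ⟨1, one_mem _, φ, hφ, fun _ _ => rfl⟩

theorem Splits.mem_T {P : Subgroup Ω} {φ : P →* Ω} (hφ : Splits F E φ) (x : P) : φ x ∈ T := by
  obtain ⟨α, -, φ₀, hφ₀, he⟩ := hφ
  rw [he x (apply_mem_S hφ₀ x)]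
  exact SetLike.coe_mem _

theorem Splits.restrict {P R : Subgroup Ω} {φ : P →* Ω} (hφ : Splits F E φ) (hRP : R ≤ P)
    {ψ : R →* Ω} (he' : ∀ x : R, ψ x = φ (Subgroup.inclusion hRP x)) : Splits F E ψ := by
  obtain ⟨α, hα, φ₀, hφ₀, he⟩ := hφ
  exact ⟨α, hα, _, restrict_mem hφ₀ hRP, fun x hx => (he' x).trans (he _ hx)⟩

include hsub h in
theorem Splits.inverse {P R : Subgroup Ω} {φ : P →* Ω} (hφ : Splits F E φ) {ψ : R →* Ω}
    (hR : ∀ y : R, ∃ x : P, φ x = y ∧ ψ y = x) : Splits F E ψ := by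
  obtain ⟨α, hα, φ₀, hφ₀, he⟩ := hφ
  obtain ⟨ν, hν, -, hν1, -⟩ := exists_inv hφ₀ rfl
  obtain ⟨χ, hχ, hχe⟩ := exists_aut_conj hsub h hα hν
  have hle : R ≤ (φ₀.range.subgroupOf T).map (T.subtype.comp α.toMonoidHom) := by
    intro y hy
    obtain ⟨x, hx, -⟩ := hR ⟨y, hy⟩
    refine mem_map_subgroupOf.2 ⟨φ₀ x, apply_mem_S hφ₀ x, ⟨x, rfl⟩, ?_⟩
    exact (he x (apply_mem_S hφ₀ x)).symm.trans hx
  refine ⟨α⁻¹, inv_mem hα, χ.comp (Subgroup.inclusion hle), restrict_mem hχ hle, fun y hy => ?_⟩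
  obtain ⟨x, hx, hψ⟩ := hR y
  have hxT := apply_mem_S hφ₀ x
  have hm : ((α ⟨φ₀ x, hxT⟩ : T) : Ω) ∈
      (φ₀.range.subgroupOf T).map (T.subtype.comp α.toMonoidHom) :=
    mem_map_subgroupOf.2 ⟨φ₀ x, hxT, ⟨x, rfl⟩, rfl⟩
  have h1 := hχe ⟨φ₀ x, x, rfl⟩ hm
  have hPT : (x : Ω) ∈ T := le_of_mem_hom hφ₀ x.2
  have h2 : (⟨χ.comp (Subgroup.inclusion hle) y, hy⟩ : T) = α ⟨x, hPT⟩ := by
    refine Subtype.ext ?_
    show χ (Subgroup.inclusion hle y) = _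
    refine (apply_congr χ (hx.symm.trans (he x hxT))).trans (h1.trans ?_)
    exact congrArg (fun z : T => ((α z : T) : Ω)) (Subtype.ext (hν1 x _))
  rw [h2, MulAut.inv_apply_self]
  exact hψ

include hsub h in
theorem Splits.comp {P Q : Subgroup Ω} {φ : P →* Ω} {ψ : Q →* Ω} (hφ : Splits F E φ)
    (hψ : Splits F E ψ) (hPQ : ∀ x, φ x ∈ Q) : Splits F E (ψ.comp (φ.codRestrict Q hPQ)) := by
  obtain ⟨α, hα, φ₀, hφ₀, he⟩ := hφ
  obtain ⟨β, hβ, ψ₀, hψ₀, he'⟩ := hψ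
  obtain ⟨χ, hχ, hχe⟩ := exists_aut_conj hsub h (inv_mem hα) hψ₀
  have hxT := fun x => apply_mem_S hφ₀ x
  have hm : ∀ x : P, φ₀ x ∈ (Q.subgroupOf T).map (T.subtype.comp (α⁻¹).toMonoidHom) := fun x => by
    refine mem_map_subgroupOf.2 ⟨φ x, le_of_mem_hom hψ₀ (hPQ x), hPQ x, ?_⟩
    show ((α⁻¹ _ : T) : Ω) = _
    rw [show (⟨φ x, le_of_mem_hom hψ₀ (hPQ x)⟩ : T) = α ⟨φ₀ x, hxT x⟩ from
      Subtype.ext (he x (hxT x)), MulAut.inv_apply_self]
  refine ⟨β * α, mul_mem hβ hα, χ.comp (φ₀.codRestrict _ hm), E.comp_mem hφ₀ hχ hm, fun x hx => ?_⟩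
  have e : (⟨φ x, le_of_mem_hom hψ₀ (hPQ x)⟩ : T) = α ⟨φ₀ x, hxT x⟩ := Subtype.ext (he x (hxT x))
  have h1 : χ ⟨φ₀ x, hm x⟩ = ((α⁻¹ ⟨ψ₀ ⟨φ x, hPQ x⟩, apply_mem_S hψ₀ _⟩ : T) : Ω) := by
    have := hχe ⟨φ x, hPQ x⟩ (by
      rw [show ((α⁻¹ ⟨((⟨φ x, hPQ x⟩ : Q) : Ω), le_of_mem_hom hψ₀ (hPQ x)⟩ : T) : Ω) = φ₀ x by
        rw [e, MulAut.inv_apply_self]]
      exact hm x)
    refine (apply_congr χ ?_).trans this
    show φ₀ x = ((α⁻¹ _ : T) : Ω)
    rw [e, MulAut.inv_apply_self]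
  show ψ ⟨φ x, hPQ x⟩ = _
  rw [he' ⟨φ x, hPQ x⟩ (apply_mem_S hψ₀ _)]
  have h2 : (⟨χ.comp (φ₀.codRestrict _ hm) x, hx⟩ : T) =
      α⁻¹ ⟨ψ₀ ⟨φ x, hPQ x⟩, apply_mem_S hψ₀ _⟩ := Subtype.ext h1
  rw [h2, MulAut.mul_apply, MulAut.apply_inv_self]

include hsub h in
/-- Strong invariance gives the Frattini condition. -/
theorem splits_of_stronglyInvariant [Finite S] (p : ℕ) [Fact p.Prime] (hS : IsPGroup p S)
    (hF : F.IsSaturated p) (hT : F.StronglyClosed T) :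
    ∀ (P : Subgroup Ω), P ≤ T → ∀ (φ : P →* Ω), φ ∈ F.Hom P → Splits F E φ := by
  classical
  intro P
  induction hn : Nat.card T - Nat.card P using Nat.strong_induction_on generalizing P with
  | _ n ih =>
  subst hn
  intro hPT φ hφ
  have hTS := hT.1
  have hfinT := finite_of_le hTS
  by_cases hP : P = T
  · subst hP
    have hr : φ.range = P := by
      refine eq_of_le_of_card_le hTS ?_ (card_range hφ).ge
      rintro _ ⟨x, rfl⟩
      exact hT.2 P le_rfl φ hφ x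
    refine ⟨autOfRange φ (F.injective_of_mem hφ) hr, autOfRange_mem hφ hr, P.subtype,
      subtype_mem le_rfl, fun x hx => ?_⟩
    exact (coe_autOfRange φ (F.injective_of_mem hφ) hr ⟨x, x.2⟩).symm
  have hlt : P < T := lt_of_le_of_ne hPT hP
  -- maps extending beyond `P` split
  have hext : ∀ (R N : Subgroup Ω), R ≤ T → Nat.card R = Nat.card P → R < N → N ≤ T →
      ∀ (ψ : N →* Ω), ψ ∈ F.Hom N → Splits F E ψ := by
    intro R N _ hc hRN hNT ψ hψ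
    refine ih _ ?_ N rfl hNT ψ hψ
    have := finite_of_le (hNT.trans hTS)
    have h1 : Nat.card R < Nat.card N := by
      refine lt_of_le_of_ne (card_le_of_le (hNT.trans hTS) hRN.le) fun he => ?_
      exact hRN.ne (eq_of_le_of_card_le (hNT.trans hTS) hRN.le he.ge)
    have h2 : Nat.card N ≤ Nat.card T := card_le_of_le hTS hNT
    omega
  obtain ⟨P₀, hP₀, hfn⟩ : ∃ P₀, F.IsConj P P₀ ∧ F.IsFullyNormalized P₀ :=
    exists_fullyNormalized F (hPT.trans hTS)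
  obtain ⟨hfa, hrec⟩ := good_of_fullyNormalized p hS hF hfn
  have hP₀T : P₀ ≤ T := by
    obtain ⟨ψ, hψ, rfl⟩ := hP₀
    rintro _ ⟨x, rfl⟩
    exact hT.2 P hPT ψ hψ x
  have hc₀ : Nat.card P₀ = Nat.card P := IsConj.card_eq hP₀
  -- maps to the fully normalized representative split
  have hto : ∀ R : Subgroup Ω, R ≤ T → F.IsConj R P₀ → Nat.card R = Nat.card P →
      ∃ ψ : R →* Ω, ψ ∈ F.Hom R ∧ ψ.range = P₀ ∧ Splits F E ψ := by
    intro R hRT hR hc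
    obtain ⟨ψ, hψ, -, hmap⟩ := exists_map_normalizer p hS hfa hrec hR
    have hRN : R ≤ normalizerIn S R := le_normalizerIn (hRT.trans hTS)
    have hlt' : R < T := lt_of_le_of_ne hRT fun he => hlt.ne
      (eq_of_le_of_card_le hTS hPT (by rw [← hc, he]))
    have hN : R < normalizerIn T R := lt_normalizerIn p hS hTS hlt'
    have hNN : normalizerIn T R ≤ normalizerIn S R := inf_le_inf_right _ hTS
    have hsp := hext R _ hRT hc hN inf_le_left _ (restrict_mem hψ hNN)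
    refine ⟨_, restrict_mem hψ hRN, ?_, hsp.restrict hN.le fun x => rfl⟩
    rw [← MonoidHom.map_range, Subgroup.inclusion_range]
    exact hmap
  -- automorphisms of the representative split
  have haut : ∀ χ ∈ F.autGroup P₀, Splits F E (P₀.subtype.comp χ.toMonoidHom) := by
    have := finite_of_le (hP₀T.trans hTS)
    have : Finite (MulAut P₀) := finite_mulAut
    intro χ hχ
    let B := E.autGroup P₀
    have hBF : B ≤ F.autGroup P₀ := autGroup_mono' hsub P₀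
    have hBn : (B.subgroupOf (F.autGroup P₀)).Normal := by
      refine ⟨fun b hb a => ?_⟩
      rw [Subgroup.mem_subgroupOf] at hb ⊢
      obtain ⟨c, hc, hce⟩ := h P₀ P₀ le_rfl hP₀T _ ((autGroup_carrier hP₀T).1 hb)
        (fun x => ((b : MulAut P₀) x).2) _ ((autGroup_carrier (hP₀T.trans hTS)).1 a.2)
      have hr : (P₀.subgroupOf P₀).map (P₀.subtype.comp (a : MulAut P₀).toMonoidHom) = P₀ :=
        (map_subgroupOf_self _).trans (range_subtype_comp _)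
      refine (autGroup_carrier hP₀T).2 (restrict_mem_of_eq hc hr.ge fun x => ?_)
      have h1 := hce ((a : MulAut P₀)⁻¹ x) (by rw [hr]; exact ((a : MulAut P₀) _).2)
      refine Eq.trans ?_ (h1.symm.trans (apply_congr c ?_))
      · rfl
      · show (((a : MulAut P₀) (Subgroup.inclusion le_rfl ((a : MulAut P₀)⁻¹ x)) : P₀) : Ω) = x
        exact congrArg Subtype.val (MulAut.apply_inv_self P₀ (a : MulAut P₀) x)
    obtain ⟨-, R, hR⟩ := hfa
    set K := B.subgroupOf (F.autGroup P₀) with hK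
    have := hBn
    have hRK := R.2.to_le (inf_le_left : (R : Subgroup (F.autGroup P₀)) ⊓ K ≤ _)
    -- a Sylow subgroup of `K`, as the intersection with `R`
    obtain ⟨U, hU⟩ : ∃ U : Sylow p K,
        (U : Subgroup K).map K.subtype = (R : Subgroup (F.autGroup P₀)) ⊓ K := by
      obtain ⟨V, hV⟩ := (hRK.comap_of_injective K.subtype K.subtype_injective).exists_le_sylow
      refine ⟨V, le_antisymm ?_ ?_⟩
      · obtain ⟨Q, hQ⟩ := (V.2.map K.subtype).exists_le_sylow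
        obtain ⟨a, ha⟩ := MulAction.exists_smul_eq (F.autGroup P₀) Q R
        have hmapV : ((V : Subgroup K).map K.subtype).map (MulAut.conj a).toMonoidHom ≤
            (R : Subgroup (F.autGroup P₀)) ⊓ K := by
          rintro _ ⟨y, hy, rfl⟩
          refine ⟨?_, ?_⟩
          · rw [← ha, Sylow.coe_subgroup_smul]
            exact ⟨y, hQ hy, rfl⟩
          · obtain ⟨k, -, rfl⟩ := hy
            exact hBn.conj_mem _ k.2 a
        have hle : (R : Subgroup (F.autGroup P₀)) ⊓ K ≤ (V : Subgroup K).map K.subtype :=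
          fun y hy => ⟨⟨y, hy.2⟩, hV hy, rfl⟩
        refine (Subgroup.eq_of_le_of_card_ge hle ?_).ge
        have h1 := Subgroup.card_le_of_le hmapV
        rwa [Subgroup.card_map_of_injective (MulAut.conj a).injective] at h1
      · exact fun y hy => ⟨⟨y, hy.2⟩, hV hy, rfl⟩
    obtain ⟨b, hb, n, hn, hbn⟩ : ∃ b ∈ K, ∃ n ∈ Subgroup.normalizer
        (((R : Subgroup (F.autGroup P₀)) ⊓ K : Subgroup (F.autGroup P₀)) : Set (F.autGroup P₀)),
        b * n = ⟨χ, hχ⟩ := by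
      have h1 : (⟨χ, hχ⟩ : F.autGroup P₀) ∈ (K : Subgroup (F.autGroup P₀)) ⊔
          Subgroup.normalizer (((U : Subgroup K).map K.subtype) : Set (F.autGroup P₀)) := by
        rw [sup_comm, Sylow.normalizer_sup_eq_top U]; trivial
      rw [hU, ← SetLike.mem_coe, Subgroup.normal_mul] at h1
      obtain ⟨b, hb, n, hn, hbn⟩ := h1
      exact ⟨b, hb, n, hn, hbn⟩
    set ν : MulAut P₀ := ((n : F.autGroup P₀) : MulAut P₀) with hν
    have hνF : P₀.subtype.comp ν.toMonoidHom ∈ F.Hom P₀ :=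
      (autGroup_carrier (hP₀T.trans hTS)).1 n.2
    have hlt' : P₀ < T := lt_of_le_of_ne hP₀T fun he => hlt.ne
      (eq_of_le_of_card_le hTS hPT (by rw [← hc₀, he]))
    have hN : P₀ < normalizerIn T P₀ := lt_normalizerIn p hS hTS hlt'
    have hNext : normalizerIn T P₀ ≤ extender S P₀ (P₀.subtype.comp ν.toMonoidHom) := by
      intro g hg
      have hgS : g ∈ normalizerIn S P₀ := ⟨hTS hg.1, hg.2⟩
      refine autInducedBy_congr_mem ν (fun x => rfl) hgS (α := conjAut S P₀ ⟨g, hgS⟩)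
        (fun x => rfl) ?_
      have hgB : conjAut S P₀ ⟨g, hgS⟩ ∈ B :=
        (autGroup_carrier hP₀T).2 (conj_mem_of_eq hP₀T hg.1 fun x => rfl)
      have hgR : (⟨conjAut S P₀ ⟨g, hgS⟩, hBF hgB⟩ : F.autGroup P₀) ∈
          (R : Subgroup (F.autGroup P₀)) ⊓ K := by
        refine ⟨?_, hgB⟩
        rw [hR]
        exact mem_autInducedBy.2 ⟨g, hgS.1, fun _ => rfl⟩
      have h2 := ((Subgroup.mem_normalizer_iff.1 hn _).1 hgR).1
      rw [hR] at h2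
      have h3 : MulAut.congr ν (conjAut S P₀ ⟨g, hgS⟩) = ν * conjAut S P₀ ⟨g, hgS⟩ * ν⁻¹ :=
        MulEquiv.ext fun x => rfl
      rw [h3]
      exact h2
    obtain ⟨ω, hω, hωe⟩ := receptive_extend hrec hνF (range_subtype_comp ν) hNext
    have hsp : Splits F E (P₀.subtype.comp ν.toMonoidHom) :=
      (hext P₀ _ hP₀T hc₀ hN inf_le_left ω hω).restrict hN.le fun x => (hωe x x.2 _).symm
    have hspb : Splits F E (P₀.subtype.comp ((b : F.autGroup P₀) : MulAut P₀).toMonoidHom) :=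
      Splits.of_sub ((autGroup_carrier hP₀T).1 (Subgroup.mem_subgroupOf.1 hb))
    have hcomp := hsp.comp hsub h hspb (fun x => (ν x).2)
    refine hcomp.restrict le_rfl fun x => ?_
    exact congrArg (fun a : F.autGroup P₀ => (((a : MulAut P₀) x : P₀) : Ω)) hbn.symm
  -- the general case
  have hP' : φ.range ≤ T := by
    rintro _ ⟨x, rfl⟩
    exact hT.2 P hPT φ hφ x
  obtain ⟨ψ, hψ, hψr, hψs⟩ := hto P hPT hP₀ rfl
  obtain ⟨ψ', hψ', hψ'r, hψ's⟩ :=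
    hto φ.range hP' (isConj_trans (isConj_symm ⟨φ, hφ, rfl⟩) hP₀) (card_range hφ)
  obtain ⟨μ, hμ, hμr, hμ1, hμ2⟩ := exists_inv hψ hψr
  obtain ⟨μ', hμ', hμ'r, hμ'1, hμ'2⟩ := exists_inv hψ' hψ'r
  -- `χ = ψ' φ ψ⁻¹`
  have hμP : ∀ y, μ y ∈ P := fun y => hμr.le ⟨y, rfl⟩
  let c₁ : P₀ →* Ω := φ.comp (μ.codRestrict P hμP)
  have hc₁ : c₁ ∈ F.Hom P₀ := F.comp_mem hμ hφ hμP
  have hc₁r : ∀ y, c₁ y ∈ φ.range := fun y => ⟨_, rfl⟩
  let c₂ : P₀ →* Ω := ψ'.comp (c₁.codRestrict φ.range hc₁r)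
  have hc₂ : c₂ ∈ F.Hom P₀ := F.comp_mem hc₁ hψ' hc₁r
  have hc₂r : c₂.range = P₀ := by
    refine eq_of_le_of_card_le (hP₀T.trans hTS) ?_ (card_range hc₂).ge
    rintro _ ⟨y, rfl⟩
    exact hψ'r.le ⟨_, rfl⟩
  have h1 := haut _ (autOfRange_mem hc₂ hc₂r)
  have hμ's : Splits F E μ' := by
    refine hψ's.inverse hsub h fun y => ?_
    exact ⟨⟨μ' y, hμ'r.le ⟨y, rfl⟩⟩, hμ'2 y _, rfl⟩
  have h2 := (hψs.comp hsub h h1 (fun x => hψr.le ⟨x, rfl⟩)).comp hsub h hμ's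
    (fun x => ((autOfRange c₂ (F.injective_of_mem hc₂) hc₂r) ⟨ψ x, hψr.le ⟨x, rfl⟩⟩).2)
  refine h2.restrict le_rfl fun x => ?_
  show φ x = μ' ⟨c₂ ⟨ψ x, _⟩, _⟩
  have e1 : c₁ ⟨ψ x, hψr.le ⟨x, rfl⟩⟩ = φ x :=
    apply_congr φ (hμ1 x (hψr.le ⟨x, rfl⟩))
  symm
  refine (apply_congr μ' ?_).trans (hμ'1 ⟨φ x, x, rfl⟩ (hψ'r.le ⟨_, rfl⟩))
  exact apply_congr ψ' e1

end CfsgLib.Fusion
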