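import Cfsg.Agent.Fusion.FocalCentralizerNormal
import Cfsg.Agent.Fusion.SmallControl

/-!
The largest subgroup `C_S(E)` centralized by a normal subsystem `E` exists and is strongly closed.
-/

set_option autoImplicit false
set_option linter.style.haveILetI false
set_option linter.unusedSectionVars false

open Cfsg Cfsg.FusionSystem CfsgLib.Fusion CfsgLib.FocCent

namespace CfsgLib.NormCent

variable {Ω : Type*} [Group Ω] {S T : Subgroup Ω} {F : FusionSystem S} {E : FusionSystem T}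

/-- `y` is centralized by `E`. -/
def Cent (E : FusionSystem T) (F : FusionSystem S) (y : Ω) : Prop :=
  y ∈ centralizerIn S T ∧ ∀ P : Subgroup Ω, E.Hom P ⊆ F.centralizerHom (Subgroup.zpowers y) P

theorem centralizerIn_anti {X Y : Subgroup Ω} (h : X ≤ Y) :
    centralizerIn S Y ≤ centralizerIn S X := fun _ hg =>
  mem_centralizerIn.2 ⟨hg.1, fun x hx => hg.2 x (h hx)⟩

theorem centralizerHom_mono {X Y P : Subgroup Ω} (h : X ≤ Y) :
    F.centralizerHom Y P ⊆ F.centralizerHom X P := by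
  rintro φ ⟨hφ, hP, hv, ψ, hψ, he, hf⟩
  have hle : P ⊔ X ≤ P ⊔ Y := sup_le_sup_left h P
  exact ⟨hφ, hP.trans (centralizerIn_anti h), fun x => centralizerIn_anti h (hv x),
    ψ.comp (Subgroup.inclusion hle), restrict_mem hψ hle, fun x => he x,
    fun x => hf ⟨x, h x.2⟩⟩

theorem range_zpowers_le {P N : Subgroup Ω} {y : Ω} (ψ : ↥(P ⊔ Subgroup.zpowers y) →* Ω)
    (hP : ∀ x : P, ψ (Subgroup.inclusion le_sup_left x) ∈ N)
    (hy : ψ ⟨y, Subgroup.mem_sup_right (Subgroup.mem_zpowers y)⟩ ∈ N) : ψ.range ≤ N := by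
  rw [range_eq_sup]
  refine sup_le ?_ ?_
  · rintro _ ⟨⟨x, hx⟩, hxP, rfl⟩
    exact hP ⟨x, hxP⟩
  · rintro _ ⟨⟨x, hx⟩, hxy, rfl⟩
    obtain ⟨i, hi⟩ := Subgroup.mem_zpowers_iff.1 (show x ∈ Subgroup.zpowers y from hxy)
    have e : (⟨x, hx⟩ : ↥(P ⊔ Subgroup.zpowers y)) =
        ⟨y, Subgroup.mem_sup_right (Subgroup.mem_zpowers y)⟩ ^ i := Subtype.ext (by simp [hi])
    rw [e, map_zpow]
    exact zpow_mem hy i

/-- Two maps on `P⟨v⟩` agreeing on `P` differ on `v ∈ C(P)` by an element of `foc(C_F(Q))`. -/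
theorem div_mem_focal [Finite S] {P Q V : Subgroup Ω} (hQS : Q ≤ S) (hPV : P ≤ V)
    {χ₁ χ₂ : V →* Ω} (h₁ : χ₁ ∈ F.Hom V) (h₂ : χ₂ ∈ F.Hom V)
    (hQ : (P.subgroupOf V).map χ₁ = Q)
    (hag : ∀ x : P, χ₁ (Subgroup.inclusion hPV x) = χ₂ (Subgroup.inclusion hPV x))
    {v : V} (hv : (v : Ω) ∈ centralizerIn S P) :
    (χ₁ v)⁻¹ * χ₂ v ∈ (centSystem F Q hQS).focalSubgroup := by
  obtain ⟨θ, hθ, -, hθ1, -⟩ := exists_inv h₁ rfl
  have hθV : ∀ y, θ y ∈ V := by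
    rintro ⟨_, x, rfl⟩
    exact Set.mem_of_eq_of_mem (hθ1 x ⟨x, rfl⟩) x.2
  let κ : χ₁.range →* Ω := χ₂.comp (θ.codRestrict V hθV)
  have hκ : κ ∈ F.Hom χ₁.range := F.comp_mem hθ h₂ hθV
  have hκe : ∀ (x : V) (h : χ₁ x ∈ χ₁.range), κ ⟨χ₁ x, h⟩ = χ₂ x := fun x h =>
    apply_congr χ₂ (hθ1 x h)
  have hU : Subgroup.zpowers (χ₁ v) ⊔ Q ≤ χ₁.range :=
    sup_le (Subgroup.zpowers_le.2 ⟨v, rfl⟩) (hQ ▸ Subgroup.map_le_range _ _)
  let χ := κ.comp (Subgroup.inclusion hU)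
  have hχ : χ ∈ F.Hom _ := restrict_mem hκ hU
  have hfix : ∀ q : Q, χ (Subgroup.inclusion le_sup_right q) = q := by
    intro q
    obtain ⟨x, hxV, hxP, hxq⟩ := mem_map_subgroupOf.1 (hQ.ge q.2)
    calc χ (Subgroup.inclusion le_sup_right q) = κ ⟨χ₁ ⟨x, hxV⟩, ⟨_, rfl⟩⟩ :=
          apply_congr κ hxq.symm
      _ = χ₂ ⟨x, hxV⟩ := hκe _ _
      _ = χ₁ ⟨x, hxV⟩ := (hag ⟨x, hxP⟩).symm
      _ = q := hxq
  have hyC : Subgroup.zpowers (χ₁ v) ≤ centralizerIn S Q := by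
    refine Subgroup.zpowers_le.2 ?_
    rw [← hQ]
    exact map_mem_centralizerIn h₁ hPV hv v.2
  have hmem : χ.comp (Subgroup.inclusion le_sup_left) ∈
      (centSystem F Q hQS).Hom (Subgroup.zpowers (χ₁ v)) := by
    refine ⟨restrict_mem hχ _, hyC, fun z => mem_centralizerIn.2
      ⟨apply_mem_S (restrict_mem hχ _) z, fun q hq => ?_⟩, χ, hχ, fun z => rfl, hfix⟩
    show q * χ (Subgroup.inclusion le_sup_left z) = χ (Subgroup.inclusion le_sup_left z) * q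
    rw [show q = χ (Subgroup.inclusion le_sup_right ⟨q, hq⟩) from (hfix ⟨q, hq⟩).symm, ← map_mul,
      ← map_mul]
    exact apply_congr χ ((hyC z.2).2 q hq)
  refine Subgroup.subset_closure ⟨_, _, ⟨χ₁ v, Subgroup.mem_zpowers _⟩, hmem, ?_⟩
  exact congrArg (fun z => (χ₁ v)⁻¹ * z) (hκe v ⟨v, rfl⟩).symm

/-- Conjugates of automorphisms induced by `T` are transported into `modAut`. -/
theorem conj_mem_modAut [Finite S] (p : ℕ) [Fact p.Prime] (hS : IsPGroup p S)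
    (hF : F.IsSaturated p) (hT : F.StronglyClosed T) {P Q : Subgroup Ω} (hPS : P ≤ S)
    (hQc : F.IsFullyCentralized Q) (hcQ : centralizerIn T Q ≤ Q)
    {φ : ↥(normalizerIn S P) →* Ω} (hφ : φ ∈ F.Hom (normalizerIn S P)) (e : P ≃* Q)
    (he : ∀ x : P, ((e x : Q) : Ω) = φ (Subgroup.inclusion (le_normalizerIn hPS) x))
    {u : Ω} (hu : u ∈ T) {α g : MulAut P} (hα : ∀ x : P, ((α x : P) : Ω) = u * x * u⁻¹)
    (hg : g ∈ F.autGroup P) : MulAut.congr e (g * α * g⁻¹) ∈ modAut F hQc.1 := by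
  have hφP : φ.comp (Subgroup.inclusion (le_normalizerIn hPS)) ∈ F.Hom P :=
    restrict_mem hφ (le_normalizerIn hPS)
  rw [map_mul, map_mul, map_inv]
  refine modAut_conj p hS hF hQc ?_ (pow_mem_autGroup_iso hPS hφP e he hg)
  have huN : u ∈ normalizerIn S P := ⟨hT.1 hu, mem_normalizer_of_aut hα⟩
  set s := φ ⟨u, huN⟩ with hs
  have hsT : s ∈ T := map_mem_of_stronglyClosed hT hφ hu
  have hval : ∀ q : Q, ((MulAut.congr e α q : Q) : Ω) = s * q * s⁻¹ := by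
    intro q
    obtain ⟨x, rfl⟩ := e.surjective q
    simp only [MulAut.congr_apply, MulEquiv.trans_apply, MulEquiv.symm_apply_apply]
    rw [he, he]
    show φ _ = φ ⟨u, huN⟩ * _ * (φ ⟨u, huN⟩)⁻¹
    rw [← map_inv, ← map_mul, ← map_mul]
    exact apply_congr φ (hα x)
  have hsQ : s ∈ Subgroup.normalizer (Q : Set Ω) := mem_normalizer_of_aut hval
  have hRS : Q ⊔ centralizerIn S Q ≤ S := sup_le hQc.1 (centralizerIn_le_S Q)
  have hsC : ∀ c ∈ centralizerIn S Q, s * c * s⁻¹ ∈ centralizerIn S Q := fun c hc => by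
    refine mem_centralizerIn.2 ⟨mul_mem (mul_mem (hT.1 hsT) hc.1) (inv_mem (hT.1 hsT)),
      fun q hq => ?_⟩
    have hq' : s⁻¹ * q * s ∈ Q := (Subgroup.mem_normalizer_iff''.1 hsQ q).1 hq
    calc q * (s * c * s⁻¹) = s * ((s⁻¹ * q * s) * c) * s⁻¹ := by group
      _ = s * (c * (s⁻¹ * q * s)) * s⁻¹ := by rw [hc.2 _ hq']
      _ = s * c * s⁻¹ * q := by group
  have hsR : s ∈ Subgroup.normalizer ((Q ⊔ centralizerIn S Q : Subgroup Ω) : Set Ω) :=
    mem_normalizer_sup hQc.1 (centralizerIn_le_S Q) hsQ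
      (mem_normalizer_of_conj_mem (centralizerIn_le_S Q) hsC)
  refine ⟨conjAut S _ ⟨s, hT.1 hsT, hsR⟩, autInducedBy_le_autGroup hRS
    (mem_autInducedBy.2 ⟨s, hT.1 hsT, fun _ => rfl⟩), fun q => (hval q).symm, fun c hc => ?_⟩
  refine hcQ (mem_centralizerIn.2 ⟨?_, ?_⟩)
  · show (c : Ω)⁻¹ * (s * c * s⁻¹) ∈ T
    have h1 := (Subgroup.mem_normalizer_iff''.1 (stronglyClosed_normal_in_S hT hc.1) s).1 hsT
    simpa [mul_assoc] using mul_mem h1 (inv_mem hsT)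
  · exact (mul_mem (inv_mem hc) (hsC c hc)).2

/-- A coprime element of `modAut` extends with coprime order fixing `foc(C_F(Q))`. -/
theorem exists_fix_coprime [Finite S] (p : ℕ) [Fact p.Prime] (hS : IsPGroup p S)
    (hF : F.IsSaturated p) {Q : Subgroup Ω} (hQ : F.IsFullyCentralized Q) {a : MulAut Q}
    (ha : a ∈ modAut F hQ.1) (hco : (orderOf a).Coprime p) :
    ∃ β ∈ F.autGroup (Q ⊔ centralizerIn S Q), (orderOf β).Coprime p ∧ Agree le_sup_left β a ∧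
      ∀ c : ↥(Q ⊔ centralizerIn S Q), (c : Ω) ∈ (centSystem F Q hQ.1).focalSubgroup → β c = c := by
  obtain ⟨β, hβ, hβa, hβf⟩ := exists_fix p hS hF hQ ha hco
  have := finite_of_le (sup_le hQ.1 (centralizerIn_le_S (S := S) Q))
  have : Finite (MulAut ↥(Q ⊔ centralizerIn S Q)) := finite_mulAut
  obtain ⟨e, he1, he2⟩ := CfsgLib.Fusion.ConstrainedNormal.exists_pow_coprime p β
  have hae : a ^ e = a := he2 a hco
    (orderOf_dvd_of_pow_eq_one ((hβa.pow _).eq_one (pow_orderOf_eq_one β)))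
  refine ⟨β ^ e, pow_mem hβ e, he1, hae ▸ hβa.pow e, fun c hc => ?_⟩
  clear he1 he2 hae
  induction e with
  | zero => rfl
  | succ e ih => rw [pow_succ', MulAut.mul_apply, ih, hβf c hc]

variable [Finite S] (p : ℕ) [Fact p.Prime] (hS : IsPGroup p S) (hF : F.IsSaturated p)

include hS hF in
/-- An automorphism of order prime to `p` transported into `modAut` extends to centralize every `X`
whose elements are fixed by some of its extensions. -/
theorem mem_centAut' {P Q N : Subgroup Ω}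
    (hQ : F.IsFullyCentralized Q) {φ : N →* Ω} (hφ : φ ∈ F.Hom N) (hPN : P ≤ N)
    (hPQ : (P.subgroupOf N).map φ = Q)
    (e : P ≃* Q) (he : ∀ x : P, ((e x : Q) : Ω) = φ (Subgroup.inclusion hPN x))
    {α : MulAut P} (hα : MulAut.congr e α ∈ modAut F hQ.1) (hco : (orderOf α).Coprime p)
    {s : Set Ω} {X : Subgroup Ω} (hX : X ≤ S) (hXN : X ≤ N) (hPX : P ≤ centralizerIn S X)
    (hsX : s ⊆ X) (hXs : X ≤ Subgroup.closure s)
    (hext : ∀ x ∈ s, ∃ ψ ∈ F.Hom (P ⊔ Subgroup.zpowers x),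
      (∀ y : P, ψ (Subgroup.inclusion le_sup_left y) = α y) ∧
        ψ ⟨x, Subgroup.mem_sup_right (Subgroup.mem_zpowers x)⟩ = x) :
    α ∈ (centSystem F X hX).autGroup P := by
  obtain ⟨β, hβ, hβco, hβa, hβf⟩ := exists_fix_coprime p hS hF hQ hα (by rwa [MulEquiv.orderOf_eq])
  have hW : P ⊔ X ≤ N := sup_le hPN hXN
  let ψ : ↥(P ⊔ X) →* Ω := φ.comp (Subgroup.inclusion hW)
  have hψ : ψ ∈ F.Hom (P ⊔ X) := restrict_mem hφ hW
  obtain ⟨θ, hθ, -, hθ1, -⟩ := exists_inv hψ rfl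
  have hRS : Q ⊔ centralizerIn S Q ≤ S := sup_le hQ.1 (centralizerIn_le_S Q)
  have := finite_of_le hRS
  have keyP : ∀ x : P, ∃ h : φ (Subgroup.inclusion hPN x) ∈ Q ⊔ centralizerIn S Q,
      ((β ⟨_, h⟩ : ↥(Q ⊔ centralizerIn S Q)) : Ω) = φ (Subgroup.inclusion hPN (α x)) := by
    intro x
    have h : φ (Subgroup.inclusion hPN x) ∈ Q ⊔ centralizerIn S Q :=
      Subgroup.mem_sup_left (he x ▸ (e x).2)
    refine ⟨h, ?_⟩
    have h1 := hβa (e x)
    rw [show Subgroup.inclusion _ (e x) = (⟨_, h⟩ : ↥(Q ⊔ centralizerIn S Q)) from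
      Subtype.ext (he x)] at h1
    rw [h1, ← he]
    simp
  let Kfix : Subgroup Ω := (((MonoidHom.eqLocus β.toMonoidHom (MonoidHom.id _)).map
    (Q ⊔ centralizerIn S Q).subtype).comap φ).map N.subtype
  have hKfix : ∀ x, x ∈ Kfix → ∀ hxN : x ∈ N, ∃ h : φ ⟨x, hxN⟩ ∈ Q ⊔ centralizerIn S Q,
      β ⟨_, h⟩ = ⟨_, h⟩ := by
    rintro _ ⟨n, ⟨r, hr, hre⟩, rfl⟩ hxN
    have e' : (r : Ω) = φ ⟨n, hxN⟩ := hre
    refine ⟨e' ▸ r.2, ?_⟩
    exact (congrArg β (Subtype.ext e'.symm)).trans (hr.trans (Subtype.ext e'))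
  suffices key' : ∀ x ∈ s, x ∈ Kfix by
    have key : ∀ x (hx : x ∈ X), ∃ h : φ ⟨x, hXN hx⟩ ∈ Q ⊔ centralizerIn S Q,
        β ⟨_, h⟩ = ⟨_, h⟩ := fun x hx =>
      hKfix x ((Subgroup.closure_le Kfix).2 key' (hXs hx)) (hXN hx)
    clear key' hKfix
    -- `ψ⁻¹ β ψ` is defined on `P X`
    let L : Subgroup Ω := ((ψ.range.subgroupOf (Q ⊔ centralizerIn S Q)).comap β.toMonoidHom).map
      (Q ⊔ centralizerIn S Q).subtype
    have hL : ψ.range ≤ L := by
      conv_lhs => rw [range_eq_sup]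
      refine sup_le ?_ ?_
      · rintro _ ⟨⟨x, hxW⟩, hxP, rfl⟩
        obtain ⟨h, h1⟩ := keyP ⟨x, hxP⟩
        exact ⟨⟨_, h⟩, ⟨Subgroup.inclusion le_sup_left (α ⟨x, hxP⟩), h1.symm⟩, rfl⟩
      · rintro _ ⟨⟨x, hxW⟩, hxX, rfl⟩
        obtain ⟨h, h1⟩ := key x hxX
        exact ⟨⟨_, h⟩, ⟨⟨x, hxW⟩, (congrArg Subtype.val h1).symm⟩, rfl⟩
    have hψR : ∀ w, ψ w ∈ Q ⊔ centralizerIn S Q := fun w => by
      obtain ⟨⟨y, hy⟩, -, he'⟩ := hL ⟨w, rfl⟩
      exact Set.mem_of_eq_of_mem he'.symm hy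
    let b : ↥(P ⊔ X) →* Ω :=
      ((Q ⊔ centralizerIn S Q).subtype.comp β.toMonoidHom).comp (ψ.codRestrict _ hψR)
    have hb : b ∈ F.Hom (P ⊔ X) := F.comp_mem hψ ((autGroup_carrier hRS).1 hβ) hψR
    have hbV : ∀ w, b w ∈ ψ.range := fun w => by
      obtain ⟨y, hy, he'⟩ := hL ⟨w, rfl⟩
      obtain rfl : y = ⟨ψ w, hψR w⟩ := Subtype.ext he'
      exact hy
    have hχ := F.comp_mem hb hθ hbV
    refine (autGroup_carrier hPX).2
      ⟨restrict_mem_of_eq hχ le_sup_left fun x => ?_, hPX, fun x => hPX (α x).2,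
        θ.comp (b.codRestrict _ hbV), hχ, fun x => ?_, fun x => ?_⟩
    · obtain ⟨h, h1⟩ := keyP x
      exact ((apply_congr θ h1).trans (hθ1 (Subgroup.inclusion le_sup_left (α x)) ⟨_, rfl⟩)).symm
    · obtain ⟨h, h1⟩ := keyP x
      exact (apply_congr θ h1).trans (hθ1 (Subgroup.inclusion le_sup_left (α x)) ⟨_, rfl⟩)
    · obtain ⟨h, h1⟩ := key x x.2
      have h2 : b (Subgroup.inclusion le_sup_right x) = ψ (Subgroup.inclusion le_sup_right x) :=
        congrArg Subtype.val h1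
      exact (apply_congr θ h2).trans
        (hθ1 (Subgroup.inclusion le_sup_right x) ⟨_, rfl⟩)
  intro x hxs
  have hx : x ∈ X := hsX hxs
  suffices h : ∃ h : φ ⟨x, hXN hx⟩ ∈ Q ⊔ centralizerIn S Q, β ⟨_, h⟩ = ⟨_, h⟩ by
    obtain ⟨h, h'⟩ := h
    exact ⟨⟨x, hXN hx⟩, ⟨⟨_, h⟩, h', rfl⟩, rfl⟩
  have hxP : x ∈ centralizerIn S P :=
    mem_centralizerIn.2 ⟨hX hx, fun y hy => ((hPX hy).2 x hx).symm⟩
  have hxC : φ ⟨x, hXN hx⟩ ∈ centralizerIn S Q := hPQ ▸ map_mem_centralizerIn hφ hPN hxP _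
  refine ⟨Subgroup.mem_sup_right hxC, ?_⟩
  obtain ⟨χ, hχ, hχP, hχx⟩ := hext x hxs
  let V := P ⊔ Subgroup.zpowers x
  have hVN : V ≤ N := sup_le hPN (Subgroup.zpowers_le.2 (hXN hx))
  have hχN : ∀ v, χ v ∈ N := fun v => by
    refine (range_zpowers_le χ (fun y => ?_) ?_) ⟨v, rfl⟩
    · rw [hχP]; exact hPN (α y).2
    · rw [hχx]; exact hXN hx
  have hφR : ∀ v : V, φ (Subgroup.inclusion hVN v) ∈ Q ⊔ centralizerIn S Q := fun v => by
    refine (range_zpowers_le (φ.comp (Subgroup.inclusion hVN)) (fun y => ?_) ?_) ⟨v, rfl⟩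
    · exact Subgroup.mem_sup_left (he y ▸ (e y).2)
    · exact Subgroup.mem_sup_right hxC
  have h1 : φ.comp (χ.codRestrict N hχN) ∈ F.Hom V := F.comp_mem hχ hφ hχN
  let χ₂ : V →* Ω := ((Q ⊔ centralizerIn S Q).subtype.comp β.toMonoidHom).comp
    ((φ.comp (Subgroup.inclusion hVN)).codRestrict _ hφR)
  have h2 : χ₂ ∈ F.Hom V :=
    F.comp_mem (restrict_mem hφ hVN) ((autGroup_carrier hRS).1 hβ) hφR
  have hag : ∀ y : P, φ.comp (χ.codRestrict N hχN) (Subgroup.inclusion le_sup_left y) =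
      χ₂ (Subgroup.inclusion le_sup_left y) := fun y => by
    obtain ⟨h, h'⟩ := keyP y
    exact (apply_congr φ (hχP y)).trans h'.symm
  have hQm : (P.subgroupOf V).map (φ.comp (χ.codRestrict N hχN)) = Q := by
    ext z
    rw [mem_map_subgroupOf]
    constructor
    · rintro ⟨y, hy, hyP, rfl⟩
      show φ ⟨χ (Subgroup.inclusion le_sup_left ⟨y, hyP⟩), hχN _⟩ ∈ Q
      rw [apply_congr φ (y := Subgroup.inclusion hPN (α ⟨y, hyP⟩)) (hχP ⟨y, hyP⟩), ← he]
      exact (e _).2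
    · intro hz
      obtain ⟨y, hy⟩ := (α.trans e).surjective ⟨z, hz⟩
      refine ⟨y, Subgroup.mem_sup_left y.2, y.2, ?_⟩
      rw [show z = ((e (α y) : Q) : Ω) from (congrArg Subtype.val hy).symm, he]
      exact apply_congr φ (hχP y)
  have hd := div_mem_focal hQ.1 le_sup_left h1 h2 hQm hag
    (v := ⟨x, Subgroup.mem_sup_right (Subgroup.mem_zpowers x)⟩) hxP
  rw [show φ.comp (χ.codRestrict N hχN) ⟨x, Subgroup.mem_sup_right (Subgroup.mem_zpowers x)⟩ =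
    φ ⟨x, hXN hx⟩ from apply_congr φ hχx] at hd
  refine aut_eq_one_of_displacement (isPGroup_of_le hS hRS) hβco ?_
  exact hβf _ hd

/-- An element centralized by `E` is fixed by an extension of each automorphism of `E`. -/
theorem exists_cent_ext {P : Subgroup Ω} (hPT : P ≤ T) {y : Ω} (hy : Cent E F y) {α : MulAut P}
    (hα : α ∈ E.autGroup P) : ∃ ψ ∈ F.Hom (P ⊔ Subgroup.zpowers y),
      (∀ x : P, ψ (Subgroup.inclusion le_sup_left x) = α x) ∧
        ψ ⟨y, Subgroup.mem_sup_right (Subgroup.mem_zpowers y)⟩ = y := by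
  obtain ⟨-, -, -, ψ, hψ, he, hf⟩ := hy.2 P ((autGroup_carrier hPT).1 hα)
  exact ⟨ψ, hψ, fun x => he x, hf ⟨y, Subgroup.mem_zpowers y⟩⟩

include hS in
/-- The join of the centralized elements is centralized. -/
theorem hom_le_sup (hE : E.IsNormalIn F p) (P₀ : Subgroup Ω) {X : Subgroup Ω}
    (hXC : X ≤ centralizerIn S T) (hgen : X ≤ Subgroup.closure {y | Cent E F y}) :
    E.Hom P₀ ⊆ F.centralizerHom X P₀ := by
  obtain ⟨⟨hEs, hF, hinv⟩, hext⟩ := hE
  have hTS : T ≤ S := hinv.2.1.1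
  have := finite_of_le hTS
  have hT : IsPGroup p T := isPGroup_of_le hS hTS
  set Y := Subgroup.closure {y | Cent E F y} with hY
  have hYC : Y ≤ centralizerIn S T := (Subgroup.closure_le _).2 fun y hy => hy.1
  have hYS : Y ≤ S := hYC.trans (centralizerIn_le_S T)
  have hTY : T ≤ centralizerIn S Y := fun t ht =>
    mem_centralizerIn.2 ⟨hTS ht, fun x hx => ((hYC hx).2 t ht).symm⟩
  suffices h : E.Hom P₀ ⊆ F.centralizerHom Y P₀ from h.trans (centralizerHom_mono hgen)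
  let E₂ := fixSystem E F Y hYS hTY
  have hmem : ∀ {P : Subgroup Ω}, P ≤ T → ∀ {α : MulAut P}, α ∈ E.autGroup P →
      α ∈ (centSystem F Y hYS).autGroup P → α ∈ E₂.autGroup P := fun hP α h1 h2 =>
    (autGroup_carrier hP).2 ⟨(autGroup_carrier hP).1 h1, (autGroup_carrier (hP.trans hTY)).1 h2⟩
  suffices h : E ≤ E₂ from fun φ hφ => (h P₀ hφ).2
  have hTn : S ≤ Subgroup.normalizer (T : Set Ω) := stronglyClosed_normal_in_S hinv.2.1
  have hTfn : F.IsFullyNormalized T := ⟨hTS, fun R _ => by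
    rw [show normalizerIn S T = S from inf_eq_left.2 hTn]
    exact card_le_of_le le_rfl (normalizerIn_le_S R)⟩
  have hall : ∀ {P : Subgroup Ω}, P ≤ T → ∀ {α : MulAut P}, α ∈ E.autGroup P →
      ∀ {Q N : Subgroup Ω} (hQ : F.IsFullyCentralized Q) {φ : N →* Ω}, φ ∈ F.Hom N →
      ∀ (hPN : P ≤ N), Y ≤ N → (P.subgroupOf N).map φ = Q → ∀ (e : P ≃* Q),
      (∀ x : P, ((e x : Q) : Ω) = φ (Subgroup.inclusion hPN x)) →
      MulAut.congr e α ∈ modAut F hQ.1 → (orderOf α).Coprime p →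
      α ∈ (centSystem F Y hYS).autGroup P := by
    intro P hPT α hα Q N hQ φ hφ hPN hYN hPQ e he hmod hco
    exact mem_centAut' p hS hF hQ hφ hPN hPQ e he hmod hco hYS hYN (hPT.trans hTY)
      (s := {y | Cent E F y}) Subgroup.subset_closure le_rfl fun x hx => exists_cent_ext hPT hx hα
  refine CfsgLib.Fusion.ConstrainedNormal.le_of_conj p hT hEs ?_ ?_
  · -- the automorphisms of `T`
    intro α hα
    have : Finite (MulAut T) := finite_mulAut
    obtain ⟨⟨-, R, hR⟩, -⟩ := good_of_fullyNormalized p hT hEs (isFullyNormalized_S (S := T))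
    suffices h : (⊤ : Subgroup (E.autGroup T)) ≤ (E₂.autGroup T).subgroupOf (E.autGroup T) from
      Subgroup.mem_subgroupOf.1 (h (Subgroup.mem_top ⟨α, hα⟩))
    refine le_of_sylow_coprime p R le_top (fun a ha => ?_) fun a _ hco => ?_
    · rw [hR] at ha
      exact Subgroup.mem_subgroupOf.2
        (autInducedBy_le_autGroup le_rfl (Subgroup.mem_subgroupOf.1 ha))
    refine Subgroup.mem_subgroupOf.2 (hmem le_rfl a.2 ?_)
    have hid : ((T.subgroupOf S).map S.subtype : Subgroup Ω) = T :=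
      Subgroup.map_subgroupOf_eq_of_le hTS
    refine hall le_rfl a.2 (fullyCentralized_of_fullyNormalized p hS hF hTfn) (subtype_mem le_rfl)
      hTS hYS hid (MulEquiv.refl T) (fun x => rfl) ?_
      (show (orderOf (a : MulAut T)).Coprime p by rwa [Subgroup.orderOf_coe])
    obtain ⟨β, hβ, h1, h2⟩ := hext _ a.2
    refine ⟨β, hβ, fun x => (h1 x).trans ?_, fun c hc => (h2 c hc).1⟩
    simp
  intro P hP γ hγ t ht
  have hPT : P ≤ T := hP.1.1
  have hPS : P ≤ S := hPT.trans hTS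
  have := finite_of_le hPS
  have : Finite (MulAut P) := finite_mulAut
  obtain ⟨R, hR⟩ := (good_of_fullyNormalized p hT hEs hP.2.1).1.2
  let K := Subgroup.normalClosure ((R : Subgroup (E.autGroup P)) : Set (E.autGroup P))
  have htE : t ∈ E.autGroup P := autInducedBy_le_autGroup hPT ht
  have hγtK : (⟨γ, hγ⟩ * ⟨t, htE⟩ * ⟨γ, hγ⟩⁻¹ : E.autGroup P) ∈ K := by
    refine Subgroup.normalClosure_normal.conj_mem _ (Subgroup.le_normalClosure ?_) _
    rw [hR]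
    exact Subgroup.mem_subgroupOf.2 ht
  suffices h : K ≤ (E₂.autGroup P).subgroupOf (E.autGroup P) from
    Subgroup.mem_subgroupOf.1 (h hγtK)
  obtain ⟨Q, hPQ, hQn⟩ := exists_fullyNormalized F hPS
  obtain ⟨g₁, g₂⟩ := good_of_fullyNormalized p hS hF hQn
  obtain ⟨φ, hφ, -, hmap⟩ := exists_map_normalizer p hS g₁ g₂ hPQ
  have hPN : P ≤ normalizerIn S P := le_normalizerIn hPS
  have hQc := fullyCentralized_of_fullyNormalized p hS hF hQn
  have hφP : φ.comp (Subgroup.inclusion hPN) ∈ F.Hom P := restrict_mem hφ hPN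
  have hrP : (φ.comp (Subgroup.inclusion hPN)).range = Q := (range_restrict φ hPN).trans hmap
  let e := isoRange _ (F.injective_of_mem hφP) hrP
  have he : ∀ x : P, ((e x : Q) : Ω) = φ (Subgroup.inclusion hPN x) := fun x => rfl
  have hYN : Y ≤ normalizerIn S P := fun c hc =>
    centralizerIn_le_normalizerIn P (centralizerIn_anti hPT (hYC hc))
  let Kmod : Subgroup (E.autGroup P) :=
    (modAut F hQc.1).comap ((MulAut.congr e).toMonoidHom.comp (E.autGroup P).subtype)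
  have hKmod : K ≤ Kmod := by
    refine (Subgroup.closure_le _).2 fun a ha => ?_
    obtain ⟨b, hb, hab⟩ := Group.mem_conjugatesOfSet_iff.1 ha
    obtain ⟨g, rfl⟩ := isConj_iff.1 hab
    rw [SetLike.mem_coe, hR, Subgroup.mem_subgroupOf] at hb
    obtain ⟨u, hu, hua⟩ := mem_autInducedBy.1 hb
    exact conj_mem_modAut p hS hF hinv.2.1 hPS hQc (centralizer_le_of_isConj hinv hP.1 hPQ) hφ e he
      hu hua (autGroup_mono' hinv.1 P g.2)
  refine le_of_sylow_coprime p R Subgroup.le_normalClosure (fun a ha => ?_) fun a ha hco => ?_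
  · rw [hR] at ha
    exact Subgroup.mem_subgroupOf.2 (autInducedBy_le_autGroup hPT (Subgroup.mem_subgroupOf.1 ha))
  exact Subgroup.mem_subgroupOf.2 (hmem hPT a.2 (hall hPT a.2 hQc hφ hPN hYN hmap e he
    (hKmod ha) (show (orderOf (a : MulAut P)).Coprime p by rwa [Subgroup.orderOf_coe])))

/-! ### Strong closure -/

variable (E F) in
/-- `C_S(E)`. -/
def centSub : Subgroup Ω := Subgroup.closure {y | Cent E F y}

theorem centSub_le : centSub F E ≤ centralizerIn S T :=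
  (Subgroup.closure_le _).2 fun _ hy => hy.1

include hS in
theorem cent_of_mem (hE : E.IsNormalIn F p) {y : Ω} (hy : y ∈ centSub F E) : Cent E F y :=
  ⟨centSub_le hy, fun P => (hom_le_sup p hS hE P centSub_le le_rfl).trans
    (centralizerHom_mono (Subgroup.zpowers_le.2 hy))⟩

/-- Maps defined on `T` preserve the centralized elements. -/
theorem cent_map (hinv : E.IsInvariantIn F) {R : Subgroup Ω} (hTR : T ≤ R) {φ : R →* Ω}
    (hφ : φ ∈ F.Hom R) {y : R} (hy : Cent E F (y : Ω)) : Cent E F (φ y) := by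
  have hT := hinv.2.1
  have hTS := hT.1
  have hTm : (T.subgroupOf R).map φ = T := map_ker_eq hT hφ hTR
  have hvC : φ y ∈ centralizerIn S T := by
    rw [← hTm]; exact map_mem_centralizerIn hφ hTR hy.1 y.2
  refine ⟨hvC, fun P f hf => ?_⟩
  have hPT : P ≤ T := le_of_mem_hom hf
  have hV : T ⊔ Subgroup.zpowers (y : Ω) ≤ R := sup_le hTR (Subgroup.zpowers_le.2 y.2)
  obtain ⟨θ, hθ, -, hθ1, -⟩ := exists_inv (restrict_mem hφ hTR) ((range_restrict φ hTR).trans hTm)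
  obtain ⟨χ, hχ, hχe⟩ := invariant_conj hinv hPT le_rfl hf (apply_mem_S hf) hθ
  obtain ⟨-, -, -, ψ, hψ, hψe, hψf⟩ := hy.2 _ hχ
  have hP'T : (P.subgroupOf T).map θ ≤ T := le_of_mem_hom hχ
  have hψV : ∀ z, ψ z ∈ R := fun z => by
    refine hV ((range_zpowers_le (N := T ⊔ Subgroup.zpowers (y : Ω)) ψ (fun x => ?_) ?_) ⟨z, rfl⟩)
    · rw [hψe]; exact Subgroup.mem_sup_left (apply_mem_S hχ x)
    · rw [show ψ ⟨(y : Ω), _⟩ = (y : Ω) from hψf ⟨y, Subgroup.mem_zpowers _⟩]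
      exact Subgroup.mem_sup_right (Subgroup.mem_zpowers _)
  have hφψ := F.comp_mem hψ hφ hψV
  obtain ⟨θ', hθ', -, hθ'1, -⟩ := exists_inv (restrict_mem hφ hV) rfl
  have hD : P ⊔ Subgroup.zpowers (φ y) ≤ (φ.comp (Subgroup.inclusion hV)).range := by
    refine sup_le (fun x hx => ?_)
      (Subgroup.zpowers_le.2 ⟨⟨y, Subgroup.mem_sup_right (Subgroup.mem_zpowers _)⟩, rfl⟩)
    obtain ⟨t, htR, ht, e⟩ := mem_map_subgroupOf.1 (hTm.ge (hPT hx))
    exact ⟨⟨t, Subgroup.mem_sup_left ht⟩, e⟩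
  have hθ'φ : ∀ (x : P), ∃ t : ↥(T ⊔ Subgroup.zpowers (y : Ω)),
      φ (Subgroup.inclusion hV t) = x ∧ (t : Ω) = θ (Subgroup.inclusion hPT x) := by
    intro x
    obtain ⟨t, htR, ht, e⟩ := mem_map_subgroupOf.1 (hTm.ge (hPT x.2))
    refine ⟨⟨t, Subgroup.mem_sup_left ht⟩, e, ?_⟩
    exact ((apply_congr θ e.symm).trans (hθ1 ⟨t, ht⟩ (e.symm ▸ hPT x.2))).symm
  have hmem : ∀ z, θ' (Subgroup.inclusion hD z) ∈
      (P.subgroupOf T).map θ ⊔ Subgroup.zpowers (y : Ω) := fun z => by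
    refine (range_zpowers_le (θ'.comp (Subgroup.inclusion hD)) (fun x => ?_) ?_) ⟨z, rfl⟩
    · obtain ⟨t, ht, hte⟩ := hθ'φ x
      refine Subgroup.mem_sup_left ⟨Subgroup.inclusion hPT x, x.2, ?_⟩
      rw [← hte]
      exact ((apply_congr θ' ht.symm).trans (hθ'1 t ⟨t, rfl⟩)).symm
    · refine Set.mem_of_eq_of_mem ?_ (Subgroup.mem_sup_right (Subgroup.mem_zpowers (y : Ω)))
      exact hθ'1 ⟨y, Subgroup.mem_sup_right (Subgroup.mem_zpowers _)⟩ ⟨_, rfl⟩
  have hψ' := F.comp_mem (restrict_mem hθ' hD) hφψ hmem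
  have hPv : P ≤ centralizerIn S (Subgroup.zpowers (φ y)) := fun x hx =>
    mem_centralizerIn.2 ⟨hTS (hPT hx), fun z hz => by
      obtain ⟨i, rfl⟩ := Subgroup.mem_zpowers_iff.1 hz
      exact ((show Commute x (φ y) from hvC.2 x (hPT hx)).zpow_right i).eq.symm⟩
  refine ⟨hinv.1 P hf, hPv, fun x => mem_centralizerIn.2 ⟨hTS (apply_mem_S hf x), fun z hz => ?_⟩,
    _, hψ', fun x => ?_, fun z => ?_⟩
  · obtain ⟨i, rfl⟩ := Subgroup.mem_zpowers_iff.1 hz
    exact ((show Commute (f x) (φ y) from hvC.2 _ (apply_mem_S hf x)).zpow_right i).eq.symm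
  · obtain ⟨t, ht, hte⟩ := hθ'φ x
    have h1 : θ' (Subgroup.inclusion hD (Subgroup.inclusion le_sup_left x)) = θ (Subgroup.inclusion hPT x) :=
      ((apply_congr θ' ht.symm).trans (hθ'1 t ⟨t, rfl⟩)).trans hte
    have hm : θ (Subgroup.inclusion hPT x) ∈ (P.subgroupOf T).map θ :=
      ⟨Subgroup.inclusion hPT x, x.2, rfl⟩
    show φ ⟨ψ ⟨θ' (Subgroup.inclusion hD (Subgroup.inclusion le_sup_left x)), _⟩, _⟩ = f x
    have h2 : ψ ⟨θ' (Subgroup.inclusion hD (Subgroup.inclusion le_sup_left x)),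
        h1 ▸ Subgroup.mem_sup_left hm⟩ = θ ⟨f x, apply_mem_S hf x⟩ :=
      ((apply_congr ψ h1).trans (hψe ⟨_, hm⟩)).trans (hχe x hm)
    obtain ⟨t', ht'R, ht', e'⟩ := mem_map_subgroupOf.1 (hTm.ge (apply_mem_S hf x))
    refine (apply_congr φ (h2.trans ?_)).trans e'
    exact (apply_congr θ e'.symm).trans (hθ1 ⟨t', ht'⟩ (e'.symm ▸ apply_mem_S hf x))
  · show φ ⟨ψ ⟨θ' (Subgroup.inclusion hD (Subgroup.inclusion le_sup_right z)), _⟩, _⟩ = z
    obtain ⟨i, hi⟩ := Subgroup.mem_zpowers_iff.1 z.2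
    have hz : (z : Ω) = φ (Subgroup.inclusion hV
        (⟨y, Subgroup.mem_sup_right (Subgroup.mem_zpowers _)⟩ ^ i)) := by
      rw [map_zpow, map_zpow]; exact hi.symm
    have h1 : θ' (Subgroup.inclusion hD (Subgroup.inclusion le_sup_right z)) = (y : Ω) ^ i :=
      ((apply_congr θ' hz).trans (hθ'1 _ ⟨_, rfl⟩)).trans (by simp)
    have hm : (y : Ω) ^ i ∈ Subgroup.zpowers (y : Ω) := zpow_mem (Subgroup.mem_zpowers _) i
    refine (apply_congr φ (((apply_congr ψ h1).trans (hψf ⟨_, hm⟩)).trans ?_)).trans hz.symm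
    simp

/-- A map carries `W ⊓ T` onto the intersection of the image with `T`. -/
theorem map_inf_eq (hT : F.StronglyClosed T) {N W : Subgroup Ω} (hWN : W ≤ N) {φ : N →* Ω}
    (hφ : φ ∈ F.Hom N) :
    ((W ⊓ T).subgroupOf N).map φ = (W.subgroupOf N).map φ ⊓ T := by
  ext y
  simp only [Subgroup.mem_inf, mem_map_subgroupOf]
  constructor
  · rintro ⟨x, hx, ⟨hxW, hxT⟩, rfl⟩
    exact ⟨⟨x, hx, hxW, rfl⟩, map_mem_of_stronglyClosed hT hφ hxT⟩
  · rintro ⟨⟨x, hx, hxW, rfl⟩, hyT⟩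
    obtain ⟨θ, hθ, -, hθ1, -⟩ := exists_inv hφ rfl
    refine ⟨x, hx, ⟨hxW, ?_⟩, rfl⟩
    have h1 := map_mem_of_stronglyClosed hT hθ (x := ⟨φ ⟨x, hx⟩, ⟨_, rfl⟩⟩) hyT
    exact Set.mem_of_eq_of_mem (hθ1 ⟨x, hx⟩ ⟨_, rfl⟩).symm h1

/-- A strictly larger intersection with `T` has larger order. -/
theorem card_inf_lt [Finite T] {P N : Subgroup Ω} (hP : P ≤ N ⊓ T) {t : Ω} (ht : t ∈ N) (htT : t ∈ T)
    (htP : t ∉ P) : Nat.card P < Nat.card (N ⊓ T : Subgroup Ω) :=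
  lt_of_le_of_ne (card_le_of_le (S := T) inf_le_right hP) fun he => htP
    ((eq_of_le_of_card_le (S := T) inf_le_right hP he.ge).symm ▸ Subgroup.mem_inf.2 ⟨ht, htT⟩)

/-- A normal subgroup of the group of automorphisms has a Sylow subgroup cut out by a given one. -/
theorem exists_sylow_inf {G : Type*} [Group G] [Finite G] {q : ℕ} [Fact q.Prime] (M : Subgroup G)
    [M.Normal] (R : Sylow q G) :
    ∃ RM : Sylow q M, (RM : Subgroup M) = (R : Subgroup G).subgroupOf M := by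
  refine ⟨{ toSubgroup := (R : Subgroup G).subgroupOf M
            isPGroup' := R.isPGroup'.comap_subtype
            is_maximal' := fun {Q} hQ hle => ?_ }, rfl⟩
  obtain ⟨R', hR'⟩ := (hQ.map M.subtype).exists_le_sylow
  obtain ⟨g, hg⟩ := MulAction.exists_smul_eq G R R'
  refine (Subgroup.eq_of_le_of_card_ge hle ?_).symm
  let f : Q → (R : Subgroup G).subgroupOf M := fun a =>
    ⟨⟨g⁻¹ * ((a : M) : G) * g, by simpa using Subgroup.Normal.conj_mem inferInstance _ (a : M).2 g⁻¹⟩, by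
      obtain ⟨r, hr, hre⟩ := (hg ▸ hR' ⟨(a : M), a.2, rfl⟩ : ((a : M) : G) ∈ ((g • R : Sylow q G) : Subgroup G))
      have he : g * r * g⁻¹ = ((a : M) : G) := hre
      rw [Subgroup.mem_subgroupOf]
      show g⁻¹ * ((a : M) : G) * g ∈ (R : Subgroup G)
      rw [← he, show g⁻¹ * (g * r * g⁻¹) * g = r by group]
      exact hr⟩
  refine Nat.card_le_card_of_injective f fun a b hab => ?_
  have h1 : g⁻¹ * ((a : M) : G) * g = g⁻¹ * ((b : M) : G) * g :=
    congrArg (fun z : (R : Subgroup G).subgroupOf M => ((z : M) : G)) hab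
  exact Subtype.ext (Subtype.ext (mul_left_cancel (mul_right_cancel h1)))

include hS in
/-- `C_S(E)` is strongly closed. -/
theorem stronglyClosed_centSub (hE : E.IsNormalIn F p) : F.StronglyClosed (centSub F E) := by
  obtain ⟨⟨hEs, hF, hinv⟩, -⟩ := id hE
  have hT := hinv.2.1
  have hTS := hT.1
  have := finite_of_le hTS
  have hTn := stronglyClosed_normal_in_S hT
  refine ⟨centSub_le.trans (centralizerIn_le_S T), ?_⟩
  suffices H : ∀ (n : ℕ) (R : Subgroup Ω) (φ : R →* Ω), φ ∈ F.Hom R → ∀ y : R,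
      (y : Ω) ∈ centSub F E → Nat.card T - Nat.card (R ⊓ T : Subgroup Ω) = n → φ y ∈ centSub F E from
    fun R hR φ hφ x => H _ R φ hφ x (hR x.2) rfl
  intro n
  induction n using Nat.strong_induction_on with
  | _ n ih =>
  intro R φ hφ y hy hn
  have hyc := cent_of_mem p hS hE hy
  by_cases hTR : T ≤ R
  · exact Subgroup.subset_closure (cent_map hinv hTR hφ hyc)
  set P₀ := R ⊓ T with hP₀
  have IH : ∀ {U : Subgroup Ω} {χ : U →* Ω}, χ ∈ F.Hom U →
      Nat.card P₀ < Nat.card (U ⊓ T : Subgroup Ω) → ∀ z : U, (z : Ω) ∈ centSub F E →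
        χ z ∈ centSub F E := fun {U} χ hχ hlt z hz => by
    have h1 := card_le_of_le (S := T) le_rfl (inf_le_right : U ⊓ T ≤ T)
    exact ih _ (by omega) U χ hχ z hz rfl
  have hP₀T : P₀ ≤ T := inf_le_right
  have hRS := le_of_mem_hom hφ
  set W₀ := P₀ ⊔ Subgroup.zpowers (y : Ω) with hW₀def
  have hW₀R : W₀ ≤ R := sup_le inf_le_left (Subgroup.zpowers_le.2 y.2)
  have hW₀T : W₀ ⊓ T = P₀ := le_antisymm (inf_le_inf_right T hW₀R) (le_inf le_sup_left hP₀T)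
  have hW₀S : W₀ ≤ S := hW₀R.trans hRS
  have hyW₀ : (y : Ω) ∈ W₀ := Subgroup.mem_sup_right (Subgroup.mem_zpowers _)
  -- `N_T(P₀)` normalizes `W₀`
  have hNW₀ : normalizerIn T P₀ ≤ normalizerIn S W₀ := fun t ht => by
    refine ⟨hTS ht.1, mem_normalizer_sup (hP₀T.trans hTS) (Subgroup.zpowers_le.2 (hRS y.2)) ht.2 ?_⟩
    refine mem_normalizer_of_conj_mem (Subgroup.zpowers_le.2 (hRS y.2)) fun z hz => ?_
    obtain ⟨i, rfl⟩ := Subgroup.mem_zpowers_iff.1 hz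
    rw [((show Commute t (y : Ω) from hyc.1.2 t ht.1).zpow_right i).eq, mul_inv_cancel_right]
    exact hz
  obtain ⟨t₀, ht₀, ht₀P⟩ := SetLike.exists_of_lt
    (lt_normalizerIn p (isPGroup_of_le hS hTS) le_rfl
      (lt_of_le_of_ne hP₀T fun h => hTR (h ▸ inf_le_left)))
  obtain ⟨W, hW₀W, hWn⟩ := exists_fullyNormalized F hW₀S
  obtain ⟨g₁, g₂⟩ := good_of_fullyNormalized p hS hF hWn
  obtain ⟨ψ, hψ, hψN, hψW⟩ := exists_map_normalizer p hS g₁ g₂ hW₀W
  have hW₀N : W₀ ≤ normalizerIn S W₀ := le_normalizerIn hW₀S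
  have hWS := hWn.1
  set P := W ⊓ T with hPdef
  have hPP₀ : ((P₀).subgroupOf (normalizerIn S W₀)).map ψ = P := by
    rw [← hW₀T, map_inf_eq hT hW₀N hψ, hψW]
  have hPc : Nat.card P = Nat.card P₀ := by
    rw [← hPP₀, card_map_subgroupOf (F.injective_of_mem hψ) (le_sup_left.trans hW₀N)]
  have hPT : P ≤ T := inf_le_right
  have hPS := hPT.trans hTS
  set w := ψ ⟨y, hW₀N hyW₀⟩ with hw
  have hwC : w ∈ centSub F E :=
    IH hψ (card_inf_lt (le_inf (le_sup_left.trans hW₀N) hP₀T) (hNW₀ ht₀) ht₀.1 ht₀P) _ hy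
  have hwc := cent_of_mem p hS hE hwC
  have hwW : w ∈ W := hψW.le ⟨⟨y, hW₀N hyW₀⟩, hyW₀, rfl⟩
  have hWle : W ≤ P ⊔ Subgroup.zpowers w := by
    refine hψW.ge.trans (Subgroup.map_le_iff_le_comap.2 ?_)
    have hP₀N : P₀ ≤ normalizerIn S W₀ := le_sup_left.trans hW₀N
    have hyN : Subgroup.zpowers (y : Ω) ≤ normalizerIn S W₀ := le_sup_right.trans hW₀N
    rw [show W₀.subgroupOf (normalizerIn S W₀) = P₀.subgroupOf (normalizerIn S W₀) ⊔
      (Subgroup.zpowers (y : Ω)).subgroupOf (normalizerIn S W₀) from Subgroup.subgroupOf_sup hP₀N hyN]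
    refine sup_le (fun x hx => Subgroup.mem_sup_left (hPP₀.le ⟨x, hx, rfl⟩)) fun x hx => ?_
    obtain ⟨i, hi⟩ := Subgroup.mem_zpowers_iff.1 (Subgroup.mem_subgroupOf.1 hx)
    refine Subgroup.mem_sup_right (Subgroup.mem_zpowers_iff.2 ⟨i, ?_⟩)
    rw [hw, ← map_zpow]
    exact congrArg ψ (Subtype.ext (by simp [hi]))
  -- `t` in `N_T(W) \ P`
  set t := ψ ⟨t₀, hNW₀ ht₀⟩ with htdef
  have htT : t ∈ T := map_mem_of_stronglyClosed hT hψ ht₀.1
  have htN : t ∈ normalizerIn S W := hψN _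
  have htP : t ∉ P := fun h => by
    obtain ⟨x, hx, hxP, he⟩ := mem_map_subgroupOf.1 (hPP₀.ge h)
    exact ht₀P (Set.mem_of_eq_of_mem (congrArg Subtype.val (F.injective_of_mem hψ he)).symm hxP)
  have hIH : ∀ {U : Subgroup Ω} {χ : U →* Ω}, χ ∈ F.Hom U → P ≤ U → ∀ {s : Ω}, s ∈ U → s ∈ T →
      s ∉ P → ∀ z : U, (z : Ω) ∈ centSub F E → χ z ∈ centSub F E := fun hχ hPU _ hs hsT hsP =>
    IH hχ (hPc ▸ card_inf_lt (le_inf hPU hPT) hs hsT hsP)
  -- automorphisms of `W` preserve `C_S(E)` at `w`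
  suffices hkey : ∀ c ∈ F.autGroup W, ((c ⟨w, hwW⟩ : W) : Ω) ∈ centSub F E by
    let φ₀ := φ.comp (Subgroup.inclusion hW₀R)
    have hφ₀ : φ₀ ∈ F.Hom W₀ := restrict_mem hφ hW₀R
    set W₁ := φ₀.range with hW₁
    have hW₁S : W₁ ≤ S := range_le_S hφ₀
    have hW₁W : F.IsConj W₁ W := isConj_trans (isConj_symm ⟨φ₀, hφ₀, rfl⟩) hW₀W
    obtain ⟨ψ₁, hψ₁, hψ₁N, hψ₁W⟩ := exists_map_normalizer p hS g₁ g₂ hW₁W
    have hW₁N : W₁ ≤ normalizerIn S W₁ := le_normalizerIn hW₁S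
    set P₁ := W₁ ⊓ T with hP₁
    have hP₁P : (P₁.subgroupOf (normalizerIn S W₁)).map ψ₁ = P := by
      rw [hP₁, map_inf_eq hT hW₁N hψ₁, hψ₁W]
    have hP₁c : Nat.card P₁ = Nat.card P₀ := by
      rw [← card_map_subgroupOf (φ := ψ₁) (F.injective_of_mem hψ₁) (inf_le_left.trans hW₁N), hP₁P,
        hPc]
    have hP₁T : P₁ < T := lt_of_le_of_ne inf_le_right fun h => hTR (by
      have h1 : P₀ = T := eq_of_le_of_card_le (S := T) le_rfl hP₀T (by rw [← hP₁c, h])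
      exact h1 ▸ inf_le_left)
    have hW₁n : W₁ ≤ Subgroup.normalizer ((normalizerIn T P₁ : Subgroup Ω) : Set Ω) := fun x hx => by
      refine mem_normalizer_of_conj_mem ((normalizerIn_le_S P₁).trans hTS) fun u hu => ?_
      refine ⟨(Subgroup.mem_normalizer_iff.1 (hTn (hW₁S hx)) u).1 hu.1,
        mul_mem (mul_mem ?_ hu.2) (Subgroup.inv_mem _ ?_)⟩ <;>
      · refine mem_normalizer_of_conj_mem (inf_le_left.trans hW₁S) fun z hz => ?_
        exact Subgroup.mem_inf.2 ⟨mul_mem (mul_mem hx (Subgroup.mem_inf.1 hz).1) (inv_mem hx),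
          (Subgroup.mem_normalizer_iff.1 (hTn (hW₁S hx)) z).1 (Subgroup.mem_inf.1 hz).2⟩
    obtain ⟨u, hu, huP⟩ := SetLike.exists_of_lt
      (lt_normalizerIn p (isPGroup_of_le hS hTS) le_rfl hP₁T)
    have hUS : W₁ ⊔ normalizerIn T P₁ ≤ S := sup_le hW₁S ((normalizerIn_le_S P₁).trans hTS)
    obtain ⟨g, hg, hgW⟩ := SetLike.exists_of_lt (lt_normalizerIn p hS hUS
      (lt_of_le_of_ne le_sup_left fun h => huP (Subgroup.mem_inf.2
        ⟨h.ge (Subgroup.mem_sup_right hu), hu.1⟩)))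
    obtain ⟨a, ha, t₁, ht₁, rfl⟩ := (CfsgLib.Solvable.mem_sup_of_le_normalizer hW₁n).1 hg.1
    have ht₁N : t₁ ∈ normalizerIn S W₁ := ⟨hTS ht₁.1, by
      simpa using mul_mem (inv_mem (Subgroup.le_normalizer ha)) hg.2⟩
    have ht₁W : t₁ ∉ W₁ := fun h => hgW (mul_mem ha h)
    obtain ⟨θ₀, hθ₀, -, hθ₀1, -⟩ := exists_inv (restrict_mem hψ hW₀N)
      ((range_restrict ψ hW₀N).trans hψW)
    have hθ₀W : ∀ x, θ₀ x ∈ W₀ := fun x => by
      obtain ⟨z, hz, hzW, hze⟩ := mem_map_subgroupOf.1 (hψW.ge x.2)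
      exact Set.mem_of_eq_of_mem ((apply_congr θ₀ hze.symm).trans
        (hθ₀1 ⟨z, hzW⟩ (hψW.le ⟨⟨z, hz⟩, hzW, rfl⟩))) hzW
    have hm : φ₀.comp (θ₀.codRestrict W₀ hθ₀W) ∈ F.Hom W := F.comp_mem hθ₀ hφ₀ hθ₀W
    have hmN : ∀ x, φ₀.comp (θ₀.codRestrict W₀ hθ₀W) x ∈ normalizerIn S W₁ :=
      fun x => hW₁N ⟨_, rfl⟩
    let cm := ψ₁.comp ((φ₀.comp (θ₀.codRestrict W₀ hθ₀W)).codRestrict _ hmN)
    have hcm : cm ∈ F.Hom W := F.comp_mem hm hψ₁ hmN
    have hcr : cm.range = W := by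
      refine eq_of_le_of_card_le hWS ?_ (card_range hcm).ge
      rintro _ ⟨x, rfl⟩
      exact hψ₁W.le ⟨⟨_, hmN x⟩, ⟨θ₀.codRestrict W₀ hθ₀W x, rfl⟩, rfl⟩
    have h1 := hkey _ (autOfRange_mem hcm hcr)
    rw [coe_autOfRange] at h1
    have hvW₁ : φ y ∈ W₁ := ⟨⟨y, hyW₀⟩, apply_congr φ rfl⟩
    have h2 : cm ⟨w, hwW⟩ = ψ₁ ⟨φ y, hW₁N hvW₁⟩ := by
      refine apply_congr ψ₁ ((apply_congr φ₀ (y := ⟨(y : Ω), hyW₀⟩) ?_).trans (apply_congr φ rfl))
      exact hθ₀1 ⟨y, hyW₀⟩ hwW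
    rw [h2] at h1
    obtain ⟨θ₁, hθ₁, -, hθ₁1, -⟩ := exists_inv hψ₁ rfl
    have hPr : P ≤ ψ₁.range := hP₁P ▸ Subgroup.map_le_range _ _
    have ht₁P : ψ₁ ⟨t₁, ht₁N⟩ ∉ P := fun h => by
      obtain ⟨z, hz, hzP, hze⟩ := mem_map_subgroupOf.1 (hP₁P.ge h)
      exact ht₁W (Set.mem_of_eq_of_mem (congrArg Subtype.val (F.injective_of_mem hψ₁ hze)).symm
        (Subgroup.mem_inf.1 hzP).1)
    have h3 := hIH hθ₁ hPr (s := ψ₁ ⟨t₁, ht₁N⟩) ⟨_, rfl⟩
      (map_mem_of_stronglyClosed hT hψ₁ ht₁.1) ht₁P ⟨ψ₁ ⟨φ y, hW₁N hvW₁⟩, ⟨_, rfl⟩⟩ h1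
    exact Set.mem_of_eq_of_mem (hθ₁1 ⟨φ y, hW₁N hvW₁⟩ ⟨_, rfl⟩).symm h3
  intro c hc
  have hWP : ∀ x : W, (x : Ω) ∈ P → ∀ k ∈ F.autGroup W, ((k x : W) : Ω) ∈ P := fun x hx k hk =>
    Subgroup.mem_inf.2 ⟨(k x).2,
      map_mem_of_stronglyClosed hT ((autGroup_carrier hWS).1 hk) (Subgroup.mem_inf.1 hx).2⟩
  have hPW : P ≤ W := inf_le_left
  -- extendable to a larger part of `T`
  have hext_case : ∀ k : MulAut W, k ∈ F.autGroup W → ∀ s ∈ extender S W (W.subtype.comp k.toMonoidHom),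
      s ∈ T → s ∉ P → ((k ⟨w, hwW⟩ : W) : Ω) ∈ centSub F E := by
    intro k hk s hs hsT hsP
    have hkh := (autGroup_carrier hWS).1 hk
    obtain ⟨χ, hχ, hχe⟩ := receptive_extend g₂ hkh (range_subtype_comp k) le_rfl
    have h1 := hIH hχ (hPW.trans (le_extender hkh)) hs hsT hsP ⟨w, le_extender hkh hwW⟩ hwC
    rwa [hχe w hwW] at h1
  by_cases hcT : centralizerIn T P ≤ P
  swap
  · obtain ⟨s, hs, hsP⟩ := SetLike.not_le_iff_exists.1 hcT
    refine hext_case c hc s (centralizerIn_le_extender W _ (mem_centralizerIn.2 ⟨hTS hs.1, ?_⟩))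
      hs.1 hsP
    have hle : W ≤ Subgroup.centralizer {s} := hWle.trans (sup_le
      (fun x hx => Subgroup.mem_centralizer_singleton_iff.2 (hs.2 x hx))
      (Subgroup.zpowers_le.2 (Subgroup.mem_centralizer_singleton_iff.2 (hwc.1.2 s hs.1).symm)))
    exact fun x hx => Subgroup.mem_centralizer_singleton_iff.1 (hle hx)
  -- transport `P` to a fully normalized subgroup
  obtain ⟨Q, hPQ, hQn⟩ := exists_fullyNormalized F hPS
  obtain ⟨q₁, q₂⟩ := good_of_fullyNormalized p hS hF hQn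
  obtain ⟨η, hη, -, hηQ⟩ := exists_map_normalizer p hS q₁ q₂ hPQ
  have hPN : P ≤ normalizerIn S P := le_normalizerIn hPS
  have hWN : W ≤ normalizerIn S P := fun x hx => ⟨hWS hx, by
    refine mem_normalizer_of_conj_mem hPS fun z hz => Subgroup.mem_inf.2
      ⟨mul_mem (mul_mem hx (hPW hz)) (inv_mem hx),
        (Subgroup.mem_normalizer_iff.1 (hTn (hWS hx)) z).1 (hPT hz)⟩⟩
  have htNP : t ∈ normalizerIn S P := ⟨hTS htT, mem_normalizer_of_conj_mem hPS fun z hz =>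
    Subgroup.mem_inf.2 ⟨(Subgroup.mem_normalizer_iff.1 htN.2 z).1 (hPW hz),
      (Subgroup.mem_normalizer_iff.1 (hTn (hTS htT)) z).1 (hPT hz)⟩⟩
  set w' := η ⟨w, hWN hwW⟩ with hw'
  have hw'C : w' ∈ centSub F E := hIH hη hPN htNP htT htP _ hwC
  have hw'c := cent_of_mem p hS hE hw'C
  have hQc := fullyCentralized_of_fullyNormalized p hS hF hQn
  have hcQ : centralizerIn T Q ≤ Q := by
    set W' := (W.subgroupOf (normalizerIn S P)).map η with hW'
    have hconj : F.IsConj W' W := isConj_symm (isConj_map hη hWN)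
    obtain ⟨ω, hω, -, hωW⟩ := exists_map_normalizer p hS g₁ g₂ hconj
    have hW'T : W' ⊓ T = Q := by
      rw [hW', ← map_inf_eq hT hWN hη]; exact hηQ
    have hW'N : W' ≤ normalizerIn S W' := le_normalizerIn (IsConj.le_left hconj)
    intro s hs
    have hQW' : W' ≤ Subgroup.centralizer {s} := by
      have hle : W.subgroupOf (normalizerIn S P) ≤ (Subgroup.centralizer {s}).comap η := by
        refine (Subgroup.subgroupOf_mono _ hWle).trans ?_
        rw [Subgroup.subgroupOf_sup hPN (Subgroup.zpowers_le.2 (hWN hwW))]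
        refine sup_le (fun x hx => Subgroup.mem_centralizer_singleton_iff.2
          (hs.2 _ (hηQ.le ⟨x, hx, rfl⟩))) fun x hx => ?_
        obtain ⟨i, hi⟩ := Subgroup.mem_zpowers_iff.1 (Subgroup.mem_subgroupOf.1 hx)
        rw [Subgroup.mem_comap, show x = ⟨w, hWN hwW⟩ ^ i from Subtype.ext (by simp [hi]), map_zpow]
        exact zpow_mem (Subgroup.mem_centralizer_singleton_iff.2 (hw'c.1.2 s hs.1).symm) i
      exact Subgroup.map_le_iff_le_comap.2 hle
    have hsC : s ∈ centralizerIn S W' := mem_centralizerIn.2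
      ⟨hTS hs.1, fun x hx => Subgroup.mem_centralizer_singleton_iff.1 (hQW' hx)⟩
    have hsN := centralizerIn_le_normalizerIn (S := S) W' hsC
    have hωP : ((W' ⊓ T).subgroupOf (normalizerIn S W')).map ω = P := by
      rw [map_inf_eq hT hW'N hω, hωW]
    have h1 : ω ⟨s, hsN⟩ ∈ P := by
      refine hcT (mem_centralizerIn.2 ⟨map_mem_of_stronglyClosed hT hω hs.1, fun x hx => ?_⟩)
      have h2 := map_mem_centralizerIn hω hW'N hsC hsN
      rw [hωW] at h2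
      exact h2.2 x (hPW hx)
    obtain ⟨x, hx, hxQ, he⟩ := mem_map_subgroupOf.1 (hωP.ge h1)
    rw [hW'T] at hxQ
    exact Set.mem_of_eq_of_mem (congrArg Subtype.val (F.injective_of_mem hω he)).symm hxQ
  have := finite_of_le hPS
  have hηP : η.comp (Subgroup.inclusion hPN) ∈ F.Hom P := restrict_mem hη hPN
  let e := isoRange _ (F.injective_of_mem hηP) ((range_restrict η hPN).trans hηQ)
  have he : ∀ x : P, ((e x : Q) : Ω) = η (Subgroup.inclusion hPN x) := fun x => rfl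
  -- the normal closure of `Aut_T(W)`
  have := finite_of_le hWS
  have : Finite (MulAut W) := finite_mulAut
  let G := F.autGroup W
  let K : Subgroup G := Subgroup.normalClosure (((autInducedBy T W).subgroupOf G : Subgroup G) : Set G)
  have hmemK : ∀ k : G, k ∈ K → (∀ x : W, (x : Ω)⁻¹ * (((k : MulAut W) x : W) : Ω) ∈ P) ∧
      ∃ a : MulAut P, Agree hPW (k : MulAut W) a ∧ a ∈ E.autGroup P ∧
        MulAut.congr e a ∈ modAut F hQc.1 := by
    intro k hk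
    induction hk using Subgroup.closure_induction with
    | mem k hk =>
      obtain ⟨b, hb, hbk⟩ := Group.mem_conjugatesOfSet_iff.1 hk
      obtain ⟨g, rfl⟩ := isConj_iff.1 hbk
      obtain ⟨u, hu, hua⟩ := mem_autInducedBy.1 (Subgroup.mem_subgroupOf.1 hb)
      refine ⟨fun x => ?_, ?_⟩
      · set z := (g : MulAut W)⁻¹ x with hz
        have h1 : (z : Ω)⁻¹ * (((b : MulAut W) z : W) : Ω) ∈ P := Subgroup.mem_inf.2
          ⟨mul_mem (inv_mem z.2) ((b : MulAut W) z).2, by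
            rw [hua z]
            have h1 := (Subgroup.mem_normalizer_iff''.1 (hTn (hWS z.2)) u).1 hu
            simpa [mul_assoc] using mul_mem h1 (inv_mem hu)⟩
        have h2 := hWP (z⁻¹ * (b : MulAut W) z) h1 _ g.2
        rw [map_mul, map_inv, hz, MulAut.apply_inv_self, Subgroup.coe_mul,
          InvMemClass.coe_inv] at h2
        simpa using h2
      · obtain ⟨γ, hγ⟩ := exists_agree hPW (g : MulAut W) fun x hx => hWP x hx _ g.2
        obtain ⟨a, ha⟩ := exists_agree hPW (b : MulAut W) fun x hx => hWP x hx _ b.2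
        have haT : ∀ x : P, ((a x : P) : Ω) = u * x * u⁻¹ := fun x => (ha x).symm.trans (hua _)
        have hγF : γ ∈ F.autGroup P := hγ.mem hWS g.2
        refine ⟨γ * a * γ⁻¹, by simpa using (hγ.mul ha).mul hγ.inv, ?_, ?_⟩
        · exact invariant_conj_aut hinv hPT hγF
            (autInducedBy_le_autGroup hPT (mem_autInducedBy.2 ⟨u, hu, haT⟩))
        · exact conj_mem_modAut p hS hF hT hPS hQc hcQ hη e he hu haT hγF
    | one => exact ⟨fun x => by simp, 1, Agree.one, one_mem _, by rw [map_one]; exact one_mem _⟩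
    | mul k l _ _ hk hl =>
      obtain ⟨hk1, a, ha, haE, ham⟩ := hk
      obtain ⟨hl1, b, hb, hbE, hbm⟩ := hl
      refine ⟨fun x => ?_, a * b, by simpa using ha.mul hb, mul_mem haE hbE,
        by rw [map_mul]; exact mul_mem ham hbm⟩
      have := mul_mem (hl1 x) (hk1 ((l : MulAut W) x))
      simpa [mul_assoc] using this
    | inv k _ hk =>
      obtain ⟨hk1, a, ha, haE, ham⟩ := hk
      refine ⟨fun x => ?_, a⁻¹, by simpa using ha.inv, inv_mem haE,
        by rw [map_inv]; exact inv_mem ham⟩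
      simpa using inv_mem (hk1 ((k : MulAut W)⁻¹ x))
  -- elements of order prime to `p` in `K` fix `w`
  have hfix : ∀ k : G, k ∈ K → (orderOf k).Coprime p → (k : MulAut W) ⟨w, hwW⟩ = ⟨w, hwW⟩ := by
    intro k hk hco
    have hco' : (orderOf (k : MulAut W)).Coprime p := by rwa [Subgroup.orderOf_coe]
    obtain ⟨hk1, a, ha, haE, ham⟩ := hmemK k hk
    have haco : (orderOf a).Coprime p := Nat.Coprime.coprime_dvd_left
      (orderOf_dvd_of_pow_eq_one ((ha.pow _).eq_one (pow_orderOf_eq_one _))) hco'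
    obtain ⟨χ, hχ, hχP, hχw⟩ := exists_cent_ext hPT hwc haE
    have hVW : P ⊔ Subgroup.zpowers w ≤ W := sup_le hPW (Subgroup.zpowers_le.2 hwW)
    have hVN := hVW.trans hWN
    have hχN : ∀ v, χ v ∈ normalizerIn S P := fun v => by
      refine (range_zpowers_le χ (fun x => ?_) ?_) ⟨v, rfl⟩
      · rw [hχP]; exact hPN (a x).2
      · rw [hχw]; exact hWN hwW
    have h1 : η.comp (χ.codRestrict _ hχN) ∈ F.Hom _ := F.comp_mem hχ hη hχN
    let χ₂ := (η.comp ((Subgroup.inclusion hWN).comp (k : MulAut W).toMonoidHom)).comp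
      (Subgroup.inclusion hVW)
    have h2 : χ₂ ∈ F.Hom _ := restrict_mem (F.comp_mem ((autGroup_carrier hWS).1 k.2) hη
      fun x => hWN ((k : MulAut W) x).2) hVW
    have hag : ∀ x : P, η.comp (χ.codRestrict _ hχN) (Subgroup.inclusion le_sup_left x) =
        χ₂ (Subgroup.inclusion le_sup_left x) := fun x =>
      apply_congr η ((hχP x).trans (ha x).symm)
    have hQm : (P.subgroupOf (P ⊔ Subgroup.zpowers w)).map (η.comp (χ.codRestrict _ hχN)) = Q := by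
      ext z
      rw [mem_map_subgroupOf]
      constructor
      · rintro ⟨x, hx, hxP, rfl⟩
        exact Set.mem_of_eq_of_mem ((apply_congr η (y := Subgroup.inclusion hPN (a ⟨x, hxP⟩))
          (hχP ⟨x, hxP⟩)).trans (he _).symm) (e _).2
      · intro hz
        obtain ⟨x, hx⟩ := (a.trans e).surjective ⟨z, hz⟩
        refine ⟨x, Subgroup.mem_sup_left x.2, x.2, ?_⟩
        rw [show z = ((e (a x) : Q) : Ω) from (congrArg Subtype.val hx).symm, he]
        exact apply_congr η (hχP x)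
    have hd := div_mem_focal hQc.1 le_sup_left h1 h2 hQm hag
      (v := ⟨w, Subgroup.mem_sup_right (Subgroup.mem_zpowers w)⟩) (centralizerIn_anti hPT hwc.1)
    set z : P := ⟨_, hk1 ⟨w, hwW⟩⟩ with hz
    have hze : (e z : Ω) = (η.comp (χ.codRestrict _ hχN)
        ⟨w, Subgroup.mem_sup_right (Subgroup.mem_zpowers w)⟩)⁻¹ *
        χ₂ ⟨w, Subgroup.mem_sup_right (Subgroup.mem_zpowers w)⟩ := by
      rw [he, ← map_inv]
      show _ = η _ * η _
      rw [← map_mul]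
      refine apply_congr η ?_
      simp only [map_inv, Subgroup.coe_mul, InvMemClass.coe_inv]
      show w⁻¹ * (((k : MulAut W) ⟨w, hwW⟩ : W) : Ω) =
        (χ ⟨w, Subgroup.mem_sup_right (Subgroup.mem_zpowers w)⟩)⁻¹ *
          (((k : MulAut W) ⟨w, hwW⟩ : W) : Ω)
      rw [hχw]
    rw [← hze] at hd
    obtain ⟨β, hβ, -, hβa, hβf⟩ := exists_fix_coprime p hS hF hQc ham
      (by rwa [MulEquiv.orderOf_eq])
    have h3 := (hβa (e z)).symm.trans (congrArg Subtype.val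
      (hβf (Subgroup.inclusion le_sup_left (e z)) hd))
    have haz : a z = z := by
      have h4 : MulAut.congr e a (e z) = e z := Subtype.ext h3
      simpa using h4
    refine aut_eq_one_of_displacement (isPGroup_of_le hS hWS) hco' (Subtype.ext ?_)
    have h5 := ha z
    rw [haz] at h5
    exact h5
  -- Frattini argument
  obtain ⟨Sy, hSy⟩ := g₁.2
  obtain ⟨RM, hRM⟩ := exists_sylow_inf K Sy
  let D : Set G := {k | k ∈ K ∧ (orderOf k).Coprime p}
  let K₀ : Subgroup G := Subgroup.normalClosure D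
  have hK₀ : ∀ k ∈ K₀, (k : MulAut W) ⟨w, hwW⟩ = ⟨w, hwW⟩ := by
    intro k hk
    induction hk using Subgroup.closure_induction with
    | mem k hk =>
      obtain ⟨b, ⟨hbK, hbco⟩, hbk⟩ := Group.mem_conjugatesOfSet_iff.1 hk
      obtain ⟨g, rfl⟩ := isConj_iff.1 hbk
      refine hfix _ (Subgroup.normalClosure_normal.conj_mem _ hbK g) ?_
      rwa [show g * b * g⁻¹ = MulAut.conj g b from rfl, MulEquiv.orderOf_eq]
    | one => rfl
    | mul k l _ _ hk hl =>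
      show (k : MulAut W) ((l : MulAut W) _) = _
      rw [hl, hk]
    | inv k _ hk =>
      show (k : MulAut W)⁻¹ _ = _
      conv_lhs => rw [← hk]
      rw [MulAut.inv_apply_self]
  set Nn := Subgroup.normalizer (((RM : Subgroup K).map K.subtype : Subgroup G) : Set G) with hNn
  have htop : Nn ⊔ K₀ = ⊤ := by
    refine top_le_iff.1 ?_
    rw [← Sylow.normalizer_sup_eq_top RM]
    refine sup_le le_sup_left ?_
    have hle : (⊤ : Subgroup K) ≤ (Nn ⊔ K₀).subgroupOf K := by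
      refine le_of_sylow_coprime p RM le_top (fun a ha => ?_) fun a _ hco => ?_
      · exact Subgroup.mem_subgroupOf.2
          (Subgroup.mem_sup_left (Subgroup.le_normalizer ⟨a, ha, rfl⟩))
      · exact Subgroup.mem_subgroupOf.2 (Subgroup.mem_sup_right (Subgroup.subset_normalClosure
          ⟨a.2, by rwa [Subgroup.orderOf_coe]⟩))
    exact fun x hx => Subgroup.mem_subgroupOf.1 (hle (Subgroup.mem_top ⟨x, hx⟩))
  obtain ⟨n, hn', k₀, hk₀, hnk⟩ : ∃ n ∈ Nn, ∃ k₀ ∈ K₀, n * k₀ = (⟨c, hc⟩ : G) :=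
    Subgroup.mem_sup_of_normal_right.1 (htop.ge (Subgroup.mem_top _))
  have hcw : c ⟨w, hwW⟩ = (n : MulAut W) ⟨w, hwW⟩ := by
    rw [show c = (n : MulAut W) * (k₀ : MulAut W) from (congrArg Subtype.val hnk).symm,
      MulAut.mul_apply, hK₀ k₀ hk₀]
  rw [hcw]
  have htW : t ∈ Subgroup.normalizer (W : Set Ω) := htN.2
  let a₀ := conjAut S W ⟨t, hTS htT, htW⟩
  have ha₀ : ∀ x : W, ((a₀ x : W) : Ω) = t * x * t⁻¹ := fun x => rfl
  have ha₀G : a₀ ∈ G := autInducedBy_le_autGroup hWS (mem_autInducedBy.2 ⟨t, hTS htT, ha₀⟩)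
  have ha₀K : (⟨a₀, ha₀G⟩ : G) ∈ K := Subgroup.subset_normalClosure
    (Subgroup.mem_subgroupOf.2 (mem_autInducedBy.2 ⟨t, htT, ha₀⟩))
  have ha₀R : (⟨⟨a₀, ha₀G⟩, ha₀K⟩ : K) ∈ (RM : Subgroup K) := by
    rw [hRM, Subgroup.mem_subgroupOf, hSy, Subgroup.mem_subgroupOf]
    exact mem_autInducedBy.2 ⟨t, hTS htT, ha₀⟩
  obtain ⟨r, hr, hre⟩ := (Subgroup.mem_normalizer_iff.1 hn' ⟨a₀, ha₀G⟩).1 ⟨_, ha₀R, rfl⟩
  have hrS : (r : G) ∈ (Sy : Subgroup G) := by rw [hRM] at hr; exact hr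
  rw [show (r : G) = n * ⟨a₀, ha₀G⟩ * n⁻¹ from hre, hSy, Subgroup.mem_subgroupOf] at hrS
  obtain ⟨h, hh, hhx⟩ := mem_autInducedBy.1 hrS
  refine hext_case _ n.2 t (mem_extender_of htN hh fun x hx => ?_) htT htP
  show ((((n : MulAut W) ⟨t * x * t⁻¹, hx⟩) : W) : Ω) = h * (((n : MulAut W) x : W) : Ω) * h⁻¹
  rw [← hhx ((n : MulAut W) x), show (⟨t * x * t⁻¹, hx⟩ : W) = a₀ x from Subtype.ext rfl]
  simp

end CfsgLib.NormCent
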