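import Cfsg.Agent.Fusion.PrimeLoop

/-!
The maps of value `1` form a normal subsystem over `S` of index prime to `p`.
-/

set_option autoImplicit false

open Cfsg Cfsg.FusionSystem

namespace CfsgLib.Fusion

variable {Ω : Type*} [Group Ω] {S : Subgroup Ω} [Finite S] (p : ℕ) [Fact p.Prime]
  (hS : IsPGroup p S) {F : FusionSystem S} (hF : F.IsSaturated p) {Δ : Type*} [Group Δ]
  {v : ∀ P : Subgroup Ω, (P →* Ω) → Δ} (hv : IsVal F F.IsCentric v)

theorem valKernel_sub : (valKernel hv).IsSubsystemOf F := fun _ _ h => h.mem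

include hS hF in
theorem valKernel_primeToP :
    (valKernel hv).HasPrimeToPIndexIn F p ∧
      (∀ (P : Subgroup Ω) (φ : P →* Ω), φ ∈ F.Hom P → ∃ α ∈ F.autGroup S,
        ∃ φ₀ ∈ (valKernel hv).Hom P, ∀ (x : P) (hx : φ₀ x ∈ S),
          φ x = ((α ⟨φ₀ x, hx⟩ : S) : Ω)) ∧
      ∀ P : Subgroup Ω, (valKernel hv).IsCentric P ↔ F.IsCentric P := by
  refine primeToP_of_centric p hS hF (valKernel_sub hv) fun P hP => ?_
  rw [MonoidHom.map_closure, Subgroup.closure_le]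
  rintro _ ⟨α, ⟨k, hk⟩, rfl⟩
  exact (autGroup_carrier hP.1).2 (valRel_pElement p hF hv hS hP.1 α.2
    ⟨k, congrArg Subtype.val (orderOf_dvd_iff_pow_eq_one.1 hk.dvd)⟩)

/-- Membership on centric subgroups. -/
theorem mem_valKernel_iff {P : Subgroup Ω} (hP : F.IsCentric P) {φ : P →* Ω} :
    φ ∈ (valKernel hv).Hom P ↔ φ ∈ F.Hom P ∧ v P φ = 1 := by
  refine ⟨fun h => ⟨h.mem, (ValRel.eq_of_centric hv h hP).symm⟩, fun ⟨h, h1⟩ => ?_⟩
  show ValRel F v P φ 1
  rw [← h1]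
  exact .base le_rfl hP h fun _ => rfl

include hS hF in
theorem valKernel_receptive {Q : Subgroup Ω} (hQ : (valKernel hv).IsFullyNormalized Q) :
    (valKernel hv).IsReceptive Q := by
  have hQS := hQ.1
  -- `Q` is fully normalized in `F`
  have hQn : F.IsFullyNormalized Q := by
    refine ⟨hQS, ?_⟩
    rintro _ ⟨φ, hφ, rfl⟩
    obtain ⟨α, hα, φ₀, hφ₀, he⟩ := (valKernel_primeToP p hS hF hv).2.1 Q φ hφ
    refine le_trans ?_ (hQ.2 _ ⟨φ₀, hφ₀, rfl⟩)
    have hαi : S.subtype.comp (α⁻¹ : MulAut S).toMonoidHom ∈ F.Hom S :=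
      (autGroup_carrier le_rfl).1 (inv_mem hα)
    have hmap : (φ.range.subgroupOf S).map (S.subtype.comp (α⁻¹ : MulAut S).toMonoidHom) =
        φ₀.range := by
      have key : ∀ (x : Q) (hx : φ x ∈ S),
          (((α⁻¹ : MulAut S) ⟨φ x, hx⟩ : S) : Ω) = φ₀ x := fun x hx => by
        rw [show (⟨φ x, hx⟩ : S) = α ⟨φ₀ x, apply_mem_S hφ₀.mem x⟩ from Subtype.ext (he x _),
          MulAut.inv_apply_self]
      ext y
      rw [mem_map_subgroupOf]
      constructor
      · rintro ⟨_, hx, ⟨z, rfl⟩, rfl⟩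
        exact ⟨z, (key z hx).symm⟩
      · rintro ⟨z, rfl⟩
        exact ⟨φ z, apply_mem_S hφ z, ⟨z, rfl⟩, key z _⟩
    refine (card_le_card_map (normalizerIn_le_S _) (F.injective_of_mem hαi)
      (normalizerIn_le_S (S := S) φ.range) fun g hg => ?_).1
    have := map_mem_normalizerIn hαi (range_le_S hφ) hg hg.1
    rwa [hmap] at this
  obtain ⟨-, hrec⟩ := good_of_fullyNormalized p hS hF hQn
  have hQc := fullyCentralized_of_fullyNormalized p hS hF hQn
  set C := centralizerIn S Q with hCd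
  refine ⟨hQS, fun R φ hφ hφr => ?_⟩
  obtain ⟨ψ, hψ, hψe⟩ := hrec.2 R φ hφ.mem hφr
  obtain ⟨t, ht⟩ := exists_valRel p hS hF hv hψ
  have hRE : R ≤ extender S R φ := le_extender hφ.mem
  obtain ⟨φi, -, hφir, hφi1, hφi2⟩ := exists_inv hφ.mem hφr
  have hid : ValRel F v Q Q.subtype t := by
    have h1 : ValRel F v R φ t := ht.restrict hRE fun x => (hψe x x.2 _).symm
    have h2 := ValRel.comp (χ := Q.subtype) (fun y => hφir.le ⟨y, rfl⟩)
      (hφ.inverse hv hφr hφi1) h1 fun y => (hφi2 y _).symm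
    rwa [inv_one, mul_one] at h2
  obtain ⟨f, hf, hffix, hfv⟩ := fixVal_loop p hS hF hv hQc hid
  have hψN : ∀ x, ψ x ∈ normalizerIn S Q := by
    intro x
    have h1 := map_mem_normalizerIn hψ hRE (extender_le_normalizerIn R φ x.2) x.2
    rwa [map_eq_range_of_eq hRE fun z hz hzN => hψe z hz hzN, hφr] at h1
  have hMN : ψ.range ⊔ C ≤ normalizerIn S Q := by
    refine sup_le ?_ (centralizerIn_le_normalizerIn Q)
    rintro _ ⟨x, rfl⟩
    exact hψN x
  have hQψ : Q ≤ ψ.range := by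
    intro y hy
    obtain ⟨x, rfl⟩ := hφr.ge hy
    exact ⟨⟨x, hRE x.2⟩, hψe x x.2 _⟩
  have hAM : Q ⊔ C ≤ ψ.range ⊔ C := sup_le_sup_right hQψ _
  have hfA : ∀ y, f y ∈ ψ.range ⊔ C := fun y => hAM <| map_sup_centralizer_mem hf le_sup_left (by
    ext z
    rw [mem_map_subgroupOf]
    exact ⟨fun ⟨q, _, hqQ, hqe⟩ => hqe ▸ Set.mem_of_eq_of_mem (hffix ⟨q, hqQ⟩) hqQ,
      fun hz => ⟨z, le_sup_left (b := C) hz, hz, hffix ⟨z, hz⟩⟩⟩) y.2 le_sup_right
  obtain ⟨α, hα, hαr, hαfix, f₀, hf₀, hf₀M, hfe⟩ := exists_factor_fix p hS hF hv hQc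
    (hMN.trans (normalizerIn_le_S Q)) (hMN.trans inf_le_right) le_sup_right
    (hQψ.trans le_sup_left) hf le_sup_left hAM hfA hffix
  have hA := isCentric_sup_centralizer hQc
  have hM : F.IsCentric (ψ.range ⊔ C) := isCentric_mono hA hAM (le_of_mem_hom hα)
  have hαv : v _ α = t := by
    have := ValRel.comp hf₀M hf₀
      (.base le_rfl hM hα fun _ => rfl : ValRel F v _ α (v _ α)) hfe
    rw [mul_one] at this
    rw [ValRel.eq_of_centric hv this hA, hfv]
  obtain ⟨α', hα', -, hα'1, -⟩ := exists_inv hα hαr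
  have hψM : ∀ x, ψ x ∈ ψ.range ⊔ C := fun x => Subgroup.mem_sup_left ⟨x, rfl⟩
  refine ⟨α'.comp (ψ.codRestrict _ hψM), ?_, fun x hx hxN => ?_⟩
  · show ValRel F v _ _ 1
    have h1 := ValRel.comp (χ := α'.comp (ψ.codRestrict _ hψM)) hψM ht
      (.base le_rfl hM hα' fun _ => rfl : ValRel F v _ α' (v _ α')) fun _ => rfl
    rwa [hv.inv hM hα hα' (fun y => hαr.le ⟨y, rfl⟩) fun y => hα'1 y _, hαv, inv_mul_cancel]
      at h1
  · have hy : φ ⟨x, hx⟩ ∈ Q := hφr.le ⟨_, rfl⟩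
    refine Eq.trans ?_ (hα'1 ⟨φ ⟨x, hx⟩, (hQψ.trans le_sup_left) hy⟩ (hαr.le ⟨_, rfl⟩))
    refine apply_congr α' ?_
    exact (hψe x hx hxN).trans (hαfix ⟨_, hy⟩).symm

include hS hF in
theorem valKernel_saturated : (valKernel hv).IsSaturated p := by
  refine isSaturated_of_fn p hS ?_ fun Q hQ => valKernel_receptive p hS hF hv hQ
  obtain ⟨⟨-, R, hR⟩, -⟩ := good_of_fullyNormalized p hS hF (isFullyNormalized_S (F := F))
  refine ⟨le_rfl, ?_⟩
  have hle : (valKernel hv).autGroup S ≤ F.autGroup S := autGroup_mono' (valKernel_sub hv) S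
  let ι := Subgroup.inclusion hle
  have hR' : (autInducedBy S S).subgroupOf ((valKernel hv).autGroup S) =
      (R : Subgroup (F.autGroup S)).comap ι := by
    rw [hR]; rfl
  have hle' : autInducedBy S S ≤ (valKernel hv).autGroup S := autInducedBy_le_autGroup le_rfl
  refine ⟨R.comapOfInjective ι (Subgroup.inclusion_injective hle) ?_, ?_⟩
  · intro x hx
    rw [hR] at hx
    exact ⟨⟨x, hle' hx⟩, rfl⟩
  · exact hR'.symm

include hS hF in
theorem valKernel_normal : (valKernel hv).IsNormalIn F p := by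
  refine ⟨⟨valKernel_saturated p hS hF hv, hF, valKernel_sub hv,
    ⟨le_rfl, fun R _ φ hφ x => apply_mem_S hφ x⟩, ?_, fun P _ φ hφ =>
      (valKernel_primeToP p hS hF hv).2.1 P φ hφ⟩, ?_⟩
  · intro P hPT φ hφ α hα
    have hαF := (autGroup_carrier le_rfl).1 hα
    have ha := restrict_mem hαF hPT
    obtain ⟨a, hat⟩ := exists_valRel p hS hF hv hαF
    obtain ⟨b, hb, hbr, hb1, -⟩ := exists_inv ha (range_restrict _ hPT)
    have hbP : ∀ y, b y ∈ P := fun y => hbr.le ⟨y, rfl⟩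
    have h1 : ValRel F v _ b a⁻¹ :=
      (hat.restrict hPT (χ := _) fun _ => rfl).inverse hv (range_restrict _ hPT) hb1
    have h2 := ValRel.comp (χ := φ.comp (b.codRestrict P hbP)) hbP h1 hφ fun _ => rfl
    have h3 := ValRel.comp (χ := (S.subtype.comp α.toMonoidHom).comp
        ((φ.comp (b.codRestrict P hbP)).codRestrict S fun y => apply_mem_S hφ.mem _))
      (fun y => apply_mem_S hφ.mem _) h2 hat fun _ => rfl
    rw [one_mul, mul_inv_cancel] at h3
    refine ⟨_, h3, fun x hφx hαx => ?_⟩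
    show ((α ⟨φ ⟨b ⟨_, hαx⟩, _⟩, _⟩ : S) : Ω) = _
    exact congrArg (fun z : S => ((α z : S) : Ω))
      (Subtype.ext (apply_congr φ (hb1 x hαx)))
  · intro α hα
    have hαF : α ∈ F.autGroup S := autGroup_mono' (valKernel_sub hv) S hα
    have hle : S ⊔ centralizerIn S S ≤ S := sup_le le_rfl (centralizerIn_le_S S)
    have hf : ((S.subtype.comp α.toMonoidHom).comp (Subgroup.inclusion hle)) ∈
        F.Hom (S ⊔ centralizerIn S S) := restrict_mem ((autGroup_carrier le_rfl).1 hαF) hle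
    have hr : ((S.subtype.comp α.toMonoidHom).comp (Subgroup.inclusion hle)).range =
        S ⊔ centralizerIn S S :=
      eq_of_le_of_card_le (sup_le le_rfl (centralizerIn_le_S S))
        ((range_le_S hf).trans le_sup_left) (card_range hf).ge
    refine ⟨autOfRange _ (F.injective_of_mem hf) hr, autOfRange_mem hf hr, fun x => rfl,
      fun c hc => ?_⟩
    show (c : Ω)⁻¹ * ((α ⟨c, hle c.2⟩ : S) : Ω) ∈ _
    have hcS : (c : Ω) ∈ S := hle c.2
    refine ⟨mul_mem (Subgroup.inv_mem _ hcS) (α _).2,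
      Subgroup.mul_mem _ (Subgroup.inv_mem _ hc.2) (Subgroup.mem_centralizer_iff.2 fun y hy => ?_)⟩
    obtain ⟨z, hz⟩ := α.surjective ⟨y, hy⟩
    have h1 : z * ⟨c, hcS⟩ = ⟨c, hcS⟩ * z := Subtype.ext (hc.2 z z.2)
    have h2 := congrArg (fun w : S => ((α w : S) : Ω)) h1
    simp only [map_mul, hz, Subgroup.coe_mul] at h2
    exact h2

end CfsgLib.Fusion
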