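import Cfsg.Prelude.Def_FusionComponents
import Cfsg.Agent.Fusion.PrimeKernel

/-!
A character of order prime to `p` on the automizer of a strongly closed subgroup, trivial on a normal
subsystem, gives a normal subsystem of index prime to `p`.
-/

set_option autoImplicit false

open Cfsg Cfsg.FusionSystem

namespace CfsgLib.Fusion

variable {Ω : Type*} [Group Ω] {S T : Subgroup Ω}

/-- The common maps of two systems, over the smaller subgroup. -/
def interSystem (E : FusionSystem T) (G : FusionSystem S) (hTS : T ≤ S) : FusionSystem T where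
  Hom P := E.Hom P ∩ G.Hom P
  le_of_mem h := E.le_of_mem h.1
  injective_of_mem h := E.injective_of_mem h.1
  conj_mem hP hg := ⟨E.conj_mem hP hg, G.conj_mem (hP.trans hTS) (hTS hg)⟩
  comp_mem hφ hψ h := ⟨E.comp_mem hφ.1 hψ.1 h, G.comp_mem hφ.2 hψ.2 h⟩
  inv_mem {P φ} hφ := by
    obtain ⟨ψ, hψ, h⟩ := E.inv_mem hφ.1
    obtain ⟨ψ', hψ', h'⟩ := G.inv_mem hφ.2
    have e : ψ' = ψ := MonoidHom.ext fun ⟨y, hy⟩ => by
      obtain ⟨x, rfl⟩ := hy
      exact (h' x).trans (h x).symm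
    exact ⟨ψ, ⟨hψ, e ▸ hψ'⟩, h⟩

/-- `Q ≤ T` contains `C_T` of each of its conjugates. -/
def SelfCentralizingIn (F : FusionSystem S) (T Q : Subgroup Ω) : Prop :=
  Q ≤ T ∧ ∀ Q' : Subgroup Ω, F.IsConj Q Q' → centralizerIn T Q' ≤ Q'

variable [Finite S] {F : FusionSystem S}

omit [Finite S] in
theorem SelfCentralizingIn.of_isConj (hT : F.StronglyClosed T) {Q Q' : Subgroup Ω}
    (h : SelfCentralizingIn F T Q) (hc : F.IsConj Q Q') : SelfCentralizingIn F T Q' := by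
  refine ⟨?_, fun R hR => h.2 R (isConj_trans hc hR)⟩
  obtain ⟨φ, hφ, rfl⟩ := hc
  rintro _ ⟨x, rfl⟩
  exact hT.2 Q h.1 φ hφ x

omit [Finite S] in
theorem SelfCentralizingIn.mono {Q R : Subgroup Ω} (h : SelfCentralizingIn F T Q) (hQR : Q ≤ R)
    (hRT : R ≤ T) : SelfCentralizingIn F T R := by
  refine ⟨hRT, ?_⟩
  rintro _ ⟨φ, hφ, rfl⟩ g hg
  refine (Subgroup.map_le_range φ (Q.subgroupOf R)) (h.2 _ (isConj_map hφ hQR) ?_)
  exact ⟨hg.1, fun x hx => hg.2 x (Subgroup.map_le_range _ _ hx)⟩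

theorem selfCentralizingIn_self (hT : F.StronglyClosed T) : SelfCentralizingIn F T T := by
  refine ⟨le_rfl, ?_⟩
  rintro _ ⟨φ, hφ, rfl⟩
  have : φ.range = T := (weaklyClosed_of_stronglyClosed hT).2 φ hφ
  rw [this]
  exact inf_le_left

theorem map_inf_stronglyClosed (hT : F.StronglyClosed T) {P : Subgroup Ω} {φ : P →* Ω}
    (hφ : φ ∈ F.Hom P) : ((P ⊓ T).subgroupOf P).map φ = φ.range ⊓ T := by
  obtain ⟨ψ, hψ, -, h1, -⟩ := exists_inv hφ rfl
  ext y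
  constructor
  · intro hy
    obtain ⟨x, hx, hxT, rfl⟩ := mem_map_subgroupOf.1 hy
    exact ⟨⟨_, rfl⟩, map_mem_of_stronglyClosed hT hφ (x := ⟨x, hx⟩) hxT.2⟩
  · rintro ⟨⟨x, rfl⟩, hy⟩
    refine mem_map_subgroupOf.2 ⟨x, x.2, ⟨x.2, ?_⟩, rfl⟩
    exact Set.mem_of_eq_of_mem (h1 x ⟨x, rfl⟩).symm
      (map_mem_of_stronglyClosed hT hψ (x := ⟨φ x, x, rfl⟩) hy)

variable {E : FusionSystem T} {Δ : Type*} [Group Δ] {χ : ↥(F.autGroup T) →* Δ}

/-- On `P ∩ T` the map `φ` is an element of `Aut_F(T)` of character `d` after a map of `E`. -/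
def CharRel (E : FusionSystem T) (χ : ↥(F.autGroup T) →* Δ) (P : Subgroup Ω) (φ : P →* Ω)
    (d : Δ) : Prop :=
  ∃ (α : F.autGroup T) (e : ↥(P ⊓ T) →* Ω), e ∈ E.Hom (P ⊓ T) ∧ χ α = d ∧
    ∀ (x : ↥(P ⊓ T)) (h1 : (x : Ω) ∈ P) (h2 : e x ∈ T),
      φ ⟨x, h1⟩ = (((α : MulAut T) ⟨e x, h2⟩ : T) : Ω)

omit [Finite S] in
theorem exists_charRel (hinv : E.IsInvariantIn F) {P : Subgroup Ω} {φ : P →* Ω}
    (hφ : φ ∈ F.Hom P) : ∃ d, CharRel E χ P φ d := by
  obtain ⟨α, hα, e, he, h⟩ := hinv.2.2.2 (P ⊓ T) inf_le_right _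
    (restrict_mem hφ (inf_le_left : P ⊓ T ≤ P))
  exact ⟨_, ⟨α, hα⟩, e, he, rfl, fun x h1 h2 => (apply_congr φ rfl).trans (h x h2)⟩

omit [Finite S] in
theorem charRel_of_restrict {P : Subgroup Ω} {φ : P →* Ω} (β : F.autGroup T)
    (h : ∀ (x : Ω) (h1 : x ∈ P) (h2 : x ∈ T),
      φ ⟨x, h1⟩ = (((β : MulAut T) ⟨x, h2⟩ : T) : Ω)) : CharRel E χ P φ (χ β) :=
  ⟨β, (P ⊓ T).subtype, subtype_mem inf_le_right, rfl, fun x h1 h2 => h x h1 h2⟩

omit [Finite S] in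
theorem charRel_comp (hinv : E.IsInvariantIn F) {P Q : Subgroup Ω} {φ : P →* Ω} {ψ : Q →* Ω}
    {ω : P →* Ω} {d d' : Δ} (hφ : φ ∈ F.Hom P) (h : ∀ x, φ x ∈ Q)
    (hω : ∀ x, ω x = ψ ⟨φ x, h x⟩) (h₁ : CharRel E χ P φ d) (h₂ : CharRel E χ Q ψ d') :
    CharRel E χ P ω (d' * d) := by
  obtain ⟨α, e, he, rfl, heq⟩ := h₁
  obtain ⟨β, f, hf, rfl, hfeq⟩ := h₂
  have hφT : ∀ x : ↥(P ⊓ T), φ ⟨x, x.2.1⟩ ∈ Q ⊓ T := fun x =>
    ⟨h _, map_mem_of_stronglyClosed hinv.2.1 hφ (x := ⟨x, x.2.1⟩) x.2.2⟩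
  obtain ⟨g, hg, hge⟩ := hinv.2.2.1 (Q ⊓ T) inf_le_right f hf _ (inv_mem α.2)
  have heT : ∀ x : ↥(P ⊓ T), e x ∈ T := fun x => apply_mem_S he x
  have hval : ∀ x : ↥(P ⊓ T),
      ((((α : MulAut T)⁻¹) ⟨φ ⟨x, x.2.1⟩, (hφT x).2⟩ : T) : Ω) = e x := fun x => by
    rw [show (⟨φ ⟨x, x.2.1⟩, (hφT x).2⟩ : T) = (α : MulAut T) ⟨e x, heT x⟩ from
      Subtype.ext (heq x x.2.1 _), MulAut.inv_apply_self]
  have hem : ∀ x : ↥(P ⊓ T), e x ∈
      ((Q ⊓ T).subgroupOf T).map (T.subtype.comp ((α : MulAut T)⁻¹).toMonoidHom) := fun x =>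
    ⟨⟨φ ⟨x, x.2.1⟩, (hφT x).2⟩, hφT x, hval x⟩
  refine ⟨β * α, g.comp (e.codRestrict _ hem), E.comp_mem he hg hem, map_mul χ β α,
    fun x h1 h2 => ?_⟩
  have hfT : f ⟨φ ⟨x, h1⟩, hφT x⟩ ∈ T := apply_mem_S hf _
  have h3 := hge ⟨φ ⟨x, h1⟩, hφT x⟩ hfT ⟨⟨φ ⟨x, h1⟩, (hφT x).2⟩, hφT x, rfl⟩
  have h4 : g ⟨e x, hem x⟩ = ((((α : MulAut T)⁻¹) ⟨_, hfT⟩ : T) : Ω) :=
    (apply_congr g (hval x).symm).trans h3
  refine ((hω _).trans (hfeq ⟨φ ⟨x, h1⟩, hφT x⟩ (h _) hfT)).trans ?_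
  refine congrArg (fun z : T => (((β : MulAut T) z : T) : Ω)) ?_
  rw [show (⟨_, h2⟩ : T) = (α : MulAut T)⁻¹ ⟨_, hfT⟩ from Subtype.ext h4]
  exact (MulAut.apply_inv_self T _ _).symm

omit [Finite S] in
theorem charRel_one {P : Subgroup Ω} : CharRel E χ P P.subtype 1 := by
  have h := charRel_of_restrict (E := E) (χ := χ) (P := P) (φ := P.subtype) 1 fun x _ _ => rfl
  rwa [map_one] at h

omit [Finite S] in
theorem eq_one_of_coprime {p : ℕ} [Finite Δ] (hΔ : (Nat.card Δ).Coprime p) {x : Δ} {k : ℕ}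
    (h : x ^ p ^ k = 1) : x = 1 :=
  orderOf_eq_one_iff.1 (Nat.eq_one_of_dvd_coprimes (hΔ.pow_right k) (orderOf_dvd_natCard x)
    (orderOf_dvd_of_pow_eq_one h))

variable (p : ℕ) [Fact p.Prime] (hS : IsPGroup p S) (hF : F.IsSaturated p)
  (hEs : E.IsSaturated p) (hinv : E.IsInvariantIn F) [Finite Δ] (hΔ : (Nat.card Δ).Coprime p)
  (hker : (E.autGroup T).subgroupOf (F.autGroup T) ≤ χ.ker)

include hS hEs hinv hΔ hker in
/-- An element of `Aut_F(T)` that is a map of `E` on a self-centralizing subgroup has trivial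
character. -/
theorem char_eq_one_of_mem : ∀ {Q : Subgroup Ω}, SelfCentralizingIn F T Q →
    ∀ (β : F.autGroup T) (hQT : Q ≤ T),
      (T.subtype.comp (β : MulAut T).toMonoidHom).comp (Subgroup.inclusion hQT) ∈ E.Hom Q →
      χ β = 1 := by
  intro Q
  induction hn : Nat.card T - Nat.card Q using Nat.strong_induction_on generalizing Q with
  | _ n IH =>
  intro hQ β hQT hmem
  have hTS : T ≤ S := hinv.2.1.1
  have := finite_of_le hTS
  rcases hQT.eq_or_lt with heq | hlt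
  · exact hker ((autGroup_carrier le_rfl).2 (restrict_mem_of_eq hmem heq.ge fun x => rfl))
  have hTp : IsPGroup p T := isPGroup_of_le hS hTS
  set ε := (T.subtype.comp (β : MulAut T).toMonoidHom).comp (Subgroup.inclusion hQT) with hεd
  have hQ' : F.IsConj Q ε.range := ⟨ε, hinv.1 Q hmem, rfl⟩
  have hQ'c : SelfCentralizingIn F T ε.range := hQ.of_isConj hinv.2.1 hQ'
  have hEc : E.IsCentric ε.range :=
    ⟨hQ'c.1, fun R hR => hQ'c.2 R (isConj_of_subsystem hinv.1 hR)⟩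
  have hlt1 := lt_normalizerIn p hTp le_rfl hlt
  set N := normalizerIn T Q
  have hNT : N ≤ T := normalizerIn_le_S Q
  have hN : N ≤ extender T Q ε := by
    intro g hg
    refine mem_extender_of hg ((β : MulAut T) ⟨g, hNT hg⟩).2 fun x hx => ?_
    show (((β : MulAut T) ⟨g * x * g⁻¹, _⟩ : T) : Ω) = _
    rw [show (⟨g * (x : Ω) * g⁻¹, hQT hx⟩ : T) = ⟨g, hNT hg⟩ * ⟨x, hQT x.2⟩ * ⟨g, hNT hg⟩⁻¹ from
      rfl, map_mul, map_mul, map_inv]
    rfl
  obtain ⟨f, hf, hfe⟩ := saturated_extend p hTp hEs hmem (isFullyCentralized_of_centric hEc) hN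
  let βi : MulAut T := (β : MulAut T)⁻¹
  let γ₀ : N →* Ω := (T.subtype.comp βi.toMonoidHom).comp (f.codRestrict T fun x => apply_mem_S hf x)
  have hγ₀ : γ₀ ∈ F.Hom N :=
    F.comp_mem (hinv.1 N hf) ((autGroup_carrier hTS).1 (inv_mem β.2)) _
  have hγQ : ∀ (q : Ω) (hq : q ∈ Q) (hqN : q ∈ N), γ₀ ⟨q, hqN⟩ = q := by
    intro q hq hqN
    show ((βi ⟨f ⟨q, hqN⟩, _⟩ : T) : Ω) = q
    rw [show (⟨f ⟨q, hqN⟩, apply_mem_S hf _⟩ : T) = (β : MulAut T) ⟨q, hQT hq⟩ from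
      Subtype.ext (hfe q hq hqN), MulAut.inv_apply_self]
  have hγN : ∀ x, γ₀ x ∈ N := by
    intro x
    have hx : (x : Ω) ∈ normalizerIn S Q := ⟨hTS x.2.1, x.2.2⟩
    have h1 := map_mem_normalizerIn hγ₀ (le_normalizerIn hQT) hx x.2
    rw [show (Q.subgroupOf N).map γ₀ = Q from ?_] at h1
    · exact ⟨(βi _).2, h1.2⟩
    ext y
    rw [mem_map_subgroupOf]
    exact ⟨fun ⟨q, hqN, hqQ, hqe⟩ => hqe ▸ Set.mem_of_eq_of_mem (hγQ q hqQ hqN) hqQ,
      fun hy => ⟨y, le_normalizerIn hQT hy, hy, hγQ y hy _⟩⟩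
  have hγr : γ₀.range = N :=
    eq_of_le_of_card_le (hNT.trans hTS) (by rintro _ ⟨x, rfl⟩; exact hγN x) (card_range hγ₀).ge
  let γ := autOfRange γ₀ (F.injective_of_mem hγ₀) hγr
  have hfix : ∀ x : N, (x : Ω) ∈ Q → γ x = x := fun x hx => Subtype.ext (hγQ x hx x.2)
  have hlay : ∀ x : N, ((x⁻¹ * γ x : N) : Ω) ∈ Q := by
    intro x
    refine hQ.2 Q (isConj_refl (hQT.trans hTS)) ⟨hNT (x⁻¹ * γ x).2, fun q hq => ?_⟩
    have hxq : (x : Ω) * q * (x : Ω)⁻¹ ∈ Q := (Subgroup.mem_normalizer_iff.1 x.2.2 q).1 hq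
    have hqN : q ∈ N := le_normalizerIn hQT hq
    have h1 := hfix (x * ⟨q, hqN⟩ * x⁻¹) hxq
    rw [map_mul, map_mul, map_inv, hfix ⟨q, hqN⟩ hq] at h1
    have h2 : ((γ x : N) : Ω) * q * ((γ x : N) : Ω)⁻¹ = (x : Ω) * q * (x : Ω)⁻¹ :=
      congrArg Subtype.val h1
    show q * ((x : Ω)⁻¹ * ((γ x : N) : Ω)) = (x : Ω)⁻¹ * ((γ x : N) : Ω) * q
    generalize ((γ x : N) : Ω) = a at h2
    calc q * ((x : Ω)⁻¹ * a) = (x : Ω)⁻¹ * ((x : Ω) * q * (x : Ω)⁻¹) * a := by group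
      _ = (x : Ω)⁻¹ * (a * q * a⁻¹) * a := by rw [h2]
      _ = (x : Ω)⁻¹ * a * q := by group
  have hpow : γ ^ Nat.card Q = 1 := by
    refine MulEquiv.ext fun x => ?_
    have h1 := pow_mul_fix γ (B := ⊤) (C := Q.subgroupOf N) (N := 1) (fun y _ => hlay y)
      (fun y hy => Set.mem_of_eq_of_mem (hfix y hy) hy)
      (fun c hc => by rw [pow_one]; exact hfix c hc) x trivial
    rwa [one_mul, Nat.card_congr (Subgroup.subgroupOfEquivOfLe (le_normalizerIn hQT)).toEquiv]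
      at h1
  have hrel : CharRel E χ N γ₀ (χ β)⁻¹ := by
    refine ⟨β⁻¹, f.comp (Subgroup.inclusion (inf_le_left : N ⊓ T ≤ N)),
      restrict_mem hf inf_le_left, map_inv χ β, fun x h1 h2 => rfl⟩
  have hpows : ∀ i : ℕ, CharRel E χ N (N.subtype.comp (γ ^ i).toMonoidHom) ((χ β)⁻¹ ^ i) := by
    intro i
    induction i with
    | zero =>
      rw [pow_zero, pow_zero]
      exact charRel_one
    | succ i ih =>
      rw [pow_succ' _ i, pow_succ' ((χ β)⁻¹) i]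
      refine charRel_comp hinv ?_ (fun x => ((γ ^ i) x).2) (fun x => ?_) ih hrel
      · exact (autGroup_carrier (hNT.trans hTS)).1 (pow_mem (autOfRange_mem hγ₀ hγr) i)
      · rw [MonoidHom.comp_apply]
        exact apply_congr γ₀ rfl
  obtain ⟨α, e, he, hχα, hαe⟩ := hpows (Nat.card Q)
  rw [hpow] at hαe
  have hinf : N ⊓ T = N := inf_eq_left.2 hNT
  -- the subgroup `e(N)` is again self-centralizing and bigger
  have hNc : SelfCentralizingIn F T N := hQ.mono (le_normalizerIn hQT) hNT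
  have heN : F.IsConj N e.range :=
    ⟨e.comp (Subgroup.inclusion hinf.ge), restrict_mem (hinv.1 _ he) hinf.ge, by
      ext y
      constructor
      · rintro ⟨x, rfl⟩; exact ⟨_, rfl⟩
      · rintro ⟨x, rfl⟩; exact ⟨⟨x, x.2.1⟩, apply_congr e rfl⟩⟩
  obtain ⟨ei, hei, -, hei1, -⟩ := exists_inv he rfl
  have heT : e.range ≤ T := (hNc.of_isConj hinv.2.1 heN).1
  have hαE : (T.subtype.comp (α : MulAut T).toMonoidHom).comp (Subgroup.inclusion heT) ∈
      E.Hom e.range := by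
    refine restrict_mem_of_eq hei le_rfl ?_
    rintro ⟨_, x, rfl⟩
    refine Eq.trans ?_ (hei1 x _).symm
    exact (hαe x x.2.1 (heT ⟨x, rfl⟩)).symm
  have hcard : Nat.card e.range = Nat.card N := IsConj.card_eq heN
  have hc1 : Nat.card Q < Nat.card N := lt_of_not_ge fun h =>
    hlt1.ne (eq_of_le_of_card_le (hNT.trans hTS) hlt1.le h)
  have hc2 : Nat.card N ≤ Nat.card T := card_le_of_le hTS hNT
  have hα1 := IH (Nat.card T - Nat.card e.range) (by omega) rfl (hNc.of_isConj hinv.2.1 heN) α heT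
    hαE
  have := finite_of_le (hQT.trans hTS)
  obtain ⟨k, hk⟩ := IsPGroup.iff_card.1 (isPGroup_of_le hS (hQT.trans hTS))
  have hfin : (χ β)⁻¹ ^ p ^ k = 1 := by rw [← hk, ← hχα, hα1]
  exact inv_eq_one.1 (eq_one_of_coprime hΔ hfin)

include hS hEs hinv hΔ hker in
theorem charRel_unique {P : Subgroup Ω} {φ : P →* Ω} (hc : SelfCentralizingIn F T (P ⊓ T))
    {d d' : Δ} (h : CharRel E χ P φ d) (h' : CharRel E χ P φ d') : d = d' := by
  obtain ⟨α₁, e₁, he₁, rfl, h₁⟩ := h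
  obtain ⟨α₂, e₂, he₂, rfl, h₂⟩ := h'
  have hc₁ : SelfCentralizingIn F T e₁.range := hc.of_isConj hinv.2.1 ⟨e₁, hinv.1 _ he₁, rfl⟩
  obtain ⟨ei, hei, heir, hei1, -⟩ := exists_inv he₁ rfl
  have hmem : (T.subtype.comp ((α₂⁻¹ * α₁ : F.autGroup T) : MulAut T).toMonoidHom).comp
      (Subgroup.inclusion hc₁.1) ∈ E.Hom e₁.range := by
    refine comp_mem_of_eq hei he₂ (fun y => heir.le ⟨y, rfl⟩) ?_
    rintro ⟨_, x, rfl⟩
    refine Eq.trans ?_ (apply_congr e₂ (hei1 x _)).symm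
    show ((((α₂ : MulAut T)⁻¹) ((α₁ : MulAut T) ⟨e₁ x, _⟩) : T) : Ω) = e₂ x
    rw [show (α₁ : MulAut T) ⟨e₁ x, apply_mem_S he₁ x⟩ = (α₂ : MulAut T) ⟨e₂ x, apply_mem_S he₂ x⟩
      from Subtype.ext ((h₁ x x.2.1 _).symm.trans (h₂ x x.2.1 _)), MulAut.inv_apply_self]
  have h := char_eq_one_of_mem p hS hEs hinv hΔ hker hc₁ _ hc₁.1 hmem
  rw [map_mul, map_inv, inv_mul_eq_one] at h
  exact h.symm

/-- The character of a map. -/
noncomputable def charVal (E : FusionSystem T) (χ : ↥(F.autGroup T) →* Δ) (P : Subgroup Ω)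
    (φ : P →* Ω) : Δ :=
  Classical.epsilon (CharRel E χ P φ)

include hS hEs hinv hΔ hker in
theorem charVal_eq {P : Subgroup Ω} {φ : P →* Ω} (hc : SelfCentralizingIn F T (P ⊓ T))
    {d : Δ} (h : CharRel E χ P φ d) : charVal E χ P φ = d :=
  charRel_unique p hS hEs hinv hΔ hker hc (Classical.epsilon_spec ⟨d, h⟩) h

include hS hEs hinv hΔ hker in
theorem isVal_charVal :
    IsVal F (fun P => P ≤ S ∧ SelfCentralizingIn F T (P ⊓ T)) (charVal E χ) := by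
  have hTS : T ≤ S := hinv.2.1.1
  have hconj : ∀ {P Q : Subgroup Ω}, SelfCentralizingIn F T (P ⊓ T) → F.IsConj P Q →
      SelfCentralizingIn F T (Q ⊓ T) := by
    rintro P _ hP ⟨φ, hφ, rfl⟩
    exact hP.of_isConj hinv.2.1 (map_inf_stronglyClosed hinv.2.1 hφ ▸ isConj_map hφ inf_le_left)
  refine ⟨fun h => h.1, ⟨le_rfl, ?_⟩, fun h hc => ⟨IsConj.le_right hc, hconj h.2 hc⟩,
    fun h hle hQ => ⟨hQ, h.2.mono (inf_le_inf_right _ hle) inf_le_right⟩, ?_, ?_⟩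
  · rw [inf_eq_right.2 hTS]
    exact selfCentralizingIn_self hinv.2.1
  · intro P Q φ ψ ω hP hφ hψ h hω
    obtain ⟨d, hd⟩ := exists_charRel (χ := χ) hinv hφ
    obtain ⟨d', hd'⟩ := exists_charRel (χ := χ) hinv hψ
    have hQ : SelfCentralizingIn F T (Q ⊓ T) := (hconj hP.2 ⟨φ, hφ, rfl⟩).mono
      (inf_le_inf_right _ (by rintro _ ⟨x, rfl⟩; exact h x)) inf_le_right
    rw [charVal_eq p hS hEs hinv hΔ hker hP.2 hd, charVal_eq p hS hEs hinv hΔ hker hQ hd',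
      charVal_eq p hS hEs hinv hΔ hker hP.2 (charRel_comp hinv hφ h hω hd hd')]
  · intro s hs
    have hsT : s ∈ Subgroup.normalizer (T : Set Ω) := stronglyClosed_normal_in_S hinv.2.1 hs
    let β : F.autGroup T := ⟨conjAut S T ⟨s, hs, hsT⟩,
      autInducedBy_le_autGroup hTS (mem_autInducedBy.2 ⟨s, hs, fun _ => rfl⟩)⟩
    have hc : SelfCentralizingIn F T (S ⊓ T) := by
      rw [inf_eq_right.2 hTS]
      exact selfCentralizingIn_self hinv.2.1
    rw [charVal_eq p hS hEs hinv hΔ hker hc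
      (charRel_of_restrict (P := S) (φ := conjHom S s) β fun x _ _ => rfl)]
    obtain ⟨k, hk⟩ := hS ⟨s, hs⟩
    refine eq_one_of_coprime hΔ (k := k) ?_
    rw [← map_pow, show β ^ p ^ k = 1 from Subtype.ext ?_, map_one]
    show (conjAut S T ⟨s, hs, hsT⟩) ^ p ^ k = 1
    rw [← map_pow, show (⟨s, hs, hsT⟩ : ↥(S ⊓ Subgroup.normalizer (T : Set Ω))) ^ p ^ k = 1 from
      Subtype.ext (congrArg Subtype.val hk :), map_one]

omit [Finite Δ] in
include hS hF hinv in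
/-- A fully normalized centric radical subgroup meets `T` in a self-centralizing subgroup. -/
theorem selfCentralizing_of_radical {P : Subgroup Ω} (hc : F.IsCentric P)
    (hr : F.IsRadical p P) : SelfCentralizingIn F T (P ⊓ T) := by
  have hT := hinv.2.1
  have hPS := hc.1
  have hQS : P ⊓ T ≤ S := inf_le_left.trans hPS
  obtain ⟨Q₁, hQQ₁, hQ₁n⟩ := exists_fullyNormalized F hQS
  obtain ⟨h₁, h₂⟩ := good_of_fullyNormalized p hS hF hQ₁n
  obtain ⟨w, hw, hwN, hwm⟩ := exists_map_normalizer p hS h₁ h₂ hQQ₁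
  have hQ₁T : Q₁ ≤ T := by
    obtain ⟨φ, hφ, rfl⟩ := hQQ₁
    rintro _ ⟨x, rfl⟩
    exact hT.2 _ inf_le_right φ hφ x
  have hTn : ∀ x ∈ S, x ∈ Subgroup.normalizer (T : Set Ω) := fun x hx =>
    stronglyClosed_normal_in_S hT hx
  have hPN : P ≤ normalizerIn S (P ⊓ T) := fun x hx => ⟨hPS hx,
    mem_normalizer_of_conj_mem hQS fun y hy => ⟨P.mul_mem (P.mul_mem hx hy.1) (P.inv_mem hx),
      (Subgroup.mem_normalizer_iff.1 (hTn x (hPS hx)) y).1 hy.2⟩⟩
  let b := w.comp (Subgroup.inclusion hPN)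
  have hb : b ∈ F.Hom P := restrict_mem hw hPN
  obtain ⟨P₁, hP₁d⟩ : ∃ P₁ : Subgroup Ω, P₁ = b.range := ⟨_, rfl⟩
  obtain ⟨ρ, hρ, hρr, hρ1, hρ2⟩ := exists_inv hb hP₁d.symm
  have hbm : ∀ x, b x ∈ P₁ := fun x => hP₁d.ge ⟨x, rfl⟩
  have hP₁c : F.IsCentric P₁ := isCentric_of_isConj hc ⟨b, hb, hP₁d.symm⟩
  have hP₁T : P₁ ⊓ T = Q₁ := by
    rw [hP₁d, ← map_inf_stronglyClosed hT hb, ← hwm]
    exact map_subgroupOf_congr inf_le_left (inf_le_left.trans hPN) fun x hx => rfl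
  -- the elements of `T` centralizing `Q₁` lie in `P₁`
  have key : centralizerIn T Q₁ ≤ P₁ := by
    refine le_of_normalizer_le p hS hP₁c.1 (inf_le_left.trans hT.1) ?_ ?_
    · intro x hx
      have hxN : x ∈ normalizerIn S Q₁ := by
        obtain ⟨y, rfl⟩ := hP₁d.le hx
        exact hwN _
      refine mem_normalizer_of_conj_mem (inf_le_left.trans hT.1) fun c hc' => ?_
      refine ⟨(Subgroup.mem_normalizer_iff.1 (hTn x hxN.1) c).1 hc'.1, fun q hq => ?_⟩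
      have hq' : x⁻¹ * q * x ∈ Q₁ := (Subgroup.mem_normalizer_iff''.1 hxN.2 q).1 hq
      have h3 := hc'.2 _ hq'
      calc q * (x * c * x⁻¹) = x * (x⁻¹ * q * x * c) * x⁻¹ := by group
        _ = x * (c * (x⁻¹ * q * x)) * x⁻¹ := by rw [h3]
        _ = x * c * x⁻¹ * q := by group
    intro g hg hgn
    have hgP : ∀ y : P, g * b y * g⁻¹ ∈ P₁ := fun y =>
      (Subgroup.mem_normalizer_iff.1 hgn _).1 (hbm y)
    let γ₀ : P →* Ω := ρ.comp (((conjHom P₁ g).comp (b.codRestrict P₁ hbm)).codRestrict P₁ hgP)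
    have hγ₀ : γ₀ ∈ F.Hom P :=
      F.comp_mem (F.comp_mem hb (F.conj_mem hP₁c.1 (hT.1 hg.1)) hbm) hρ hgP
    have hγr : γ₀.range = P :=
      eq_of_le_of_card_le hPS (by rintro _ ⟨y, rfl⟩; exact hρr.le ⟨_, rfl⟩) (card_range hγ₀).ge
    let γ := autOfRange γ₀ (F.injective_of_mem hγ₀) hγr
    have := finite_of_le hPS
    let L : Subgroup (MulAut P) :=
      { carrier := {a | a ∈ F.autGroup P ∧ (∀ x : P, (x : Ω) ∈ T → a x = x) ∧
          ∀ x : P, ((x⁻¹ * a x : P) : Ω) ∈ T}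
        one_mem' := ⟨one_mem _, fun x _ => rfl, fun x => by simp⟩
        mul_mem' := by
          rintro a a' ⟨ha, haf, hal⟩ ⟨ha', ha'f, ha'l⟩
          refine ⟨mul_mem ha ha', fun x hx => ?_, fun x => ?_⟩
          · rw [MulAut.mul_apply, ha'f x hx, haf x hx]
          · have e : x⁻¹ * (a * a') x = (x⁻¹ * a' x) * ((a' x)⁻¹ * a (a' x)) := by
              rw [MulAut.mul_apply]; group
            rw [e]
            exact T.mul_mem (ha'l x) (hal _)
        inv_mem' := by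
          rintro a ⟨ha, haf, hal⟩
          refine ⟨inv_mem ha, fun x hx => ?_, fun x => ?_⟩
          · conv_lhs => rw [← haf x hx]
            exact MulAut.inv_apply_self P a x
          · have h1 := T.inv_mem (hal (a⁻¹ x))
            rw [MulAut.apply_inv_self] at h1
            have e : x⁻¹ * a⁻¹ x = ((a⁻¹ x)⁻¹ * x)⁻¹ := by group
            rw [e]
            exact h1 }
    have hstab : ∀ a ∈ F.autGroup P, ∀ x : P, (x : Ω) ∈ T → ((a x : P) : Ω) ∈ T :=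
      fun a ha x hx => le_of_stronglyClosed_aut hT hPS ha x hx
    have hL : L ≤ Inn P := by
      refine le_inn_of_radical p hr (fun a ha => ha.1) (fun a ha c ⟨hcA, hcf, hcl⟩ => ?_)
        fun a ⟨ha, haf, hal⟩ => ?_
      · refine ⟨mul_mem (mul_mem ha hcA) (inv_mem ha), fun x hx => ?_, fun x => ?_⟩
        · rw [MulAut.mul_apply, MulAut.mul_apply, hcf _ (hstab _ (inv_mem ha) x hx),
            MulAut.apply_inv_self]
        · have h1 := hstab a ha _ (hcl (a⁻¹ x))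
          rwa [map_mul, map_inv, MulAut.apply_inv_self] at h1
      · have := finite_of_le hQS
        obtain ⟨k, hk⟩ := IsPGroup.iff_card.1 (isPGroup_of_le hS hQS)
        refine ⟨k, MulEquiv.ext fun x => ?_⟩
        have h1 := pow_mul_fix a (B := ⊤) (C := T.subgroupOf P) (N := 1) (fun y _ => hal y)
          (fun y hy => Set.mem_of_eq_of_mem (haf y hy) hy)
          (fun c hc' => by rw [pow_one]; exact haf c hc') x trivial
        rwa [one_mul, ← Subgroup.inf_subgroupOf_left,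
          Nat.card_congr (Subgroup.subgroupOfEquivOfLe (inf_le_left : P ⊓ T ≤ P)).toEquiv, hk]
          at h1
    have hγL : γ ∈ L := by
      refine ⟨autOfRange_mem hγ₀ hγr, fun x hx => Subtype.ext ?_, fun x => ?_⟩
      · show γ₀ x = x
        refine Eq.trans ?_ (hρ1 x (hbm x))
        refine apply_congr ρ ?_
        show g * b x * g⁻¹ = b x
        have hq : b x ∈ Q₁ := hwm.le (apply_mem_map_subgroupOf w
          (x := Subgroup.inclusion hPN x) ⟨x.2, hx⟩)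
        rw [← hg.2 _ hq]
        group
      · have hmem : (b x)⁻¹ * (g * b x * g⁻¹) ∈ T := by
          have h1 : (b x)⁻¹ * g * b x ∈ T := by
            simpa using (Subgroup.mem_normalizer_iff.1
              (hTn _ (inv_mem (apply_mem_S hb x))) g).1 hg.1
          have h2 := mul_mem h1 (T.inv_mem hg.1)
          simpa [mul_assoc] using h2
        have h3 := map_mem_of_stronglyClosed hT hρ
          (x := (⟨b x, hbm x⟩ : P₁)⁻¹ * ⟨g * b x * g⁻¹, hgP x⟩) hmem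
        rw [map_mul, map_inv, hρ1] at h3
        exact h3
    obtain ⟨u, hu⟩ := hL hγL
    have hgu : (b u)⁻¹ * g ∈ P₁ := by
      refine centralizer_mem_of_centric hP₁c
        (mul_mem (inv_mem (apply_mem_S hb u)) (hT.1 hg.1)) fun y hy => ?_
      obtain ⟨x, rfl⟩ := hP₁d.le hy
      have h1 : γ₀ x = ((u * x * u⁻¹ : P) : Ω) :=
        congrArg Subtype.val ((congrArg (fun a : MulAut P => a x) hu).symm)
      have h2 : g * b x * g⁻¹ = b u * b x * (b u)⁻¹ := by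
        rw [← map_inv, ← map_mul, ← map_mul]
        refine (hρ2 ⟨_, hgP x⟩ (hρr.le ⟨_, rfl⟩)).symm.trans ?_
        exact apply_congr b h1
      calc b x * ((b u)⁻¹ * g) = (b u)⁻¹ * (b u * b x * (b u)⁻¹) * g := by group
        _ = (b u)⁻¹ * (g * b x * g⁻¹) * g := by rw [h2]
        _ = (b u)⁻¹ * g * b x := by group
    simpa using mul_mem (hbm u) hgu
  -- transfer to all conjugates
  have hQ₁c := fullyCentralized_of_fullyNormalized p hS hF hQ₁n
  refine ⟨inf_le_right, fun R hR c hc' => ?_⟩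
  obtain ⟨φ, hφ, hφr⟩ := isConj_trans (isConj_symm hR) hQQ₁
  obtain ⟨ψ, hψ, hψe⟩ := receptive_extend (receptive_of_fullyCentralized p hS hF hQ₁c) hφ hφr
    (N := R ⊔ centralizerIn S R) (sup_le (le_extender hφ) (centralizerIn_le_extender R φ))
  have hcS : c ∈ centralizerIn S R := ⟨hT.1 hc'.1, hc'.2⟩
  have hcN : c ∈ R ⊔ centralizerIn S R := Subgroup.mem_sup_right hcS
  have h1 := map_mem_centralizerIn hψ (P := R) le_sup_left hcS hcN
  rw [map_eq_range_of_eq le_sup_left hψe, hφr] at h1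
  have h2 : ψ ⟨c, hcN⟩ ∈ T := map_mem_of_stronglyClosed hT hψ (x := ⟨c, hcN⟩) hc'.1
  have h3 : ψ ⟨c, hcN⟩ ∈ φ.range := hφr.ge (hP₁T.le ⟨key ⟨h2, h1.2⟩, h2⟩)
  obtain ⟨r, hr'⟩ := h3
  have h4 : (⟨c, hcN⟩ : ↥(R ⊔ centralizerIn S R)) = Subgroup.inclusion le_sup_left r :=
    F.injective_of_mem hψ (hr'.symm.trans (hψe r r.2 _).symm)
  exact Set.mem_of_eq_of_mem (congrArg Subtype.val h4) r.2

omit [Finite Δ] in
include hS hF in
/-- **The subsystem of a character on the automizer of a strongly closed subgroup.** -/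
theorem exists_character_subsystem [Finite Δ] [Nontrivial Δ] (hE : E.IsNormalIn F p)
    (hTS : T ≤ S) (hχ : Function.Surjective χ) (hΔ : (Nat.card Δ).Coprime p)
    (hker : (E.autGroup T).subgroupOf (F.autGroup T) ≤ χ.ker) :
    ∃ F₀ : FusionSystem S, F₀.IsNormalIn F p ∧ ¬ (∀ P : Subgroup Ω, F₀.Hom P = F.Hom P) ∧
      E.IsSubsystemOf F₀ ∧
      (∀ α : MulAut ↥S, α ∈ F₀.autGroup S ↔ α ∈ F.autGroup S ∧ ∃ β : ↥(F.autGroup T), χ β = 1 ∧
        ∀ t : ↥T, (((β : MulAut ↥T) t : ↥T) : Ω) = ((α ⟨(t : Ω), hTS t.2⟩ : ↥S) : Ω)) ∧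
      ∀ R : FusionSystem S, F.IsPPrimeResidual p R → R.IsSubsystemOf F₀ := by
  obtain ⟨⟨hEs, -, hinv⟩, hext⟩ := hE
  have hT := hinv.2.1
  have := finite_of_le hTS
  have hval := isVal_charVal p hS hEs hinv hΔ hker
  obtain ⟨v, hv, hvv⟩ := exists_centric_extension p hS hF hval fun P _ hc hr =>
    ⟨hc.1, selfCentralizing_of_radical p hS hF hinv hc hr⟩
  have hvU : ∀ {U : Subgroup Ω}, T ≤ U → U ≤ S → ∀ (f : U →* Ω) (β : F.autGroup T),
      (∀ (x : Ω) (h1 : x ∈ U) (h2 : x ∈ T), f ⟨x, h1⟩ = (((β : MulAut T) ⟨x, h2⟩ : T) : Ω)) →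
      v U f = χ β := by
    intro U hTU hUS f β h
    have hc : SelfCentralizingIn F T (U ⊓ T) := by
      rw [inf_eq_right.2 hTU]; exact selfCentralizingIn_self hT
    rw [hvv U f ⟨hUS, hc⟩]
    exact charVal_eq p hS hEs hinv hΔ hker hc (charRel_of_restrict β h)
  have hTc : F.IsFullyCentralized T := ⟨hTS, fun Q hQ => by
    obtain ⟨φ, hφ, rfl⟩ := hQ
    rw [(weaklyClosed_of_stronglyClosed hT).2 φ hφ]⟩
  have hU : F.IsCentric (T ⊔ centralizerIn S T) := isCentric_sup_centralizer hTc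
  set F₀ := valKernel hv
  refine ⟨F₀, valKernel_normal p hS hF hv, ?_, ?_, fun α => ?_, fun R hR =>
    hR.2.2 F₀ (valKernel_saturated p hS hF hv) (valKernel_primeToP p hS hF hv).1⟩
  · intro heq
    obtain ⟨d, hd⟩ := exists_ne (1 : Δ)
    obtain ⟨β, rfl⟩ := hχ d
    have hβ := (autGroup_carrier hTS).1 β.2
    obtain ⟨f, hf, hfe⟩ := receptive_extend (receptive_of_fullyCentralized p hS hF hTc) hβ
      (range_subtype_comp _) (N := T ⊔ centralizerIn S T)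
      (sup_le (le_extender hβ) (centralizerIn_le_extender T _))
    have h1 : v _ f = χ β := hvU le_sup_left hU.1 f β fun x h1 h2 => hfe x h2 h1
    have h2 : f ∈ F₀.Hom (T ⊔ centralizerIn S T) := (heq _).symm ▸ hf
    exact hd (h1.symm.trans ((mem_valKernel_iff hv hU).1 h2).2)
  · intro P φ hφ
    have hsub : (interSystem E F₀ hTS).IsSubsystemOf E := fun Q ψ h => h.1
    obtain ⟨-, hfr, -⟩ := primeToP_of_centric p (isPGroup_of_le hS hTS) hEs hsub fun Q hQ => by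
      rw [MonoidHom.map_closure, Subgroup.closure_le]
      rintro _ ⟨a, ⟨k, hk⟩, rfl⟩
      refine (autGroup_carrier hQ.1).2 ⟨(autGroup_carrier hQ.1).1 a.2, ?_⟩
      exact valRel_pElement p hF hv hS (hQ.1.trans hTS) (autGroup_mono' hinv.1 Q a.2)
        ⟨k, congrArg Subtype.val (orderOf_dvd_iff_pow_eq_one.1 hk.dvd)⟩
    obtain ⟨α, hα, φ₀, ⟨hφ₀E, hφ₀⟩, he⟩ := hfr P φ hφ
    obtain ⟨β, hβ, hβe, -⟩ := hext α hα
    let αF : F.autGroup T := ⟨α, autGroup_mono' hinv.1 T hα⟩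
    have hv1 : v _ ((T ⊔ centralizerIn S T).subtype.comp β.toMonoidHom) = 1 := by
      rw [hvU le_sup_left hU.1 _ αF fun x h1 h2 => ?_]
      · exact hker (show αF ∈ (E.autGroup T).subgroupOf (F.autGroup T) from hα)
      · exact (congrArg (fun z : ↥(T ⊔ centralizerIn S T) => ((β z : _) : Ω))
          (Subtype.ext rfl : (⟨x, h1⟩ : ↥(T ⊔ centralizerIn S T)) =
            Subgroup.inclusion le_sup_left ⟨x, h2⟩)).trans (hβe ⟨x, h2⟩)
    have hαk : ValRel F v T (T.subtype.comp α.toMonoidHom) 1 := by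
      rw [← hv1]
      exact .base le_sup_left hU ((autGroup_carrier hU.1).1 hβ) fun x => (hβe x).symm
    have hφ₀T : ∀ x, φ₀ x ∈ T := fun x => apply_mem_S hφ₀E x
    have h1 := ValRel.comp (χ := φ) hφ₀T hφ₀ hαk fun x => he x _
    rwa [mul_one] at h1
  · constructor
    · intro hα
      obtain ⟨hαF, hv1⟩ := (mem_valKernel_iff hv isCentric_S).1 ((autGroup_carrier le_rfl).1 hα)
      have ha := restrict_mem hαF hTS
      have hr := (weaklyClosed_of_stronglyClosed hT).2 _ ha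
      refine ⟨(autGroup_carrier le_rfl).2 hαF,
        ⟨autOfRange _ (F.injective_of_mem ha) hr, autOfRange_mem ha hr⟩, ?_, fun t => rfl⟩
      rw [← hv1]
      exact (hvU hTS le_rfl _ _ fun x h1 h2 => rfl).symm
    · rintro ⟨hαF, β, hβ, hβe⟩
      refine (autGroup_carrier le_rfl).2 ((mem_valKernel_iff hv isCentric_S).2
        ⟨(autGroup_carrier le_rfl).1 hαF, ?_⟩)
      rw [hvU hTS le_rfl _ β fun x h1 h2 => (hβe ⟨x, h2⟩).symm, hβ]

end CfsgLib.Fusion
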