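import Cfsg.Agent.Fusion.NormalCriteria
import Cfsg.Agent.Fusion.FrattiniSub

/-!
Valuations on the maps of a saturated system between large subgroups, and their extension to all
centric subgroups.
-/

set_option autoImplicit false

open Cfsg Cfsg.FusionSystem

namespace CfsgLib.Fusion

variable {Ω : Type*} [Group Ω] {S : Subgroup Ω} {F : FusionSystem S} {Δ : Type*} [Group Δ]

/-- A multiplicative function on the maps of `F` with source in an upward closed, conjugation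
invariant family `𝒞`, trivial on the inner automorphisms of `S`. -/
structure IsVal (F : FusionSystem S) (𝒞 : Subgroup Ω → Prop)
    (v : ∀ P : Subgroup Ω, (P →* Ω) → Δ) : Prop where
  le : ∀ {P : Subgroup Ω}, 𝒞 P → P ≤ S
  top : 𝒞 S
  conj : ∀ {P Q : Subgroup Ω}, 𝒞 P → F.IsConj P Q → 𝒞 Q
  upward : ∀ {P Q : Subgroup Ω}, 𝒞 P → P ≤ Q → Q ≤ S → 𝒞 Q
  mul : ∀ {P Q : Subgroup Ω} {φ : P →* Ω} {ψ : Q →* Ω} {χ : P →* Ω}, 𝒞 P → φ ∈ F.Hom P →
    ψ ∈ F.Hom Q → ∀ (h : ∀ x, φ x ∈ Q), (∀ x, χ x = ψ ⟨φ x, h x⟩) → v P χ = v Q ψ * v P φ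
  inner : ∀ {s : Ω}, s ∈ S → v S (conjHom S s) = 1

namespace IsVal

variable {𝒞 : Subgroup Ω → Prop} {v : ∀ P : Subgroup Ω, (P →* Ω) → Δ}

theorem one (hv : IsVal F 𝒞 v) {P : Subgroup Ω} (hP : 𝒞 P) : v P P.subtype = 1 :=
  left_eq_mul.1 (hv.mul hP (subtype_mem (hv.le hP)) (subtype_mem (hv.le hP))
    (fun x => x.2) fun _ => rfl)

theorem restrict (hv : IsVal F 𝒞 v) {P R : Subgroup Ω} (hR : 𝒞 R) (h : R ≤ P) {φ : P →* Ω}
    (hφ : φ ∈ F.Hom P) {χ : R →* Ω} (hχ : ∀ x : R, χ x = φ ⟨x, h x.2⟩) : v R χ = v P φ := by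
  rw [hv.mul hR (subtype_mem (hv.le hR)) hφ (fun x => h x.2) hχ, hv.one hR, mul_one]

theorem conj_eq_one (hv : IsVal F 𝒞 v) {P : Subgroup Ω} (hP : 𝒞 P) {s : Ω} (hs : s ∈ S)
    {χ : P →* Ω} (hχ : ∀ x : P, χ x = s * (x : Ω) * s⁻¹) : v P χ = 1 := by
  rw [hv.restrict hP (hv.le hP) (F.conj_mem le_rfl hs) hχ, hv.inner hs]

theorem inv (hv : IsVal F 𝒞 v) {P Q : Subgroup Ω} (hP : 𝒞 P) {φ : P →* Ω} (hφ : φ ∈ F.Hom P)
    {ψ : Q →* Ω} (hψ : ψ ∈ F.Hom Q) (h : ∀ x, φ x ∈ Q) (h1 : ∀ x : P, ψ ⟨φ x, h x⟩ = x) :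
    v Q ψ = (v P φ)⁻¹ := by
  have h2 := hv.mul (χ := P.subtype) hP hφ hψ h fun x => (h1 x).symm
  rw [hv.one hP] at h2
  exact eq_inv_of_mul_eq_one_left h2.symm

theorem uniq [Finite S] (p : ℕ) [Fact p.Prime] (hS : IsPGroup p S) (hF : F.IsSaturated p)
    (hv : IsVal F 𝒞 v) {U Q : Subgroup Ω} (hU : 𝒞 U) (hQU : Q ≤ U) (hQ : F.IsCentric Q)
    {φ φ' : U →* Ω} (hφ : φ ∈ F.Hom U) (hφ' : φ' ∈ F.Hom U)
    (h : ∀ x : U, (x : Ω) ∈ Q → φ x = φ' x) : v U φ = v U φ' := by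
  obtain ⟨z, -, -, hz⟩ := centric_uniqueness p hS hF hQU hQ hφ hφ' h
  have hzS : (z : Ω) ∈ S := hv.le hU z.2
  rw [hv.mul (φ := conjHom U (z : Ω)) hU (F.conj_mem (hv.le hU) hzS) hφ
    (fun x => mul_mem (mul_mem z.2 x.2) (inv_mem z.2)) fun x => hz x,
    hv.conj_eq_one hU hzS (χ := conjHom U (z : Ω)) fun x => rfl, mul_one]

theorem mono (hv : IsVal F 𝒞 v) {𝒟 : Subgroup Ω → Prop} (h : ∀ P, 𝒟 P → 𝒞 P) (ht : 𝒟 S)
    (hc : ∀ {P Q : Subgroup Ω}, 𝒟 P → F.IsConj P Q → 𝒟 Q)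
    (hu : ∀ {P Q : Subgroup Ω}, 𝒟 P → P ≤ Q → Q ≤ S → 𝒟 Q) : IsVal F 𝒟 v where
  le hP := hv.le (h _ hP)
  top := ht
  conj := hc
  upward := hu
  mul hP := hv.mul (h _ hP)
  inner := hv.inner

end IsVal

/-- The centric subgroups form a family of the kind used by valuations. -/
theorem IsVal.centric [Finite S] {𝒞 : Subgroup Ω → Prop} {v : ∀ P : Subgroup Ω, (P →* Ω) → Δ}
    (hv : IsVal F 𝒞 v) (h : ∀ P, F.IsCentric P → 𝒞 P) : IsVal F F.IsCentric v :=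
  hv.mono h isCentric_S isCentric_of_isConj isCentric_mono

/-- The join of a fully centralized subgroup with its centralizer is centric. -/
theorem isCentric_sup_centralizer [Finite S] {Q : Subgroup Ω} (hQ : F.IsFullyCentralized Q) :
    F.IsCentric (Q ⊔ centralizerIn S Q) := by
  refine ⟨sup_le hQ.1 (centralizerIn_le_S Q), ?_⟩
  rintro _ ⟨φ, hφ, rfl⟩ g hg
  have hC : centralizerIn S Q ≤ Q ⊔ centralizerIn S Q := le_sup_right
  have hconj : F.IsConj Q ((Q.subgroupOf (Q ⊔ centralizerIn S Q)).map φ) :=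
    isConj_map hφ le_sup_left
  have hgC : g ∈ centralizerIn S ((Q.subgroupOf (Q ⊔ centralizerIn S Q)).map φ) :=
    mem_centralizerIn.2 ⟨hg.1, fun x hx => hg.2 x (Subgroup.map_le_range _ _ hx)⟩
  obtain ⟨c, hc, hcg⟩ := (card_le_card_map (centralizerIn_le_S _) (F.injective_of_mem hφ) hC
    fun c hc => map_mem_centralizerIn hφ le_sup_left hc (hC hc)).2 (hQ.2 _ hconj) g hgC
  exact ⟨⟨c, hC hc⟩, hcg⟩

/-! ### One step of the extension to centric subgroups -/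

section Step

variable [Finite S] (p : ℕ) [Fact p.Prime] (hS : IsPGroup p S) (hF : F.IsSaturated p)
  {𝒞 : Subgroup Ω → Prop} {v : ∀ P : Subgroup Ω, (P →* Ω) → Δ}

/-- `ψ` on some subgroup strictly above `P` inside `N_S(P)` extends `φ` and has value `t`. -/
def ExtVal (F : FusionSystem S) (v : ∀ P : Subgroup Ω, (P →* Ω) → Δ) (P : Subgroup Ω)
    (φ : P →* Ω) (t : Δ) : Prop :=
  ∃ (U : Subgroup Ω) (hPU : P < U), U ≤ normalizerIn S P ∧ ∃ ψ ∈ F.Hom U,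
    (∀ x : P, ψ ⟨x, hPU.le x.2⟩ = φ x) ∧ v U ψ = t

include hS hF in
theorem extVal_unique (hv : IsVal F 𝒞 v) {P : Subgroup Ω} (hP : F.IsCentric P)
    (hbig : ∀ U : Subgroup Ω, P < U → U ≤ S → 𝒞 U) {φ : P →* Ω} (hφ : φ ∈ F.Hom P)
    {t t' : Δ} (h : ExtVal F v P φ t) (h' : ExtVal F v P φ t') : t = t' := by
  have hr := receptive_of_fullyCentralized p hS hF
    (isFullyCentralized_of_centric (isCentric_of_isConj hP ⟨φ, hφ, rfl⟩))
  obtain ⟨ψ, hψ, hψe⟩ := receptive_extend hr hφ rfl (le_refl (extender S P φ))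
  suffices key : ∀ s, ExtVal F v P φ s → s = v (extender S P φ) ψ from
    (key t h).trans (key t' h').symm
  rintro s ⟨U, hPU, hUN, χ, hχ, hχe, rfl⟩
  have hUS := hUN.trans (normalizerIn_le_S P)
  have hUE : U ≤ extender S P φ := by
    intro g hg
    refine mem_extender_of (hUN hg) (apply_mem_S hχ ⟨g, hg⟩) fun x hx => ?_
    rw [← hχe, ← hχe, ← map_inv, ← map_mul, ← map_mul]
    exact apply_congr χ rfl
  have hU := hbig U hPU hUS
  rw [← hv.restrict hU hUE hψ (χ := ψ.comp (Subgroup.inclusion hUE)) fun x => rfl]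
  refine hv.uniq p hS hF hU hPU.le hP hχ (restrict_mem hψ hUE) fun x hx => ?_
  exact ((apply_congr χ rfl).trans (hχe ⟨x, hx⟩)).trans (hψe x hx (hUE x.2)).symm

include hS in
theorem extVal_of_extends (hv : IsVal F 𝒞 v) {P U : Subgroup Ω}
    (hbig : ∀ U : Subgroup Ω, P < U → U ≤ S → 𝒞 U) (hPU : P < U) {φ : P →* Ω} {ψ : U →* Ω}
    (hψ : ψ ∈ F.Hom U) (he : ∀ x : P, ψ ⟨x, hPU.le x.2⟩ = φ x) :
    ExtVal F v P φ (v U ψ) := by
  have hUS := le_of_mem_hom hψ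
  have hlt := lt_normalizerIn p hS hUS hPU
  have hle : normalizerIn U P ≤ U := normalizerIn_le_S P
  refine ⟨_, hlt, inf_le_inf_right _ hUS, ψ.comp (Subgroup.inclusion hle),
    restrict_mem hψ hle, fun x => (apply_congr ψ rfl).trans (he x), ?_⟩
  exact hv.restrict (hbig _ hlt (hle.trans hUS)) hle hψ fun x => rfl

set_option maxHeartbeats 800000 in
include hS hF in
/-- At a fully normalized, centric, non-radical subgroup all automorphisms extend to one larger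
subgroup, which they leave invariant. -/
theorem exists_normalizing_extension {R : Subgroup Ω} (hc : F.IsCentric R)
    (hn : F.IsFullyNormalized R) (hr : ¬ F.IsRadical p R) :
    ∃ N : Subgroup Ω, R < N ∧ N ≤ normalizerIn S R ∧ ∀ γ ∈ F.Hom R, γ.range = R →
      ∃ ψ ∈ F.Hom N, (∀ (x : Ω) (hx : x ∈ R) (hxN : x ∈ N), ψ ⟨x, hxN⟩ = γ ⟨x, hx⟩) ∧
        ∀ x, ψ x ∈ N := by
  have hRS := hc.1
  have := finite_of_le hRS
  have : Finite (MulAut R) := finite_mulAut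
  obtain ⟨⟨-, Y, hY⟩, hrec⟩ := good_of_fullyNormalized p hS hF hn
  obtain ⟨hKn, hKp⟩ := CfsgLib.Solvable.pCore_spec (G := F.autGroup R) p
  set K := (pCore p (F.autGroup R)).map (F.autGroup R).subtype with hK
  have hKA : K ≤ autInducedBy S R := by
    rintro _ ⟨a, ha, rfl⟩
    obtain ⟨T, hT⟩ := hKp.exists_le_sylow
    obtain ⟨c, hc'⟩ := MulAction.exists_smul_eq (F.autGroup R) T Y
    have h1 : a ∈ (Y : Subgroup (F.autGroup R)) := by
      rw [← hc', Sylow.coe_subgroup_smul]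
      refine ⟨c⁻¹ * a * c, hT (by simpa using hKn.conj_mem a ha c⁻¹), ?_⟩
      simp [MulAut.conj_apply, mul_assoc]
    rw [hY] at h1
    exact h1
  let N : Subgroup Ω := (K.comap (conjAut S R)).map (Subgroup.subtype _)
  have hNN : N ≤ normalizerIn S R := Subgroup.map_subtype_le _
  have hmem : ∀ g (hg : g ∈ normalizerIn S R), g ∈ N ↔ conjAut S R ⟨g, hg⟩ ∈ K := by
    refine fun g hg => ⟨?_, fun h => ⟨⟨g, hg⟩, h, rfl⟩⟩
    rintro ⟨z, hz, rfl⟩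
    exact hz
  have hIK : Inn R ≤ K := by
    intro α hα
    refine ⟨⟨α, inn_le_autGroup hRS hα⟩, ?_, rfl⟩
    exact CfsgLib.Solvable.le_pCore p (inn_subgroupOf_normal (F := F) R)
      (((isPGroup_of_le hS hRS).of_surjective _
        (MulAut.conj : R →* MulAut R).rangeRestrict_surjective).comap_of_injective _
          Subtype.val_injective) hα
  have hRN : R ≤ N := fun x hx => by
    rw [hmem x (le_normalizerIn hRS hx)]
    exact hIK ((inn_mem_iff hc (hRS hx) fun _ => rfl).2 hx)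
  have hne : R ≠ N := by
    intro he
    refine hr ⟨hRS, le_antisymm (fun α hα => ?_) hIK⟩
    obtain ⟨g, hgS, hg⟩ := mem_autInducedBy.1 (hKA hα)
    have hgn : g ∈ normalizerIn S R := ⟨hgS, mem_normalizer_of_aut hg⟩
    have : conjAut S R ⟨g, hgn⟩ = α := MulEquiv.ext fun x => Subtype.ext (hg x).symm
    exact (inn_mem_iff hc hgS hg).2 (he.ge ((hmem g hgn).2 (this ▸ hα)))
  refine ⟨N, lt_of_le_of_ne hRN hne, hNN, fun γ hγ hγr => ?_⟩
  set α := autOfRange γ (F.injective_of_mem hγ) hγr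
  have hα : α ∈ F.autGroup R := autOfRange_mem hγ hγr
  have hconj : ∀ g (hg : g ∈ N),
      α * conjAut S R ⟨g, hNN hg⟩ * α⁻¹ ∈ K := fun g hg => by
    obtain ⟨a, ha, hae⟩ := (hmem g (hNN hg)).1 hg
    refine ⟨⟨α, hα⟩ * a * ⟨α, hα⟩⁻¹, hKn.conj_mem a ha _, ?_⟩
    rw [map_mul, map_mul, map_inv, hae]
    rfl
  have hNE : N ≤ extender S R γ := by
    intro g hg
    obtain ⟨k, hk, hk'⟩ := mem_autInducedBy.1 (hKA (hconj g hg))
    refine mem_extender_of (hNN hg) hk fun x hx => ?_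
    have h1 := hk' (α x)
    simp only [MulAut.mul_apply, MulAut.inv_apply_self] at h1
    exact h1
  obtain ⟨ψ, hψ, hψe⟩ := receptive_extend hrec hγ hγr hNE
  refine ⟨ψ, hψ, hψe, fun ⟨g, hg⟩ => ?_⟩
  have hψn : ψ ⟨g, hg⟩ ∈ normalizerIn S R := by
    have := map_mem_normalizerIn hψ hRN (hNN hg) hg
    rwa [map_eq_range_of_eq hRN hψe, hγr] at this
  rw [hmem _ hψn]
  convert hconj g hg using 1
  refine MulEquiv.ext fun y => Subtype.ext ?_
  obtain ⟨x, rfl⟩ := α.surjective y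
  simp only [MulAut.mul_apply, MulAut.inv_apply_self, coe_conjAut]
  show ψ ⟨g, hg⟩ * γ x * (ψ ⟨g, hg⟩)⁻¹ = γ _
  have hxN : (x : Ω) ∈ N := hRN x.2
  have hgx : g * (x : Ω) * g⁻¹ ∈ R := (Subgroup.mem_normalizer_iff.1 (hNN hg).2 x).1 x.2
  rw [← hψe x x.2 hxN, ← map_inv, ← map_mul, ← map_mul]
  exact (apply_congr ψ (y := ⟨g * x * g⁻¹, hRN hgx⟩) rfl).trans
    ((hψe _ hgx _).trans (apply_congr γ rfl))

set_option maxHeartbeats 1600000 in
open scoped Classical in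
include hS hF in
/-- One step: add the centric subgroups of order `n`. -/
theorem exists_extend_step (hv : IsVal F 𝒞 v) (n : ℕ)
    (hbig : ∀ P : Subgroup Ω, F.IsCentric P → n < Nat.card P → 𝒞 P)
    (hrad : ∀ P : Subgroup Ω, F.IsFullyNormalized P → F.IsCentric P → F.IsRadical p P → 𝒞 P) :
    ∃ v' : ∀ P : Subgroup Ω, (P →* Ω) → Δ,
      IsVal F (fun P => 𝒞 P ∨ (F.IsCentric P ∧ n ≤ Nat.card P)) v' ∧
        ∀ P φ, 𝒞 P → v' P φ = v P φ := by
  let New : Subgroup Ω → Prop := fun P => F.IsCentric P ∧ Nat.card P = n ∧ ¬ 𝒞 P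
  have hNewConj : ∀ {P Q}, New P → F.IsConj P Q → New Q := fun hP h =>
    ⟨isCentric_of_isConj hP.1 h, (IsConj.card_eq h).trans hP.2.1,
      fun hQ => hP.2.2 (hv.conj hQ (isConj_symm h))⟩
  have hUp : ∀ {P}, New P → ∀ U : Subgroup Ω, P < U → U ≤ S → 𝒞 U := fun {P} hP U hU hUS =>
    hbig U (isCentric_mono hP.1 hU.le hUS) (lt_of_not_ge fun h =>
      hU.ne (eq_of_le_of_card_le hUS hU.le (h.trans hP.2.1.ge)))
  have hNlt : ∀ {P}, New P → P < normalizerIn S P := fun {P} hP =>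
    lt_normalizerIn p hS le_rfl (lt_of_le_of_ne hP.1.1 fun h => hP.2.2 (h ▸ hv.top))
  have hNin : ∀ {P}, New P → 𝒞 (normalizerIn S P) := fun {P} hP =>
    hUp hP _ (hNlt hP) (normalizerIn_le_S P)
  let rep : Subgroup Ω → Subgroup Ω := fun P =>
    Classical.epsilon fun Q => F.IsConj P Q ∧ F.IsFullyNormalized Q
  have hrep : ∀ {P}, New P → F.IsConj P (rep P) ∧ F.IsFullyNormalized (rep P) := fun {P} hP =>
    Classical.epsilon_spec (exists_fullyNormalized F hP.1.1)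
  have hrepEq : ∀ {P Q}, F.IsConj P Q → rep Q = rep P := fun h =>
    congrArg Classical.epsilon (funext fun R => propext (and_congr_left' ⟨fun h' =>
      isConj_trans h h', fun h' => isConj_trans (isConj_symm h) h'⟩))
  have hrepNew : ∀ {P}, New P → New (rep P) := fun hP => hNewConj hP (hrep hP).1
  have hW : ∀ P : Subgroup Ω, ∃ w : ↥(normalizerIn S P) →* Ω, New P →
      w ∈ F.Hom (normalizerIn S P) ∧ (∀ x, w x ∈ normalizerIn S (rep P)) ∧
        (P.subgroupOf (normalizerIn S P)).map w = rep P := fun P => by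
    by_cases hP : New P
    · obtain ⟨h₁, h₂⟩ := good_of_fullyNormalized p hS hF (hrep hP).2
      obtain ⟨w, hw⟩ := exists_map_normalizer p hS h₁ h₂ (hrep hP).1
      exact ⟨w, fun _ => hw⟩
    · exact ⟨1, fun h => absurd h hP⟩
  choose w hw using hW
  -- the value on a map between subgroups of the new order
  let VR : Subgroup Ω → ∀ P : Subgroup Ω, (P →* Ω) → Δ → Prop := fun R P φ t =>
    ∃ γ ∈ F.Hom R, γ.range = R ∧
      (∀ (x : P) (h1 : (x : Ω) ∈ normalizerIn S P) (h2 : w P ⟨x, h1⟩ ∈ R)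
        (h3 : φ x ∈ normalizerIn S φ.range),
        γ ⟨w P ⟨x, h1⟩, h2⟩ = w φ.range ⟨φ x, h3⟩) ∧
      ∃ te, ExtVal F v R γ te ∧ t = (v _ (w φ.range))⁻¹ * te * v _ (w P)
  have hwP : ∀ {P : Subgroup Ω} (hP : New P) (x : P),
      w P ⟨x, le_normalizerIn (S := S) hP.1.1 x.2⟩ ∈ rep P := fun {P} hP x =>
    (hw P hP).2.2.le (apply_mem_map_subgroupOf (w P) x.2)
  have hγ : ∀ {P} (hP : New P) {φ : P →* Ω}, φ ∈ F.Hom P → ∃ t, VR (rep P) P φ t := by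
    intro P hP φ hφ
    have hP' : New φ.range := hNewConj hP ⟨φ, hφ, rfl⟩
    have hPN := le_normalizerIn (S := S) hP.1.1
    have hP'N := le_normalizerIn (S := S) hP'.1.1
    obtain ⟨hwH, -, hwm⟩ := hw P hP
    obtain ⟨ρ, hρ, hρr, hρ1, -⟩ :=
      exists_inv (restrict_mem hwH hPN) ((range_restrict (w P) hPN).trans hwm)
    have hρP : ∀ y, ρ y ∈ P := fun y => hρr.le ⟨y, rfl⟩
    have hφN : ∀ y : rep P, φ ⟨ρ y, hρP y⟩ ∈ normalizerIn S φ.range := fun y =>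
      hP'N ⟨_, rfl⟩
    let γ : rep P →* Ω := (w φ.range).comp
      ((φ.comp (ρ.codRestrict P hρP)).codRestrict _ hφN)
    have hγ : γ ∈ F.Hom (rep P) :=
      F.comp_mem (F.comp_mem hρ hφ hρP) (hw _ hP').1 hφN
    have hγr : γ.range = rep P := by
      refine eq_of_le_of_card_le (hrepNew hP).1.1 ?_ (card_range hγ).ge
      rintro _ ⟨y, rfl⟩
      exact (hrepEq ⟨φ, hφ, rfl⟩).le (hwP hP' ⟨_, _, rfl⟩)
    obtain ⟨N, hRN, -, hN⟩ := exists_normalizing_extension p hS hF (hrepNew hP).1 (hrep hP).2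
      fun h => (hrepNew hP).2.2 (hrad _ (hrep hP).2 (hrepNew hP).1 h)
    obtain ⟨ψ, hψ, hψe, -⟩ := hN γ hγ hγr
    refine ⟨_, γ, hγ, hγr, fun x h1 h2 h3 => ?_, _,
      extVal_of_extends p hS hv (hUp (hrepNew hP)) hRN hψ fun x => hψe x x.2 _, rfl⟩
    refine apply_congr (w φ.range) ?_
    exact apply_congr φ (hρ1 x h2)
  have hVu : ∀ {P} (hP : New P) {φ : P →* Ω}, φ ∈ F.Hom P → ∀ {t t'},
      VR (rep P) P φ t → VR (rep P) P φ t' → t = t' := by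
    intro P hP φ hφ t t' ⟨γ, hγ₁, hγr, hγe, te, hte, ht⟩ ⟨γ', hγ₁', _, hγe', te', hte', ht'⟩
    have hP' : New φ.range := hNewConj hP ⟨φ, hφ, rfl⟩
    have heq : γ = γ' := by
      refine MonoidHom.ext fun ⟨y, hy⟩ => ?_
      obtain ⟨x, hx, hxP, rfl⟩ := mem_map_subgroupOf.1 ((hw P hP).2.2.ge hy)
      exact (hγe ⟨x, hxP⟩ hx hy (le_normalizerIn hP'.1.1 ⟨_, rfl⟩)).trans
        (hγe' ⟨x, hxP⟩ hx hy _).symm
    subst heq
    rw [ht, ht', extVal_unique p hS hF hv (hrepNew hP).1 (hUp (hrepNew hP)) hγ₁ hte hte']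
  -- extendable maps
  have hExtEq : ∀ {P} (hP : New P) {φ : P →* Ω}, φ ∈ F.Hom P → ∀ {U : Subgroup Ω} (hPU : P < U)
      {ψ : U →* Ω}, ψ ∈ F.Hom U → (∀ x : P, ψ ⟨x, hPU.le x.2⟩ = φ x) →
      VR (rep P) P φ (v U ψ) := by
    intro P hP φ hφ U hPU ψ hψ hψe
    obtain ⟨t, γ, hγ₁, hγr, hγe, te, hte, ht⟩ := hγ hP hφ
    have hP' : New φ.range := hNewConj hP ⟨φ, hφ, rfl⟩
    have hUS := le_of_mem_hom hψ
    have hlt := lt_normalizerIn p hS hUS hPU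
    have hU₀N : normalizerIn U P ≤ normalizerIn S P := inf_le_inf_right _ hUS
    have hU₀U : normalizerIn U P ≤ U := normalizerIn_le_S P
    have hU₀ := hUp hP _ hlt (hU₀U.trans hUS)
    have hw₀ := restrict_mem (hw P hP).1 hU₀N
    obtain ⟨Y, hYd⟩ : ∃ Y : Subgroup Ω, Y = ((w P).comp (Subgroup.inclusion hU₀N)).range :=
      ⟨_, rfl⟩
    obtain ⟨ρ, hρ, hρr, hρ1, -⟩ := exists_inv hw₀ hYd.symm
    have hmemY : ∀ x, (w P).comp (Subgroup.inclusion hU₀N) x ∈ Y := fun x => hYd.ge ⟨x, rfl⟩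
    have hRY : rep P ≤ Y := by
      intro y hy
      obtain ⟨x, hx, hxP, rfl⟩ := mem_map_subgroupOf.1 ((hw P hP).2.2.ge hy)
      exact hmemY ⟨x, hlt.le hxP⟩
    have hRYlt : rep P < Y := by
      refine lt_of_le_of_ne hRY fun he => hlt.ne (eq_of_le_of_card_le (hU₀U.trans hUS) hlt.le ?_)
      rw [← card_range hw₀, ← hYd, ← he, IsConj.card_eq (hrep hP).1]
    have hρU : ∀ y, ρ y ∈ U := fun y => hU₀U (hρr.le ⟨y, rfl⟩)
    have hψN : ∀ y : Y, ψ ⟨ρ y, hρU y⟩ ∈ normalizerIn S φ.range := by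
      intro y
      have h1 := map_mem_normalizerIn hψ hPU.le (hU₀N (hρr.le ⟨y, rfl⟩)) (hρU y)
      rwa [map_eq_range_of_eq hPU.le fun z hz hzU => (apply_congr ψ rfl).trans (hψe ⟨z, hz⟩)]
        at h1
    let a : Y →* Ω := ψ.comp (ρ.codRestrict U hρU)
    have ha : a ∈ F.Hom Y := F.comp_mem hρ hψ hρU
    let g : Y →* Ω := (w φ.range).comp (a.codRestrict _ hψN)
    have hg : g ∈ F.Hom Y := F.comp_mem ha (hw _ hP').1 hψN
    have hYC : 𝒞 Y := hv.conj hU₀ ⟨_, hw₀, hYd.symm⟩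
    have hge : ∀ y : rep P, g ⟨y, hRY y.2⟩ = γ y := by
      rintro ⟨y, hy⟩
      obtain ⟨x, hx, hxP, rfl⟩ := mem_map_subgroupOf.1 ((hw P hP).2.2.ge hy)
      refine Eq.trans ?_ (hγe ⟨x, hxP⟩ hx hy (le_normalizerIn hP'.1.1 ⟨_, rfl⟩)).symm
      refine apply_congr (w φ.range) ?_
      show ψ ⟨ρ ⟨_, _⟩, _⟩ = φ ⟨x, hxP⟩
      rw [← hψe ⟨x, hxP⟩]
      refine apply_congr ψ ?_
      show ρ ⟨_, _⟩ = x
      exact hρ1 ⟨x, hlt.le hxP⟩ (hmemY _)
    have hte' := extVal_of_extends p hS hv (hUp (hrepNew hP)) hRYlt hg hge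
    refine ⟨γ, hγ₁, hγr, hγe, _, hte', ?_⟩
    have h1 : v Y ρ = (v _ ((w P).comp (Subgroup.inclusion hU₀N)))⁻¹ :=
      hv.inv hU₀ hw₀ hρ hmemY fun x => hρ1 x _
    rw [hv.restrict hU₀ hU₀N (hw P hP).1 (χ := (w P).comp (Subgroup.inclusion hU₀N))
      fun x => rfl] at h1
    have h2 : v Y a = v U ψ * (v _ (w P))⁻¹ := by
      rw [← h1]; exact hv.mul hYC hρ hψ hρU fun x => rfl
    have h3 : v Y g = v _ (w φ.range) * v Y a := hv.mul hYC ha (hw _ hP').1 hψN fun x => rfl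
    rw [h3, h2]
    group
  have hVmul : ∀ {P P' : Subgroup Ω} (hP : New P) {φ : P →* Ω}, φ ∈ F.Hom P →
      φ.range = P' → ∀ {ψ : P' →* Ω}, ψ ∈ F.Hom P' → ∀ {χ : P →* Ω} (h : ∀ x, φ x ∈ P'),
      (∀ x, χ x = ψ ⟨φ x, h x⟩) → ∀ {s t}, VR (rep P') P' ψ s → VR (rep P) P φ t →
      VR (rep P) P χ (s * t) := by
    intro P P' hP φ hφ hr ψ hψ χ h hχ s t hs ⟨γ₁, hγ₁, hγ₁r, hγ₁e, te₁, hte₁, ht⟩
    rw [hrepEq ⟨φ, hφ, hr⟩] at hs
    obtain ⟨γ₂, hγ₂, hγ₂r, hγ₂e, te₂, hte₂, hs⟩ := hs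
    subst hr
    have hP' : New φ.range := hNewConj hP ⟨φ, hφ, rfl⟩
    have hχr : χ.range = ψ.range := by
      ext y
      constructor
      · rintro ⟨x, rfl⟩
        exact ⟨_, (hχ x).symm⟩
      · rintro ⟨⟨_, x, rfl⟩, rfl⟩
        exact ⟨x, hχ x⟩
    have hχm : χ ∈ F.Hom P := comp_mem_of_eq hφ hψ h hχ
    have hR := hrepNew hP
    obtain ⟨N, hRN, -, hN⟩ := exists_normalizing_extension p hS hF hR.1 (hrep hP).2
      fun h' => hR.2.2 (hrad _ (hrep hP).2 hR.1 h')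
    obtain ⟨ψ₁, hψ₁, hψ₁e, hψ₁N⟩ := hN γ₁ hγ₁ hγ₁r
    obtain ⟨ψ₂, hψ₂, hψ₂e, -⟩ := hN γ₂ hγ₂ hγ₂r
    have hγR : ∀ x, γ₁ x ∈ rep P := fun x => hγ₁r.le ⟨x, rfl⟩
    refine ⟨γ₂.comp (γ₁.codRestrict _ hγR), F.comp_mem hγ₁ hγ₂ hγR, ?_, ?_, te₂ * te₁, ?_, ?_⟩
    · refine eq_of_le_of_card_le hR.1.1 ?_ (card_range (F.comp_mem hγ₁ hγ₂ hγR)).ge
      rintro _ ⟨x, rfl⟩
      exact hγ₂r.le ⟨_, rfl⟩
    · intro x h1 h2 h3
      have hx' : φ x ∈ normalizerIn S φ.range := le_normalizerIn hP'.1.1 ⟨x, rfl⟩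
      have e₁ := hγ₁e x h1 h2 hx'
      have hx'' : ψ ⟨φ x, h x⟩ ∈ normalizerIn S ψ.range :=
        le_normalizerIn (range_le_S hψ) ⟨_, rfl⟩
      have e₂ := hγ₂e ⟨φ x, h x⟩ hx' (Set.mem_of_eq_of_mem e₁.symm (hγR _)) hx''
      refine ((apply_congr γ₂ e₁).trans e₂).trans ?_
      exact congr_w hχr (hχ x).symm hx'' h3
    · have h1 := extVal_of_extends p hS hv (hUp hR) hRN (φ := γ₂.comp (γ₁.codRestrict _ hγR))
        (F.comp_mem hψ₁ hψ₂ hψ₁N) fun x => (apply_congr ψ₂ (hψ₁e x x.2 _)).trans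
          (hψ₂e _ (hγR x) (hRN.le (hγR x)))
      have h2 := hv.mul (hUp hR N hRN (le_of_mem_hom hψ₁)) hψ₁ hψ₂ hψ₁N
        (χ := ψ₂.comp (ψ₁.codRestrict N hψ₁N)) fun x => rfl
      rw [h2, ← extVal_unique p hS hF hv hR.1 (hUp hR) hγ₁ hte₁
          (extVal_of_extends p hS hv (hUp hR) hRN hψ₁ fun x => hψ₁e x x.2 _),
        ← extVal_unique p hS hF hv hR.1 (hUp hR) hγ₂ hte₂
          (extVal_of_extends p hS hv (hUp hR) hRN hψ₂ fun x => hψ₂e x x.2 _)] at h1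
      exact h1
    · rw [hs, ht, congrArg (fun R => v _ (w R)) hχr]
      group
  -- the valuation
  let v' : ∀ P : Subgroup Ω, (P →* Ω) → Δ := fun P φ =>
    if 𝒞 P then v P φ else Classical.epsilon (VR (rep P) P φ)
  have hold : ∀ P φ, 𝒞 P → v' P φ = v P φ := fun P φ h => if_pos h
  have hnew : ∀ {P} (hP : New P) {φ : P →* Ω}, φ ∈ F.Hom P → ∀ {t}, VR (rep P) P φ t →
      v' P φ = t := fun {P} hP {φ} hφ {t} ht =>
    (if_neg hP.2.2).trans (hVu hP hφ (Classical.epsilon_spec ⟨t, ht⟩) ht)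
  refine ⟨v', ⟨?_, Or.inl hv.top, ?_, ?_, ?_, ?_⟩, hold⟩
  · rintro P (h | h)
    exacts [hv.le h, h.1.1]
  · rintro P Q (h | h) hc
    exacts [Or.inl (hv.conj h hc),
      Or.inr ⟨isCentric_of_isConj h.1 hc, (IsConj.card_eq hc).symm ▸ h.2⟩]
  · rintro P Q (h | h) hPQ hQ
    exacts [Or.inl (hv.upward h hPQ hQ),
      Or.inr ⟨isCentric_mono h.1 hPQ hQ, h.2.trans (card_le_of_le hQ hPQ)⟩]
  · intro P Q φ ψ χ hP hφ hψ h hχ
    by_cases hPC : 𝒞 P
    · have hQ : 𝒞 Q := hv.upward (hv.conj hPC ⟨φ, hφ, rfl⟩)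
        (by rintro _ ⟨x, rfl⟩; exact h x) (le_of_mem_hom hψ)
      rw [hold _ _ hPC, hold _ _ hPC, hold _ _ hQ]
      exact hv.mul hPC hφ hψ h hχ
    obtain ⟨hPc, hPn⟩ := hP.resolve_left hPC
    have hPN : New P := ⟨hPc, le_antisymm (le_of_not_gt fun hlt => hPC (hbig P hPc hlt)) hPn,
      hPC⟩
    have hP' : New φ.range := hNewConj hPN ⟨φ, hφ, rfl⟩
    have hQS := le_of_mem_hom hψ
    have hle : φ.range ≤ Q := by rintro _ ⟨x, rfl⟩; exact h x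
    obtain ⟨t, ht⟩ := hγ hPN hφ
    have hχm : χ ∈ F.Hom P := comp_mem_of_eq hφ hψ h hχ
    rw [hnew hPN hφ ht]
    rcases hle.eq_or_lt with heq | hlt
    · have hQ : New Q := hNewConj hPN ⟨φ, hφ, heq⟩
      obtain ⟨s, hs⟩ := hγ hQ hψ
      rw [hnew hQ hψ hs, hnew hPN hχm (hVmul hPN hφ heq hψ h hχ hs ht)]
    · have hQ : 𝒞 Q := hUp hP' Q hlt hQS
      have hψ₁ := restrict_mem hψ hle
      have hs := hExtEq hP' hψ₁ hlt hψ fun x => rfl
      rw [hold _ _ hQ, hnew hPN hχm (hVmul hPN hφ rfl hψ₁ (fun x => ⟨x, rfl⟩)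
        (fun x => hχ x) hs ht)]
  · intro s hs
    rw [hold _ _ hv.top]
    exact hv.inner hs
where
  congr_w {Ω : Type _} [Group Ω] {S : Subgroup Ω}
      {w : ∀ P : Subgroup Ω, ↥(normalizerIn S P) →* Ω} {A B : Subgroup Ω} (h : B = A)
      {a b : Ω} (hab : a = b) (ha : a ∈ normalizerIn S A) (hb : b ∈ normalizerIn S B) :
      w A ⟨a, ha⟩ = w B ⟨b, hb⟩ := by
    subst h; subst hab; rfl

include hS hF in
/-- A valuation containing the fully normalized centric radical subgroups in its domain extends to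
all centric subgroups. -/
theorem exists_centric_extension (hv : IsVal F 𝒞 v)
    (hrad : ∀ P : Subgroup Ω, F.IsFullyNormalized P → F.IsCentric P → F.IsRadical p P → 𝒞 P) :
    ∃ v' : ∀ P : Subgroup Ω, (P →* Ω) → Δ, IsVal F F.IsCentric v' ∧
      ∀ P φ, 𝒞 P → v' P φ = v P φ := by
  have key : ∀ k : ℕ, ∃ v' : ∀ P : Subgroup Ω, (P →* Ω) → Δ,
      IsVal F (fun P => 𝒞 P ∨ (F.IsCentric P ∧ Nat.card S + 1 - k ≤ Nat.card P)) v' ∧
        ∀ P φ, 𝒞 P → v' P φ = v P φ := by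
    intro k
    induction k with
    | zero =>
      refine ⟨v, hv.mono (fun P hP => hP.resolve_right fun h => ?_) (Or.inl hv.top)
        (fun hP hc => ?_) (fun hP hle hQ => ?_), fun _ _ _ => rfl⟩
      · have := card_le_of_le le_rfl h.1.1
        omega
      · rcases hP with h | h
        · exact Or.inl (hv.conj h hc)
        · exact Or.inr ⟨isCentric_of_isConj h.1 hc, (IsConj.card_eq hc).symm ▸ h.2⟩
      · rcases hP with h | h
        · exact Or.inl (hv.upward h hle hQ)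
        · exact Or.inr ⟨isCentric_mono h.1 hle hQ, h.2.trans (card_le_of_le hQ hle)⟩
    | succ k ih =>
      obtain ⟨v₁, hv₁, h₁⟩ := ih
      obtain ⟨v₂, hv₂, h₂⟩ := exists_extend_step p hS hF hv₁ (Nat.card S + 1 - (k + 1))
        (fun P hP hlt => Or.inr ⟨hP, by omega⟩) fun P a b c => Or.inl (hrad P a b c)
      refine ⟨v₂, hv₂.mono (fun P hP => ?_) (Or.inl hv.top) (fun hP hc => ?_)
        (fun hP hle hQ => ?_), fun P φ hP => (h₂ P φ (Or.inl hP)).trans (h₁ P φ hP)⟩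
      · exact hP.imp Or.inl id
      · rcases hP with h | h
        · exact Or.inl (hv.conj h hc)
        · exact Or.inr ⟨isCentric_of_isConj h.1 hc, (IsConj.card_eq hc).symm ▸ h.2⟩
      · rcases hP with h | h
        · exact Or.inl (hv.upward h hle hQ)
        · exact Or.inr ⟨isCentric_mono h.1 hle hQ, h.2.trans (card_le_of_le hQ hle)⟩
  obtain ⟨v', hv', h⟩ := key (Nat.card S + 1)
  exact ⟨v', hv'.centric fun P hP => Or.inr ⟨hP, by simp⟩, h⟩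

end Step

end CfsgLib.Fusion
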