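import Cfsg.Agent.Fusion.PrimeCharacter

/-!
A centric subgroup meeting a strongly closed subgroup `T` in a subgroup that is not self-centralizing
in `T` has, up to conjugacy, outer `p`-automorphisms induced from `S` in the `p`-core.
-/

set_option autoImplicit false

open Cfsg Cfsg.FusionSystem

namespace CfsgLib.Fusion

variable {Ω : Type*} [Group Ω] {S T : Subgroup Ω} [Finite S] {F : FusionSystem S} (p : ℕ)
  [Fact p.Prime] (hS : IsPGroup p S)

include hS in
/-- Conjugation by an element of `T` centralizing `P ∩ T` lies in the `p`-core of `Aut_F(P)`. -/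
theorem conjAut_mem_pCore (hT : F.StronglyClosed T) {P : Subgroup Ω} (hPS : P ≤ S) {g : Ω}
    (hgT : g ∈ T) (hg : g ∈ normalizerIn S P) (hgc : ∀ x ∈ P ⊓ T, x * g = g * x) :
    conjAut S P ⟨g, hg⟩ ∈ (pCore p (F.autGroup P)).map (F.autGroup P).subtype := by
  have := finite_of_le hPS
  have : Finite (MulAut P) := finite_mulAut
  have hQS : P ⊓ T ≤ S := inf_le_left.trans hPS
  let L : Subgroup (MulAut P) :=
    { carrier := {a | a ∈ F.autGroup P ∧ (∀ x : P, (x : Ω) ∈ T → a x = x) ∧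
        ∀ x : P, ((x⁻¹ * a x : P) : Ω) ∈ T}
      one_mem' := ⟨one_mem _, fun x _ => rfl, fun x => by simp⟩
      mul_mem' := by
        rintro a a' ⟨ha, haf, hal⟩ ⟨ha', ha'f, ha'l⟩
        refine ⟨mul_mem ha ha', fun x hx => ?_, fun x => ?_⟩
        · rw [MulAut.mul_apply, ha'f x hx, haf x hx]
        · have e : x⁻¹ * (a * a') x = (x⁻¹ * a' x) * ((a' x)⁻¹ * a (a' x)) := by
            rw [MulAut.mul_apply]; group
          rw [e]
          exact T.mul_mem (ha'l x) (hal _)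
      inv_mem' := by
        rintro a ⟨ha, haf, hal⟩
        refine ⟨Subgroup.inv_mem _ ha, fun x hx => ?_, fun x => ?_⟩
        · conv_lhs => rw [← haf x hx]
          exact MulAut.inv_apply_self P a x
        · have h1 := T.inv_mem (hal (a⁻¹ x))
          rw [MulAut.apply_inv_self] at h1
          have e : x⁻¹ * a⁻¹ x = ((a⁻¹ x)⁻¹ * x)⁻¹ := by group
          rw [e]
          exact h1 }
  have hgA : conjAut S P ⟨g, hg⟩ ∈ F.autGroup P :=
    autInducedBy_le_autGroup hPS (mem_autInducedBy.2 ⟨g, hg.1, fun _ => rfl⟩)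
  have hgL : conjAut S P ⟨g, hg⟩ ∈ L := by
    refine ⟨hgA, fun x hx => Subtype.ext ?_, fun x => ?_⟩
    · show g * (x : Ω) * g⁻¹ = x
      rw [← hgc x ⟨x.2, hx⟩]
      group
    · show (x : Ω)⁻¹ * (g * x * g⁻¹) ∈ T
      have h1 : (x : Ω)⁻¹ * g * x ∈ T := by
        simpa using (Subgroup.mem_normalizer_iff.1
          (stronglyClosed_normal_in_S hT (Subgroup.inv_mem _ (hPS x.2))) g).1 hgT
      simpa [mul_assoc] using mul_mem h1 (T.inv_mem hgT)
  refine ⟨⟨_, hgA⟩, CfsgLib.Solvable.le_pCore p (N := L.subgroupOf (F.autGroup P)) ?_ ?_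
    (Subgroup.mem_subgroupOf.2 hgL), rfl⟩
  · refine ⟨fun c hc a => Subgroup.mem_subgroupOf.2 ?_⟩
    obtain ⟨hcA, hcf, hcl⟩ := Subgroup.mem_subgroupOf.1 hc
    have hstab : ∀ e ∈ F.autGroup P, ∀ x : P, (x : Ω) ∈ T → ((e x : P) : Ω) ∈ T :=
      fun e he x hx => le_of_stronglyClosed_aut hT hPS he x hx
    refine ⟨mul_mem (mul_mem a.2 hcA) (Subgroup.inv_mem _ a.2), fun x hx => ?_, fun x => ?_⟩
    · show (a : MulAut P) ((c : MulAut P) ((a : MulAut P)⁻¹ x)) = x
      rw [hcf _ (hstab _ (Subgroup.inv_mem _ a.2) x hx), MulAut.apply_inv_self]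
    · have h1 := hstab a a.2 _ (hcl ((a : MulAut P)⁻¹ x))
      rw [map_mul, map_inv, MulAut.apply_inv_self] at h1
      exact h1
  · intro a
    obtain ⟨-, haf, hal⟩ := Subgroup.mem_subgroupOf.1 a.2
    have := finite_of_le hQS
    obtain ⟨k, hk⟩ := IsPGroup.iff_card.1 (isPGroup_of_le hS hQS)
    refine ⟨k, Subtype.ext (Subtype.ext (MulEquiv.ext fun x => ?_))⟩
    have h1 := pow_mul_fix ((a : F.autGroup P) : MulAut P) (B := ⊤) (C := T.subgroupOf P) (N := 1)
      (fun y _ => hal y) (fun y hy => Set.mem_of_eq_of_mem (haf y hy) hy)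
      (fun c hc' => by rw [pow_one]; exact haf c hc') x trivial
    have hcard : Nat.card (T.subgroupOf P) = p ^ k := by
      rw [← Subgroup.inf_subgroupOf_left,
        Nat.card_congr (Subgroup.subgroupOfEquivOfLe (inf_le_left : P ⊓ T ≤ P)).toEquiv, hk]
    rw [one_mul, hcard] at h1
    exact h1

variable (hF : F.IsSaturated p)

include hS hF in
/-- The witness on some conjugate. -/
theorem exists_outer_in_pCore (hT : F.StronglyClosed T) {P : Subgroup Ω} (hc : F.IsCentric P)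
    (hPT : ¬ SelfCentralizingIn F T (P ⊓ T)) :
    ∃ φ ∈ F.Hom P, ∃ x ∈ S ⊓ Subgroup.normalizer (φ.range : Set Ω), x ∉ φ.range ∧
      ∃ α ∈ ((pCore p ↥(F.autGroup φ.range)).map (F.autGroup φ.range).subtype :
        Subgroup (MulAut ↥φ.range)),
        ∀ y : ↥φ.range, ((α y : ↥φ.range) : Ω) = x * (y : Ω) * x⁻¹ := by
  have hPS := hc.1
  have hQS : P ⊓ T ≤ S := inf_le_left.trans hPS
  obtain ⟨Q₁, hQQ₁, hQ₁n⟩ := exists_fullyNormalized F hQS
  obtain ⟨h₁, h₂⟩ := good_of_fullyNormalized p hS hF hQ₁n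
  obtain ⟨w, hw, hwN, hwm⟩ := exists_map_normalizer p hS h₁ h₂ hQQ₁
  have hTn : ∀ x ∈ S, x ∈ Subgroup.normalizer (T : Set Ω) := fun x hx =>
    stronglyClosed_normal_in_S hT hx
  have hPN : P ≤ normalizerIn S (P ⊓ T) := fun x hx => ⟨hPS hx,
    mem_normalizer_of_conj_mem hQS fun y hy => ⟨P.mul_mem (P.mul_mem hx hy.1) (P.inv_mem hx),
      (Subgroup.mem_normalizer_iff.1 (hTn x (hPS hx)) y).1 hy.2⟩⟩
  let b := w.comp (Subgroup.inclusion hPN)
  have hb : b ∈ F.Hom P := restrict_mem hw hPN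
  have hbc : F.IsCentric b.range := isCentric_of_isConj hc ⟨b, hb, rfl⟩
  have hbT : b.range ⊓ T = Q₁ := by
    rw [← map_inf_stronglyClosed hT hb, ← hwm]
    exact map_subgroupOf_congr inf_le_left (inf_le_left.trans hPN) fun x hx => rfl
  have key : ¬ centralizerIn T Q₁ ≤ b.range := by
    intro key
    refine hPT ⟨inf_le_right, fun R hR c hc' => ?_⟩
    obtain ⟨φ, hφ, hφr⟩ := isConj_trans (isConj_symm hR) hQQ₁
    obtain ⟨ψ, hψ, hψe⟩ := receptive_extend
      (receptive_of_fullyCentralized p hS hF (fullyCentralized_of_fullyNormalized p hS hF hQ₁n))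
      hφ hφr (N := R ⊔ centralizerIn S R)
      (sup_le (le_extender hφ) (centralizerIn_le_extender R φ))
    have hcS : c ∈ centralizerIn S R := ⟨hT.1 hc'.1, hc'.2⟩
    have hcN : c ∈ R ⊔ centralizerIn S R := Subgroup.mem_sup_right hcS
    have h1 := map_mem_centralizerIn hψ (P := R) le_sup_left hcS hcN
    rw [map_eq_range_of_eq le_sup_left hψe, hφr] at h1
    have h2 : ψ ⟨c, hcN⟩ ∈ T := map_mem_of_stronglyClosed hT hψ (x := ⟨c, hcN⟩) hc'.1
    obtain ⟨r, hr'⟩ := hφr.ge (hbT.le ⟨key ⟨h2, h1.2⟩, h2⟩)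
    have h4 : (⟨c, hcN⟩ : ↥(R ⊔ centralizerIn S R)) = Subgroup.inclusion le_sup_left r :=
      F.injective_of_mem hψ (hr'.symm.trans (hψe r r.2 _).symm)
    exact Set.mem_of_eq_of_mem (congrArg Subtype.val h4) r.2
  have hn : b.range ≤ Subgroup.normalizer (centralizerIn T Q₁ : Set Ω) := by
    rintro _ ⟨y, rfl⟩
    have hxN : b y ∈ normalizerIn S Q₁ := hwN _
    refine mem_normalizer_of_conj_mem (inf_le_left.trans hT.1) fun c hc' => ?_
    refine ⟨(Subgroup.mem_normalizer_iff.1 (hTn _ hxN.1) c).1 hc'.1, fun q hq => ?_⟩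
    generalize b y = x at hxN
    have hq' : x⁻¹ * q * x ∈ Q₁ := (Subgroup.mem_normalizer_iff''.1 hxN.2 q).1 hq
    have h3 := hc'.2 _ hq'
    calc q * (x * c * x⁻¹) = x * (x⁻¹ * q * x * c) * x⁻¹ := by group
      _ = x * (c * (x⁻¹ * q * x)) * x⁻¹ := by rw [h3]
      _ = x * c * x⁻¹ * q := by group
  by_contra hne
  refine key (le_of_normalizer_le p hS hbc.1 (inf_le_left.trans hT.1) hn fun g hg hgn => ?_)
  by_contra hgb
  refine hne ⟨b, hb, g, ⟨hT.1 hg.1, hgn⟩, hgb, _,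
    conjAut_mem_pCore p hS hT hbc.1 hg.1 ⟨hT.1 hg.1, hgn⟩ fun x hx => hg.2 x (hbT.le hx),
    fun y => rfl⟩

end CfsgLib.Fusion
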