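import Cfsg.Agent.Fusion.AbelianType
import Cfsg.Agent.Fusion.MetacyclicTwo
import Cfsg.Agent.FGSA.MetacyclicAct

/-!
Coprime automorphisms of metacyclic groups of odd order.
-/

set_option autoImplicit false
set_option linter.unusedSectionVars false
set_option linter.style.haveILetI false

open Cfsg Cfsg.FusionSystem
open scoped commutatorElement

namespace CfsgLib.Fusion

universe u

variable {Ω : Type u} [Group Ω] {S : Subgroup Ω} {p : ℕ}

/-! ### Coprime automorphisms, odd `p` -/

/-- Coprime automorphisms of a cyclic `p`-group have order dividing `p - 1`. -/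
theorem pow_pred_eq_one_of_cyclic {C : Type u} [CommGroup C] [Finite C] [Fact p.Prime] [IsCyclic C]
    (hC : IsPGroup p C) {φ : MulAut C} (hφ : (orderOf φ).Coprime p) : φ ^ (p - 1) = 1 := by
  have hp := (Fact.out : p.Prime)
  have hcop : (orderOf (φ ^ (p - 1))).Coprime p :=
    hφ.coprime_dvd_left (orderOf_dvd_of_pow_eq_one (by
      rw [← pow_mul, mul_comm, pow_mul, pow_orderOf_eq_one, one_pow]))
  refine aut_eq_one_of_abelian hC hcop fun z hz => ?_
  obtain ⟨a, ha⟩ := MonoidHom.map_cyclic φ.toMonoidHom
  have hit : ∀ n : ℕ, (φ ^ n) z = z ^ (a ^ n) := by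
    intro n
    induction n with
    | zero => simp
    | succ n ih =>
      rw [pow_succ', MulAut.mul_apply, ih, map_zpow, show φ z = z ^ a from ha z, ← zpow_mul, pow_succ']
  rw [hit]
  by_cases hz1 : z = 1
  · rw [hz1, one_zpow]
  have hord := orderOf_eq_prime hz hz1
  have hna : ¬ (p : ℤ) ∣ a := fun h => hz1 (φ.injective (by
    rw [map_one, show φ z = z ^ a from ha z, ← orderOf_dvd_iff_zpow_eq_one, hord]; exact h))
  conv_rhs => rw [← zpow_one z]
  rw [zpow_eq_zpow_iff_modEq, hord]
  have h := ZMod.pow_card_sub_one_eq_one (p := p) (a := (a : ZMod p))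
    (by rwa [Ne, ZMod.intCast_zmod_eq_zero_iff_dvd])
  exact (ZMod.intCast_eq_intCast_iff _ _ _).1 (by push_cast; exact h)

/-- Coprime automorphisms of a metacyclic group of odd order which is not homocyclic. -/
theorem aut_of_metacyclic_odd [Finite S] [Fact p.Prime] (hS : IsPGroup p S) (hp2 : p ≠ 2)
    (hm : Cfsg.IsMetacyclic S)
    (hno : ¬ ∃ n : ℕ, 0 < n ∧ Nonempty (S ≃* Multiplicative (ZMod (p ^ n)) × Multiplicative (ZMod (p ^ n))))
    (H : Subgroup (MulAut S)) (hH : (Nat.card H).Coprime p) :
    IsMulCommutative H ∧ ∀ h ∈ H, h ^ (p - 1) = 1 := by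
  have hp := (Fact.out : p.Prime)
  have hG := CfsgLib.FGSA.Metacyclic.good_of_metacyclic hp2 hS hm
  by_cases hab : IsMulCommutative S
  · refine (abelian_aut_iff hS hab).2 ?_ H hH
    rintro ⟨n, K, _, hn, ⟨e⟩⟩
    refine hno ⟨n, hn, ?_⟩
    have : NeZero (p ^ n) := ⟨(pow_pos hp.pos n).ne'⟩
    have hK : Subsingleton K := by
      refine ⟨fun a b => ?_⟩
      by_contra hne
      have hKfin : Finite K := Finite.of_surjective (fun s : S => (e s).2)
        fun k => ⟨e.symm (1, k), by simp⟩
      have hKp : IsPGroup p K := hS.of_surjective ((MonoidHom.snd _ K).comp e.toMonoidHom)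
        fun k => ⟨e.symm (1, k), by simp⟩
      have : Nontrivial K := ⟨⟨a, b, hne⟩⟩
      obtain ⟨j, hj0, hj⟩ := hKp.nontrivial_iff_card.1 this
      obtain ⟨k, hk⟩ := exists_prime_orderOf_dvd_card' (G := K) p (hj ▸ dvd_pow_self p hj0.ne')
      obtain ⟨g, hg⟩ : ∃ g : Multiplicative (ZMod (p ^ n)), orderOf g = p := by
        refine exists_prime_orderOf_dvd_card' p ?_
        rw [Nat.card_congr Multiplicative.toAdd, Nat.card_zmod]
        exact dvd_pow_self p hn.ne'
      let f : (Subgroup.zpowers g × Subgroup.zpowers g) × Subgroup.zpowers k →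
          Cfsg.omegaOne p (⊤ : Subgroup S) := fun w =>
        ⟨e.symm (((w.1.1 : Multiplicative (ZMod (p ^ n))), (w.1.2 : Multiplicative (ZMod (p ^ n)))), (w.2 : K)),
          Subgroup.subset_closure ⟨trivial, by
            have hkill : ∀ {M : Type} [Group M] {m : M} (x : Subgroup.zpowers m),
                orderOf m = p → (x : M) ^ p = 1 := by
              intro M _ m x hm
              obtain ⟨i, hi⟩ := x.2
              rw [← hi, ← zpow_natCast, ← zpow_mul, mul_comm, zpow_mul, zpow_natCast, ← hm,
                pow_orderOf_eq_one, one_zpow]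
            rw [← map_pow, map_eq_one_iff _ e.symm.injective]
            exact Prod.ext (Prod.ext (hkill w.1.1 hg) (hkill w.1.2 hg)) (hkill w.2 hk)⟩⟩
      have hf : Function.Injective f := fun v w h => by
        have h' := e.symm.injective (congrArg Subtype.val h)
        simp only [Prod.mk.injEq] at h'
        exact Prod.ext (Prod.ext (Subtype.ext h'.1.1) (Subtype.ext h'.1.2)) (Subtype.ext h'.2)
      have hle := (Nat.card_le_card_of_injective f hf).trans hG.small
      rw [Nat.card_prod, Nat.card_prod, Nat.card_zpowers, Nat.card_zpowers, hg, hk, ← pow_two,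
        ← pow_succ] at hle
      exact absurd ((Nat.pow_le_pow_iff_right hp.one_lt).1 hle) (by omega)
    exact ⟨e.trans
      { toFun := Prod.fst
        invFun := fun a => (a, 1)
        left_inv := fun a => Prod.ext rfl (Subsingleton.elim _ _)
        right_inv := fun a => rfl
        map_mul' := fun a b => rfl }⟩
  haveI := hG.cyc
  letI : CommGroup (commutator S) := IsCyclic.commGroup
  have hnab : commutator S ≠ ⊥ := fun h => hab ⟨⟨fun a b =>
    commutatorElement_eq_one_iff_mul_comm.1 (Subgroup.mem_bot.1 (h ▸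
      Subgroup.commutator_mem_commutator (Subgroup.mem_top a) (Subgroup.mem_top b)))⟩⟩
  have : Finite (MulAut S) := finite_mulAut
  have hinv : ∀ h : MulAut S, ∀ c ∈ commutator S, h c ∈ commutator S := fun h c hc =>
    Subgroup.characteristic_iff_le_comap.1 inferInstance h hc
  let ρ : H →* MulAut (commutator S) := MonoidHom.mk'
    (fun h => resAut (commutator S) (h : MulAut S) (hinv h))
    fun a b => MulEquiv.ext fun c => Subtype.ext rfl
  have hρ : ∀ h : H, ρ h = 1 → h = 1 := by
    intro h hh
    have hc : (orderOf (h : MulAut S)).Coprime p :=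
      hH.coprime_dvd_left (Subgroup.orderOf_dvd_natCard H h.2)
    have hcf : CfsgLib.FGSA.MetacyclicAct.CosetFix (h : MulAut S) := by
      intro N hN hNi y hy
      obtain ⟨k, hk⟩ := IsPGroup.iff_card.1 (hS.to_subgroup N)
      have hNsol : Group.IsSolvable N := by
        haveI := (hS.to_subgroup N).isNilpotent
        exact IsNilpotent.to_isSolvable
      have hinv' : ∀ a ∈ Subgroup.zpowers (h : MulAut S), ∀ n ∈ N, a n ∈ N := by
        intro a ha
        obtain ⟨i, hi⟩ := (Submonoid.mem_powers_iff _ _).1
          ((isOfFinOrder_of_finite _).mem_powers_iff_mem_zpowers.2 ha)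
        subst hi
        induction i with
        | zero => intro n hn; exact hn
        | succ i ih =>
          intro n hn
          rw [pow_succ', MulAut.mul_apply]
          exact hNi _ (ih (pow_mem (Subgroup.mem_zpowers _) i) n hn)
      obtain ⟨x, hx, hx'⟩ := CfsgLib.Coprime.exists_fixed_mem_coset_of_isSolvable'
        (A := Subgroup.zpowers (h : MulAut S)) N (fun b n hn => hinv' b b.2 n hn)
        (by rw [Nat.card_zpowers, hk]; exact hc.pow_right k) y (fun a => by
          obtain ⟨i, hi⟩ := (Submonoid.mem_powers_iff _ _).1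
            ((isOfFinOrder_of_finite _).mem_powers_iff_mem_zpowers.2 a.2)
          show y⁻¹ * (a : MulAut S) y ∈ N
          rw [← hi]
          clear hi
          induction i with
          | zero => simp
          | succ i ih =>
            rw [pow_succ', MulAut.mul_apply]
            have e : y⁻¹ * (h : MulAut S) (((h : MulAut S) ^ i) y) =
                (y⁻¹ * (h : MulAut S) y) * (h : MulAut S) (y⁻¹ * ((h : MulAut S) ^ i) y) := by
              rw [map_mul, map_inv]; group
            rw [e]
            exact mul_mem hy (hNi _ ih))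
      exact ⟨x, hx ⟨_, Subgroup.mem_zpowers _⟩, hx'⟩
    exact Subtype.ext (MulEquiv.ext (CfsgLib.FGSA.MetacyclicAct.eq_of_fix_derived hp2 hG hnab _ hcf
      fun c hc => (congrArg Subtype.val (DFunLike.congr_fun hh (⟨c, hc⟩ : commutator S)) :)))
  have hρc : ∀ a b : H, Commute (ρ a) (ρ b) := by
    intro a b
    obtain ⟨i, hi⟩ := MonoidHom.map_cyclic (ρ a).toMonoidHom
    obtain ⟨j, hj⟩ := MonoidHom.map_cyclic (ρ b).toMonoidHom
    refine MulEquiv.ext fun c => ?_
    simp only [MulEquiv.coe_toMonoidHom] at hi hj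
    rw [MulAut.mul_apply, MulAut.mul_apply, hj c, map_zpow, hi c, map_zpow, hj c, ← zpow_mul,
      ← zpow_mul, mul_comm]
  refine ⟨⟨⟨fun a b => ?_⟩⟩, fun a ha => ?_⟩
  · refine commutatorElement_eq_one_iff_mul_comm.1 (hρ _ ?_)
    rw [map_commutatorElement]
    exact commutatorElement_eq_one_iff_commute.2 (hρc a b)
  · have h1 := pow_pred_eq_one_of_cyclic (hS.to_subgroup (commutator S))
      (φ := ρ ⟨a, ha⟩) (hH.coprime_dvd_left ((orderOf_map_dvd ρ _).trans (orderOf_dvd_natCard _)))
    rw [← map_pow] at h1
    exact congrArg Subtype.val (hρ _ h1)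

/-- When the automorphism group is a `p`-group there are no coprime automorphisms. -/
theorem aut_of_isPGroup [Finite S] [Fact p.Prime] (hA : IsPGroup p (MulAut S))
    (H : Subgroup (MulAut S)) (hH : (Nat.card H).Coprime p) :
    IsMulCommutative H ∧ ∀ h ∈ H, h ^ (p - 1) = 1 := by
  have : Finite (MulAut S) := finite_mulAut
  obtain ⟨k, hk⟩ := IsPGroup.iff_card.1 (hA.to_subgroup H)
  have hbot : H = ⊥ := Subgroup.eq_bot_of_card_eq _
    (Nat.eq_one_of_dvd_coprimes (hH.pow_right k) dvd_rfl hk.dvd)
  subst hbot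
  exact ⟨inferInstance, fun h hh => by rw [Subgroup.mem_bot.1 hh, one_pow]⟩

end CfsgLib.Fusion
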