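import Cfsg.Agent.Fusion.OmegaSeries
import Cfsg.Agent.FGSA.Metacyclic
import Cfsg.Agent.Solvable.PGroupBasic

/-!
A strongly closed metacyclic subgroup is normal in a saturated fusion system, for odd `p`.
-/

set_option autoImplicit false

open Cfsg Cfsg.FusionSystem
open scoped commutatorElement

namespace CfsgLib.Fusion

variable {Ω : Type*} [Group Ω] {S : Subgroup Ω} {F : FusionSystem S}

theorem mem_zpowers_symm [Finite S] {p : ℕ} [Fact p.Prime] {z x : Ω} (hzS : z ∈ S)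
    (hz : z ^ p = 1) (hx : x ∈ Subgroup.zpowers z) (hx1 : x ≠ 1) : z ∈ Subgroup.zpowers x := by
  have hzle : Subgroup.zpowers z ≤ S := Subgroup.zpowers_le.2 hzS
  have := finite_of_le hzle
  have hxp : x ^ p = 1 := by
    obtain ⟨i, rfl⟩ := Subgroup.mem_zpowers_iff.1 hx
    rw [← zpow_natCast, ← zpow_mul, mul_comm, zpow_mul, zpow_natCast, hz, one_zpow]
  have hz1 : z ≠ 1 := by
    rintro rfl
    simp [Subgroup.zpowers_one_eq_bot] at hx
    exact hx1 hx
  have hle : Nat.card (Subgroup.zpowers z) ≤ Nat.card (Subgroup.zpowers x) := by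
    rw [Nat.card_zpowers, Nat.card_zpowers, orderOf_eq_prime hz hz1, orderOf_eq_prime hxp hx1]
  rw [Subgroup.eq_of_le_of_card_ge (Subgroup.zpowers_le.2 hx) hle]
  exact Subgroup.mem_zpowers z

theorem exists_nat_pow {G : Type*} [Group G] {p : ℕ} [Fact p.Prime] {x d : G} (hx : x ^ p = 1)
    (hd : d ∈ Subgroup.zpowers x) : ∃ k : ℕ, x ^ k = d :=
  Submonoid.mem_powers_iff _ _ |>.1
    ((isOfFinOrder_iff_pow_eq_one.2 ⟨p, (Fact.out : p.Prime).pos, hx⟩).mem_powers_iff_mem_zpowers.2 hd)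

theorem conj_commutator_mem [Finite S] {P : Subgroup Ω} (hP : F.StronglyClosed P) {g x : Ω}
    (hg : g ∈ S) (hx : x ∈ ⁅P, P⁆) : g * x * g⁻¹ ∈ ⁅P, P⁆ := by
  have h : ⁅P, P⁆ ≤ ⁅P, P⁆.comap (MulAut.conj g).toMonoidHom := by
    refine (Subgroup.commutator_le).2 fun a ha b hb => ?_
    have hn := Subgroup.mem_normalizer_iff.1 (stronglyClosed_normal_in_S hP hg)
    rw [Subgroup.mem_comap, map_commutatorElement]
    exact Subgroup.commutator_mem_commutator ((hn a).1 ha) ((hn b).1 hb)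
  exact h hx

theorem sigma_pow {x y c t : Ω} (hc : x * y * x⁻¹ = y * c) (ht : x * c * x⁻¹ = c * t)
    (hxt : x * t * x⁻¹ = t) (hct : Commute c t) :
    ∀ n : ℕ, x ^ n * y * (x ^ n)⁻¹ = y * c ^ n * t ^ n.choose 2 := by
  intro n
  induction n with
  | zero => simp
  | succ n ih =>
    have e : x ^ (n + 1) * y * (x ^ (n + 1))⁻¹ = MulAut.conj x (x ^ n * y * (x ^ n)⁻¹) := by
      rw [MulAut.conj_apply, pow_succ']; group
    rw [e, ih, map_mul, map_mul, map_pow, map_pow, MulAut.conj_apply, MulAut.conj_apply,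
      MulAut.conj_apply, hc, ht, hxt, hct.mul_pow,
      Nat.choose_succ_succ' n 1, Nat.choose_one_right, pow_add t, pow_succ' c n]
    simp only [mul_assoc]

/-- An automorphism group of an elementary group of order `p ^ 2` containing two transvections
contains the inversion. -/
theorem exists_inversion {W : Type*} [Group W] (hcomm : ∀ a b : W, Commute a b)
    (A : Subgroup (MulAut W)) {z u w : W}
    (hgen : ∀ K : Subgroup W, z ∈ K → u ∈ K → K = ⊤)
    {A1 A2 G : MulAut W} (h1 : A1 ∈ A) (h2 : A2 ∈ A) (hG : G ∈ A)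
    (h1z : A1 z = z) (h1u : A1 u = z * u) (h2z : A2 z = z) (h2w : A2 w = z⁻¹ * w)
    (hGz : G z = u) (hGw : G w = z) : ∃ T ∈ A, ∀ v, T v = v⁻¹ := by
  let B := G * A2 * G⁻¹
  have hBu : B u = u := by
    show G (A2 (G⁻¹ u)) = u
    rw [← hGz, MulAut.inv_apply_self, h2z]
  have hBz : B z = u⁻¹ * z := by
    show G (A2 (G⁻¹ z)) = u⁻¹ * z
    conv_lhs => rw [← hGw]
    rw [MulAut.inv_apply_self, h2w, map_mul, map_inv, hGz, hGw]
  let T := A1 * B * A1
  have hTz : T z = u⁻¹ := by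
    show A1 (B (A1 z)) = u⁻¹
    rw [h1z, hBz, map_mul, map_inv, h1u, h1z, mul_inv_rev, mul_assoc, inv_mul_cancel, mul_one]
  have hTu : T u = z := by
    show A1 (B (A1 u)) = z
    rw [h1u, map_mul, hBu, hBz, map_mul, map_mul, map_inv, h1z, h1u, mul_inv_rev, mul_assoc,
      mul_assoc, inv_mul_cancel_left, (hcomm u⁻¹ _).eq, mul_assoc, mul_inv_cancel, mul_one]
  have hT : T ∈ A := mul_mem (mul_mem h1 (mul_mem (mul_mem hG h2) (inv_mem hG))) h1
  refine ⟨T * T, mul_mem hT hT, fun v => ?_⟩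
  let K : Subgroup W :=
    { carrier := {v | (T * T) v = v⁻¹}
      one_mem' := by simp
      mul_mem' := fun {a b} ha hb => by
        show (T * T) (a * b) = (a * b)⁻¹
        rw [map_mul, ha, hb, mul_inv_rev, (hcomm a⁻¹ b⁻¹).eq]
      inv_mem' := fun {a} ha => by
        show (T * T) a⁻¹ = a⁻¹⁻¹
        rw [map_inv, ha] }
  have hKt : K = ⊤ := by
    refine hgen K ?_ ?_
    · show T (T z) = z⁻¹
      rw [hTz, map_inv, hTu]
    · show T (T u) = u⁻¹
      rw [hTu, hTz]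
  exact (hKt.ge trivial : v ∈ K)

/-- For odd `p` a strongly closed metacyclic subgroup is normal. -/
theorem isNormal_of_metacyclic_odd [Finite S] (p : ℕ) [Fact p.Prime] (hp2 : p ≠ 2)
    (hS : IsPGroup p S) (hF : F.IsSaturated p) {P : Subgroup Ω} (hP : F.StronglyClosed P)
    (hm : Cfsg.IsMetacyclic P) : F.IsNormal P := by
  classical
  have hp := (Fact.out : p.Prime)
  have := finite_of_le hP.1
  have hPp : IsPGroup p P := isPGroup_of_le hS hP.1
  have hgood := CfsgLib.FGSA.Metacyclic.good_of_metacyclic hp2 hPp hm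
  have law := hgood.law hp2 1
  have htor : ∀ a ∈ P, ∀ b ∈ P, a ^ p = 1 → b ^ p = 1 → (a * b) ^ p = 1 := by
    intro a ha b hb hap hbp
    have h := CfsgLib.FGSA.Regular.torsion_mul hPp law (a := (⟨a, ha⟩ : P)) (b := ⟨b, hb⟩)
      (by rw [pow_one]; exact Subtype.ext hap) (by rw [pow_one]; exact Subtype.ext hbp)
    rw [pow_one] at h
    exact congrArg Subtype.val h
  let W : Subgroup Ω :=
    { carrier := {x | x ∈ P ∧ x ^ p = 1}
      one_mem' := ⟨one_mem _, one_pow _⟩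
      mul_mem' := fun {a b} ha hb => ⟨mul_mem ha.1 hb.1, htor a ha.1 b hb.1 ha.2 hb.2⟩
      inv_mem' := fun {a} ha => ⟨inv_mem ha.1, by rw [inv_pow, ha.2, inv_one]⟩ }
  have hWP : W ≤ P := fun x hx => hx.1
  have hWS : W ≤ S := hWP.trans hP.1
  have := finite_of_le hWS
  have hWsc : F.StronglyClosed W := by
    refine ⟨hWS, fun R hR φ hφ x => ⟨hP.2 R (hR.trans hWP) φ hφ x, ?_⟩⟩
    rw [← map_pow, show x ^ p = 1 from Subtype.ext (hR x.2).2, map_one]
  have hWcard : Nat.card W ≤ p ^ 2 := by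
    refine le_trans ?_ hgood.small
    let f : W → Cfsg.omegaOne p (⊤ : Subgroup P) := fun x =>
      ⟨⟨x.1, x.2.1⟩, Subgroup.subset_closure ⟨trivial, Subtype.ext x.2.2⟩⟩
    refine Nat.card_le_card_of_injective f fun a b h => Subtype.ext ?_
    exact congrArg (fun y : Cfsg.omegaOne p (⊤ : Subgroup P) => ((y : P) : Ω)) h
  by_cases hcz : ∀ v ∈ W, ∀ g ∈ P, Commute v g
  · refine isNormal_of_omega_series p hp2 hS hF hP (n := 1) ![⊥, W] rfl
      (fun x hx hxp => ⟨hx, hxp⟩) ?_ ?_ ?_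
    · intro i j hij
      fin_cases i <;> fin_cases j <;> simp_all
    · intro i
      fin_cases i
      exacts [stronglyClosed_bot, hWsc]
    · intro i
      fin_cases i
      show ⁅W, P⁆ ≤ ⊥
      rw [Subgroup.commutator_le]
      intro a ha b hb
      rw [Subgroup.mem_bot, commutatorElement_eq_one_iff_commute]
      exact hcz a ha b hb
  have hWn : ∀ g ∈ S, ∀ v ∈ W, g * v * g⁻¹ ∈ W := fun g hg v hv =>
    (Subgroup.mem_normalizer_iff.1 (stronglyClosed_normal_in_S hWsc hg) v).1 hv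
  -- the elements of order `p` of the cyclic derived subgroup
  obtain ⟨z, hz1, hzW, hzP', hzS, hP'⟩ : ∃ z, z ≠ 1 ∧ z ∈ W ∧ z ∈ ⁅P, P⁆ ∧
      (∀ g ∈ S, Commute g z) ∧ ∀ x ∈ ⁅P, P⁆, x ^ p = 1 → x ∈ Subgroup.zpowers z := by
    push Not at hcz
    obtain ⟨v, hv, g, hg, hvg⟩ := hcz
    let K : Subgroup Ω := W ⊓ ⁅P, P⁆
    have hK1 : ⁅v, g⁆ ∈ K := by
      refine ⟨?_, Subgroup.commutator_mem_commutator (hWP hv) hg⟩
      rw [commutatorElement_def, mul_assoc, mul_assoc, ← mul_assoc g]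
      exact mul_mem hv (hWn g (hP.1 hg) _ (inv_mem hv))
    have hKS : K ≤ S := inf_le_left.trans hWS
    have hNn : (K.subgroupOf S).Normal := ⟨fun a ha b =>
      ⟨hWn b b.2 _ ha.1, conj_commutator_mem hP b.2 ha.2⟩⟩
    have hNne : K.subgroupOf S ≠ ⊥ := fun hb => by
      have h1 : (⟨⁅v, g⁆, hKS hK1⟩ : S) ∈ K.subgroupOf S := hK1
      rw [hb, Subgroup.mem_bot] at h1
      exact hvg (commutatorElement_eq_one_iff_commute.1 (congrArg Subtype.val h1))
    have := hS.isNilpotent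
    obtain ⟨⟨z, hzS0⟩, ⟨hzK, hzc⟩, hz1⟩ := (Subgroup.bot_or_exists_ne_one _).resolve_left
      (CfsgLib.PGroupBasic.inf_center_ne_bot (K.subgroupOf S) hNne)
    have hz1' : z ≠ 1 := fun h => hz1 (Subtype.ext h)
    refine ⟨z, hz1', hzK.1, hzK.2, fun g hg => congrArg Subtype.val
      (Subgroup.mem_center_iff.1 hzc ⟨g, hg⟩), fun x hx hxp => ?_⟩
    have := finite_of_le hKS
    have hPP : ⁅P, P⁆ ≤ P := Subgroup.commutator_le.2 fun a ha b hb => by
      rw [commutatorElement_def]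
      exact mul_mem (mul_mem (mul_mem ha hb) (inv_mem ha)) (inv_mem hb)
    have hcyc : IsCyclic K := by
      have := hgood.cyc
      have : IsCyclic ((_root_.commutator P).map P.subtype) :=
        isCyclic_of_surjective _
          ((_root_.commutator P).equivMapOfInjective _ P.subtype_injective).surjective
      have hle : K ≤ (_root_.commutator P).map P.subtype := by
        rw [Subgroup.map_subtype_commutator]; exact inf_le_right
      exact isCyclic_of_injective (Subgroup.inclusion hle) (Subgroup.inclusion_injective hle)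
    obtain ⟨c, hc⟩ := IsCyclic.exists_ofOrder_eq_natCard (α := K)
    have hcard : Nat.card K ≤ Nat.card (Subgroup.zpowers z) := by
      rw [Nat.card_zpowers, orderOf_eq_prime (show z ^ p = 1 from hzK.1.2) hz1', ← hc]
      exact orderOf_le_of_pow_eq_one hp.pos (Subtype.ext c.2.1.2)
    rw [Subgroup.eq_of_le_of_card_ge (Subgroup.zpowers_le.2 hzK : Subgroup.zpowers z ≤ K) hcard]
    exact ⟨⟨hPP hx, hxp⟩, hx⟩
  have hzp : z ^ p = 1 := hzW.2
  have hZW : Subgroup.zpowers z ≤ W := Subgroup.zpowers_le.2 hzW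
  have hzc : ∀ g ∈ S, ∀ d ∈ Subgroup.zpowers z, Commute g d := by
    intro g hg d hd
    obtain ⟨i, rfl⟩ := Subgroup.mem_zpowers_iff.1 hd
    exact (hzS g hg).zpow_right i
  have hgen : ∀ v ∈ W, v ∉ Subgroup.zpowers z → ∀ K : Subgroup Ω, z ∈ K → v ∈ K → W ≤ K := by
    intro v hv hvz K hzK hvK
    have := finite_of_le (inf_le_left.trans hWS : W ⊓ K ≤ S)
    have hlt : Subgroup.zpowers z < W ⊓ K :=
      lt_of_le_of_ne (Subgroup.zpowers_le.2 ⟨hzW, hzK⟩) fun e => hvz (e.ge ⟨hv, hvK⟩)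
    have h1 : Nat.card (Subgroup.zpowers z) < Nat.card ↥(W ⊓ K) := by
      refine lt_of_le_of_ne (Nat.card_le_card_of_injective _ (Subgroup.inclusion_injective hlt.le))
        fun he => hlt.ne (Subgroup.eq_of_le_of_card_ge hlt.le he.ge)
    rw [Nat.card_zpowers, orderOf_eq_prime hzp hz1] at h1
    obtain ⟨j, hj⟩ := IsPGroup.iff_card.1 (isPGroup_of_le hS (inf_le_left.trans hWS : W ⊓ K ≤ S))
    have hj2 : 2 ≤ j := by
      by_contra hcon
      rw [hj] at h1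
      have := Nat.pow_le_pow_right hp.pos (show j ≤ 1 by omega)
      rw [pow_one] at this
      omega
    have h2 : Nat.card W ≤ Nat.card ↥(W ⊓ K) := by
      rw [hj]
      exact hWcard.trans (Nat.pow_le_pow_right hp.pos hj2)
    exact (Subgroup.eq_of_le_of_card_ge inf_le_left h2).ge.trans inf_le_right
  have hWab : ∀ a ∈ W, ∀ b ∈ W, Commute a b := by
    intro a ha b hb
    have hzc' : ∀ a ∈ W, Commute a z := fun a ha => hzS a (hWS ha)
    by_cases h : a ∈ Subgroup.zpowers z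
    · exact (hzc b (hWS hb) a h).symm
    · have := hgen a ha h (Subgroup.centralizer {a}) (Subgroup.mem_centralizer_singleton_iff.2
        (hzc' a ha).symm.eq) (Subgroup.mem_centralizer_singleton_iff.2 rfl) hb
      exact (Subgroup.mem_centralizer_singleton_iff.1 this).symm
  -- centralizing one element of `W` outside the central part is centralizing `W`
  have hcW : ∀ v ∈ W, v ∉ Subgroup.zpowers z → ∀ g ∈ S, Commute g v → ∀ a ∈ W, Commute g a := by
    intro v hv hvz g hg hgv a ha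
    exact (Subgroup.mem_centralizer_singleton_iff.1 (hgen v hv hvz (Subgroup.centralizer {g})
      (Subgroup.mem_centralizer_singleton_iff.2 (hzS g hg).symm.eq)
      (Subgroup.mem_centralizer_singleton_iff.2 hgv.symm.eq) ha)).symm
  have hcomm : ∀ v ∈ W, ∀ g ∈ P, g * v * g⁻¹ * v⁻¹ ∈ Subgroup.zpowers z := by
    intro v hv g hg
    refine hP' _ ?_ ((mul_mem (hWn g (hP.1 hg) v hv) (inv_mem hv) : _ ∈ W).2)
    rw [← commutatorElement_def]
    exact Subgroup.commutator_mem_commutator hg (hWP hv)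
  -- the central part is strongly closed
  suffices hZ : F.StronglyClosed (Subgroup.zpowers z) by
    refine isNormal_of_omega_series p hp2 hS hF hP (n := 2) ![⊥, Subgroup.zpowers z, W] rfl
      (fun x hx hxp => ⟨hx, hxp⟩) ?_ ?_ ?_
    · intro i j hij
      fin_cases i <;> fin_cases j <;> simp_all
    · intro i
      fin_cases i
      exacts [stronglyClosed_bot, hZ, hWsc]
    · intro i
      fin_cases i
      · show ⁅Subgroup.zpowers z, P⁆ ≤ ⊥
        rw [Subgroup.commutator_le]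
        intro a ha b hb
        rw [Subgroup.mem_bot, commutatorElement_eq_one_iff_commute]
        exact (hzc b (hP.1 hb) a ha).symm
      · show ⁅W, P⁆ ≤ Subgroup.zpowers z
        rw [Subgroup.commutator_le]
        intro a ha b hb
        rw [← commutatorElement_inv]
        refine inv_mem ?_
        rw [commutatorElement_def]
        exact hcomm a ha b hb
  refine ⟨hZW.trans hWS, fun R hR φ₁ hφ₁ x => ?_⟩
  by_contra hx
  have hx1 : (x : Ω) ≠ 1 := fun h => hx (by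
    rw [show x = 1 from Subtype.ext h, map_one]; exact one_mem _)
  have hzR : Subgroup.zpowers z ≤ R := Subgroup.zpowers_le.2
    ((Subgroup.zpowers_le.2 x.2 : Subgroup.zpowers (x : Ω) ≤ R)
      (mem_zpowers_symm (hWS hzW) hzp (hR x.2) hx1))
  let φ := φ₁.comp (Subgroup.inclusion hzR)
  have hφ : φ ∈ F.Hom (Subgroup.zpowers z) := restrict_mem hφ₁ hzR
  obtain ⟨w, hwdef⟩ : ∃ w, φ ⟨z, Subgroup.mem_zpowers z⟩ = w := ⟨_, rfl⟩
  have hwW : w ∈ W := hwdef ▸ hWsc.2 _ hZW φ hφ _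
  have hwz : w ∉ Subgroup.zpowers z := by
    intro hw
    obtain ⟨i, hi⟩ := Subgroup.mem_zpowers_iff.1 (hR x.2)
    apply hx
    have e : φ₁ x = w ^ i := by
      rw [← hwdef, ← map_zpow]
      exact apply_congr φ₁ (by simp [hi])
    rw [e]
    exact zpow_mem hw i
  obtain ⟨χ, hχ, hχr, hχφ, -⟩ := exists_inv hφ rfl
  let M : Subgroup Ω := P ⊓ Subgroup.centralizer {w}
  have hMext : M ≤ extender S φ.range χ := by
    refine le_trans ?_ (centralizerIn_le_extender _ _)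
    rintro g ⟨hgP, hgw⟩
    refine ⟨hP.1 hgP, Subgroup.mem_centralizer_iff.2 ?_⟩
    rintro _ ⟨⟨y, hy⟩, rfl⟩
    obtain ⟨i, rfl⟩ := Subgroup.mem_zpowers_iff.1 hy
    have e : φ ⟨z ^ i, hy⟩ = w ^ i := by
      rw [← hwdef, ← map_zpow]; exact apply_congr φ (by simp)
    rw [e]
    exact ((show Commute g w from Subgroup.mem_centralizer_singleton_iff.1 hgw).zpow_right i).symm.eq
  have hfc : F.IsFullyCentralized χ.range := by
    rw [hχr]
    refine ⟨hZW.trans hWS, fun Q hQ => ?_⟩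
    have e : centralizerIn S (Subgroup.zpowers z) = S := le_antisymm (centralizerIn_le_S _)
      fun g hg => ⟨hg, Subgroup.mem_centralizer_iff.2 fun d hd => (hzc g hg d hd).symm.eq⟩
    rw [e]
    exact card_le_of_le le_rfl (centralizerIn_le_S Q)
  obtain ⟨ψ, hψ, hψχ⟩ := saturated_extend p hS hF hχ hfc hMext
  have hWM : W ≤ M := fun v hv =>
    ⟨hWP hv, Subgroup.mem_centralizer_singleton_iff.2 (hWab v hv w hwW).eq⟩
  have hwM : w ∈ M := hWM hwW
  have hψw : ψ ⟨w, hwM⟩ = z := by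
    have hwr : w ∈ φ.range := ⟨_, hwdef⟩
    rw [hψχ w hwr hwM]
    exact (apply_congr χ hwdef.symm).trans (hχφ ⟨z, Subgroup.mem_zpowers z⟩ ⟨_, rfl⟩)
  have hψP : ∀ v : M, ψ v ∈ P := fun v => hP.2 M inf_le_left ψ hψ v
  obtain ⟨u, hudef⟩ : ∃ u, ψ ⟨z, hWM hzW⟩ = u := ⟨_, rfl⟩
  have huW : u ∈ W := by
    refine ⟨hudef ▸ hψP _, ?_⟩
    rw [← hudef, ← map_pow, show (⟨z, hWM hzW⟩ : M) ^ p = 1 from Subtype.ext hzp, map_one]
  have huz : u ∉ Subgroup.zpowers z := by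
    intro hu
    obtain ⟨i, hi⟩ := Subgroup.mem_zpowers_iff.1 hu
    have e : ψ ((⟨w, hwM⟩ : M) ^ i) = ψ ⟨z, hWM hzW⟩ := by rw [map_zpow, hψw, hi, hudef]
    have e2 : w ^ i = z := congrArg Subtype.val (F.injective_of_mem hψ e)
    refine hwz (mem_zpowers_symm (p := p) (hWS hwW) hwW.2 ⟨i, e2⟩ hz1)
  -- `M` is abelian
  have hMab : ∀ a ∈ M, ∀ b ∈ M, Commute a b := by
    intro a ha b hb
    by_contra hab
    let e : M := ⁅(⟨a, ha⟩ : M), ⟨b, hb⟩⁆
    have he1 : (e : Ω) ≠ 1 := fun h => hab (commutatorElement_eq_one_iff_commute.1 h)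
    have heP' : (e : Ω) ∈ ⁅P, P⁆ := Subgroup.commutator_mem_commutator ha.1 hb.1
    have hψe : ψ e ∈ ⁅P, P⁆ := by
      rw [map_commutatorElement]
      exact Subgroup.commutator_mem_commutator (hψP _) (hψP _)
    obtain ⟨k, hk⟩ := IsPGroup.iff_orderOf.1 hS ⟨e, hP.1 e.2.1⟩
    rw [Subgroup.orderOf_mk] at hk
    obtain ⟨k, rfl⟩ : ∃ l, k = l + 1 := Nat.exists_eq_succ_of_ne_zero fun h0 => he1
      (orderOf_eq_one_iff.1 (by rw [hk, h0, pow_zero]))
    have hc1 : ((e : Ω) ^ p ^ k) ^ p = 1 := by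
      rw [← pow_mul, ← pow_succ, ← hk, pow_orderOf_eq_one]
    have hc2 : (e : Ω) ^ p ^ k ≠ 1 :=
      pow_ne_one_of_lt_orderOf (pow_pos hp.pos _).ne' (by
        rw [hk]; exact Nat.pow_lt_pow_right hp.one_lt (Nat.lt_succ_self k))
    obtain ⟨i, hi⟩ := Subgroup.mem_zpowers_iff.1
      (mem_zpowers_symm (hWS hzW) hzp (hP' _ (pow_mem heP' _) hc1) hc2)
    have hu : (ψ e ^ p ^ k) ^ i = u := by
      rw [← hudef, ← map_pow, ← map_zpow]
      exact apply_congr ψ (by simpa using hi)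
    exact huz (hP' u (hu ▸ zpow_mem (pow_mem hψe _) i) huW.2)
  -- elements of `W` which are `p`-th powers are central
  obtain ⟨x₀, hx₀P, hx₀w⟩ : ∃ x₀ ∈ P, ¬ Commute x₀ w := by
    by_contra hcon
    push Not at hcon
    exact hcz fun v hv g hg => (hcW w hwW hwz g (hP.1 hg) (hcon g hg) v hv).symm
  have hpowM : ∀ g ∈ P, g ^ p ∈ M := by
    intro g hg
    refine ⟨pow_mem hg p, Subgroup.mem_centralizer_singleton_iff.2 ?_⟩
    have hd := hcomm w hwW g hg
    obtain ⟨d, hdd⟩ : ∃ d, g * w * g⁻¹ * w⁻¹ = d := ⟨_, rfl⟩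
    rw [hdd] at hd
    have hdc := hzc g (hP.1 hg) d hd
    have h1 : ∀ n : ℕ, g ^ n * w * (g ^ n)⁻¹ = d ^ n * w := by
      intro n
      induction n with
      | zero => simp
      | succ n ih =>
        rw [pow_succ', mul_inv_rev, show g * g ^ n * w * ((g ^ n)⁻¹ * g⁻¹) =
          g * (g ^ n * w * (g ^ n)⁻¹) * g⁻¹ by group, ih, ← mul_assoc, (hdc.pow_right n).eq,
          mul_assoc (d ^ n), mul_assoc (d ^ n), show g * w * g⁻¹ = d * w by rw [← hdd]; group,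
          ← mul_assoc, ← pow_succ]
    have h2 := h1 p
    rw [(hZW hd).2, one_mul] at h2
    exact mul_inv_eq_iff_eq_mul.1 h2
  have hMn : ∀ g ∈ P, ∀ y ∈ M, g * y * g⁻¹ ∈ M := by
    intro g hg y hy
    refine ⟨mul_mem (mul_mem hg hy.1) (Subgroup.inv_mem _ hg), Subgroup.mem_centralizer_singleton_iff.2 ?_⟩
    have hw' := hWn g⁻¹ (Subgroup.inv_mem _ (hP.1 hg)) w hwW
    have h1 := hcW w hwW hwz y (hP.1 hy.1) (Subgroup.mem_centralizer_singleton_iff.1 hy.2) _ hw'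
    have h2 : Commute (g * y * g⁻¹) w := by
      have h3 := h1.map (MulAut.conj g).toMonoidHom
      simpa [mul_assoc] using h3
    exact h2.eq
  have hkey : ∀ y ∈ P, y ^ p ∈ W → y ^ p ∈ Subgroup.zpowers z := by
    intro y hy hr
    by_contra hrz
    have hyM : y ∈ M := ⟨hy, Subgroup.mem_centralizer_singleton_iff.2
      (hcW _ hr hrz y (hP.1 hy) (Commute.self_pow y p) w hwW).eq⟩
    obtain ⟨c, hcdef⟩ : ∃ c, y⁻¹ * (x₀ * y * x₀⁻¹) = c := ⟨_, rfl⟩
    have hc : x₀ * y * x₀⁻¹ = y * c := by rw [← hcdef, mul_inv_cancel_left]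
    have hcM : c ∈ M := hcdef ▸ mul_mem (inv_mem hyM) (hMn x₀ hx₀P y hyM)
    have hcP' : c ∈ ⁅P, P⁆ := by
      rw [show c = ⁅y⁻¹, x₀⁆ by rw [← hcdef, commutatorElement_def]; group]
      exact Subgroup.commutator_mem_commutator (inv_mem hy) hx₀P
    obtain ⟨t, htdef⟩ : ∃ t, c⁻¹ * (x₀ * c * x₀⁻¹) = t := ⟨_, rfl⟩
    have ht : x₀ * c * x₀⁻¹ = c * t := by rw [← htdef, mul_inv_cancel_left]
    have htM : t ∈ M := htdef ▸ mul_mem (inv_mem hcM) (hMn x₀ hx₀P c hcM)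
    have htP' : t ∈ ⁅P, P⁆ := htdef ▸ mul_mem (inv_mem hcP') (conj_commutator_mem hP (hP.1 hx₀P) hcP')
    have hcp : c ^ p = (y ^ p)⁻¹ * (x₀ * y ^ p * x₀⁻¹) := by
      rw [← conj_pow, ← inv_pow, ← hcdef,
        (hMab _ (inv_mem hyM) _ (hMn x₀ hx₀P y hyM)).mul_pow]
    have hcpz : c ^ p ∈ Subgroup.zpowers z := by
      have h1 := hcomm _ hr x₀ hx₀P
      rw [hcp]
      rwa [(hWab _ (inv_mem hr) _ (hWn x₀ (hP.1 hx₀P) _ hr)).eq]
    have htp : t ^ p = 1 := by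
      rw [← htdef, (hMab _ (inv_mem hcM) _ (hMn x₀ hx₀P c hcM)).mul_pow, conj_pow,
        (hzc x₀ (hP.1 hx₀P) _ hcpz).eq, mul_inv_cancel_right, inv_pow, inv_mul_cancel]
    have hxt : x₀ * t * x₀⁻¹ = t := by
      rw [(hzc x₀ (hP.1 hx₀P) t (hP' t htP' htp)).eq, mul_inv_cancel_right]
    have h1 := sigma_pow hc ht hxt (hMab c hcM t htM) p
    obtain ⟨m, hm⟩ := hp.dvd_choose_self two_ne_zero
      (lt_of_le_of_ne hp.two_le (Ne.symm hp2))
    rw [(hMab (x₀ ^ p) (hpowM x₀ hx₀P) y hyM).eq, mul_inv_cancel_right, hm, pow_mul, htp,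
      one_pow, mul_one, left_eq_mul] at h1
    rw [hcp, inv_mul_eq_one] at h1
    exact hx₀w (hcW _ hr hrz x₀ (hP.1 hx₀P) (mul_inv_eq_iff_eq_mul.1 h1.symm) w hwW)
  have hMW : M ≤ W := by
    intro v hv
    refine ⟨hv.1, ?_⟩
    by_contra hvp
    obtain ⟨k, hk⟩ := IsPGroup.iff_orderOf.1 hS ⟨v, hP.1 hv.1⟩
    rw [Subgroup.orderOf_mk] at hk
    have h2k : 2 ≤ k := by
      by_contra hcon
      refine hvp (orderOf_dvd_iff_pow_eq_one.1 ?_)
      rw [hk]
      exact (pow_dvd_pow p (show k ≤ 1 by omega)).trans (pow_one p).dvd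
    obtain ⟨l, rfl⟩ : ∃ l, k = l + 2 := ⟨k - 2, by omega⟩
    let v₁ : M := (⟨v, hv⟩ : M) ^ p ^ l
    have hr1 : (v₁ : Ω) ^ p ≠ 1 := by
      simp only [v₁, Subgroup.coe_pow, ← pow_mul, ← pow_succ]
      exact pow_ne_one_of_lt_orderOf (pow_pos hp.pos _).ne' (by
        rw [hk]; exact Nat.pow_lt_pow_right hp.one_lt (by omega))
    have hrW : (v₁ : Ω) ^ p ∈ W := ⟨pow_mem v₁.2.1 p, by
      simp only [v₁, Subgroup.coe_pow, ← pow_mul, ← pow_succ]
      rw [show l + 1 + 1 = l + 2 from rfl, ← hk, pow_orderOf_eq_one]⟩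
    obtain ⟨i, hi⟩ := Subgroup.mem_zpowers_iff.1
      (mem_zpowers_symm (hWS hzW) hzp (hkey _ v₁.2.1 hrW) hr1)
    have hu : (ψ v₁ ^ i) ^ p = u := by
      rw [← hudef, ← map_zpow, ← map_pow]
      refine apply_congr ψ ?_
      simp only [Subgroup.coe_pow, Subgroup.coe_zpow, ← hi]
      rw [← zpow_natCast, ← zpow_mul, mul_comm, zpow_mul, zpow_natCast]
    exact huz (hu ▸ hkey _ (zpow_mem (hψP v₁) i) (hu.symm ▸ huW))
  -- the inversion of `W` extends to an element outside `W`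
  have hx₀W : x₀ ∉ W := fun h => hx₀w (hWab _ h w hwW)
  have hrz := hkey x₀ hx₀P (hMW (hpowM x₀ hx₀P))
  let a : MulAut W := conjAut S W ⟨x₀, hP.1 hx₀P, stronglyClosed_normal_in_S hWsc (hP.1 hx₀P)⟩
  have haA : a ∈ F.autGroup W :=
    autInducedBy_le_autGroup hWS (mem_autInducedBy.2 ⟨x₀, hP.1 hx₀P, fun _ => rfl⟩)
  have haz : ∀ d (hd : d ∈ Subgroup.zpowers z) (n : ℕ),
      (a ^ n) ⟨d, hZW hd⟩ = ⟨d, hZW hd⟩ := by
    intro d hd n
    induction n with
    | zero => rfl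
    | succ n ih =>
      rw [pow_succ', MulAut.mul_apply, ih]
      refine Subtype.ext ?_
      show x₀ * d * x₀⁻¹ = d
      rw [(hzc x₀ (hP.1 hx₀P) d hd).eq, mul_inv_cancel_right]
  have htrans : ∀ v : W, (v : Ω) ∉ Subgroup.zpowers z → ∀ d : W, (d : Ω) ∈ Subgroup.zpowers z →
      ∃ A ∈ F.autGroup W, A ⟨z, hzW⟩ = ⟨z, hzW⟩ ∧ A v = d * v := by
    intro v hv d hd
    let e : W := a v * v⁻¹
    have hez : (e : Ω) ∈ Subgroup.zpowers z := hcomm v v.2 x₀ hx₀P
    have he1 : (e : Ω) ≠ 1 := by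
      intro h
      have h1 : x₀ * (v : Ω) * x₀⁻¹ = v := mul_inv_eq_one.1 h
      exact hx₀w (hcW v v.2 hv x₀ (hP.1 hx₀P) (mul_inv_eq_iff_eq_mul.1 h1) w hwW)
    obtain ⟨k, hk⟩ := exists_nat_pow (hZW hez).2
      ((Subgroup.zpowers_le.2 (mem_zpowers_symm (hWS hzW) hzp hez he1)) hd)
    have hit : ∀ n : ℕ, (a ^ n) v = e ^ n * v := by
      intro n
      induction n with
      | zero => simp
      | succ n ih =>
        have hfix : a e = e := by simpa using haz e.1 hez 1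
        rw [pow_succ', MulAut.mul_apply, ih, map_mul, map_pow, hfix, pow_succ, mul_assoc]
        simp [e]
    exact ⟨a ^ k, pow_mem haA k, haz z (Subgroup.mem_zpowers z) k,
      (hit k).trans (congrArg (· * v) (Subtype.ext (by simpa using hk)))⟩
  obtain ⟨A1, h1, h1z, h1u⟩ := htrans ⟨u, huW⟩ huz ⟨z, hzW⟩ (Subgroup.mem_zpowers z)
  obtain ⟨A2, h2, h2z, h2w⟩ := htrans ⟨w, hwW⟩ hwz ⟨z, hzW⟩⁻¹ (inv_mem (Subgroup.mem_zpowers z))
  let g₀ := ψ.comp (Subgroup.inclusion hWM)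
  have hg₀ : g₀ ∈ F.Hom W := restrict_mem hψ hWM
  have hg₀r : g₀.range = W := (weaklyClosed_of_stronglyClosed hWsc).2 g₀ hg₀
  obtain ⟨T, hT, hTinv⟩ := exists_inversion (W := W)
    (fun a b => Subtype.ext (hWab a a.2 b b.2).eq) (F.autGroup W) (z := ⟨z, hzW⟩) (u := ⟨u, huW⟩)
    (fun K hzK huK => by
      rw [eq_top_iff]
      intro v _
      obtain ⟨v', hv', e⟩ := hgen u huW huz (K.map W.subtype) ⟨_, hzK, rfl⟩ ⟨_, huK, rfl⟩ v.2
      rwa [← Subtype.ext e])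
    h1 h2 (autOfRange_mem hg₀ hg₀r) h1z h1u h2z h2w (Subtype.ext hudef) (Subtype.ext hψw)
  let θ : W →* Ω := W.subtype.comp T.toMonoidHom
  have hθ : θ ∈ F.Hom W := (autGroup_carrier hWS).1 hT
  have hθi : ∀ v : W, θ v = (v : Ω)⁻¹ := fun v => congrArg Subtype.val (hTinv v)
  have hfn : F.IsFullyNormalized W := ⟨hWS, fun Q _ => by
    rw [show normalizerIn S W = S from le_antisymm (normalizerIn_le_S W)
      (le_inf le_rfl (stronglyClosed_normal_in_S hWsc))]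
    exact card_le_of_le le_rfl (normalizerIn_le_S Q)⟩
  obtain ⟨β, hβ, hβθ⟩ := saturated_extend p hS hF hθ
    (by rw [range_subtype_comp T]; exact fullyCentralized_of_fullyNormalized p hS hF hfn)
    (N := extender S W θ) le_rfl
  have hx₀E : x₀ ∈ extender S W θ := by
    refine mem_extender_of ⟨hP.1 hx₀P, stronglyClosed_normal_in_S hWsc (hP.1 hx₀P)⟩
      (hP.1 hx₀P) fun v hv => ?_
    rw [hθi, hθi]
    group
  have hWE : W ≤ extender S W θ := le_extender hθ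
  obtain ⟨y, hydef⟩ : ∃ y, β ⟨x₀, hx₀E⟩ = y := ⟨_, rfl⟩
  have hyP : y ∈ P := hydef ▸ hP.2 _ (Subgroup.zpowers_le.2 hx₀P) _
    (restrict_mem hβ (Subgroup.zpowers_le.2 hx₀E)) ⟨x₀, Subgroup.mem_zpowers x₀⟩
  have hact : ∀ v ∈ W, y * v * y⁻¹ = x₀ * v * x₀⁻¹ := by
    intro v hv
    have hv' : v⁻¹ ∈ W := inv_mem hv
    have hcv : x₀ * v⁻¹ * x₀⁻¹ ∈ W := hWn x₀ (hP.1 hx₀P) _ hv'
    have e : β ⟨x₀ * v⁻¹ * x₀⁻¹, hWE hcv⟩ = y * β ⟨v⁻¹, hWE hv'⟩ * y⁻¹ := by
      rw [← hydef, ← map_inv, ← map_mul, ← map_mul]; rfl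
    rw [hβθ _ hcv, hβθ _ hv', hθi, hθi, inv_inv] at e
    rw [← e]
    group
  have hdiff : x₀ * y⁻¹ ∈ W := by
    refine hMW ⟨mul_mem hx₀P (Subgroup.inv_mem _ hyP), Subgroup.mem_centralizer_singleton_iff.2 ?_⟩
    refine mul_inv_eq_iff_eq_mul.1 ?_
    have h := hWn y⁻¹ (Subgroup.inv_mem _ (hP.1 hyP)) w hwW
    have h' := hact _ h
    rw [inv_inv] at h'
    calc x₀ * y⁻¹ * w * (x₀ * y⁻¹)⁻¹ = x₀ * (y⁻¹ * w * y) * x₀⁻¹ := by group
      _ = y * (y⁻¹ * w * y) * y⁻¹ := h'.symm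
      _ = w := by group
  have hpe : x₀ ^ p = y ^ p := by
    have h := (CfsgLib.FGSA.Regular.pow_eq_iff hPp law (⟨x₀, hx₀P⟩ : P) ⟨y, hyP⟩).2
      (by rw [pow_one]; exact Subtype.ext hdiff.2)
    rw [pow_one] at h
    exact congrArg Subtype.val h
  have hinv : x₀ ^ p = (x₀ ^ p)⁻¹ := by
    have hrW := hZW hrz
    conv_lhs => rw [hpe, ← hydef, ← map_pow]
    exact ((apply_congr β rfl).trans (hβθ _ hrW (hWE hrW))).trans (hθi ⟨_, hrW⟩)
  refine hx₀W ⟨hx₀P, ?_⟩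
  have h2 : (x₀ ^ p) ^ 2 = 1 := by rw [pow_two]; exact mul_eq_one_iff_eq_inv.2 hinv
  have hco : (2 : ℕ).gcd p = 1 := (Nat.coprime_primes Nat.prime_two hp).2 (Ne.symm hp2)
  exact pow_eq_one_iff_of_coprime hco |>.1 ⟨h2, (hZW hrz).2⟩

end CfsgLib.Fusion
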