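import Cfsg.Agent.Fusion.MetacyclicClosed
import Cfsg.Agent.Fusion.MetacyclicTwo
import Cfsg.Agent.Fusion.MetacyclicAutOdd
import Cfsg.Agent.Fusion.NonResistant
import Cfsg.Agent.Invol.AutomizerSix

/-!
Metacyclic groups of supersoluble type.
-/

set_option autoImplicit false
set_option linter.unusedSectionVars false
set_option linter.style.haveILetI false

open Cfsg Cfsg.FusionSystem
open scoped commutatorElement

namespace CfsgLib.Fusion

universe u

variable {Ω : Type u} [Group Ω] {S : Subgroup Ω} {p : ℕ}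

/-! ### The criterion -/

theorem isKleinFour_mulEquiv {A B : Type*} [Group A] [Group B] [IsKleinFour A] [IsKleinFour B] :
    Nonempty (A ≃* B) := IsKleinFour.nonempty_mulEquiv

/-- A bad group of automorphisms gives failure of supersoluble type. -/
theorem exists_bad_aut_of_quaternion [Finite S] (e : S ≃* QuaternionGroup 2) :
    ∃ H : Subgroup (MulAut S), (Nat.card H).Coprime 2 ∧
      ¬ (IsMulCommutative H ∧ ∀ h ∈ H, h ^ (2 - 1) = 1) := by
  have : Finite (MulAut S) := finite_mulAut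
  have h24 : Nat.card (MulAut S) = 24 := by
    rw [← CfsgLib.AutomizerSix.card_aut_quaternion (Q := (⊤ : Subgroup S)) (Subgroup.topEquiv.trans e)]
    exact Nat.card_congr (MulAut.congr Subgroup.topEquiv.symm).toEquiv
  obtain ⟨t, ht⟩ := exists_prime_orderOf_dvd_card' (G := MulAut S) (p := 3) (hp := ⟨Nat.prime_three⟩)
    (by rw [h24]; norm_num)
  refine ⟨Subgroup.zpowers t, by rw [Nat.card_zpowers, ht]; decide, fun h => ?_⟩
  have h1 := h.2 t (Subgroup.mem_zpowers t)
  rw [pow_one] at h1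
  rw [h1, orderOf_one] at ht
  omega

theorem sq_eq_one_fourGroup : ∀ x : Multiplicative (ZMod 2) × Multiplicative (ZMod 2), x ^ 2 = 1 := by
  decide

/-- A metacyclic `p`-group is of supersoluble type iff it avoids the listed exceptions. -/
theorem metacyclic_type_iff [Finite S] [Fact p.Prime] (hS : IsPGroup p S) (hm : Cfsg.IsMetacyclic S) :
    ((∀ E : FusionSystem S, E.IsSaturated p → E.IsNormal S) ∧
      ∀ H : Subgroup (MulAut S), (Nat.card H).Coprime p → IsMulCommutative H ∧ ∀ h ∈ H, h ^ (p - 1) = 1) ↔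
    ¬ ((∃ n : ℕ, 0 < n ∧ Nonempty (S ≃* Multiplicative (ZMod (p ^ n)) × Multiplicative (ZMod (p ^ n)))) ∨
      (p = 2 ∧ ((∃ n : ℕ, 2 ≤ n ∧ Nonempty (S ≃* DihedralGroup n)) ∨ Cfsg.IsQuasiDihedral S ∨
        (∃ n : ℕ, 2 ≤ n ∧ Nonempty (S ≃* QuaternionGroup n))))) := by
  have hp := (Fact.out : p.Prime)
  constructor
  · rintro ⟨hres, hA⟩ (⟨n, hn, ⟨e⟩⟩ | ⟨rfl, hex⟩)
    · obtain ⟨H, hH, hbad⟩ := exists_bad_aut_of_factor (K := PUnit) hn
        (e.trans MulEquiv.prodUnique.symm)
      exact hbad (hA H hH)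
    obtain ⟨N, hN⟩ := IsPGroup.iff_card.1 hS
    rcases hex with ⟨n, hn, ⟨e⟩⟩ | hQ | ⟨n, hn, ⟨e⟩⟩
    · have hc := Nat.card_congr e.toEquiv
      rw [hN, DihedralGroup.nat_card] at hc
      obtain ⟨j, -, rfl⟩ := (Nat.dvd_prime_pow Nat.prime_two).1 (Dvd.intro_left _ hc.symm : n ∣ 2 ^ N)
      rcases (show j = 1 ∨ 2 ≤ j by
          rcases Nat.eq_zero_or_pos j with rfl | h
          · simp at hn
          · omega) with rfl | hj
      · haveI : IsKleinFour (DihedralGroup (2 ^ 1)) := inferInstanceAs (IsKleinFour (DihedralGroup 2))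
        haveI : IsKleinFour (Multiplicative (ZMod 2) × Multiplicative (ZMod 2)) :=
          ⟨by simp [Nat.card_prod], by
            exact (Monoid.exponent_eq_prime_iff Nat.prime_two).2 fun x hx =>
              orderOf_eq_prime (sq_eq_one_fourGroup x) hx⟩
        obtain ⟨f⟩ := isKleinFour_mulEquiv (A := DihedralGroup (2 ^ 1))
          (B := Multiplicative (ZMod 2) × Multiplicative (ZMod 2))
        obtain ⟨H, hH, hbad⟩ := exists_bad_aut_of_factor (p := 2) (n := 1) (K := PUnit) one_pos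
          ((e.trans f).trans MulEquiv.prodUnique.symm)
        exact hbad (hA H hH)
      · obtain ⟨E, hE, hne⟩ := exists_not_normal_dihedral hS hj e
        exact hne (hres E hE)
    · obtain ⟨E, hE, hne⟩ := exists_not_normal_quasiDihedral hS hQ
      exact hne (hres E hE)
    · haveI : NeZero n := ⟨by omega⟩
      have hc := Nat.card_congr e.toEquiv
      rw [hN, Nat.card_eq_fintype_card, QuaternionGroup.card] at hc
      obtain ⟨j, -, rfl⟩ := (Nat.dvd_prime_pow Nat.prime_two).1 (Dvd.intro_left _ hc.symm : n ∣ 2 ^ N)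
      rcases (show j = 1 ∨ 2 ≤ j by
          rcases Nat.eq_zero_or_pos j with rfl | h
          · simp at hn
          · omega) with rfl | hj
      · obtain ⟨H, hH, hbad⟩ := exists_bad_aut_of_quaternion (S := S) e
        exact hbad (hA H hH)
      · obtain ⟨E, hE, hne⟩ := exists_not_normal_quaternion hS hj e
        exact hne (hres E hE)
  · intro hno
    have hsc : ∀ E : FusionSystem S, E.StronglyClosed S := fun E => stronglyClosed_self
    by_cases hp2 : p = 2
    · subst hp2
      have hdsq : ¬ CfsgLib.TwoMax.DSQ S := by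
        rintro (⟨k, h⟩ | ⟨k, hcard, a, b, ha, hb, hab⟩ | ⟨k, h⟩)
        · exact hno (Or.inr ⟨rfl, Or.inl ⟨_, Nat.le_self_pow (by omega) 2, h⟩⟩)
        · exact hno (Or.inr ⟨rfl, Or.inr (Or.inl ⟨k + 3, by omega, hcard, a, b, ha, hb, hab⟩)⟩)
        · exact hno (Or.inr ⟨rfl, Or.inr (Or.inr ⟨_, Nat.le_self_pow (by omega) 2, h⟩)⟩)
      refine ⟨fun E hE => isNormal_of_metacyclic_two hS hE (hsc E) hm hdsq, fun H hH => ?_⟩
      refine aut_of_isPGroup ?_ H hH
      by_contra hA
      rcases CfsgLib.MetacyclicAut.quaternion_or_homocyclic hS hm hA with h | ⟨n, h⟩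
      · exact hno (Or.inr ⟨rfl, Or.inr (Or.inr ⟨2, le_rfl, h⟩)⟩)
      · rcases Nat.eq_zero_or_pos n with rfl | hn
        · obtain ⟨e⟩ := h
          haveI : Subsingleton (ZMod (2 ^ 0)) := by rw [pow_zero]; infer_instance
          have : Subsingleton S := ⟨fun x y => e.injective (Subsingleton.elim _ _)⟩
          exact hA fun a => ⟨0, MulEquiv.ext fun x => Subsingleton.elim _ _⟩
        · exact hno (Or.inl ⟨n, hn, h⟩)
    · refine ⟨fun E hE => isNormal_of_metacyclic_odd p hp2 hS hE (hsc E) hm,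
        aut_of_metacyclic_odd hS hp2 hm fun h => hno (Or.inl h)⟩

end CfsgLib.Fusion
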