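import Mathlib.GroupTheory.SemidirectProduct
import Mathlib.GroupTheory.GroupAction.Quotient
import Mathlib.GroupTheory.OrderOfElement
import Cfsg.Agent.Fusion.Centric
import Cfsg.Agent.Fusion.Local
import Mathlib.GroupTheory.Subgroup.Center

/-!
Existence of models. For a saturated system with a normal centric subgroup `Q` the model is built as
the corestriction of the extension `1 → Z(Q) → S → Aut_S(Q) → 1` to `A = Aut_F(Q)`: monomial
elements of `(A/Aut_S(Q) → S) ⋊ A` modulo the kernel of the product map on the fibre.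
-/

set_option autoImplicit false

open Cfsg Cfsg.FusionSystem
open scoped IsMulCommutative

namespace CfsgLib.Fusion.Model

universe u

variable {Ω : Type u} [Group Ω] {S : Subgroup Ω} (F : FusionSystem S) (Q : Subgroup Ω)
  [hN : Fact (S ≤ Subgroup.normalizer (Q : Set Ω))] [hQS : Fact (Q ≤ S)]

/-- Conjugation of `S` on `Q`, inside `Aut_F(Q)`. -/
def theta : S →* F.autGroup Q :=
  ((conjAut S Q).comp (Subgroup.inclusion (le_inf le_rfl hN.out))).codRestrict _ fun s =>
    autInducedBy_le_autGroup hQS.out (mem_autInducedBy.2 ⟨s, s.2, fun _ => rfl⟩)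

theorem theta_apply (s : S) (q : Q) :
    ((((theta F Q s : F.autGroup Q) : MulAut Q) q : Q) : Ω) = s * q * (s : Ω)⁻¹ := rfl

/-- `Aut_S(Q)` inside `Aut_F(Q)`. -/
def autS : Subgroup (F.autGroup Q) := (autInducedBy S Q).subgroupOf (F.autGroup Q)

/-- The cosets of `Aut_S(Q)` in `Aut_F(Q)`. -/
abbrev Pts : Type u := F.autGroup Q ⧸ autS F Q

theorem theta_mem (s : S) : theta F Q s ∈ autS F Q :=
  mem_autInducedBy.2 ⟨s, s.2, fun _ => rfl⟩

theorem exists_theta {a : F.autGroup Q} (h : a ∈ autS F Q) : ∃ s : S, theta F Q s = a := by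
  obtain ⟨g, hg, hg'⟩ := mem_autInducedBy.1 (Subgroup.mem_subgroupOf.1 h)
  exact ⟨⟨g, hg⟩, Subtype.ext (MulEquiv.ext fun q => Subtype.ext (hg' q).symm)⟩

/-- A representative of a coset, inverted. -/
noncomputable def rep (c : Pts F Q) : F.autGroup Q := (Quotient.out c)⁻¹

variable {F Q}

omit hN hQS in
theorem rep_mul_mem (a : F.autGroup Q) {c d : Pts F Q} (h : a⁻¹ • c = d) :
    rep F Q c * a * (rep F Q d)⁻¹ ∈ autS F Q := by
  subst h
  have h1 : ((a⁻¹ * Quotient.out c : F.autGroup Q) : Pts F Q) =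
      ((Quotient.out (a⁻¹ • c) : F.autGroup Q) : Pts F Q) := by
    rw [QuotientGroup.out_eq', ← smul_eq_mul, ← MulAction.Quotient.smul_coe, QuotientGroup.out_eq']
  have h2 := QuotientGroup.eq.1 h1
  simpa [rep, mul_assoc] using h2

/-- `A` permuting the coordinates of functions on the cosets. -/
def permFun (A : Type*) [Group A] (X : Type*) [MulAction A X] (H : Type*) [Group H] :
    A →* MulAut (X → H) where
  toFun a :=
    { toFun := fun f c => f (a⁻¹ • c)
      invFun := fun f c => f (a • c)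
      left_inv := fun f => funext fun c => by simp
      right_inv := fun f => funext fun c => by simp
      map_mul' := fun f g => rfl }
  map_one' := MulEquiv.ext fun f => funext fun c => by simp
  map_mul' a b := MulEquiv.ext fun f => funext fun c => by simp [mul_smul]

@[simp] theorem permFun_apply {A : Type*} [Group A] {X : Type*} [MulAction A X] {H : Type*}
    [Group H] (a : A) (f : X → H) (c : X) : permFun A X H a f c = f (a⁻¹ • c) := rfl

variable (F Q)

/-- The ambient wreath-type group. -/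
abbrev Wr : Type u := (Pts F Q → S) ⋊[permFun (F.autGroup Q) (Pts F Q) S] F.autGroup Q

variable {F Q}

omit hN hQS in
theorem mul_left_apply (x y : Wr F Q) (c : Pts F Q) :
    (x * y).left c = x.left c * y.left (x.right⁻¹ • c) := rfl

omit hN hQS in
theorem inv_left_apply (x : Wr F Q) (c : Pts F Q) :
    x⁻¹.left c = (x.left (x.right • c))⁻¹ := by
  rw [SemidirectProduct.inv_left, permFun_apply, inv_inv, Pi.inv_apply]

variable (F Q)

/-- The monomial lifts of `Aut_F(Q)`. -/
def mono : Subgroup (Wr F Q) where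
  carrier := {x | ∀ c, theta F Q (x.left c) =
    rep F Q c * x.right * (rep F Q (x.right⁻¹ • c))⁻¹}
  one_mem' := fun c => by simp
  mul_mem' := by
    intro x y hx hy c
    rw [mul_left_apply, map_mul, hx c, hy, SemidirectProduct.mul_right, mul_inv_rev x.right y.right,
      mul_smul]
    simp [mul_assoc]
  inv_mem' := by
    intro x hx c
    rw [inv_left_apply, map_inv, hx, SemidirectProduct.inv_right, inv_inv, inv_smul_smul]
    simp [mul_assoc]

/-- The projection to `Aut_F(Q)`. -/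
def proj : mono F Q →* F.autGroup Q :=
  SemidirectProduct.rightHom.comp (mono F Q).subtype

variable {F Q}

theorem proj_apply (x : mono F Q) : proj F Q x = (x : Wr F Q).right := rfl

theorem mono_spec (x : mono F Q) (c : Pts F Q) :
    theta F Q ((x : Wr F Q).left c) =
      rep F Q c * proj F Q x * (rep F Q ((proj F Q x)⁻¹ • c))⁻¹ :=
  x.2 c

theorem mono_left_mul (x y : mono F Q) (c : Pts F Q) :
    ((x * y : mono F Q) : Wr F Q).left c =
      (x : Wr F Q).left c * (y : Wr F Q).left ((proj F Q x)⁻¹ • c) := rfl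

theorem mono_ext {x y : mono F Q} (h₁ : proj F Q x = proj F Q y)
    (h₂ : ∀ c, (x : Wr F Q).left c = (y : Wr F Q).left c) : x = y :=
  Subtype.ext (SemidirectProduct.ext (funext h₂) h₁)

theorem proj_surjective : Function.Surjective (proj F Q) := by
  intro a
  choose s hs using fun c => exists_theta F Q (rep_mul_mem a (c := c) rfl)
  exact ⟨⟨⟨s, a⟩, hs⟩, rfl⟩

/-- An automorphism applied on the centre. -/
def onCenter (α : MulAut Q) : Subgroup.center Q →* Subgroup.center Q where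
  toFun z := ⟨α z, by
    rw [Subgroup.mem_center_iff]
    intro g
    have h := congrArg α (Subgroup.mem_center_iff.1 z.2 (α⁻¹ g))
    simpa using h⟩
  map_one' := Subtype.ext (map_one α)
  map_mul' a b := Subtype.ext (map_mul α _ _)

omit hN hQS in
@[simp] theorem coe_onCenter (α : MulAut Q) (z : Subgroup.center Q) :
    ((onCenter α z : Subgroup.center Q) : Q) = α z := rfl

theorem mem_Q_of_theta (hQc : F.IsCentric Q) {s : S} (h : theta F Q s = 1) :
    (s : Ω) ∈ Q ∧ ∀ q ∈ Q, q * (s : Ω) = s * q := by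
  have hc : ∀ q ∈ Q, q * (s : Ω) = s * q := by
    intro q hq
    have h1 : (s : Ω) * q * (s : Ω)⁻¹ = q := by
      have := theta_apply F Q s ⟨q, hq⟩
      rw [h] at this
      exact this.symm
    calc q * (s : Ω) = s * q * (s : Ω)⁻¹ * s := by rw [h1]
      _ = s * q := by group
  exact ⟨centralizer_mem_of_centric hQc s.2 hc, hc⟩

/-- An element of `S` acting trivially on `Q`, as an element of `Z(Q)`. -/
def toCenter (hQc : F.IsCentric Q) (s : S) (h : theta F Q s = 1) : Subgroup.center Q :=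
  ⟨⟨s, (mem_Q_of_theta hQc h).1⟩, Subgroup.mem_center_iff.2 fun g =>
    Subtype.ext ((mem_Q_of_theta hQc h).2 g g.2)⟩

@[simp] theorem coe_toCenter (hQc : F.IsCentric Q) (s : S) (h : theta F Q s = 1) :
    (((toCenter hQc s h : Subgroup.center Q) : Q) : Ω) = s := rfl

theorem theta_center (z : Subgroup.center Q) :
    theta F Q ⟨((z : Q) : Ω), hQS.out (z : Q).2⟩ = 1 := by
  refine Subtype.ext (MulEquiv.ext fun q => Subtype.ext ?_)
  rw [theta_apply]
  show ((z : Q) : Ω) * q * ((z : Q) : Ω)⁻¹ = q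
  have h : (q : Ω) * ((z : Q) : Ω) = ((z : Q) : Ω) * q :=
    congrArg Subtype.val (Subgroup.mem_center_iff.1 z.2 q)
  rw [← h]; group

theorem fibre_theta {x : mono F Q} (h : proj F Q x = 1) (c : Pts F Q) :
    theta F Q ((x : Wr F Q).left c) = 1 := by
  rw [mono_spec, h]
  simp

variable [Finite S]

instance instFiniteAut : Finite (F.autGroup Q) := by
  have := finite_of_le hQS.out
  have : Finite (MulAut Q) := finite_mulAut
  infer_instance

noncomputable instance instFintypePts : Fintype (Pts F Q) := Fintype.ofFinite _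

/-- The product map on the fibre. -/
noncomputable def mu (hQc : F.IsCentric Q) : (proj F Q).ker →* Subgroup.center Q where
  toFun x := ∏ c, onCenter ((rep F Q c : MulAut Q)⁻¹)
    (toCenter hQc (((x : mono F Q) : Wr F Q).left c) (fibre_theta x.2 c))
  map_one' := Finset.prod_eq_one fun c _ => by
    rw [show toCenter hQc ((((1 : (proj F Q).ker) : mono F Q) : Wr F Q).left c)
      (fibre_theta (1 : (proj F Q).ker).2 c) = 1 from Subtype.ext (Subtype.ext rfl), map_one]
  map_mul' x y := by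
    rw [← Finset.prod_mul_distrib]
    refine Finset.prod_congr rfl fun c _ => ?_
    rw [← map_mul]
    refine congrArg _ (Subtype.ext (Subtype.ext ?_))
    show ((((x * y : (proj F Q).ker) : mono F Q) : Wr F Q).left c : Ω) = _
    rw [Subgroup.coe_mul, mono_left_mul, show proj F Q (x : mono F Q) = 1 from x.2]
    simp

theorem mu_conj (hQc : F.IsCentric Q) (x : mono F Q) (n : (proj F Q).ker)
    (h : x * (n : mono F Q) * x⁻¹ ∈ (proj F Q).ker) :
    mu hQc ⟨_, h⟩ = onCenter (proj F Q x : MulAut Q) (mu hQc n) := by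
  show ∏ c, _ = onCenter _ (∏ c, _)
  rw [map_prod]
  refine Fintype.prod_equiv (MulAction.toPerm ((proj F Q x)⁻¹)) _ _ fun c => ?_
  refine Subtype.ext (?_ : (_ : Q) = _)
  simp only [coe_onCenter, MulAction.toPerm_apply]
  set d := (proj F Q x)⁻¹ • c with hd
  have hleft : ((x * (n : mono F Q) * x⁻¹ : mono F Q) : Wr F Q).left c =
      (x : Wr F Q).left c * ((n : mono F Q) : Wr F Q).left d * ((x : Wr F Q).left c)⁻¹ := by
    rw [mono_left_mul, mono_left_mul, map_mul, show proj F Q (n : mono F Q) = 1 from n.2, mul_one]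
    congr 1
    show ((x : Wr F Q)⁻¹).left _ = _
    rw [inv_left_apply]
    congr 2
    exact congrArg _ (smul_inv_smul (proj F Q x) c)
  have e : ((toCenter hQc (((x * (n : mono F Q) * x⁻¹ : mono F Q) : Wr F Q).left c)
      (fibre_theta h c) : Subgroup.center Q) : Q) =
      (theta F Q ((x : Wr F Q).left c) : MulAut Q)
        (toCenter hQc (((n : mono F Q) : Wr F Q).left d) (fibre_theta n.2 d) : Subgroup.center Q) := by
    refine Subtype.ext ?_
    rw [theta_apply, coe_toCenter, coe_toCenter, hleft]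
    simp
  rw [e, mono_spec]
  simp [hd]

/-! ### Lifting `S` -/

/-- The chosen representative of the orbit of `c` under `Aut_S(Q)`. -/
noncomputable def orb (c : Pts F Q) : Pts F Q :=
  Quotient.out (Quotient.mk (MulAction.orbitRel (autS F Q) (Pts F Q)) c)

theorem exists_toOrb (c : Pts F Q) : ∃ s : S, (theta F Q s)⁻¹ • orb c = c := by
  have h : orb c ∈ MulAction.orbit (autS F Q) c :=
    MulAction.orbitRel_apply.1 (Quotient.mk_out (s := MulAction.orbitRel (autS F Q) (Pts F Q)) c)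
  obtain ⟨a, ha⟩ := h
  obtain ⟨s, hs⟩ := exists_theta F Q a.2
  refine ⟨s, ?_⟩
  rw [inv_smul_eq_iff, hs]
  exact ha.symm

/-- An element of `S` moving the representative to `c`. -/
noncomputable def toOrb (c : Pts F Q) : S := Classical.choose (exists_toOrb c)

theorem toOrb_spec (c : Pts F Q) : (theta F Q (toOrb c))⁻¹ • orb c = c :=
  Classical.choose_spec (exists_toOrb c)

theorem orb_smul (s : S) (c : Pts F Q) : orb ((theta F Q s)⁻¹ • c) = orb c := by
  refine congrArg Quotient.out (Quotient.sound ?_)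
  exact ⟨(⟨theta F Q s, theta_mem F Q s⟩ : autS F Q)⁻¹, rfl⟩

theorem exists_corr (c : Pts F Q) :
    ∃ k : S, theta F Q k = rep F Q (orb c) * theta F Q (toOrb c) * (rep F Q c)⁻¹ :=
  exists_theta F Q (rep_mul_mem _ (toOrb_spec c))

/-- The correcting element at `c`. -/
noncomputable def corr (c : Pts F Q) : S := Classical.choose (exists_corr c)

theorem corr_spec (c : Pts F Q) :
    theta F Q (corr c) = rep F Q (orb c) * theta F Q (toOrb c) * (rep F Q c)⁻¹ :=
  Classical.choose_spec (exists_corr c)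

/-- The stabilizer of `c` in `S`. -/
def stab (c : Pts F Q) : Subgroup Ω :=
  ((MulAction.stabilizer (F.autGroup Q) c).comap (theta F Q)).map S.subtype

omit [Finite S] in
theorem mem_stab {c : Pts F Q} {g : Ω} :
    g ∈ stab c ↔ ∃ hg : g ∈ S, theta F Q ⟨g, hg⟩ • c = c := by
  constructor
  · rintro ⟨⟨x, hx⟩, h, rfl⟩; exact ⟨hx, h⟩
  · rintro ⟨hg, h⟩; exact ⟨⟨g, hg⟩, h, rfl⟩

omit [Finite S] in
theorem stab_le_S (c : Pts F Q) : stab c ≤ S := Subgroup.map_subtype_le _

omit [Finite S] in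
theorem theta_Q_smul {q : Ω} (hq : q ∈ Q) (c : Pts F Q) :
    theta F Q ⟨q, hQS.out hq⟩ • c = c := by
  obtain ⟨a, rfl⟩ := QuotientGroup.mk_surjective c
  rw [MulAction.Quotient.smul_coe, smul_eq_mul, QuotientGroup.eq]
  refine Subgroup.mem_subgroupOf.2 (inn_le_autInducedBy hQS.out ?_)
  rw [inn_eq_autInducedBy]
  refine mem_autInducedBy.2 ⟨(((a : MulAut Q))⁻¹ ⟨q, hq⟩⁻¹ : Q), ((a : MulAut Q)⁻¹ _).2, fun x => ?_⟩
  have h1 : (((theta F Q ⟨q, hQS.out hq⟩)⁻¹ : F.autGroup Q) : MulAut Q) ((a : MulAut Q) x) =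
      ⟨q, hq⟩⁻¹ * (a : MulAut Q) x * ⟨q, hq⟩ := by
    rw [← map_inv]
    exact Subtype.ext ((theta_apply F Q _ _).trans (by simp))
  rw [mul_inv_rev]
  show ((((a : MulAut Q))⁻¹ ((((theta F Q ⟨q, hQS.out hq⟩)⁻¹ : F.autGroup Q) : MulAut Q)
    ((a : MulAut Q) x)) : Q) : Ω) = _
  rw [h1, map_mul, map_mul, map_inv]
  simp

theorem Q_le_stab (c : Pts F Q) : Q ≤ stab c :=
  fun q hq => mem_stab.2 ⟨hQS.out hq, theta_Q_smul hq c⟩

theorem exists_ext (p : ℕ) [Fact p.Prime] (hS : IsPGroup p S) (hF : F.IsSaturated p)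
    (hfn : F.IsFullyNormalized Q) (c : Pts F Q) :
    ∃ ψ : ↥(stab c) →* Ω, ψ ∈ F.Hom (stab c) ∧
      ∀ (q : Q) (hq : (q : Ω) ∈ stab c), ψ ⟨q, hq⟩ = (((rep F Q c : MulAut Q) q : Q) : Ω) := by
  obtain ⟨ψ, hψ, he⟩ := receptive_extend (good_of_fullyNormalized p hS hF hfn).2
    ((autGroup_carrier hQS.out).1 (rep F Q c).2) (range_subtype_comp _) (N := stab c) (by
      intro g hg
      obtain ⟨hgS, hgc⟩ := mem_stab.1 hg
      obtain ⟨k, hk⟩ := exists_theta F Q (rep_mul_mem (theta F Q ⟨g, hgS⟩)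
        (c := c) (d := c) (by rw [inv_smul_eq_iff]; exact hgc.symm))
      refine mem_extender_of ⟨hgS, hN.out hgS⟩ k.2 fun x hx => ?_
      have h1 : (theta F Q k : MulAut Q) ((rep F Q c : MulAut Q) x) =
          (rep F Q c : MulAut Q) ((theta F Q ⟨g, hgS⟩ : MulAut Q) x) := by
        rw [hk]; simp
      exact ((congrArg Subtype.val h1).symm).trans (theta_apply F Q k _) |>.trans rfl)
  exact ⟨ψ, hψ, fun q hq => he q q.2 hq⟩

variable (p : ℕ) [Fact p.Prime] (hS : IsPGroup p S) (hF : F.IsSaturated p)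
  (hfn : F.IsFullyNormalized Q)

open Classical in
/-- The chosen extension of the representative, extended by `1` outside the stabilizer. -/
noncomputable def extFun (c : Pts F Q) (s : S) : S :=
  if h : (s : Ω) ∈ stab c then
    ⟨Classical.choose (exists_ext p hS hF hfn c) ⟨s, h⟩,
      apply_mem_S (Classical.choose_spec (exists_ext p hS hF hfn c)).1 _⟩
  else 1

theorem extFun_of_mem {c : Pts F Q} {s : S} (h : (s : Ω) ∈ stab c) :
    (extFun p hS hF hfn c s : Ω) = Classical.choose (exists_ext p hS hF hfn c) ⟨s, h⟩ := by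
  rw [extFun, dif_pos h]

theorem extFun_mul {c : Pts F Q} {s t : S} (hs : (s : Ω) ∈ stab c) (ht : (t : Ω) ∈ stab c) :
    extFun p hS hF hfn c (s * t) = extFun p hS hF hfn c s * extFun p hS hF hfn c t := by
  apply Subtype.ext
  rw [Subgroup.coe_mul, extFun_of_mem p hS hF hfn (mul_mem hs ht), extFun_of_mem p hS hF hfn hs,
    extFun_of_mem p hS hF hfn ht, ← map_mul]
  rfl

theorem theta_extFun {c : Pts F Q} {s : S} (hs : (s : Ω) ∈ stab c) :
    theta F Q (extFun p hS hF hfn c s) = rep F Q c * theta F Q s * (rep F Q c)⁻¹ := by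
  refine Subtype.ext (MulEquiv.ext fun y => Subtype.ext ?_)
  obtain ⟨x, rfl⟩ := (rep F Q c : MulAut Q).surjective y
  rw [theta_apply, extFun_of_mem p hS hF hfn hs]
  obtain ⟨-, hψq⟩ := Classical.choose_spec (exists_ext p hS hF hfn c)
  simp only [Subgroup.coe_mul, InvMemClass.coe_inv, MulAut.mul_apply, MulAut.inv_apply_self]
  rw [← hψq x (Q_le_stab c x.2), ← hψq _ (Q_le_stab c ((theta F Q s : MulAut Q) x).2), ← map_inv,
    ← map_mul, ← map_mul]
  exact apply_congr _ (theta_apply F Q s x).symm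

/-- The first coordinate of the lift of `s`. -/
noncomputable def liftFun (s : S) (c : Pts F Q) : S :=
  (corr c)⁻¹ * extFun p hS hF hfn (orb c)
    (toOrb c * s * (toOrb ((theta F Q s)⁻¹ • c))⁻¹) * corr ((theta F Q s)⁻¹ • c)

theorem mem_stab_orb (s : S) (c : Pts F Q) :
    ((toOrb c * s * (toOrb ((theta F Q s)⁻¹ • c))⁻¹ : S) : Ω) ∈ stab (orb c) := by
  refine mem_stab.2 ⟨(toOrb c * s * (toOrb ((theta F Q s)⁻¹ • c))⁻¹).2, ?_⟩
  have h1 := toOrb_spec ((theta F Q s)⁻¹ • c)
  rw [orb_smul] at h1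
  have h2 := toOrb_spec c
  rw [inv_smul_eq_iff] at h2
  show theta F Q (_ * s * _⁻¹) • orb c = orb c
  rw [map_mul, map_mul, map_inv, mul_smul, h1, mul_smul, smul_inv_smul, ← h2]

theorem liftFun_mul (s t : S) (c : Pts F Q) :
    liftFun p hS hF hfn (s * t) c =
      liftFun p hS hF hfn s c * liftFun p hS hF hfn t ((theta F Q s)⁻¹ • c) := by
  have hm := mem_stab_orb t ((theta F Q s)⁻¹ • c)
  rw [orb_smul] at hm
  have e : (theta F Q (s * t))⁻¹ • c = (theta F Q t)⁻¹ • (theta F Q s)⁻¹ • c := by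
    rw [map_mul, mul_inv_rev, mul_smul]
  have e2 : toOrb c * (s * t) * (toOrb ((theta F Q t)⁻¹ • (theta F Q s)⁻¹ • c))⁻¹ =
      (toOrb c * s * (toOrb ((theta F Q s)⁻¹ • c))⁻¹) *
        (toOrb ((theta F Q s)⁻¹ • c) * t *
          (toOrb ((theta F Q t)⁻¹ • (theta F Q s)⁻¹ • c))⁻¹) := by group
  simp only [liftFun, orb_smul, e, e2, extFun_mul p hS hF hfn (mem_stab_orb s c) hm]
  group

theorem theta_liftFun (s : S) (c : Pts F Q) :
    theta F Q (liftFun p hS hF hfn s c) =
      rep F Q c * theta F Q s * (rep F Q ((theta F Q s)⁻¹ • c))⁻¹ := by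
  simp only [liftFun, map_mul, map_inv, theta_extFun p hS hF hfn (mem_stab_orb s c), corr_spec,
    orb_smul]
  simp [mul_assoc]

/-- The lift of `S` into the monomial group. -/
noncomputable def lift : S →* mono F Q :=
  MonoidHom.mk' (fun s => ⟨⟨liftFun p hS hF hfn s, theta F Q s⟩,
      fun c => theta_liftFun p hS hF hfn s c⟩) fun s t => by
    refine mono_ext (map_mul (theta F Q) s t) fun c => ?_
    rw [mono_left_mul]
    exact liftFun_mul p hS hF hfn s t c

theorem proj_lift (s : S) : proj F Q (lift p hS hF hfn s) = theta F Q s := rfl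

theorem lift_left (s : S) (c : Pts F Q) :
    (lift p hS hF hfn s : Wr F Q).left c = liftFun p hS hF hfn s c := rfl

theorem lift_left_Q (q : Q) (c : Pts F Q) :
    ((lift p hS hF hfn ⟨q, hQS.out q.2⟩ : Wr F Q).left c : Ω) =
      (((rep F Q c : MulAut Q) q : Q) : Ω) := by
  have hfix : (theta F Q ⟨q, hQS.out q.2⟩)⁻¹ • c = c := by
    rw [inv_smul_eq_iff]; exact (theta_Q_smul q.2 c).symm
  rw [lift_left, liftFun, hfix]
  have hmem : (toOrb c : Ω) * q * (toOrb c : Ω)⁻¹ ∈ Q :=
    (Subgroup.mem_normalizer_iff.1 (hN.out (toOrb c).2) q).1 q.2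
  simp only [Subgroup.coe_mul, InvMemClass.coe_inv]
  rw [extFun_of_mem p hS hF hfn (show ((toOrb c * ⟨q, hQS.out q.2⟩ * (toOrb c)⁻¹ : S) : Ω) ∈
    stab (orb c) from Q_le_stab _ hmem)]
  obtain ⟨-, hψq⟩ := Classical.choose_spec (exists_ext p hS hF hfn (orb c))
  rw [show Classical.choose (exists_ext p hS hF hfn (orb c))
    ⟨((toOrb c * ⟨q, hQS.out q.2⟩ * (toOrb c)⁻¹ : S) : Ω), Q_le_stab _ hmem⟩ =
      (((rep F Q (orb c) : MulAut Q) ((theta F Q (toOrb c) : MulAut Q) q) : Q) : Ω) from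
    hψq ((theta F Q (toOrb c) : MulAut Q) q) _]
  have h : (theta F Q (corr c) : MulAut Q) ((rep F Q c : MulAut Q) q) =
      (rep F Q (orb c) : MulAut Q) ((theta F Q (toOrb c) : MulAut Q) q) := by
    rw [corr_spec]; simp
  have h' := (theta_apply F Q (corr c) ((rep F Q c : MulAut Q) q)).symm.trans
    (congrArg Subtype.val h)
  rw [← h']
  group

theorem conj_lift_Q (x : mono F Q) (q : Q) :
    x * lift p hS hF hfn ⟨q, hQS.out q.2⟩ * x⁻¹ =
      lift p hS hF hfn ⟨(((proj F Q x : MulAut Q) q : Q) : Ω), hQS.out (((proj F Q x : MulAut Q) q).2)⟩ := by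
  rw [mul_inv_eq_iff_eq_mul]
  refine mono_ext ?_ fun c => ?_
  · rw [map_mul, map_mul, proj_lift, proj_lift]
    refine Subtype.ext (MulEquiv.ext fun y => Subtype.ext ?_)
    simp only [Subgroup.coe_mul, MulAut.mul_apply, theta_apply]
    have : (proj F Q x : MulAut Q) ((theta F Q ⟨q, hQS.out q.2⟩ : MulAut Q) y) =
        (proj F Q x : MulAut Q) q * (proj F Q x : MulAut Q) y * ((proj F Q x : MulAut Q) q)⁻¹ := by
      rw [← map_inv, ← map_mul, ← map_mul]
      exact congrArg _ (Subtype.ext (theta_apply F Q _ y))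
    simpa using congrArg Subtype.val this
  · rw [mono_left_mul, mono_left_mul]
    apply Subtype.ext
    rw [Subgroup.coe_mul, Subgroup.coe_mul, lift_left_Q, lift_left_Q, proj_lift]
    have hfix : (theta F Q ⟨(((proj F Q x : MulAut Q) q : Q) : Ω),
        hQS.out (((proj F Q x : MulAut Q) q).2)⟩)⁻¹ • c = c := by
      rw [inv_smul_eq_iff]; exact (theta_Q_smul ((proj F Q x : MulAut Q) q).2 c).symm
    rw [hfix]
    have h := theta_apply F Q ((x : Wr F Q).left c)
      ((rep F Q ((proj F Q x)⁻¹ • c) : MulAut Q) q)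
    rw [mono_spec] at h
    simp only [Subgroup.coe_mul, InvMemClass.coe_inv, MulAut.mul_apply,
      MulAut.inv_apply_self] at h
    rw [h]
    group

/-- A family of lifts of a map into the monomial group is compatible with the system when, on each
point stabilizer, the coordinate map is a map of the system. -/
def Compat {P : Subgroup Ω} (w : P →* mono F Q) : Prop :=
  ∀ (c : Pts F Q) (R : Subgroup Ω) (hR : R ≤ P),
    (∀ x : R, (proj F Q (w (Subgroup.inclusion hR x)))⁻¹ • c = c) →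
    ∃ χ ∈ F.Hom R, ∀ x : R, χ x = ((w (Subgroup.inclusion hR x) : Wr F Q).left c : Ω)

theorem compat_lift {P : Subgroup Ω} {f : P →* Ω} (hf : f ∈ F.Hom P) :
    Compat ((lift p hS hF hfn).comp (f.codRestrict S fun x => apply_mem_S hf x)) := by
  intro c R hR hfix
  have hfix' : ∀ x : R, (theta F Q ⟨f (Subgroup.inclusion hR x), apply_mem_S hf _⟩)⁻¹ • c = c :=
    hfix
  have hstab : ∀ x : R, (toOrb c : Ω) * f (Subgroup.inclusion hR x) * (toOrb c : Ω)⁻¹ ∈
      stab (orb c) := by
    intro x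
    have := mem_stab_orb ⟨f (Subgroup.inclusion hR x), apply_mem_S hf _⟩ c
    rw [hfix' x] at this
    simpa using this
  obtain ⟨hψ, -⟩ := Classical.choose_spec (exists_ext p hS hF hfn (orb c))
  let ψ := Classical.choose (exists_ext p hS hF hfn (orb c))
  have hPR := restrict_mem hf hR
  let k₁ : R →* Ω :=
    (MulAut.conj (toOrb c : Ω)).toMonoidHom.comp (f.comp (Subgroup.inclusion hR))
  have hk₁ : k₁ ∈ F.Hom R :=
    comp_mem_of_eq hPR (F.conj_mem (range_le_S hPR) (toOrb c).2) (fun x => ⟨x, rfl⟩) fun x => rfl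
  have hk₂ : ψ.comp (k₁.codRestrict _ hstab) ∈ F.Hom R := F.comp_mem hk₁ hψ hstab
  refine ⟨(MulAut.conj (corr c : Ω)⁻¹).toMonoidHom.comp (ψ.comp (k₁.codRestrict _ hstab)), ?_,
    fun x => ?_⟩
  · exact comp_mem_of_eq hk₂ (F.conj_mem (range_le_S hk₂) (inv_mem (corr c).2))
      (fun x => ⟨x, rfl⟩) fun x => rfl
  · have hx := hfix' x
    simp only [MonoidHom.comp_apply, lift_left, liftFun]
    change _ = (((corr c)⁻¹ * extFun p hS hF hfn (orb c)
      (toOrb c * ⟨f (Subgroup.inclusion hR x), apply_mem_S hf _⟩ *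
        (toOrb ((theta F Q ⟨f (Subgroup.inclusion hR x), apply_mem_S hf _⟩)⁻¹ • c))⁻¹) *
      corr ((theta F Q ⟨f (Subgroup.inclusion hR x), apply_mem_S hf _⟩)⁻¹ • c) : S) : Ω)
    rw [hx]
    simp only [Subgroup.coe_mul, InvMemClass.coe_inv]
    rw [extFun_of_mem p hS hF hfn (by simpa using hstab x)]
    simp only [MulEquiv.coe_toMonoidHom, MulAut.conj_apply, inv_inv, MonoidHom.comp_apply]
    rfl

theorem compat_conj {P : Subgroup Ω} {w : P →* mono F Q} (hw : Compat w) (x : mono F Q) :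
    Compat ((MulAut.conj x).toMonoidHom.comp w) := by
  intro c R hR hfix
  set d := (proj F Q x)⁻¹ • c with hd
  have hfix' : ∀ y : R, (proj F Q (w (Subgroup.inclusion hR y)))⁻¹ • d = d := by
    intro y
    have h := hfix y
    simp only [MonoidHom.comp_apply, MulEquiv.coe_toMonoidHom, MulAut.conj_apply, map_mul, map_inv,
      mul_inv_rev, inv_inv, mul_smul] at h
    rw [smul_eq_iff_eq_inv_smul] at h
    exact h
  obtain ⟨χ, hχ, hχv⟩ := hw d R hR hfix'
  refine ⟨(MulAut.conj ((x : Wr F Q).left c : Ω)).toMonoidHom.comp χ,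
    comp_mem_of_eq hχ (F.conj_mem (range_le_S hχ) ((x : Wr F Q).left c).2) (fun y => ⟨y, rfl⟩)
      fun y => rfl, fun y => ?_⟩
  simp only [MonoidHom.comp_apply, MulEquiv.coe_toMonoidHom, MulAut.conj_apply]
  rw [mono_left_mul, mono_left_mul, Subgroup.coe_mul, Subgroup.coe_mul, hχv, ← hd]
  congr 1
  have e : (proj F Q (x * w (Subgroup.inclusion hR y)))⁻¹ • c = d := by
    rw [map_mul, mul_inv_rev, mul_smul, ← hd, hfix' y]
  rw [e]
  show _ = (((x : Wr F Q)⁻¹).left d : Ω)
  rw [inv_left_apply, InvMemClass.coe_inv]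
  congr 2
  exact congrArg _ (smul_inv_smul (proj F Q x) c).symm

/-- Two compatible lifts agreeing on `Q` are conjugate by an element of the fibre. -/
theorem exists_fibre_conj (hQc : F.IsCentric Q) {P : Subgroup Ω} (hQP : Q ≤ P)
    (u v : P →* mono F Q) (hu : Compat u) (hv : Compat v)
    (hproj : ∀ x, proj F Q (u x) = proj F Q (v x)) (α : MulAut Q)
    (huQ : ∀ q : Q, u ⟨q, hQP q.2⟩ = lift p hS hF hfn ⟨(α q : Q), hQS.out (α q).2⟩)
    (hvQ : ∀ q : Q, v ⟨q, hQP q.2⟩ = lift p hS hF hfn ⟨(α q : Q), hQS.out (α q).2⟩) :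
    ∃ w : mono F Q, proj F Q w = 1 ∧ ∀ x, v x = w * u x * w⁻¹ := by
  let ρ : P →* F.autGroup Q := (proj F Q).comp u
  let o : Pts F Q → Pts F Q := fun c =>
    Quotient.out (Quotient.mk (MulAction.orbitRel ρ.range (Pts F Q)) c)
  have ho : ∀ (x : P) (c : Pts F Q), o ((ρ x)⁻¹ • c) = o c := fun x c =>
    congrArg Quotient.out (Quotient.sound ⟨(⟨ρ x, ⟨x, rfl⟩⟩ : ρ.range)⁻¹, rfl⟩)
  have hy : ∀ c, ∃ y : P, (ρ y)⁻¹ • o c = c := by
    intro c
    have h : o c ∈ MulAction.orbit ρ.range c :=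
      MulAction.orbitRel_apply.1
        (Quotient.mk_out (s := MulAction.orbitRel ρ.range (Pts F Q)) c)
    obtain ⟨⟨_, y, rfl⟩, hy⟩ := h
    exact ⟨y, by rw [inv_smul_eq_iff]; exact hy.symm⟩
  choose y hy using hy
  -- for every point: conjugating element of the fibre value, on the stabilizer
  have hz : ∀ c : Pts F Q, ∃ w : S, theta F Q w = 1 ∧ ∀ x : P, ρ x • c = c →
      ((v x : Wr F Q).left c) = w * (u x : Wr F Q).left c * w⁻¹ := by
    intro c
    let R : Subgroup Ω := ((MulAction.stabilizer (F.autGroup Q) c).comap ρ).map P.subtype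
    have hR : R ≤ P := Subgroup.map_subtype_le _
    have hRfix : ∀ x : R, ρ (Subgroup.inclusion hR x) • c = c := by
      rintro ⟨_, z, hz, rfl⟩
      exact hz
    have hQR : Q ≤ R := by
      intro q hq
      refine ⟨⟨q, hQP hq⟩, ?_, rfl⟩
      show proj F Q (u _) • c = c
      rw [huQ ⟨q, hq⟩]
      exact theta_Q_smul (α ⟨q, hq⟩).2 c
    obtain ⟨χ, hχ, hχv⟩ := hu c R hR fun x => by
      rw [inv_smul_eq_iff]; exact (hRfix x).symm
    obtain ⟨χ', hχ', hχ'v⟩ := hv c R hR fun x => by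
      rw [← hproj, inv_smul_eq_iff]; exact (hRfix x).symm
    obtain ⟨z, hzQ, hzC, hz⟩ := centric_uniqueness p hS hF hQR hQc hχ hχ' fun x hx => by
      rw [hχv, hχ'v]
      have e := (huQ ⟨x, hx⟩).trans (hvQ ⟨x, hx⟩).symm
      exact congrArg (fun m : mono F Q => ((m : Wr F Q).left c : Ω))
        ((congrArg u (Subtype.ext rfl)).trans (e.trans (congrArg v (Subtype.ext rfl))))
    let w : S := (u (Subgroup.inclusion hR z) : Wr F Q).left c
    have hpz : proj F Q (u (Subgroup.inclusion hR z)) = 1 := by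
      rw [show Subgroup.inclusion hR z = ⟨(⟨(z : Ω), hzQ⟩ : Q), hQP hzQ⟩ from Subtype.ext rfl,
        huQ, proj_lift]
      have hcen : α ⟨(z : Ω), hzQ⟩ ∈ Subgroup.center Q :=
        ((onCenter α) ⟨⟨(z : Ω), hzQ⟩,
          Subgroup.mem_center_iff.2 fun g => Subtype.ext (hzC g g.2)⟩).2
      exact theta_center ⟨α ⟨(z : Ω), hzQ⟩, hcen⟩
    refine ⟨w, fibre_theta hpz c, fun x hx => Subtype.ext ?_⟩
    have hxR : (x : Ω) ∈ R := ⟨x, hx, rfl⟩
    have h1 := hz ⟨x, hxR⟩
    rw [hχ'v, map_mul, map_mul, map_inv, hχv, hχv] at h1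
    exact h1
  choose w₀ hw₀ hw₀c using hz
  let W : Pts F Q → S := fun c =>
    ((v (y c) : Wr F Q).left (o c))⁻¹ * w₀ (o c) * (u (y c) : Wr F Q).left (o c)
  have hW : ∀ c, theta F Q (W c) = rep F Q c * (1 : F.autGroup Q) *
      (rep F Q ((1 : F.autGroup Q)⁻¹ • c))⁻¹ := by
    intro c
    simp only [W, map_mul, map_inv, hw₀, mono_spec, hproj, inv_one, one_smul, mul_one,
      mul_inv_cancel, inv_mul_cancel]
  refine ⟨⟨⟨W, 1⟩, hW⟩, rfl, fun x => ?_⟩
  rw [eq_mul_inv_iff_mul_eq]
  refine mono_ext ?_ fun c => ?_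
  · rw [map_mul, map_mul, hproj]
    show proj F Q (v x) * 1 = 1 * proj F Q (v x)
    simp
  rw [mono_left_mul, mono_left_mul]
  show (v x : Wr F Q).left c * W ((proj F Q (v x))⁻¹ • c) =
    W c * (u x : Wr F Q).left ((1 : F.autGroup Q)⁻¹ • c)
  rw [inv_one, one_smul, ← hproj]
  change (v x : Wr F Q).left c * W ((ρ x)⁻¹ • c) = W c * (u x : Wr F Q).left c
  set d := (ρ x)⁻¹ • c with hd
  have hod : o d = o c := ho x c
  have hp₀ : ρ (y c * x * (y d)⁻¹) • o c = o c := by
    have h1 := hy d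
    have h2 := hy c
    rw [hod] at h1
    rw [inv_smul_eq_iff] at h2
    rw [map_mul, map_mul, map_inv, mul_smul, h1, mul_smul, hd, smul_inv_smul, ← h2]
  have hv1 := hw₀c (o c) _ hp₀
  have hsplit : ∀ m : P →* mono F Q, (∀ z, proj F Q (m z) = ρ z) →
      (m (y c) : Wr F Q).left (o c) * (m x : Wr F Q).left c =
        (m (y c * x * (y d)⁻¹) : Wr F Q).left (o c) * (m (y d) : Wr F Q).left (o c) := by
    intro m hm
    have h1 : ((m (y c) * m x : mono F Q) : Wr F Q).left (o c) =
        ((m (y c * x * (y d)⁻¹) * m (y d) : mono F Q) : Wr F Q).left (o c) := by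
      rw [← map_mul, ← map_mul, inv_mul_cancel_right]
    rw [mono_left_mul, mono_left_mul, hm, hm, hy, inv_smul_eq_iff.2 hp₀.symm] at h1
    exact h1
  have hsu := hsplit u fun z => rfl
  have hsv := hsplit v fun z => (hproj z).symm
  rw [hv1] at hsv
  simp only [W, hod]
  generalize (v (y c) : Wr F Q).left (o c) = a₁ at *
  generalize (v (y d) : Wr F Q).left (o c) = a₂ at *
  generalize (u (y c) : Wr F Q).left (o c) = b₁ at *
  generalize (u (y d) : Wr F Q).left (o c) = b₂ at *
  generalize (u (y c * x * (y d)⁻¹) : Wr F Q).left (o c) = e₀ at *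
  generalize (v x : Wr F Q).left c = a₃ at *
  generalize (u x : Wr F Q).left c = b₃ at *
  generalize w₀ (o c) = z₀ at *
  calc a₃ * (a₂⁻¹ * z₀ * b₂) = a₁⁻¹ * (a₁ * a₃) * (a₂⁻¹ * z₀ * b₂) := by group
    _ = a₁⁻¹ * z₀ * (e₀ * b₂) := by rw [hsv]; group
    _ = a₁⁻¹ * z₀ * b₁ * b₃ := by rw [← hsu]; group

end CfsgLib.Fusion.Model
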