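import Cfsg.Agent.Fusion.Alperin
import Cfsg.Agent.Fusion.Local

/-!
The subgroups outside one class of essential subgroups do not generate a fusion system.
-/

set_option autoImplicit false
set_option linter.unusedSectionVars false

open Cfsg Cfsg.FusionSystem

namespace CfsgLib.Fusion

universe u

variable {Ω : Type u} [Group Ω] {S : Subgroup Ω} {F : FusionSystem S}

/-- `u` is a map of `N_S(P)` sending `P` onto `Q`. -/
def IsUp (F : FusionSystem S) (Q P : Subgroup Ω) (u : normalizerIn S P →* Ω) : Prop :=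
  u ∈ F.Hom (normalizerIn S P) ∧ (P.subgroupOf (normalizerIn S P)).map u = Q

/-- Transported to `Q`, the map `φ` is `α`. -/
def IsTwist {Q P P' : Subgroup Ω} (φ : P →* Ω) (u : normalizerIn S P →* Ω)
    (v : normalizerIn S P' →* Ω) (α : MulAut Q) : Prop :=
  ∀ (x : P) (h1 : (x : Ω) ∈ normalizerIn S P) (h2 : φ x ∈ normalizerIn S P')
    (h3 : u ⟨x, h1⟩ ∈ Q), v ⟨φ x, h2⟩ = ((α ⟨u ⟨x, h1⟩, h3⟩ : Q) : Ω)

theorem IsUp.apply_mem {Q P : Subgroup Ω} {u : normalizerIn S P →* Ω} (hu : IsUp F Q P u)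
    {x : normalizerIn S P} (hx : (x : Ω) ∈ P) : u x ∈ Q :=
  hu.2.le ⟨x, hx, rfl⟩

theorem IsUp.exists_pre {Q P : Subgroup Ω} {u : normalizerIn S P →* Ω} (hu : IsUp F Q P u)
    {y : Ω} (hy : y ∈ Q) : ∃ x : normalizerIn S P, (x : Ω) ∈ P ∧ u x = y := by
  obtain ⟨x, hx, he⟩ := hu.2.ge hy
  exact ⟨x, hx, he⟩

variable [Finite S] {p : ℕ} [Fact p.Prime]

theorem exists_isUp (hS : IsPGroup p S) (hF : F.IsSaturated p) {Q P : Subgroup Ω}
    (hQn : F.IsFullyNormalized Q) (h : F.IsConj Q P) :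
    ∃ u : normalizerIn S P →* Ω, IsUp F Q P u := by
  obtain ⟨h₁, h₂⟩ := good_of_fullyNormalized p hS hF hQn
  obtain ⟨u, hu, -, hm⟩ := exists_map_normalizer p hS h₁ h₂ (isConj_symm h)
  exact ⟨u, hu, hm⟩

/-- A map defined on a larger subgroup becomes an extendable automorphism of `Q`. -/
theorem exists_twist (hS : IsPGroup p S) {Q P R P' : Subgroup Ω} (hPR : P < R) {ψ : R →* Ω}
    (hψ : ψ ∈ F.Hom R) (hP' : (P.subgroupOf R).map ψ = P')
    {u : normalizerIn S P →* Ω} (hu : IsUp F Q P u)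
    {v : normalizerIn S P' →* Ω} (hv : IsUp F Q P' v) :
    ∃ α ∈ extendSet F Q, IsTwist (ψ.comp (Subgroup.inclusion hPR.le)) u v α := by
  have hRS := le_of_mem_hom hψ
  have hPN : P < normalizerIn R P := lt_normalizerIn p hS hRS hPR
  have hN : normalizerIn R P ≤ normalizerIn S P := inf_le_inf_right _ hRS
  have hN' : normalizerIn R P ≤ R := normalizerIn_le_S P
  have hu₁ : u.comp (Subgroup.inclusion hN) ∈ F.Hom (normalizerIn R P) := restrict_mem hu.1 hN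
  obtain ⟨M, hM⟩ : ∃ M, (u.comp (Subgroup.inclusion hN)).range = M := ⟨_, rfl⟩
  obtain ⟨w, hw, hwr, hwu, -⟩ := exists_inv hu₁ hM
  have hwN : ∀ y, w y ∈ normalizerIn R P := fun y => hwr.le ⟨y, rfl⟩
  have hχ₁ : (ψ.comp (Subgroup.inclusion hN')).comp (w.codRestrict _ hwN) ∈ F.Hom _ :=
    F.comp_mem hw (restrict_mem hψ hN') hwN
  have hmem : ∀ y, ((ψ.comp (Subgroup.inclusion hN')).comp (w.codRestrict _ hwN)) y
      ∈ normalizerIn S P' := by
    intro y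
    subst hP'
    exact map_mem_normalizerIn hψ hPR.le (hN (hwN y)) _
  have hχ : v.comp (((ψ.comp (Subgroup.inclusion hN')).comp (w.codRestrict _ hwN)).codRestrict _ hmem)
      ∈ F.Hom _ := F.comp_mem hχ₁ hv.1 hmem
  set χ : M →* Ω :=
    v.comp (((ψ.comp (Subgroup.inclusion hN')).comp (w.codRestrict _ hwN)).codRestrict _ hmem) with hχdef
  have hval : ∀ (x : P) (hx : u ⟨x, hN (hPN.le x.2)⟩ ∈ M) (h2 : ψ ⟨x, hPR.le x.2⟩ ∈ normalizerIn S P'),
      χ ⟨u ⟨x, hN (hPN.le x.2)⟩, hx⟩ = v ⟨ψ ⟨x, hPR.le x.2⟩, h2⟩ := by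
    intro x hx h2
    refine congrArg v (Subtype.ext ?_)
    exact apply_congr ψ (hwu ⟨x, hPN.le x.2⟩ hx)
  have hQM : Q ≤ M := by
    intro y hy
    obtain ⟨x, hx, rfl⟩ := hu.exists_pre hy
    exact hM.le ⟨⟨x, hPN.le hx⟩, rfl⟩
  have hMS : M ≤ S := hM.ge.trans (range_le_S hu₁)
  have hPS : P ≤ S := hPN.le.trans (hN.trans (normalizerIn_le_S P))
  have hcQ : Nat.card Q = Nat.card P := by
    rw [← hu.2, card_map_subgroupOf (F.injective_of_mem hu.1) (le_normalizerIn hPS)]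
  have hlt : Q < M := by
    refine lt_of_le_of_ne hQM fun h => ?_
    have h1 : Nat.card M = Nat.card (normalizerIn R P) := hM ▸ card_range hu₁
    rw [← h, hcQ] at h1
    exact hPN.ne (eq_of_le_of_card_le (hN'.trans hRS) hPN.le h1.ge)
  have hβ : χ.comp (Subgroup.inclusion hQM) ∈ F.Hom Q := restrict_mem hχ hQM
  have hr : (χ.comp (Subgroup.inclusion hQM)).range = Q := by
    refine eq_of_le_of_card_le (hQM.trans hMS) ?_ (card_range hβ).ge
    rintro _ ⟨⟨y, hy⟩, rfl⟩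
    obtain ⟨x, hx, hxy⟩ := hu.exists_pre hy
    subst hxy
    have h2 : ψ ⟨x, hPR.le hx⟩ ∈ P' := hP'.le ⟨⟨x, hPR.le hx⟩, hx, rfl⟩
    have h2' : ψ ⟨x, hPR.le hx⟩ ∈ normalizerIn S P' :=
      le_normalizerIn (hP' ▸ (Subgroup.map_le_range ψ _).trans (range_le_S hψ)) h2
    show χ ⟨_, hQM hy⟩ ∈ Q
    rw [apply_congr χ (y := ⟨u ⟨x, hN (hPN.le hx)⟩, hM.le ⟨⟨x, hPN.le hx⟩, rfl⟩⟩) rfl,
      hval ⟨x, hx⟩ _ h2']
    exact hv.apply_mem h2
  refine ⟨autOfRange _ (F.injective_of_mem hβ) hr, ⟨M, hlt, χ, hχ, fun y => rfl⟩,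
    fun x h1 h2 h3 => ?_⟩
  exact (hval x (hQM h3) h2).symm

/-- The system omitting the automorphisms outside the extendable ones at the class of `Q`. -/
def omitClass (hS : IsPGroup p S) (hF : F.IsSaturated p) {Q : Subgroup Ω}
    (hQn : F.IsFullyNormalized Q) (hQS : Q ≠ S) : FusionSystem S where
  Hom P := {φ | φ ∈ F.Hom P ∧ (F.IsConj Q P → ∃ u v α, IsUp F Q P u ∧ IsUp F Q φ.range v ∧
    α ∈ Subgroup.closure (extendSet F Q) ∧ IsTwist φ u v α)}
  le_of_mem h := F.le_of_mem h.1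
  injective_of_mem h := F.injective_of_mem h.1
  conj_mem {P g} hP hg := by
    refine ⟨F.conj_mem hP hg, fun hc => ?_⟩
    have hne : P < S := lt_of_le_of_ne hP fun h => by
      have h1 := IsConj.card_eq hc
      exact hQS (eq_of_le_of_card_le le_rfl hQn.1 (by rw [← h1, h]))
    have hlt := lt_normalizerIn p hS le_rfl hne
    obtain ⟨u, hu⟩ := exists_isUp hS hF hQn hc
    have hψ : conjHom (normalizerIn S P) g ∈ F.Hom _ := F.conj_mem (normalizerIn_le_S P) hg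
    have hr : (P.subgroupOf (normalizerIn S P)).map (conjHom (normalizerIn S P) g) =
        (conjHom P g).range := (range_restrict _ hlt.le).symm
    obtain ⟨v, hv⟩ := exists_isUp hS hF hQn (isConj_trans hc ⟨_, F.conj_mem hP hg, rfl⟩)
    obtain ⟨α, hα, ht⟩ := exists_twist hS hlt hψ hr hu hv
    exact ⟨u, v, α, hu, hv, Subgroup.subset_closure hα, ht⟩
  inv_mem {P φ} h := by
    obtain ⟨w, hw, hwr, hw1, hw2⟩ := exists_inv h.1 rfl
    refine ⟨w, ⟨hw, fun hc => ?_⟩, fun x => hw1 x _⟩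
    obtain ⟨u, v, α, hu, hv, hα, ht⟩ := h.2 (isConj_trans hc ⟨w, hw, hwr⟩)
    rw [hwr]
    refine ⟨v, u, α⁻¹, hv, hu, inv_mem hα, fun y h1 h2 h3 => ?_⟩
    have hwy : w y ∈ P := hwr.le ⟨y, rfl⟩
    have hfy : φ ⟨w y, hwy⟩ = (y : Ω) := hw2 y _
    have h4 : u ⟨w y, h2⟩ ∈ Q := hu.apply_mem hwy
    have h5 := ht ⟨w y, hwy⟩ h2 (by rw [hfy]; exact h1) h4
    have h6 : (⟨v ⟨(y : Ω), h1⟩, h3⟩ : Q) = α ⟨u ⟨w y, h2⟩, h4⟩ :=
      Subtype.ext ((apply_congr v hfy.symm).trans h5)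
    rw [h6, MulAut.inv_apply_self]
  comp_mem {P R φ ψ} hφ hψ h := by
    refine ⟨F.comp_mem hφ.1 hψ.1 h, fun hc => ?_⟩
    obtain ⟨u, v, α, hu, hv, hα, ht⟩ := hφ.2 hc
    have hc' : F.IsConj Q φ.range := isConj_trans hc ⟨φ, hφ.1, rfl⟩
    have hle : φ.range ≤ R := by rintro _ ⟨x, rfl⟩; exact h x
    -- the restriction of `ψ` to the image
    obtain ⟨u', v', β, hu', hv', hβ, ht'⟩ : ∃ u' v' β, IsUp F Q φ.range u' ∧
        IsUp F Q (ψ.comp (φ.codRestrict R h)).range v' ∧ β ∈ Subgroup.closure (extendSet F Q) ∧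
        IsTwist (ψ.comp (Subgroup.inclusion hle)) u' v' β := by
      have hr : (φ.range.subgroupOf R).map ψ = (ψ.comp (φ.codRestrict R h)).range := by
        ext y
        constructor
        · rintro ⟨z, ⟨x, hx⟩, rfl⟩
          exact ⟨x, apply_congr ψ hx⟩
        · rintro ⟨x, rfl⟩
          exact ⟨⟨φ x, h x⟩, ⟨x, rfl⟩, rfl⟩
      rcases hle.eq_or_lt with heq | hlt
      · subst heq
        obtain ⟨u', v', β, hu', hv', hβ, ht'⟩ := hψ.2 hc'
        have e : ψ.range = (ψ.comp (φ.codRestrict φ.range h)).range :=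
          (map_subgroupOf_self ψ).symm.trans hr
        revert v'
        rw [e]
        intro v' hv' ht'
        exact ⟨u', v', β, hu', hv', hβ, ht'⟩
      · obtain ⟨u', hu'⟩ := exists_isUp hS hF hQn hc'
        obtain ⟨v', hv'⟩ := exists_isUp hS hF hQn
          (isConj_trans hc ⟨_, F.comp_mem hφ.1 hψ.1 h, rfl⟩)
        obtain ⟨β, hβ, ht'⟩ := exists_twist hS hlt hψ.1 hr hu' hv'
        exact ⟨u', v', β, hu', hv', Subgroup.subset_closure hβ, ht'⟩
    -- comparison of the two choices at the image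
    have hRS : φ.range ≤ S := range_le_S hφ.1
    have hne : φ.range < S := lt_of_le_of_ne hRS fun e => by
      have h1 := IsConj.card_eq hc'
      exact hQS (eq_of_le_of_card_le le_rfl hQn.1 (by rw [← h1, e]))
    have hlt := lt_normalizerIn p hS le_rfl hne
    obtain ⟨γ, hγ, htγ⟩ := exists_twist hS hlt (subtype_mem (F := F) (normalizerIn_le_S _))
      (show (φ.range.subgroupOf (normalizerIn S φ.range)).map (normalizerIn S φ.range).subtype = φ.range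
        by rw [Subgroup.map_subgroupOf_eq_of_le hlt.le]) hv hu'
    refine ⟨u, v', β * γ * α, hu, hv',
      mul_mem (mul_mem hβ (Subgroup.subset_closure hγ)) hα, fun x h1 h2 h3 => ?_⟩
    have hx1 : φ x ∈ normalizerIn S φ.range := hlt.le ⟨x, rfl⟩
    have e1 := ht x h1 hx1 h3
    have h4 : v ⟨φ x, hx1⟩ ∈ Q := hv.apply_mem ⟨x, rfl⟩
    have e2 := htγ ⟨φ x, ⟨x, rfl⟩⟩ hx1 hx1 h4
    have h5 : u' ⟨φ x, hx1⟩ ∈ Q := hu'.apply_mem ⟨x, rfl⟩
    have e3 := ht' ⟨φ x, ⟨x, rfl⟩⟩ hx1 h2 h5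
    refine e3.trans ?_
    show ((β _ : Q) : Ω) = ((β (γ (α _)) : Q) : Ω)
    refine congrArg (fun z : Q => ((β z : Q) : Ω)) (Subtype.ext ?_)
    refine e2.trans ?_
    exact congrArg (fun z : Q => ((γ z : Q) : Ω)) (Subtype.ext e1)

/-- The subgroups not conjugate to an essential `Q` do not generate the system. -/
theorem exists_omit_essential (hS : IsPGroup p S) (hF : F.IsSaturated p) {Q : Subgroup Ω}
    (hQ : F.IsEssential p Q) (hQS : Q ≠ S) :
    ∃ E : FusionSystem S, (∀ R : Subgroup Ω, R ≤ S → ¬ F.IsConj Q R → F.autGroup R ≤ E.autGroup R) ∧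
      ¬ F.autGroup Q ≤ E.autGroup Q := by
  have hQn := hQ.2.1
  have hlt : Q < S := lt_of_le_of_ne hQn.1 hQS
  have hN := lt_normalizerIn p hS le_rfl hlt
  refine ⟨omitClass hS hF hQn hQS, fun R hR hc α hα => Subgroup.subset_closure
    ⟨(autGroup_carrier hR).1 hα, fun h => absurd h hc⟩, fun hle => ?_⟩
  set H := Subgroup.closure (extendSet F Q) with hH
  have hne : ¬ F.autGroup Q ≤ H := by
    rcases extend_dichotomy p hS hF hlt hQn H hH with h | ⟨-, hn, -, htop, -⟩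
    · exact absurd hQ h.1
    · intro h
      apply htop
      rw [Subgroup.subgroupOf_eq_top.2 h, ← MonoidHom.range_eq_map,
        MonoidHom.range_eq_top.2 (QuotientGroup.mk'_surjective _)]
  refine hne fun α hα => ?_
  obtain ⟨u, v, β, hu, hv, hβ, ht⟩ :=
    ((autGroup_carrier hQn.1).1 (hle hα)).2 (isConj_refl hQn.1)
  have key : ∀ (u : normalizerIn S Q →* Ω), IsUp F Q Q u → ∃ δ ∈ H, ∀ (x : Q) (h : (x : Ω) ∈ normalizerIn S Q),
      ((δ x : Q) : Ω) = u ⟨x, h⟩ := by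
    intro u hu
    have hr : (u.comp (Subgroup.inclusion hN.le)).range = Q := (range_restrict u hN.le).trans hu.2
    exact ⟨autOfRange _ (F.injective_of_mem (restrict_mem hu.1 hN.le)) hr,
      Subgroup.subset_closure ⟨_, hN, u, hu.1, fun x => rfl⟩, fun x h => rfl⟩
  have er : (Q.subtype.comp α.toMonoidHom).range = Q := range_subtype_comp α
  revert v
  rw [er]
  intro v hv ht
  obtain ⟨δu, hδu, hu'⟩ := key u hu
  obtain ⟨δv, hδv, hv'⟩ := key v hv
  have : α = δv⁻¹ * β * δu := by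
    have h : δv * α = β * δu := MulEquiv.ext fun x => Subtype.ext (by
      have h1 : (x : Ω) ∈ normalizerIn S Q := hN.le x.2
      have h2 : ((α x : Q) : Ω) ∈ normalizerIn S Q := hN.le (α x).2
      rw [MulAut.mul_apply, MulAut.mul_apply, hv' (α x) h2]
      refine (ht x h1 h2 (hu.apply_mem x.2)).trans ?_
      exact congrArg (fun z : Q => ((β z : Q) : Ω)) (Subtype.ext (hu' x h1).symm))
    rw [mul_assoc, ← h, inv_mul_cancel_left]
  rw [this]
  exact mul_mem (mul_mem (inv_mem hδv) hβ) hδu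

/-- The system with all maps of `F` on proper subgroups and inner maps on `S`. -/
def omitTop (F : FusionSystem S) : FusionSystem S where
  Hom P := {φ | φ ∈ F.Hom P ∧ (P = S → ∃ g ∈ S, ∀ x : P, φ x = g * (x : Ω) * g⁻¹)}
  le_of_mem h := F.le_of_mem h.1
  injective_of_mem h := F.injective_of_mem h.1
  conj_mem {P g} hP hg := ⟨F.conj_mem hP hg, fun _ => ⟨g, hg, fun _ => rfl⟩⟩
  inv_mem {P φ} h := by
    obtain ⟨w, hw, hwr, hw1, hw2⟩ := exists_inv h.1 rfl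
    refine ⟨w, ⟨hw, fun hr => ?_⟩, fun x => hw1 x _⟩
    have hP : P = S := by
      refine eq_of_le_of_card_le le_rfl (le_of_mem_hom h.1) ?_
      rw [← card_range h.1, hr]
    obtain ⟨g, hg, hgx⟩ := h.2 hP
    refine ⟨g⁻¹, inv_mem hg, fun y => ?_⟩
    have hy : w y ∈ P := hwr.le ⟨y, rfl⟩
    have h1 := (hgx ⟨w y, hy⟩).symm.trans (hw2 y hy)
    show w y = g⁻¹ * (y : Ω) * g⁻¹⁻¹
    rw [← h1]; group
  comp_mem {P R φ ψ} hφ hψ h := by
    refine ⟨F.comp_mem hφ.1 hψ.1 h, fun hP => ?_⟩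
    have hR : R = S := by
      refine eq_of_le_of_card_le le_rfl (le_of_mem_hom hψ.1) ?_
      have h1 : φ.range ≤ R := by rintro _ ⟨x, rfl⟩; exact h x
      calc Nat.card S = Nat.card P := by rw [hP]
        _ = Nat.card φ.range := (card_range hφ.1).symm
        _ ≤ Nat.card R := card_le_of_le (le_of_mem_hom hψ.1) h1
    obtain ⟨g, hg, hgx⟩ := hφ.2 hP
    obtain ⟨k, hk, hkx⟩ := hψ.2 hR
    refine ⟨k * g, mul_mem hk hg, fun x => ?_⟩
    show ψ ⟨φ x, h x⟩ = _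
    rw [hkx]
    show k * φ x * k⁻¹ = _
    rw [hgx]; group

/-- An intersection of two generating families is generating. -/
theorem generates_inter (hS : IsPGroup p S) (hF : F.IsSaturated p) (𝒬₁ 𝒬₂ : Set (Subgroup Ω))
    (h₁ : ∀ R ∈ 𝒬₁, ∀ R' : Subgroup Ω, F.IsConj R R' → R' ∈ 𝒬₁)
    (h₂ : ∀ R ∈ 𝒬₂, ∀ R' : Subgroup Ω, F.IsConj R R' → R' ∈ 𝒬₂)
    (hg₁ : ∀ E : FusionSystem S, (∀ R ∈ 𝒬₁, F.autGroup R ≤ E.autGroup R) → F ≤ E)
    (hg₂ : ∀ E : FusionSystem S, (∀ R ∈ 𝒬₂, F.autGroup R ≤ E.autGroup R) → F ≤ E)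
    (E : FusionSystem S) (hE : ∀ R ∈ 𝒬₁ ∩ 𝒬₂, F.autGroup R ≤ E.autGroup R) : F ≤ E := by
  have hmono : ∀ {A B : FusionSystem S}, A ≤ B → ∀ R : Subgroup Ω, A.autGroup R ≤ B.autGroup R :=
    fun h R => autGroup_mono h R
  have ess : ∀ (𝒬 : Set (Subgroup Ω)), (∀ R ∈ 𝒬, ∀ R' : Subgroup Ω, F.IsConj R R' → R' ∈ 𝒬) →
      (∀ E : FusionSystem S, (∀ R ∈ 𝒬, F.autGroup R ≤ E.autGroup R) → F ≤ E) →
      ∀ Q, F.IsEssential p Q → Q ≠ S → Q ∈ 𝒬 := by
    intro 𝒬 hc hg Q hQ hQS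
    by_contra hQ𝒬
    obtain ⟨E, hE, hne⟩ := exists_omit_essential hS hF hQ hQS
    refine hne (hmono (hg E fun R hR => ?_) Q)
    by_cases hRS : R ≤ S
    · exact hE R hRS fun hconj => hQ𝒬 (hc R hR Q (isConj_symm hconj))
    · rw [autGroup_eq_bot hRS]; exact bot_le
  have top : ∀ (𝒬 : Set (Subgroup Ω)),
      (∀ E : FusionSystem S, (∀ R ∈ 𝒬, F.autGroup R ≤ E.autGroup R) → F ≤ E) →
      S ∈ 𝒬 ∨ F.autGroup S ≤ autInducedBy S S := by
    intro 𝒬 hg
    by_contra hne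
    rw [not_or] at hne
    refine hne.2 fun α hα => ?_
    have hle := hg (omitTop F) fun R hR α hα => ?_
    · obtain ⟨g, hgS, hgx⟩ := ((autGroup_carrier le_rfl).1 (hmono hle S hα)).2 rfl
      exact mem_autInducedBy.2 ⟨g, hgS, hgx⟩
    · by_cases hRS : R ≤ S
      · exact Subgroup.subset_closure
          ⟨(autGroup_carrier hRS).1 hα, fun h => absurd (h ▸ hR) hne.1⟩
      · rw [autGroup_eq_bot hRS] at hα
        rw [Subgroup.mem_bot.1 hα]; exact one_mem _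
  refine alperin_saturated p hS hF E fun P hP => ?_
  by_cases hPS : P = S
  · subst hPS
    rcases top 𝒬₁ hg₁ with h₁' | h₁'
    · rcases top 𝒬₂ hg₂ with h₂' | h₂'
      · exact hE P ⟨h₁', h₂'⟩
      · exact h₂'.trans (autInducedBy_le_autGroup le_rfl)
    · exact h₁'.trans (autInducedBy_le_autGroup le_rfl)
  · have hQ := hP.resolve_left hPS
    exact hE P ⟨ess 𝒬₁ h₁ hg₁ P hQ hPS, ess 𝒬₂ h₂ hg₂ P hQ hPS⟩

end CfsgLib.Fusion
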