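import Cfsg.Agent.Fusion.NormalCriteria
import Cfsg.Agent.Fusion.Invariant

/-!
The subgroup generated by the conjugates of a normal subgroup of an invariant subsystem.
-/

set_option autoImplicit false

open Cfsg Cfsg.FusionSystem

namespace CfsgLib.Fusion

variable {Ω : Type*} [Group Ω] {S T : Subgroup Ω} {F : FusionSystem S} {E : FusionSystem T}

/-- Automorphisms of `T` in the big system permute the normal subgroups of an invariant
subsystem. -/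
theorem isNormal_image_aut (h : E.IsInvariantIn F) {α : MulAut T} (hα : α ∈ F.autGroup T)
    {Q : Subgroup Ω} (hQ : E.IsNormal Q) :
    E.IsNormal ((Q.subgroupOf T).map (T.subtype.comp α.toMonoidHom)) := by
  obtain ⟨-, -, hinv, -⟩ := h
  refine ⟨by rintro _ ⟨x, -, rfl⟩; exact (α x).2, fun P φ hφ => ?_⟩
  have hPT : P ≤ T := le_of_mem_hom hφ
  obtain ⟨χ, hχ, hχe⟩ := hinv P hPT φ hφ α⁻¹ (inv_mem hα)
  let P' := (P.subgroupOf T).map (T.subtype.comp (α⁻¹ : MulAut T).toMonoidHom)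
  obtain ⟨ψ, hψ, hψe, hψm⟩ := hQ.2 P' χ hχ
  have hP'T : P' ≤ T := by rintro _ ⟨x, -, rfl⟩; exact ((α⁻¹ : MulAut T) x).2
  have hWT : P' ⊔ Q ≤ T := sup_le hP'T hQ.1
  obtain ⟨χ₂, hχ₂, hχ₂e⟩ := hinv (P' ⊔ Q) hWT ψ hψ α hα
  let Q' := (Q.subgroupOf T).map (T.subtype.comp α.toMonoidHom)
  let W := (((P' ⊔ Q).subgroupOf T)).map (T.subtype.comp α.toMonoidHom)
  have hmemP : ∀ x : P, ((α⁻¹ ⟨x, hPT x.2⟩ : T) : Ω) ∈ P' := fun x => ⟨⟨x, hPT x.2⟩, x.2, rfl⟩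
  have hPW : P ≤ W := fun x hx => by
    refine ⟨α⁻¹ ⟨x, hPT hx⟩, Subgroup.mem_sup_left (hmemP ⟨x, hx⟩), ?_⟩
    show ((α (α⁻¹ ⟨x, hPT hx⟩) : T) : Ω) = x
    rw [MulAut.apply_inv_self]
  have hQW : Q' ≤ W := Subgroup.map_mono fun x hx => Subgroup.mem_sup_right hx
  refine ⟨χ₂.comp (Subgroup.inclusion (sup_le hPW hQW)), restrict_mem hχ₂ _, fun x => ?_, ?_⟩
  · have h0 := hχe x (apply_mem_S hφ x) (hmemP x)
    have hψx : ψ ⟨_, Subgroup.mem_sup_left (hmemP x)⟩ = χ ⟨_, hmemP x⟩ := hψe ⟨_, hmemP x⟩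
    have h1 := hχ₂e ⟨_, Subgroup.mem_sup_left (hmemP x)⟩
      (by rw [hψx, h0]; exact SetLike.coe_mem _)
      (by
        refine Set.mem_of_eq_of_mem ?_ (hPW x.2)
        show ((α (α⁻¹ ⟨x, hPT x.2⟩) : T) : Ω) = x
        rw [MulAut.apply_inv_self])
    refine ((apply_congr χ₂ ?_).trans h1).trans ?_
    · show (x : Ω) = ((α (α⁻¹ ⟨x, hPT x.2⟩) : T) : Ω)
      rw [MulAut.apply_inv_self]
    · rw [show (⟨ψ ⟨_, Subgroup.mem_sup_left (hmemP x)⟩,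
          by rw [hψx, h0]; exact SetLike.coe_mem _⟩ : T) = α⁻¹ ⟨φ x, apply_mem_S hφ x⟩ from
        Subtype.ext (hψx.trans h0), MulAut.apply_inv_self]
  · ext y
    constructor
    · rintro ⟨⟨x, hxS⟩, hxQ', rfl⟩
      obtain ⟨q, hq, hqx⟩ := hxQ'
      change ((α q : T) : Ω) = x at hqx
      have hψq : ψ ⟨q, Subgroup.mem_sup_right hq⟩ ∈ Q :=
        hψm.le ⟨⟨q, Subgroup.mem_sup_right hq⟩, hq, rfl⟩
      have h1 := hχ₂e ⟨q, Subgroup.mem_sup_right hq⟩ (hQ.1 hψq)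
        (⟨q, Subgroup.mem_sup_right hq, rfl⟩)
      refine Set.mem_of_eq_of_mem ((apply_congr χ₂ hqx.symm).trans h1) ?_
      exact ⟨⟨_, hQ.1 hψq⟩, hψq, rfl⟩
    · rintro ⟨q, hq, rfl⟩
      obtain ⟨⟨r, hrW⟩, hrQ, hrq⟩ := hψm.ge hq
      have h1 := hχ₂e ⟨r, hrW⟩ (by rw [hrq]; exact q.2) (⟨⟨r, hQ.1 hrQ⟩, hrW, rfl⟩)
      refine ⟨⟨((α ⟨r, hQ.1 hrQ⟩ : T) : Ω), Subgroup.mem_sup_right ⟨⟨r, hQ.1 hrQ⟩, hrQ, rfl⟩⟩,
        ⟨⟨r, hQ.1 hrQ⟩, hrQ, rfl⟩, ?_⟩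
      refine (apply_congr χ₂ rfl).trans (h1.trans ?_)
      exact congrArg (fun z : T => ((α z : T) : Ω)) (Subtype.ext hrq)

/-- The conjugates of a normal subgroup of a weakly normal subsystem generate a normal
subgroup. -/
theorem isNormal_closure_conj [Finite S] (p : ℕ) [Fact p.Prime] (hS : IsPGroup p S)
    (hF : F.IsSaturated p) (hE : E.IsInvariantIn F) {R : Subgroup Ω} (hR : E.IsNormal R) :
    F.IsNormal (Subgroup.closure {x : Ω | ∃ φ ∈ F.Hom R, ∃ r : R, x = φ r}) := by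
  classical
  obtain ⟨hsub, hT, -, hfr⟩ := id hE
  set R' := Subgroup.closure {x : Ω | ∃ φ ∈ F.Hom R, ∃ r : R, x = φ r} with hR'
  have hR'T : R' ≤ T := by
    rw [hR', Subgroup.closure_le]
    rintro _ ⟨φ, hφ, r, rfl⟩
    exact hT.2 R hR.1 φ hφ r
  haveI : Finite T := finite_of_le hT.1
  have hfin : {Q : Subgroup Ω | E.IsNormal Q ∧ Q ≤ R'}.Finite :=
    (finite_setOf_le T le_rfl).subset fun Q hQ => hQ.1.1
  have hsup : ∀ A : Set (Subgroup Ω), A.Finite → (∀ Q ∈ A, E.IsNormal Q) →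
      E.IsNormal (sSup A) := by
    intro A hA
    induction A, hA using Set.Finite.induction_on with
    | empty => intro _; rw [sSup_empty]; exact isNormal_bot
    | insert _ _ ih =>
      intro h
      rw [sSup_insert]
      exact isNormal_sup (h _ (Set.mem_insert _ _)) (ih fun Q hQ => h Q (Set.mem_insert_of_mem _ hQ))
  have hR'E : E.IsNormal R' := by
    have heq : sSup {Q : Subgroup Ω | E.IsNormal Q ∧ Q ≤ R'} = R' := by
      refine le_antisymm (sSup_le fun Q hQ => hQ.2) ?_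
      rw [hR', Subgroup.closure_le]
      rintro _ ⟨φ, hφ, r, rfl⟩
      obtain ⟨α, hα, φ₀, hφ₀, he⟩ := hfr R hR.1 φ hφ
      have hφ₀R : ∀ x : R, φ₀ x ∈ R := fun x =>
        (stronglyClosed_of_isNormal hR).2 R le_rfl φ₀ hφ₀ x
      have hQn := isNormal_image_aut hE hα hR
      have hQle : (R.subgroupOf T).map (T.subtype.comp α.toMonoidHom) ≤ R' := by
        rintro _ ⟨x, hx, rfl⟩
        have hm := restrict_mem ((autGroup_carrier hT.1).1 hα) hR.1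
        exact Subgroup.subset_closure ⟨_, hm, ⟨x, hx⟩, rfl⟩
      refine (le_sSup (s := {Q : Subgroup Ω | E.IsNormal Q ∧ Q ≤ R'}) ⟨hQn, hQle⟩) ?_
      exact ⟨⟨φ₀ r, hR.1 (hφ₀R r)⟩, hφ₀R r, (he r _).symm⟩
    rw [← heq]
    exact hsup _ hfin fun Q hQ => hQ.1
  refine isNormal_of_extends p hS hF (hR'T.trans hT.1) fun P hPR φ hφ => ?_
  obtain ⟨α, hα, φ₀, hφ₀, he⟩ := hfr P (hPR.trans hR'T) φ hφ
  obtain ⟨ψ, hψ, hψe, hψm⟩ := hR'E.2 P φ₀ hφ₀
  let β : R' →* Ω := ψ.comp (Subgroup.inclusion le_sup_right)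
  have hβR : ∀ x : R', β x ∈ R' := fun x => hψm.le ⟨Subgroup.inclusion le_sup_right x, x.2, rfl⟩
  have hβ : β ∈ F.Hom R' := hsub _ (restrict_mem hψ le_sup_right)
  have hαR : ∀ x : T, (x : Ω) ∈ R' → ((α x : T) : Ω) ∈ R' := by
    suffices hle : R'.subgroupOf T ≤ (R'.subgroupOf T).comap α.toMonoidHom from fun x hx => hle hx
    have hle' : R' ≤ ((R'.subgroupOf T).comap α.toMonoidHom).map T.subtype := by
      rw [hR', Subgroup.closure_le]
      rintro _ ⟨χ, hχ, r, rfl⟩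
      refine ⟨⟨χ r, hT.2 R hR.1 χ hχ r⟩, ?_, rfl⟩
      refine Subgroup.subset_closure ⟨_, comp_mem_of_eq hχ ((autGroup_carrier hT.1).1 hα)
        (fun x => hT.2 R hR.1 χ hχ x) (χ := (T.subtype.comp α.toMonoidHom).comp
          (χ.codRestrict T fun x => hT.2 R hR.1 χ hχ x)) (fun _ => rfl), r, rfl⟩
    intro x hx
    obtain ⟨y, hy, hyx⟩ := hle' hx
    exact (Subtype.ext hyx : y = x) ▸ hy
  let γ : R' →* Ω := (T.subtype.comp α.toMonoidHom).comp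
    (β.codRestrict T fun x => hR'T (hβR x))
  have hγ : γ ∈ F.Hom R' := comp_mem_of_eq hβ ((autGroup_carrier hT.1).1 hα)
    (fun x => hR'T (hβR x)) (fun _ => rfl)
  have hγr : γ.range = R' := by
    haveI : Finite R' := finite_of_le hR'T
    refine eq_of_le_of_card_le hR'T ?_ (card_range hγ).ge
    rintro _ ⟨x, rfl⟩
    exact hαR _ (hβR x)
  refine ⟨_, autOfRange_mem hγ hγr, fun x => ?_⟩
  rw [he x (apply_mem_S hφ₀ x)]
  refine congrArg (fun z : T => ((α z : T) : Ω)) (Subtype.ext ?_)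
  exact (apply_congr ψ rfl).trans (hψe x)

end CfsgLib.Fusion
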