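import Cfsg.Agent.S5118
import Cfsg.Agent.Fusion.Quotient

/-!
A normal subgroup of a group realizing a system gives a normal subsystem.
-/

set_option autoImplicit false
universe u

open Cfsg Cfsg.FusionSystem

namespace CfsgLib.Fusion

variable {Ω : Type*} [Group Ω] {S : Subgroup Ω} {G : Type*} [Group G] {ι : S →* G}

/-- The system of the maps between subgroups of `preimg ι N` induced by elements of `N`. -/
def normalPart (ι : S →* G) (N : Subgroup G) [N.Normal] : FusionSystem (preimg ι N) where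
  Hom P := {φ | P ≤ preimg ι N ∧ (∀ x : P, φ x ∈ preimg ι N) ∧ Function.Injective φ ∧
    ∃ g ∈ N, ∀ (x : P) (h₁ : φ x ∈ S) (h₂ : (x : Ω) ∈ S), ι ⟨φ x, h₁⟩ = g * ι ⟨x, h₂⟩ * g⁻¹}
  le_of_mem h := ⟨h.1, h.2.1⟩
  injective_of_mem h := h.2.2.1
  conj_mem := by
    intro P k hP hk
    obtain ⟨hkS, hkN⟩ := mem_preimg.1 hk
    refine ⟨hP, fun x => ?_, fun a b hab => ?_, ι ⟨k, hkS⟩, hkN, fun x h₁ h₂ => ?_⟩
    · exact mul_mem (mul_mem hk (hP x.2)) (Subgroup.inv_mem _ hk)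
    · exact Subtype.ext (mul_left_cancel (mul_right_cancel hab))
    · rw [← map_inv, ← map_mul, ← map_mul]
      rfl
  comp_mem := by
    rintro P Q φ ψ ⟨hP, hφT, hφi, g, hgN, hg⟩ ⟨-, hψT, hψi, k, hkN, hk⟩ h
    refine ⟨hP, fun x => hψT _, fun a b hab => ?_, k * g, mul_mem hkN hgN, fun x h₁ h₂ => ?_⟩
    · exact hφi (congrArg Subtype.val (hψi hab))
    · have hφS := preimg_le N (hφT x)
      have e := hk ⟨φ x, h x⟩ h₁ hφS
      simp only [MonoidHom.comp_apply]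
      refine e.trans ?_
      rw [hg x hφS h₂]
      group
  inv_mem := by
    rintro P φ ⟨hP, hφT, hφi, g, hgN, hg⟩
    let e := MonoidHom.ofInjective hφi
    have key : ∀ y : φ.range, φ (e.symm y) = y := fun y =>
      congrArg Subtype.val (e.apply_symm_apply y)
    refine ⟨P.subtype.comp e.symm.toMonoidHom, ⟨?_, fun y => hP (e.symm y).2,
      fun a b hab => e.symm.injective (Subtype.ext hab), g⁻¹, inv_mem hgN, fun y h₁ h₂ => ?_⟩,
      fun x => ?_⟩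
    · rintro _ ⟨x, rfl⟩
      exact hφT x
    · have h3 : φ (e.symm y) ∈ S := (key y).symm ▸ h₂
      have e1 := hg (e.symm y) h3 h₁
      have e2 : (⟨φ (e.symm y), h3⟩ : S) = ⟨y, h₂⟩ := Subtype.ext (key y)
      rw [← e2, e1]
      show ι ⟨(e.symm y : Ω), _⟩ = _
      group
    · exact congrArg Subtype.val (e.symm_apply_apply x)

theorem mem_normalPart (N : Subgroup G) [N.Normal] {P : Subgroup Ω} {φ : P →* Ω} :
    φ ∈ (normalPart ι N).Hom P ↔ P ≤ preimg ι N ∧ (∀ x : P, φ x ∈ preimg ι N) ∧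
      Function.Injective φ ∧
      ∃ g ∈ N, ∀ (x : P) (h₁ : φ x ∈ S) (h₂ : (x : Ω) ∈ S),
        ι ⟨φ x, h₁⟩ = g * ι ⟨x, h₂⟩ * g⁻¹ := Iff.rfl

variable {F : FusionSystem S} [Finite S] [Finite G]

theorem normalPart_isNormalIn (p : ℕ) [Fact p.Prime] (hS : IsPGroup p S) (h : F.IsRealizedBy ι)
    (T : Sylow p G) (hT : (T : Subgroup G) = ι.range) (N : Subgroup G) [N.Normal] :
    (normalPart ι N).IsNormalIn F p := by
  classical
  set T₀ := preimg ι N with hT₀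
  set E := normalPart ι N with hE
  set U := (T : Subgroup G) ⊓ N with hU
  have hTS : T₀ ≤ S := preimg_le N
  have hFsat : F.IsSaturated p := saturated_of_realized p hS h T hT
  have hmemU : ∀ y : T₀, ι ⟨y, hTS y.2⟩ ∈ U := fun y =>
    ⟨hT ▸ ⟨_, rfl⟩, (mem_preimg.1 y.2).2⟩
  have hUmem : ∀ u ∈ U, ∃ y : T₀, ι ⟨y, hTS y.2⟩ = u := by
    intro u hu
    obtain ⟨y, rfl⟩ : u ∈ ι.range := hT ▸ hu.1
    exact ⟨⟨y, mem_preimg.2 ⟨y.2, hu.2⟩⟩, rfl⟩
  have hsylU : SylowIn p U N := SylowIn.inf_normal (A := (T : Subgroup G)) (L := ⊤)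
    ⟨le_top, T.subtype le_top, rfl⟩ le_top (fun g _ => by rw [Subgroup.normalizer_eq_top]; trivial)
  have hTp : IsPGroup p T₀ := isPGroup_of_le hS hTS
  have : Finite T₀ := finite_of_le hTS
  have hsub : E.IsSubsystemOf F := by
    rintro P φ ⟨hP, hv, -, g, -, hg⟩
    exact (h.2 P (hP.trans hTS) φ fun x => hTS (hv x)).2 ⟨g, fun x => hg x _ _⟩
  have hEsat : E.IsSaturated p := by
    let ι₀ : T₀ →* N :=
      (ι.comp (Subgroup.inclusion hTS)).codRestrict N fun y => (mem_preimg.1 y.2).2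
    obtain ⟨R, hR⟩ := hsylU.2
    refine saturated_of_realized (ι := ι₀) p hTp ⟨fun a b hab => ?_, fun P hP φ hφ => ⟨?_, ?_⟩⟩ R ?_
    · have : ι ⟨a, hTS a.2⟩ = ι ⟨b, hTS b.2⟩ := congrArg Subtype.val hab
      exact Subtype.ext (congrArg (fun z : S => (z : Ω)) (h.1 this))
    · rintro ⟨-, -, -, g, hgN, hg⟩
      exact ⟨⟨g, hgN⟩, fun x => Subtype.ext (hg x _ _)⟩
    · rintro ⟨g, hg⟩
      refine ⟨hP, hφ, fun a b hab => ?_, g, g.2, fun x h₁ h₂ => congrArg Subtype.val (hg x)⟩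
      have e : (g : N) * ι₀ ⟨a, hP a.2⟩ * g⁻¹ = g * ι₀ ⟨b, hP b.2⟩ * g⁻¹ := by
        rw [← hg a, ← hg b]
        exact congrArg ι₀ (Subtype.ext hab)
      have e2 : ι ⟨a, hTS (hP a.2)⟩ = ι ⟨b, hTS (hP b.2)⟩ :=
        congrArg Subtype.val (mul_left_cancel (mul_right_cancel e))
      exact Subtype.ext (congrArg (fun z : S => (z : Ω)) (h.1 e2))
    · rw [hR]
      ext x
      constructor
      · intro hx
        obtain ⟨y, hy⟩ := hUmem x hx
        exact ⟨y, Subtype.ext hy⟩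
      · rintro ⟨y, rfl⟩
        exact hmemU y
  have hclosed : F.StronglyClosed T₀ := by
    refine ⟨hTS, fun P hP φ hφ x => mem_preimg.2 ⟨apply_mem_S hφ x, ?_⟩⟩
    obtain ⟨g, hg⟩ := realized_hom h hφ
    rw [hg x]
    exact Subgroup.Normal.conj_mem inferInstance _ (mem_preimg.1 (hP x.2)).2 g
  have hclosedU : ∀ (n : G), (∀ y : T₀, n * ι ⟨y, hTS y.2⟩ * n⁻¹ ∈ ι.range) →
      ∃ α ∈ F.autGroup T₀, ∀ y : T₀,
        ι ⟨((α y : T₀) : Ω), hTS (α y).2⟩ = n * ι ⟨y, hTS y.2⟩ * n⁻¹ := by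
    intro n hn
    obtain ⟨ψ, hψ, hψv⟩ := exists_realized_hom h hTS hn
    have hr : ψ.range = T₀ := by
      refine eq_of_le_of_card_le hTS ?_ (card_range hψ).ge
      rintro _ ⟨y, rfl⟩
      exact hclosed.2 T₀ le_rfl ψ hψ y
    refine ⟨autOfRange ψ (F.injective_of_mem hψ) hr, autOfRange_mem hψ hr, fun y => ?_⟩
    exact hψv y
  refine ⟨⟨hEsat, hFsat, hsub, hclosed, ?_, ?_⟩, ?_⟩
  · intro P hPT φ hφ α hα
    obtain ⟨-, hφT, -, g, hgN, hg⟩ := hφ
    obtain ⟨n, hn⟩ := realized_hom h ((autGroup_carrier hTS).1 hα)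
    set P' := (P.subgroupOf T₀).map (T₀.subtype.comp α.toMonoidHom) with hP'
    have hP'T : P' ≤ T₀ := by
      rintro _ ⟨y, -, rfl⟩
      exact (α y).2
    have hval : ∀ y : P', ∃ (x : P), (y : Ω) = ((α ⟨x, hPT x.2⟩ : T₀) : Ω) ∧
        n * g * n⁻¹ * ι ⟨y, hTS (hP'T y.2)⟩ * (n * g * n⁻¹)⁻¹ =
          ι ⟨((α ⟨φ x, hφT x⟩ : T₀) : Ω), hTS (α _).2⟩ := by
      rintro ⟨_, y, hy, rfl⟩
      refine ⟨⟨y, hy⟩, rfl, ?_⟩
      have h1 : ι ⟨((α y : T₀) : Ω), hTS (α y).2⟩ = n * ι ⟨y, hTS y.2⟩ * n⁻¹ := hn y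
      have h2 : ι ⟨((α ⟨φ ⟨y, hy⟩, hφT _⟩ : T₀) : Ω), hTS (α _).2⟩ =
          n * ι ⟨φ ⟨y, hy⟩, hTS (hφT _)⟩ * n⁻¹ := hn ⟨φ ⟨y, hy⟩, hφT _⟩
      rw [h2, hg ⟨y, hy⟩ _ (hTS y.2)]
      show n * g * n⁻¹ * ι ⟨((α y : T₀) : Ω), _⟩ * (n * g * n⁻¹)⁻¹ = _
      rw [h1]
      group
    obtain ⟨χ, hχ, hχv⟩ := exists_realized_hom h (hP'T.trans hTS) (g := n * g * n⁻¹) fun y => by
      obtain ⟨x, -, hx⟩ := hval y
      rw [hx]
      exact ⟨_, rfl⟩
    refine ⟨χ, ⟨hP'T, fun y => ?_, F.injective_of_mem hχ, n * g * n⁻¹,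
      Subgroup.Normal.conj_mem inferInstance g hgN n, fun y _ _ => hχv y⟩, fun x hφx hαx => ?_⟩
    · exact hclosed.2 P' hP'T χ hχ y
    · obtain ⟨x', hx', hv⟩ := hval ⟨_, hαx⟩
      have hxx : x = x' := Subtype.ext <|
        congrArg (fun z : T₀ => (z : Ω)) (α.injective (Subtype.ext hx'))
      subst hxx
      have e := (hχv ⟨_, hαx⟩).trans hv
      exact congrArg (fun z : S => (z : Ω)) (h.1 e)
  · intro P hPT φ hφ
    obtain ⟨g, hg⟩ := realized_hom h hφ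
    obtain ⟨k, hk, hconj⟩ := hsylU.exists_conj_le
      ((T.2.to_le inf_le_left : IsPGroup p U).map (MulAut.conj g).toMonoidHom)
      (U := U.map (MulAut.conj g).toMonoidHom) (by
        rintro _ ⟨y, hy, rfl⟩
        exact Subgroup.Normal.conj_mem inferInstance _ hy.2 g)
    have hnU : ∀ u ∈ U, k * g * u * (k * g)⁻¹ ∈ U := fun u hu => by
      have := hconj _ ⟨u, hu, rfl⟩
      simpa [mul_assoc] using this
    obtain ⟨α, hα, hαv⟩ := hclosedU (k * g) fun y => hT ▸ (hnU _ (hmemU y)).1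
    have hn' : ∀ x : P, (k * g)⁻¹ * g * ι ⟨x, hTS (hPT x.2)⟩ * ((k * g)⁻¹ * g)⁻¹ ∈ U := fun x => by
      have h1 : ι ⟨φ x, apply_mem_S hφ x⟩ ∈ U := hmemU ⟨φ x, hclosed.2 P hPT φ hφ x⟩
      obtain ⟨y, hy⟩ := hUmem _ h1
      have h3 := hαv (α.symm y)
      simp only [MulEquiv.apply_symm_apply] at h3
      rw [hy, hg x] at h3
      have h4 : (k * g)⁻¹ * g * ι ⟨x, hTS (hPT x.2)⟩ * ((k * g)⁻¹ * g)⁻¹ =
          ι ⟨(α.symm y : T₀), hTS (α.symm y).2⟩ := by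
        calc _ = (k * g)⁻¹ * (g * ι ⟨x, hTS (hPT x.2)⟩ * g⁻¹) * (k * g) := by group
          _ = _ := by rw [h3]; group
      rw [h4]
      exact hmemU _
    obtain ⟨φ₀, hφ₀, hφ₀v⟩ := exists_realized_hom h (hPT.trans hTS) (g := (k * g)⁻¹ * g)
      fun x => hT ▸ (hn' x).1
    refine ⟨α, hα, φ₀, ⟨hPT, fun x => hclosed.2 P hPT φ₀ hφ₀ x, F.injective_of_mem hφ₀,
      (k * g)⁻¹ * g, ?_, fun x _ _ => hφ₀v x⟩, fun x hx => ?_⟩
    · rw [show (k * g)⁻¹ * g = g⁻¹ * k⁻¹ * g⁻¹⁻¹ by group]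
      exact Subgroup.Normal.conj_mem inferInstance _ (inv_mem hk) g⁻¹
    · have e := hαv ⟨φ₀ x, hx⟩
      rw [hφ₀v x] at e
      have e2 : ι ⟨φ x, apply_mem_S hφ x⟩ =
          ι ⟨((α ⟨φ₀ x, hx⟩ : T₀) : Ω), hTS (α _).2⟩ := by
        rw [e, hg x]
        group
      exact congrArg (fun z : S => (z : Ω)) (h.1 e2)
  · intro α hα
    obtain ⟨-, -, -, g, hgN, hg⟩ := (autGroup_carrier (F := E) le_rfl).1 hα
    have hgU : ∀ u ∈ U, g * u * g⁻¹ ∈ U := by
      intro u hu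
      obtain ⟨y, rfl⟩ := hUmem u hu
      rw [← hg y (hTS (α y).2) (hTS y.2)]
      exact hmemU (α y)
    have hgNU : g ∈ Subgroup.normalizer (U : Set G) :=
      mem_normalizer_of_conj_mem (S := U) le_rfl hgU
    have hα' : conjAut N U ⟨g, hgN, hgNU⟩ ∈
        (fusionSystemOfSubgroup N U inf_le_right).autGroup U :=
      (autGroup_carrier le_rfl).2 ⟨le_rfl, fun y => hgU _ y.2, g, hgN, fun _ => rfl⟩
    obtain ⟨β', hβ', hβT, hβC⟩ := (Cfsg.Agent.S5118.result p T N).2 _ hα'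
    set M' := U ⊔ centralizerIn (T : Subgroup G) U with hM'
    have hM'T : M' ≤ T := sup_le inf_le_left (centralizerIn_le_S _)
    obtain ⟨n, -, hn⟩ := mem_autInducedBy.1 (autGroup_groupFusion hM'T ▸ hβ')
    set CS := centralizerIn S T₀ with hCS
    set M := T₀ ⊔ CS with hM
    have hMS : M ≤ S := sup_le hTS (centralizerIn_le_S _)
    have hCmap : ∀ (c : Ω) (hc : c ∈ CS), ι ⟨c, hc.1⟩ ∈ centralizerIn (T : Subgroup G) U := by
      intro c hc
      refine ⟨hT ▸ ⟨_, rfl⟩, fun u hu => ?_⟩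
      obtain ⟨y, rfl⟩ := hUmem u hu
      rw [← map_mul, ← map_mul]
      exact congrArg ι (Subtype.ext (hc.2 y y.2))
    have hMmap : ∀ (y : Ω) (hy : y ∈ M), ι ⟨y, hMS hy⟩ ∈ M' := by
      have hle : M ≤ (M'.comap ι).map S.subtype := sup_le
        (fun y hy => ⟨⟨y, hTS hy⟩, Subgroup.mem_sup_left (hmemU ⟨y, hy⟩), rfl⟩)
        (fun c hc => ⟨⟨c, hc.1⟩, Subgroup.mem_sup_right (hCmap c hc), rfl⟩)
      intro y hy
      obtain ⟨z, hz, rfl⟩ := hle hy
      exact hz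
    have hM'map : M' ≤ (M.subgroupOf S).map ι := by
      refine sup_le (fun u hu => ?_) fun u hu => ?_
      · obtain ⟨y, rfl⟩ := hUmem u hu
        exact ⟨⟨y, hTS y.2⟩, Subgroup.mem_sup_left y.2, rfl⟩
      · obtain ⟨c, rfl⟩ : u ∈ ι.range := hT ▸ hu.1
        refine ⟨c, Subgroup.mem_sup_right ⟨c.2, fun y hy => ?_⟩, rfl⟩
        have := hu.2 _ (hmemU ⟨y, hy⟩)
        rw [← map_mul, ← map_mul] at this
        exact congrArg (fun z : S => (z : Ω)) (h.1 this)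
    have hnM : ∀ y : M, n * ι ⟨y, hMS y.2⟩ * n⁻¹ ∈ M' := fun y => by
      rw [← hn ⟨_, hMmap y y.2⟩]
      exact SetLike.coe_mem _
    obtain ⟨ψ, hψ, hψv⟩ := exists_realized_hom h hMS fun y => hT ▸ hM'T (hnM y)
    have hr : ψ.range = M := by
      refine eq_of_le_of_card_le hMS ?_ (card_range hψ).ge
      rintro _ ⟨y, rfl⟩
      obtain ⟨z, hz, hz'⟩ := hM'map (hnM y)
      rw [← hψv y] at hz'
      have := congrArg (fun z : S => (z : Ω)) (h.1 hz')
      simp only at this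
      rw [← this]
      exact hz
    refine ⟨autOfRange ψ (F.injective_of_mem hψ) hr, autOfRange_mem hψ hr, fun x => ?_, fun c hc => ?_⟩
    · have e1 := hβT ⟨_, hmemU x⟩
      rw [hn] at e1
      have e2 : ι ⟨ψ (Subgroup.inclusion le_sup_left x), apply_mem_S hψ _⟩ =
          ι ⟨((α x : T₀) : Ω), hTS (α x).2⟩ := by
        rw [hψv]
        exact e1.trans (hg x (hTS (α x).2) (hTS x.2)).symm
      exact congrArg (fun z : S => (z : Ω)) (h.1 e2)
    · obtain ⟨h1, h2⟩ := hβC ⟨_, hMmap c c.2⟩ (hCmap c hc)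
      rw [hn] at h1 h2
      have e : (ι ⟨c, hMS c.2⟩)⁻¹ * (n * ι ⟨c, hMS c.2⟩ * n⁻¹) =
          ι (⟨c, hMS c.2⟩⁻¹ * ⟨ψ c, apply_mem_S hψ c⟩) := by
        rw [map_mul, map_inv, hψv]
      simp only at h1 h2
      rw [e] at h1 h2
      obtain ⟨y, hy⟩ := hUmem _ h1
      have hy' := congrArg (fun z : S => (z : Ω)) (h.1 hy)
      simp only [Subgroup.coe_mul, Subgroup.coe_inv] at hy'
      show (c : Ω)⁻¹ * ψ c ∈ T₀ ⊓ Subgroup.centralizer (T₀ : Set Ω)
      refine ⟨hy' ▸ y.2, fun z hz => ?_⟩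
      have := h2 _ (hmemU ⟨z, hz⟩)
      rw [← map_mul, ← map_mul] at this
      exact congrArg (fun z : S => (z : Ω)) (h.1 this)

/-- A simple realizable system is realized by a simple group. -/
theorem exists_simple_group {Ω : Type u} [Group Ω] {S : Subgroup Ω} [Finite S] (p : ℕ)
    [Fact p.Prime] (hS : IsPGroup p S) {F : FusionSystem S} (hsimple : F.IsSimple p)
    {G : Type u} [Group G] [Finite G] {ι : S →* G} (h : F.IsRealizedBy ι) (T : Sylow p G)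
    (hT : (T : Subgroup G) = ι.range)
    (hmin : ∀ (H : Type u) (_ : Group H) (_ : Finite H) (κ : S →* H), F.IsRealizedBy κ →
      (∃ U : Sylow p H, (U : Subgroup H) = κ.range) → Nat.card G ≤ Nat.card H) :
    IsSimpleGroup G := by
  classical
  obtain ⟨-, hne, hall⟩ := hsimple
  have : Nontrivial G := by
    by_contra hn
    rw [not_nontrivial_iff_subsingleton] at hn
    apply hne
    rw [eq_bot_iff]
    intro x hx
    have := h.1 (Subsingleton.elim (ι ⟨x, hx⟩) (ι 1))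
    exact congrArg Subtype.val this
  refine ⟨fun N hN => ?_⟩
  by_contra! hcon
  obtain ⟨hN1, hN2⟩ := hcon
  have := hN
  rcases hall _ _ (normalPart_isNormalIn p hS h T hT N) with hb | ⟨ht, hhom⟩
  · have hcop : (Nat.card N).Coprime p := by
      refine Nat.Coprime.symm ((Nat.Prime.coprime_iff_not_dvd Fact.out).2 fun hd => ?_)
      have hsylU : SylowIn p ((T : Subgroup G) ⊓ N) N :=
        SylowIn.inf_normal (A := (T : Subgroup G)) (L := ⊤) ⟨le_top, T.subtype le_top, rfl⟩ le_top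
          (fun g _ => by rw [Subgroup.normalizer_eq_top]; trivial)
      obtain ⟨R, hR⟩ := hsylU.2
      refine R.ne_bot_of_dvd_card hd ?_
      rw [hR, eq_bot_iff]
      intro x hx
      obtain ⟨hx1, hx2⟩ : (x : G) ∈ (T : Subgroup G) ⊓ N := hx
      obtain ⟨y, hy⟩ : (x : G) ∈ ι.range := hT ▸ hx1
      have hy1 : (y : Ω) ∈ preimg ι N := mem_preimg.2 ⟨y.2, by rw [hy]; exact hx2⟩
      rw [hb, Subgroup.mem_bot] at hy1
      have : y = 1 := Subtype.ext hy1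
      rw [this, map_one] at hy
      exact Subgroup.mem_bot.2 (Subtype.ext hy.symm)
    have hlt : Nat.card (G ⧸ N) < Nat.card G := by
      rw [← Nat.mul_lt_mul_left (a := Nat.card N) Nat.card_pos]
      rw [mul_comm (Nat.card N) (Nat.card (G ⧸ N)), ← Subgroup.card_eq_card_quotient_mul_card_subgroup]
      exact lt_mul_of_one_lt_left Nat.card_pos ((Subgroup.one_lt_card_iff_ne_bot N).2 hN1)
    refine absurd (hmin (G ⧸ N) inferInstance inferInstance ((QuotientGroup.mk' N).comp ι)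
      (realized_quotient_pPrime p hS h N hcop) ?_) (not_le.2 hlt)
    exact ⟨T.mapSurjective (QuotientGroup.mk'_surjective N), by
      rw [Sylow.coe_mapSurjective, hT, MonoidHom.range_comp]⟩
  · have hιN : ∀ y : S, ι y ∈ N := fun y => by
      have : (y : Ω) ∈ preimg ι N := by rw [ht]; exact y.2
      exact (mem_preimg.1 this).2
    have hlt : Nat.card N < Nat.card G := by
      have hidx : 1 < N.index := Subgroup.one_lt_index_of_ne_top hN2
      rw [← Subgroup.card_mul_index N]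
      exact lt_mul_of_one_lt_right Nat.card_pos hidx
    have hreal : F.IsRealizedBy (ι.codRestrict N hιN) := by
      refine ⟨fun a b hab => h.1 (congrArg Subtype.val hab), fun P hP φ hφ => ⟨fun hm => ?_, ?_⟩⟩
      · rw [← hhom P] at hm
        obtain ⟨-, -, -, g, hgN, hg⟩ := hm
        exact ⟨⟨g, hgN⟩, fun x => Subtype.ext (hg x _ _)⟩
      · rintro ⟨g, hg⟩
        exact (h.2 P hP φ hφ).2 ⟨g, fun x => congrArg Subtype.val (hg x)⟩
    refine absurd (hmin N inferInstance inferInstance _ hreal ?_) (not_le.2 hlt)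
    refine ⟨T.subtype (hT ▸ ?_), ?_⟩
    · rintro _ ⟨y, rfl⟩
      exact hιN y
    · rw [Sylow.coe_subtype, hT]
      ext x
      constructor
      · rintro ⟨y, hy⟩
        exact ⟨y, Subtype.ext hy⟩
      · rintro ⟨y, rfl⟩
        exact ⟨y, rfl⟩

end CfsgLib.Fusion
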