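import Cfsg.Agent.Transfer.WielandtYoshidaApps

/-!
A transfer from a proper subgroup of a `p`-group into a group of order `p` that does not vanish at an
element of least order gives the wreath product image.
-/

set_option autoImplicit false
set_option linter.unusedSectionVars false
set_option linter.style.haveILetI false

namespace CfsgLib.WY

open Subgroup fwdDiff
open scoped IsMulCommutative

universe u

variable {G : Type u} [Group G] [Finite G] {p : ℕ} [hp : Fact p.Prime]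

/-- The transfer is the product of the cocycle. -/
theorem transfer_eq_eta (N : Subgroup G) {A : Type*} [CommGroup A] (φ : N →* A) [inst : Fintype (G ⧸ N)]
    (g : G) : MonoidHom.transfer φ g = eta N φ Finset.univ g := by
  obtain rfl : inst = N.fintypeQuotientOfFiniteIndex := Subsingleton.elim _ _
  letI := N.fintypeQuotientOfFiniteIndex
  let T : N.LeftTransversal := ⟨_, isComplement_range_left (f := (Quotient.out : G ⧸ N → G))
    QuotientGroup.out_eq'⟩
  rw [MonoidHom.transfer_def φ T g, eta]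
  unfold leftTransversals.diff
  refine (Fintype.prod_equiv (MulAction.toPerm g) _ _ fun q => ?_).symm
  refine congrArg φ (Subtype.ext ?_)
  show (g • q).out⁻¹ * g * q.out = _
  simp only [MulAction.toPerm_apply, smul_apply_eq_smul_apply_inv_smul, inv_smul_smul, smul_eq_mul]
  rw [Subgroup.IsComplement.leftQuotientEquiv_apply (f := (Quotient.out : G ⧸ N → G))
      QuotientGroup.out_eq', Subgroup.IsComplement.leftQuotientEquiv_apply
      (f := (Quotient.out : G ⧸ N → G)) QuotientGroup.out_eq', mul_assoc]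

theorem exists_orbit_data (hGp : IsPGroup p G) (N : Subgroup G) (hN : N ≠ ⊤)
    (χ : N →* Multiplicative (ZMod p)) (x : G)
    (hsmall : ∀ n : ℕ, orderOf (x ^ n) < orderOf x → ∀ (a : G) (h : a⁻¹ * x ^ n * a ∈ N),
      χ ⟨a⁻¹ * x ^ n * a, h⟩ = 1)
    (hne : MonoidHom.transfer χ x ≠ 1) :
    ∃ (M : Subgroup (⊤ : Subgroup G)) (_ : M.Normal) (x : M) (z : (⊤ : Subgroup G))
      (f : M →* Multiplicative (ZMod p)), M.index = p ∧ z ∉ M ∧
      f ((del (MulAut.conjNormal z⁻¹).toMonoidHom)^[p - 1] x) ≠ 1 := by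
  classical
  letI : Fintype (G ⧸ N) := Fintype.ofFinite _
  set P : Subgroup G := ⊤ with hP
  have hxP : x ∈ P := mem_top x
  have hGP : IsPGroup p P := hGp.to_subgroup _
  obtain ⟨k, hk⟩ := IsPGroup.iff_orderOf.1 hGp x
  set Ω : Finset (G ⧸ N) := Finset.univ with hΩ
  have hj : eta N χ Ω x ≠ 1 := transfer_eq_eta N χ x ▸ hne
  have hΩinv : ∀ g ∈ P, ∀ q ∈ Ω, g • q ∈ Ω := fun g _ q _ => Finset.mem_univ _
  have htrans : ∀ q ∈ Ω, ∀ q' ∈ Ω, ∃ g ∈ P, g • q = q' := fun q _ q' _ =>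
    ⟨q'.out * q.out⁻¹, mem_top _, (congrArg ((q'.out * q.out⁻¹) • ·)
      (QuotientGroup.out_eq' q).symm).trans (by
      show ((q'.out * q.out⁻¹ * q.out : G) : G ⧸ N) = q'
      rw [inv_mul_cancel_right, QuotientGroup.out_eq'])⟩
  obtain ⟨q, hq, hxq⟩ : ∃ q ∈ Ω, x • q = q := by
    by_contra hc
    push Not at hc
    exact hj (eta_eq_one_of_moved N χ hk hsmall Ω (hΩinv _ hxP) hc)
  set R : Subgroup P := (MulAction.stabilizer G q).subgroupOf P with hR
  have hRtop : R ≠ ⊤ := fun h1 => hN (eq_top_iff.2 fun g _ => by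
    have h2 : ((⟨q.out * g * q.out⁻¹, mem_top _⟩ : P)) ∈ R := h1.ge (mem_top _)
    have h3 : (q.out * g * q.out⁻¹) • q = q := h2
    have h4 : ((q.out * g : G) : G ⧸ N) = (q.out : G ⧸ N) := by
      have h6 : (q.out * g * q.out⁻¹) • ((q.out : G) : G ⧸ N) = (q.out : G ⧸ N) := by
        rw [QuotientGroup.out_eq']; exact h3
      rw [← h6]
      show _ = ((q.out * g * q.out⁻¹ * q.out : G) : G ⧸ N)
      rw [inv_mul_cancel_right]
    have h5 := QuotientGroup.eq.1 h4.symm
    rwa [inv_mul_cancel_left] at h5)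
  obtain ⟨M, hMco, hRM⟩ := (eq_top_or_exists_le_coatom R).resolve_left hRtop
  obtain ⟨hMn, hMi⟩ := CfsgLib.PGroupBasic.coatom_normal_index hGP hMco
  haveI := hMn
  have hxM : (⟨x, hxP⟩ : P) ∈ M := hRM (mem_subgroupOf.2 hxq)
  obtain ⟨z, hzM⟩ : ∃ z : P, z ∉ M := by
    by_contra hc
    push Not at hc
    exact hMco.1 (eq_top_iff.2 fun y _ => hc y)
  -- blocks
  set Y : Finset (G ⧸ N) := Ω.filter fun q' => ∃ m ∈ M, ((m : P) : G) • q = q' with hY
  have hYinv : ∀ m ∈ M, ∀ q' ∈ Y, ((m : P) : G) • q' ∈ Y := by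
    intro m hm q' hq'
    obtain ⟨hq'Ω, m', hm', he⟩ := Finset.mem_filter.1 hq'
    refine Finset.mem_filter.2 ⟨hΩinv _ m.2 _ hq'Ω, m * m', mul_mem hm hm', ?_⟩
    rw [Subgroup.coe_mul, mul_smul, he]
  let f : M →* Multiplicative (ZMod p) := MonoidHom.mk' (fun m => eta N χ Y ((m : P) : G))
    fun a b => eta_mul_of_invariant N χ _ (hYinv _ b.2)
  refine ⟨M, hMn, ⟨⟨x, hxP⟩, hxM⟩, z, f, hMi, hzM, ?_⟩
  set σ := ((MulAut.conjNormal z⁻¹).toMonoidHom : M →* M) with hσ
  have hσi : ∀ (i : ℕ) (m : M), (((σ^[i] m : M) : P) : G) = ((z : G) ^ i)⁻¹ * ((m : P) : G) * (z : G) ^ i := by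
    intro i m
    induction i with
    | zero => simp
    | succ i ih =>
      rw [Function.iterate_succ_apply']
      generalize σ^[i] m = y at ih ⊢
      rw [hσ, MulEquiv.coe_toMonoidHom, MulAut.conjNormal_apply,
        Subgroup.coe_mul, Subgroup.coe_mul, ih, inv_inv, InvMemClass.coe_inv, pow_succ]
      group
  have hA : ∀ a : Multiplicative (ZMod p), a ^ p = 1 := fun a => by
    have h1 := pow_card_eq_one' (x := a)
    rwa [show Nat.card (Multiplicative (ZMod p)) = p by simp] at h1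
  intro h1
  have h2 := ofMul_del_pow σ f hA ⟨⟨x, hxP⟩, hxM⟩
  rw [h1, ofMul_one] at h2
  refine hj ?_
  -- the powers of `z` modulo `M`
  have hzord : orderOf (QuotientGroup.mk' M z) = p := by
    refine orderOf_eq_prime ?_ fun h3 => hzM ((QuotientGroup.eq_one_iff _).1 h3)
    have := pow_card_eq_one' (x := (QuotientGroup.mk' M z))
    rwa [← index_eq_card, hMi] at this
  have hdisj : (↑(Finset.range p) : Set ℕ).PairwiseDisjoint fun i => Y.image ((z : G) ^ i • ·) := by
    intro a ha b hb hab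
    rw [Function.onFun, Finset.disjoint_left]
    intro r hra hrb
    refine hab ?_
    obtain ⟨r₁, hr₁, rfl⟩ := Finset.mem_image.1 hra
    obtain ⟨r₂, hr₂, he⟩ := Finset.mem_image.1 hrb
    obtain ⟨-, m₁, hm₁, rfl⟩ := Finset.mem_filter.1 hr₁
    obtain ⟨-, m₂, hm₂, rfl⟩ := Finset.mem_filter.1 hr₂
    have h3 : (z ^ a * m₁)⁻¹ * (z ^ b * m₂) ∈ M := by
      refine hRM (mem_subgroupOf.2 ?_)
      show _ • q = q
      simp only [Subgroup.coe_mul, InvMemClass.coe_inv, SubmonoidClass.coe_pow, mul_smul] at he ⊢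
      rw [he, ← mul_smul, ← mul_smul, mul_assoc, inv_mul_cancel, one_smul]
    have h4 := (QuotientGroup.eq_one_iff _).2 h3
    change (QuotientGroup.mk' M) _ = 1 at h4
    simp only [map_mul, map_inv, map_pow, show QuotientGroup.mk' M m₁ = 1 from (QuotientGroup.eq_one_iff _).2 hm₁,
      show QuotientGroup.mk' M m₂ = 1 from (QuotientGroup.eq_one_iff _).2 hm₂, mul_one, inv_mul_eq_one] at h4
    exact pow_injOn_Iio_orderOf (by rw [hzord]; simpa using ha) (by rw [hzord]; simpa using hb) h4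
  have hunion : Ω = (Finset.range p).biUnion fun i => Y.image ((z : G) ^ i • ·) := by
    ext r
    simp only [Finset.mem_biUnion, Finset.mem_image, Finset.mem_range]
    constructor
    · intro hr
      obtain ⟨g, hg, he⟩ := htrans q hq r hr
      have hzp : zpowers (QuotientGroup.mk' M z) = ⊤ := by
        refine eq_top_of_card_eq _ ?_
        rw [Nat.card_zpowers, hzord, ← index_eq_card, hMi]
      have hmem : QuotientGroup.mk' M ⟨g, hg⟩ ∈ zpowers (QuotientGroup.mk' M z) := by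
        rw [hzp]; exact mem_top _
      obtain ⟨i, hi, hie⟩ := Finset.mem_image.1 (mem_zpowers_iff_mem_range_orderOf.1 hmem)
      rw [Finset.mem_range, hzord] at hi
      simp only [QuotientGroup.mk'_apply] at hie
      have hm : (z ^ i)⁻¹ * ⟨g, hg⟩ ∈ M := QuotientGroup.eq.1 hie
      refine ⟨i, hi, (((z ^ i)⁻¹ * ⟨g, hg⟩ : P) : G) • q, Finset.mem_filter.2
        ⟨hΩinv _ ((z ^ i)⁻¹ * ⟨g, hg⟩ : P).2 q hq, _, hm, rfl⟩, ?_⟩
      simp [← mul_smul, he]
    · rintro ⟨i, -, r', hr', rfl⟩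
      exact hΩinv _ (pow_mem z.2 i) _ (Finset.mem_filter.1 hr').1
  rw [eta, hunion, Finset.prod_biUnion hdisj]
  have hblock : ∀ i, ∏ r ∈ Y.image ((z : G) ^ i • ·), χ (coc N (x : G) r) =
      f (σ^[i] ⟨⟨x, hxP⟩, hxM⟩) := by
    intro i
    have e1 := eta_mul N χ Y (x : G) ((z : G) ^ i)
    have e2 := eta_mul_of_invariant N χ ((z : G) ^ i)
      (hYinv _ (σ^[i] ⟨⟨x, hxP⟩, hxM⟩).2)
    rw [hσi, show (z : G) ^ i * (((z : G) ^ i)⁻¹ * (x : G) * (z : G) ^ i) = (x : G) * (z : G) ^ i by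
      group, e1, mul_comm _ (eta N χ Y ((z : G) ^ i))] at e2
    have e3 := mul_left_cancel e2
    show eta N χ _ (x : G) = eta N χ Y (((σ^[i] ⟨⟨x, hxP⟩, hxM⟩ : M) : P) : G)
    rw [hσi]
    exact e3
  rw [Finset.prod_congr rfl fun i _ => hblock i]
  have h3 : Additive.ofMul (∏ i ∈ Finset.range p, f (σ^[i] ⟨⟨x, hxP⟩, hxM⟩)) = 0 := by
    rw [ofMul_prod]; exact h2.symm
  exact ofMul_eq_zero.1 h3

/-- **Yoshida, one orbit**: such a transfer makes `G` map onto `Z_p ≀ Z_p`. -/
theorem exists_wreath_of_transfer (hGp : IsPGroup p G) (N : Subgroup G) (hN : N ≠ ⊤)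
    (χ : N →* Multiplicative (ZMod p)) (x : G)
    (hsmall : ∀ n : ℕ, orderOf (x ^ n) < orderOf x → ∀ (a : G) (h : a⁻¹ * x ^ n * a ∈ N),
      χ ⟨a⁻¹ * x ^ n * a, h⟩ = 1)
    (hne : MonoidHom.transfer χ x ≠ 1) :
    ∃ (Q : Sylow p (Equiv.Perm (Fin (p ^ 2))))
      (ψ : G →* ↥(Q : Subgroup (Equiv.Perm (Fin (p ^ 2))))), Function.Surjective ψ := by
  obtain ⟨M, hMn, x, z, f, hMi, hzM, hne⟩ := exists_orbit_data hGp N hN χ x hsmall hne
  haveI := hMn
  let P : Subgroup G := ⊤
  have hPp : IsPGroup p P := hGp.to_subgroup _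
  set σ := ((MulAut.conjNormal z⁻¹).toMonoidHom : M →* M) with hσ
  have hσi : ∀ (i : ℕ) (m : M), ((σ^[i] m : M) : P) = (z ^ i)⁻¹ * (m : P) * z ^ i := by
    intro i m
    induction i with
    | zero => simp
    | succ i ih =>
      rw [Function.iterate_succ_apply']
      generalize σ^[i] m = y at ih ⊢
      rw [hσ, MulEquiv.coe_toMonoidHom, MulAut.conjNormal_apply, ih, inv_inv, pow_succ]
      group
  have hzp : z ^ p ∈ M := hMi ▸ M.pow_index_mem z
  have hper : ∀ y, ∀ i, seq σ f y (i + p) = seq σ f y i := by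
    intro y i
    show Additive.ofMul (f (σ^[i + p] y)) = Additive.ofMul (f (σ^[i] y))
    rw [show i + p = p + i by omega, Function.iterate_add_apply]
    congr 1
    generalize σ^[i] y = w
    have h1 : σ^[p] w = (⟨z ^ p, hzp⟩ : M)⁻¹ * w * ⟨z ^ p, hzp⟩ := Subtype.ext (by rw [hσi]; rfl)
    rw [h1, map_mul, map_mul, map_inv, mul_comm (f (⟨z ^ p, hzp⟩ : M))⁻¹, inv_mul_cancel_right]
  have hlev := pow_le_index σ f cp_pow (hPp.to_subgroup M) hper hne
  have hkerp : f.ker.index = p := by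
    have h1 : f.ker.index ∣ p := by
      rw [index_ker]
      have := card_subgroup_dvd_card f.range
      rwa [show Nat.card (Multiplicative (ZMod p)) = p by simp] at this
    refine (hp.out.eq_one_or_self_of_dvd _ h1).resolve_left fun h2 => hne ?_
    exact MonoidHom.mem_ker.1 ((index_eq_one.1 h2).ge (mem_top _))
  set L := f.ker.map M.subtype with hL
  have hLidx : Nat.card (P ⧸ L) = p ^ 2 := by
    rw [← index_eq_card, hL, index_map_subtype, hkerp, hMi, sq]
  obtain ⟨e⟩ : Nonempty ((P ⧸ L) ≃ Fin (p ^ 2)) :=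
    ⟨(Finite.equivFin _).trans (finCongr hLidx)⟩
  set ρ : P →* Equiv.Perm (Fin (p ^ 2)) :=
    e.permCongrHom.toMonoidHom.comp (MulAction.toPermHom P (P ⧸ L)) with hρ
  have hker : ρ.ker ≤ (level σ f cp_pow 0).map M.subtype := by
    intro g hg
    have h1 : g ∈ L.normalCore := by
      rw [normalCore_eq_ker]
      refine MonoidHom.mem_ker.2 (e.permCongrHom.injective ?_)
      rw [map_one]
      exact hg
    obtain ⟨m, hm, rfl⟩ := normalCore_le L h1
    refine ⟨m, funext fun i => ?_, rfl⟩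
    show Additive.ofMul (f (σ^[i] m)) = 0
    have h2 := h1 ((z ^ i)⁻¹)
    rw [inv_inv] at h2
    obtain ⟨m', hm', he⟩ := h2
    have h3 : σ^[i] m = m' := Subtype.ext ((hσi i m).trans he.symm)
    rw [h3, show f m' = 1 from hm']
    rfl
  have hbig : p ^ (p + 1) ≤ Nat.card ρ.range := by
    rw [← index_ker]
    refine le_trans ?_ (Nat.le_of_dvd (Nat.pos_of_ne_zero index_ne_zero_of_finite) (index_dvd_of_le hker))
    rw [index_map_subtype, hMi, pow_succ]
    exact Nat.mul_le_mul_right p hlev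
  obtain ⟨Q, hQ⟩ := (hPp.of_surjective ρ.rangeRestrict ρ.rangeRestrict_surjective).exists_le_sylow
  have hQcard : Nat.card Q = p ^ (p + 1) := by
    rw [Q.card_eq_multiplicity, Nat.card_eq_fintype_card, Fintype.card_perm, Fintype.card_fin]
    congr 1
    have h1 := Nat.factorization_factorial_mul (n := p) hp.out
    have h2 := Nat.factorization_factorial_mul (n := 1) hp.out
    rw [mul_one, Nat.factorial_one, Nat.factorization_one] at h2
    rw [sq, h1, h2]
    simp [add_comm]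
  have heq : ρ.range = (Q : Subgroup (Equiv.Perm (Fin (p ^ 2)))) :=
    eq_of_le_of_card_ge hQ (hQcard ▸ hbig)
  refine ⟨Q, (ρ.codRestrict _ fun g => heq.le ⟨g, rfl⟩).comp
    (Subgroup.topEquiv (G := G)).symm.toMonoidHom, ?_⟩
  rintro ⟨a, ha⟩
  obtain ⟨g, hg⟩ := heq.ge ha
  exact ⟨g, Subtype.ext hg⟩

end CfsgLib.WY
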