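import Cfsg.Agent.Fusion.SmallEssential
import Cfsg.Agent.Fusion.MetacyclicAut
import Cfsg.Agent.Solvable.PGroupBasic

/-!
Abelian essential subgroups of rank at most two.
-/

set_option autoImplicit false
set_option linter.unusedSectionVars false
set_option linter.style.haveILetI false

open Cfsg Cfsg.FusionSystem

namespace CfsgLib.Fusion

universe u

section module

variable {A : Type u} [CommGroup A] [Finite A] {p : ℕ} [hp : Fact p.Prime]

/-- A group on a plane with trivial `p`-core and a nontrivial `p`-element leaves no line invariant. -/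
theorem no_invariant_line (G : Subgroup (MulAut A)) (hA : Nat.card A = p ^ 2)
    (hexp : ∀ x : A, x ^ p = 1) {t : MulAut A} (htG : t ∈ G) {k : ℕ} (ht : t ^ p ^ k = 1) (ht1 : t ≠ 1)
    (hcore : pCore p G = ⊥) (L : Subgroup A) (hinv : ∀ g ∈ G, ∀ x ∈ L, g x ∈ L) :
    L = ⊥ ∨ L = ⊤ := by
  have : Finite (MulAut A) := Finite.of_injective _ DFunLike.coe_injective
  obtain ⟨c, hco, hts⟩ := exists_shear G hA hexp htG ht
  by_contra hL
  rw [not_or] at hL
  obtain ⟨d, hd, hd1⟩ := (Subgroup.bot_or_exists_ne_one L).resolve_left hL.1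
  have hdo : orderOf d = p := orderOf_eq_prime (hexp d) hd1
  have hLd : Subgroup.zpowers d = L := by
    obtain ⟨j, hj, hjL⟩ := (Nat.dvd_prime_pow hp.out).1 (hA ▸ Subgroup.card_subgroup_dvd_card L)
    refine Subgroup.eq_of_le_of_card_ge (Subgroup.zpowers_le.2 hd) ?_
    rw [Nat.card_zpowers, hdo, hjL]
    interval_cases j
    · rw [pow_zero]; exact hp.out.one_le
    · rw [pow_one]
    · exact absurd (Subgroup.eq_top_of_card_eq L (hjL.trans hA.symm)) hL.2
  have htd : t d = d := by
    by_contra hne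
    have h1 : d⁻¹ * t d ∈ L := mul_mem (inv_mem hd) (hinv t htG d hd)
    have h2 := hts.2.2 d
    have hne1 : d⁻¹ * t d ≠ 1 := fun h => hne (inv_mul_eq_one.1 h).symm
    have hcL : c ∈ L := Subgroup.zpowers_le.2 h1 (TransvectionCentre.mem_zpowers_swap hco h2 hne1)
    have hc1 : c ≠ 1 := fun h => hp.out.one_lt.ne (by rw [← hco, h, orderOf_one])
    have hdc : d ∈ Subgroup.zpowers c :=
      TransvectionCentre.mem_zpowers_swap hdo (hLd.ge hcL) hc1
    obtain ⟨i, hi⟩ := Subgroup.mem_zpowers_iff.1 hdc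
    exact hne (by rw [← hi, map_zpow, hts.2.1])
  have htL : t ∈ TransvectionCentre.shear G d := by
    refine ⟨htG, htd, fun x => ?_⟩
    by_cases hcd : c ∈ Subgroup.zpowers d
    · exact Subgroup.zpowers_le.2 hcd (hts.2.2 x)
    exfalso
    refine ht1 (MulEquiv.ext fun y => ?_)
    let K : Subgroup A := t.toMonoidHom.eqLocus (MonoidHom.id A)
    have hlt : Subgroup.zpowers d < K :=
      SetLike.lt_iff_le_and_exists.2 ⟨Subgroup.zpowers_le.2 htd, c, hts.2.1, hcd⟩
    obtain ⟨j, hj, hjK⟩ := (Nat.dvd_prime_pow hp.out).1 (hA ▸ Subgroup.card_subgroup_dvd_card K)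
    have h1 : Nat.card (Subgroup.zpowers d) < Nat.card K := lt_of_not_ge fun hge =>
      hlt.ne (Subgroup.eq_of_le_of_card_ge hlt.le hge)
    rw [Nat.card_zpowers, hdo, hjK] at h1
    have hK : K = ⊤ := by
      refine Subgroup.eq_top_of_card_eq _ (hjK.trans ?_)
      interval_cases j
      · rw [pow_zero] at h1; exact absurd h1 (not_lt.2 hp.out.one_le)
      · rw [pow_one] at h1; exact absurd h1 (lt_irrefl _)
      · exact hA.symm
    exact (hK.ge (Subgroup.mem_top y) : y ∈ K)
  let U := (TransvectionCentre.shear G d).subgroupOf G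
  have hUn : U.Normal := ⟨fun a ha b => by
    obtain ⟨-, hbc, hbd⟩ := TransvectionCentre.conj_shear
      (show (a : MulAut A) ∈ TransvectionCentre.shear G d from ha) b.2
    have hbd' : (b : MulAut A) d ∈ Subgroup.zpowers d := hLd.ge (hinv _ b.2 d hd)
    have hsub : Subgroup.zpowers ((b : MulAut A) d) ≤ Subgroup.zpowers d := Subgroup.zpowers_le.2 hbd'
    obtain ⟨i, hi⟩ := Subgroup.mem_zpowers_iff.1 (TransvectionCentre.mem_zpowers_swap hdo hbd'
      fun h1 => hd1 ((map_eq_one_iff _ (b : MulAut A).injective).1 h1))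
    refine ⟨(b * a * b⁻¹).2, ?_, fun y => hsub (hbd y)⟩
    show ((b : MulAut A) * (a : MulAut A) * (b : MulAut A)⁻¹) d = d
    conv_lhs => rw [← hi]
    rw [map_zpow, hbc, hi]⟩
  have hmem : (⟨t, htG⟩ : G) ∈ pCore p G :=
    CfsgLib.Solvable.le_pCore p hUn
      ((shear_isPGroup G (hexp d)).comap_of_injective _ G.subtype_injective) htL
  rw [hcore, Subgroup.mem_bot] at hmem
  exact ht1 (congrArg Subtype.val hmem)

/-- The induced action on the Frattini quotient. -/
def frattiniAct (A : Type u) [CommGroup A] : MulAut A →* MulAut (A ⧸ frattini A) :=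
  MonoidHom.mk' (fun α => QuotientGroup.congr (frattini A) (frattini A) α
      (Subgroup.characteristic_iff_map_eq.1 frattini_characteristic α))
    fun α β => MulEquiv.ext fun x => by
      induction x using QuotientGroup.induction_on with
      | H x => rfl

@[simp] theorem frattiniAct_mk (α : MulAut A) (x : A) :
    frattiniAct A α (x : A ⧸ frattini A) = ((α x : A) : A ⧸ frattini A) := rfl

theorem frattiniAct_eq_one {α : MulAut A} (h : frattiniAct A α = 1) :
    α ∈ CfsgLib.MetacyclicAut.frattiniKernel A := fun x => by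
  have h1 : ((α x : A) : A ⧸ frattini A) = (x : A ⧸ frattini A) := by
    rw [← frattiniAct_mk, h]; rfl
  have h2 := QuotientGroup.eq.1 h1.symm
  rwa [mul_comm]

/-- An abelian `p`-group with trivial `p`-core of automizer, containing a nontrivial `p`-element, and with
Frattini quotient of order at most `p²`. -/
theorem rank_two_structure (hAp : IsPGroup p A) (G : Subgroup (MulAut A)) (hcore : pCore p G = ⊥)
    {t : MulAut A} (htG : t ∈ G) {l : ℕ} (ht : t ^ p ^ l = 1) (ht1 : t ≠ 1)
    (hrk : (frattini A).index ≤ p ^ 2) :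
    ∃ k : ℕ, 1 ≤ k ∧ (k = 1 ∨ p ≤ 3) ∧
      Nonempty (A ≃* Multiplicative (ZMod (p ^ k) × ZMod (p ^ k))) := by
  classical
  have : Finite (MulAut A) := Finite.of_injective _ DFunLike.coe_injective
  -- faithful action on the Frattini quotient
  let ρ : G →* MulAut (A ⧸ frattini A) := (frattiniAct A).comp G.subtype
  have hρ : Function.Injective ρ := by
    refine (MonoidHom.ker_eq_bot_iff ρ).1 (eq_bot_iff.2 ?_)
    rw [← hcore]
    refine CfsgLib.Solvable.le_pCore p inferInstance ?_
    exact (CfsgLib.MetacyclicAut.isPGroup_frattiniKernel hAp).of_injective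
      ((G.subtype.comp ρ.ker.subtype).codRestrict _ fun a => frattiniAct_eq_one a.2)
      fun a b hab => Subtype.ext (Subtype.ext (congrArg (fun z : CfsgLib.MetacyclicAut.frattiniKernel A => (z : MulAut A)) hab :))
  have hcore' : pCore p ρ.range = ⊥ := by
    have : Finite ρ.range := inferInstance
    obtain ⟨hn, hpc⟩ := CfsgLib.Solvable.pCore_spec (G := ρ.range) p
    have h1 : (pCore p ρ.range).comap ρ.rangeRestrict ≤ pCore p G :=
      CfsgLib.Solvable.le_pCore p (hn.comap _) (hpc.comap_of_injective _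
        ((MonoidHom.rangeRestrict_injective_iff).2 hρ))
    rw [hcore] at h1
    rw [eq_bot_iff]
    intro x hx
    obtain ⟨a, rfl⟩ := ρ.rangeRestrict_surjective x
    rw [Subgroup.mem_bot.1 (h1 hx), map_one]
    exact one_mem _
  set T : MulAut (A ⧸ frattini A) := ρ ⟨t, htG⟩ with hT
  have hT1 : T ≠ 1 := fun h => ht1 (congrArg Subtype.val (hρ (h.trans (map_one ρ).symm)))
  have hTl : T ^ p ^ l = 1 := by
    rw [hT, ← map_pow, show (⟨t, htG⟩ : G) ^ p ^ l = 1 from Subtype.ext ht, map_one]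
  have hVexp : ∀ x : A ⧸ frattini A, x ^ p = 1 := fun x => by
    induction x using QuotientGroup.induction_on with
    | H x =>
      rw [← QuotientGroup.mk_pow, QuotientGroup.eq_one_iff]
      exact (CfsgLib.PGroupBasic.commutator_pow_le_frattini hAp).2 x
  obtain ⟨r, hr⟩ := hAp.index (frattini A)
  have hr2 : r ≤ 2 := (Nat.pow_le_pow_iff_right hp.out.one_lt).1 (hr ▸ hrk)
  have hV : Nat.card (A ⧸ frattini A) = p ^ r := by rw [← Subgroup.index_eq_card, hr]
  have hr' : r = 2 := by
    by_contra hne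
    -- a cyclic quotient has a commutative automorphism group, so the image has normal Sylow subgroup
    have hcyc : IsCyclic (A ⧸ frattini A) := by
      rcases (show r = 0 ∨ r = 1 by omega) with rfl | rfl
      · rw [pow_zero] at hV
        haveI := (Nat.card_eq_one_iff_unique.1 hV).1
        infer_instance
      · rw [pow_one] at hV; exact isCyclic_of_prime_card hV
    refine hT1 (MulEquiv.ext fun x => ?_)
    show T x = x
    rcases (show r = 0 ∨ r = 1 by omega) with rfl | rfl
    · rw [pow_zero] at hV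
      haveI := (Nat.card_eq_one_iff_unique.1 hV).1
      exact Subsingleton.elim _ _
    rw [pow_one] at hV
    by_cases hx : x = 1
    · rw [hx, map_one]
    obtain ⟨i, hi⟩ := Subgroup.mem_zpowers_iff.1 (mem_zpowers_of_prime_card hV hx (g' := T x))
    have hpow : ∀ m : ℕ, (T ^ m) x = x ^ (i ^ m) := by
      intro m
      induction m with
      | zero => simp
      | succ m ih => rw [pow_succ' T, MulAut.mul_apply, ih, map_zpow, ← hi, ← zpow_mul, pow_succ']
    have h1 := hpow (p ^ l)
    rw [hTl, MulAut.one_apply] at h1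
    conv_lhs at h1 => rw [← zpow_one x]
    rw [zpow_eq_zpow_iff_modEq, orderOf_eq_prime (hVexp x) hx,
      ← ZMod.intCast_eq_intCast_iff] at h1
    push_cast at h1
    rw [ZMod.pow_card_pow] at h1
    rw [← hi]
    conv_rhs => rw [← zpow_one x]
    rw [zpow_eq_zpow_iff_modEq, orderOf_eq_prime (hVexp x) hx, ← ZMod.intCast_eq_intCast_iff]
    push_cast
    exact h1.symm
  subst hr'
  -- invariant subgroups over the Frattini subgroup
  have hinvar : ∀ M : Subgroup A, frattini A ≤ M → (∀ g ∈ G, ∀ x ∈ M, g x ∈ M) →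
      M = frattini A ∨ M = ⊤ := by
    intro M hM hMi
    rcases no_invariant_line ρ.range hV hVexp (t := T) ⟨⟨t, htG⟩, rfl⟩ hTl hT1 hcore'
      (M.map (QuotientGroup.mk' (frattini A))) (by
        rintro _ ⟨g, rfl⟩ _ ⟨x, hx, rfl⟩
        exact ⟨(g : MulAut A) x, hMi g g.2 x hx, rfl⟩) with h | h
    · left
      refine le_antisymm (fun x hx => ?_) hM
      exact (QuotientGroup.eq_one_iff x).1 (Subgroup.mem_bot.1 (h.le ⟨x, hx, rfl⟩))
    · right
      rw [← Subgroup.comap_map_eq_self (f := QuotientGroup.mk' (frattini A)) (H := M)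
        (by rw [QuotientGroup.ker_mk']; exact hM), h, Subgroup.comap_top]
  have hroot : ∀ y ∈ frattini A, ∃ w : A, w ^ p = y := by
    have hle : frattini A ≤ (powMonoidHom p : A →* A).range :=
      CfsgLib.PGroupBasic.frattini_le_of_elementary (p := p) _ (by
        rw [_root_.commutator_def, Subgroup.commutator_le]
        intro a _ b _
        rw [commutatorElement_eq_one_iff_mul_comm.2 (mul_comm a b)]
        exact one_mem _) fun x => ⟨x, rfl⟩
    intro y hy
    obtain ⟨w, hw⟩ := hle hy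
    exact ⟨w, hw⟩
  -- the exponent
  have hexists : ∃ k, ∀ x : A, x ^ p ^ k = 1 := by
    obtain ⟨N, hN⟩ := IsPGroup.iff_card.1 hAp
    exact ⟨N, fun x => by rw [← hN]; exact pow_card_eq_one'⟩
  set k := Nat.find hexists with hk
  have hkspec := Nat.find_spec hexists
  have hk1 : 1 ≤ k := by
    by_contra h0
    have : Subsingleton A := ⟨fun x y => by
      have hx := hkspec x
      have hy := hkspec y
      rw [show Nat.find hexists = 0 by omega, pow_zero, pow_one] at hx hy
      rw [hx, hy]⟩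
    exact ht1 (MulEquiv.ext fun x => Subsingleton.elim _ _)
  have hlow : ∀ x : A, x ^ p ^ (k - 1) = 1 → x ∈ frattini A := by
    intro x hx
    rcases hinvar (frattini A ⊔ (powMonoidHom (p ^ (k - 1)) : A →* A).ker) le_sup_left (by
      intro g _ y hy
      obtain ⟨a, ha, b, hb, rfl⟩ := Subgroup.mem_sup.1 hy
      rw [map_mul]
      refine Subgroup.mul_mem_sup (Subgroup.characteristic_iff_le_comap.1 frattini_characteristic g ha) ?_
      show (g b) ^ p ^ (k - 1) = 1
      rw [← map_pow, show b ^ p ^ (k - 1) = 1 from hb, map_one]) with h | h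
    · exact h.le (Subgroup.mem_sup_right hx)
    · exfalso
      have hmin := Nat.find_min hexists (show k - 1 < Nat.find hexists by omega)
      refine hmin fun y => ?_
      obtain ⟨a, ha, b, hb, rfl⟩ := Subgroup.mem_sup.1 (h.ge (Subgroup.mem_top y))
      obtain ⟨w, rfl⟩ := hroot a ha
      rw [mul_pow, show b ^ p ^ (k - 1) = 1 from hb, mul_one, ← pow_mul, ← pow_succ',
        show k - 1 + 1 = k by omega]
      exact hkspec w
  -- a basis
  have hne : (frattini A) ≠ ⊤ := fun h => by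
    rw [h, Subgroup.index_top] at hr
    exact hp.out.one_lt.ne' (Nat.pow_eq_one.1 hr.symm |>.resolve_right two_ne_zero)
  obtain ⟨a, haΦ⟩ : ∃ a, a ∉ frattini A := by
    by_contra hcon
    push Not at hcon
    exact hne (eq_top_iff.2 fun x _ => hcon x)
  set M₁ := frattini A ⊔ Subgroup.zpowers a with hM₁
  have hM₁ne : M₁ ≠ ⊤ := by
    intro h
    have hle : Nat.card (A ⧸ frattini A) ≤ p := by
      have hzz : Subgroup.zpowers (a : A ⧸ frattini A) = ⊤ := by
        refine eq_top_iff.2 fun v _ => ?_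
        induction v using QuotientGroup.induction_on with
        | H v =>
          obtain ⟨f, hf, b, hb, rfl⟩ := Subgroup.mem_sup.1 (h.ge (Subgroup.mem_top v))
          obtain ⟨i, rfl⟩ := Subgroup.mem_zpowers_iff.1 hb
          rw [QuotientGroup.mk_mul, (QuotientGroup.eq_one_iff f).2 hf, one_mul, QuotientGroup.mk_zpow]
          exact zpow_mem (Subgroup.mem_zpowers _) i
      rw [← Subgroup.card_top (G := A ⧸ frattini A), ← hzz, Nat.card_zpowers]
      exact orderOf_le_of_pow_eq_one hp.out.pos (hVexp _)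
    rw [hV] at hle
    nlinarith [hp.out.two_le]
  obtain ⟨b, hb⟩ : ∃ b, b ∉ M₁ := by
    by_contra hcon
    push Not at hcon
    exact hM₁ne (eq_top_iff.2 fun x _ => hcon x)
  have hgen : Subgroup.zpowers a ⊔ Subgroup.zpowers b = ⊤ := by
    refine frattini_nongenerating ?_
    rw [sup_comm, ← sup_assoc, ← hM₁]
    have hlt : M₁ < M₁ ⊔ Subgroup.zpowers b :=
      SetLike.lt_iff_le_and_exists.2 ⟨le_sup_left, b, Subgroup.mem_sup_right (Subgroup.mem_zpowers b), hb⟩
    have hlt₀ : frattini A < M₁ :=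
      SetLike.lt_iff_le_and_exists.2 ⟨le_sup_left, a, Subgroup.mem_sup_right (Subgroup.mem_zpowers a), haΦ⟩
    have e1 := Subgroup.relIndex_mul_index hlt₀.le
    have e2 := Subgroup.relIndex_mul_index hlt.le
    obtain ⟨j1, hj1⟩ := hAp.index M₁
    obtain ⟨j2, hj2⟩ := hAp.index (M₁ ⊔ Subgroup.zpowers b)
    rw [← Subgroup.index_eq_one, hj2]
    have hs1 : M₁.index < (frattini A).index := Subgroup.index_strictAnti hlt₀
    have hs2 : (M₁ ⊔ Subgroup.zpowers b).index < M₁.index := Subgroup.index_strictAnti hlt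
    rw [hr, hj1] at hs1
    rw [hj1, hj2] at hs2
    have a1 := (Nat.pow_lt_pow_iff_right hp.out.one_lt).1 hs1
    have a2 := (Nat.pow_lt_pow_iff_right hp.out.one_lt).1 hs2
    rw [show j2 = 0 by omega, pow_zero]
  have hdiv : ∀ i j : ℤ, a ^ i * b ^ j ∈ frattini A → (p : ℤ) ∣ i ∧ (p : ℤ) ∣ j := by
    have hmulΦ : ∀ (x : A) (i : ℤ), (p : ℤ) ∣ i → x ^ i ∈ frattini A := by
      rintro x _ ⟨m, rfl⟩
      rw [zpow_mul, zpow_natCast]
      exact zpow_mem ((CfsgLib.PGroupBasic.commutator_pow_le_frattini hAp).2 x) m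
    have hbez : ∀ (x : A) (i : ℤ) (K : Subgroup A), frattini A ≤ K → ¬ (p : ℤ) ∣ i → x ^ i ∈ K → x ∈ K := by
      intro x i K hK hi hx
      obtain ⟨u, v, huv⟩ := ((Int.prime_iff_natAbs_prime.2 (by simpa using hp.out)).coprime_iff_not_dvd.2 hi)
      have e : x = (x ^ (p : ℤ)) ^ u * (x ^ i) ^ v := by
        rw [← zpow_mul, ← zpow_mul, ← zpow_add]
        conv_lhs => rw [← zpow_one x, ← huv]
        rw [mul_comm u, mul_comm v]
      rw [e]
      exact mul_mem (zpow_mem (hK (hmulΦ x p dvd_rfl)) u) (zpow_mem hx v)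
    intro i j hij
    have hj : (p : ℤ) ∣ j := by
      by_contra hj
      refine hb (hbez b j M₁ le_sup_left hj ?_)
      rw [show b ^ j = (a ^ i)⁻¹ * (a ^ i * b ^ j) by rw [inv_mul_cancel_left]]
      exact mul_mem (inv_mem (zpow_mem (Subgroup.mem_sup_right (Subgroup.mem_zpowers a)) i))
        (Subgroup.mem_sup_left hij)
    refine ⟨?_, hj⟩
    by_contra hi
    refine haΦ (hbez a i _ le_rfl hi ?_)
    rw [show a ^ i = a ^ i * b ^ j * (b ^ j)⁻¹ by rw [mul_inv_cancel_right]]
    exact mul_mem hij (inv_mem (hmulΦ b j hj))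
  have hind : ∀ l ≤ k, ∀ i j : ℤ, a ^ i * b ^ j = 1 → ((p : ℤ) ^ l ∣ i ∧ (p : ℤ) ^ l ∣ j) := by
    intro l
    induction l with
    | zero => intro _ i j _; simp
    | succ l ih =>
      intro hl i j hij
      obtain ⟨⟨i', rfl⟩, ⟨j', rfl⟩⟩ := ih (by omega) i j hij
      have hx : (a ^ i' * b ^ j') ^ p ^ (k - 1) = 1 := by
        obtain ⟨d, hd⟩ := Nat.exists_eq_add_of_le (show l ≤ k - 1 by omega)
        rw [hd, pow_add, pow_mul, ← zpow_natCast (a ^ i' * b ^ j'), mul_zpow, ← zpow_mul, ← zpow_mul,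
          mul_comm i', mul_comm j']
        push_cast
        rw [hij, one_pow]
      obtain ⟨⟨u, rfl⟩, ⟨v, rfl⟩⟩ := hdiv i' j' (hlow _ hx)
      exact ⟨⟨u, by rw [pow_succ, mul_assoc]⟩, ⟨v, by rw [pow_succ, mul_assoc]⟩⟩
  have hval : ∀ (x : A) (m n : ℕ), m ≡ n [MOD p ^ k] → x ^ m = x ^ n := fun x m n h =>
    pow_eq_pow_iff_modEq.2 (h.of_dvd (orderOf_dvd_of_pow_eq_one (hkspec x)))
  haveI : NeZero (p ^ k) := ⟨pow_ne_zero _ hp.out.ne_zero⟩
  let ψ : Multiplicative (ZMod (p ^ k) × ZMod (p ^ k)) →* A := MonoidHom.mk'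
    (fun v => a ^ v.toAdd.1.val * b ^ v.toAdd.2.val) fun v w => by
      have h : ∀ (x : A) (f g : ZMod (p ^ k)), x ^ (f + g).val = x ^ f.val * x ^ g.val := fun x f g => by
        rw [← pow_add]
        refine hval x _ _ ?_
        rw [← ZMod.natCast_eq_natCast_iff]
        push_cast
        simp only [ZMod.natCast_zmod_val]
      show a ^ (v.toAdd + w.toAdd).1.val * b ^ (v.toAdd + w.toAdd).2.val = _
      rw [Prod.fst_add, Prod.snd_add, h, h]
      exact mul_mul_mul_comm _ _ _ _
  have hψi : Function.Injective ψ := by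
    refine (injective_iff_map_eq_one ψ).2 fun v hv => ?_
    have h : a ^ (v.toAdd.1.val : ℤ) * b ^ (v.toAdd.2.val : ℤ) = 1 := by
      rw [zpow_natCast, zpow_natCast]; exact hv
    obtain ⟨h1, h2⟩ := hind k le_rfl _ _ h
    have e : ∀ f : ZMod (p ^ k), (p : ℤ) ^ k ∣ (f.val : ℤ) → f = 0 := fun f hf => by
      have : p ^ k ∣ f.val := by exact_mod_cast hf
      rw [← ZMod.val_eq_zero]
      exact Nat.eq_zero_of_dvd_of_lt this (ZMod.val_lt f)
    exact Multiplicative.toAdd.injective (Prod.ext (e _ h1) (e _ h2))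
  have hψs : Function.Surjective ψ := by
    have hle : ∀ (x : A) (n : ℤ), ∃ m : ZMod (p ^ k), x ^ n = x ^ m.val := fun x n => by
      refine ⟨(n : ZMod (p ^ k)), ?_⟩
      rw [← zpow_natCast, zpow_eq_zpow_iff_modEq]
      refine Int.ModEq.of_dvd (Int.natCast_dvd_natCast.2 (orderOf_dvd_of_pow_eq_one (hkspec x))) ?_
      rw [← ZMod.intCast_eq_intCast_iff]
      simp
    intro x
    obtain ⟨y, hy, w, hw, rfl⟩ := Subgroup.mem_sup.1 (hgen.ge (Subgroup.mem_top x))
    obtain ⟨i, rfl⟩ := Subgroup.mem_zpowers_iff.1 hy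
    obtain ⟨j, rfl⟩ := Subgroup.mem_zpowers_iff.1 hw
    obtain ⟨m, hm⟩ := hle a i
    obtain ⟨n, hn⟩ := hle b j
    exact ⟨Multiplicative.ofAdd (m, n), by rw [hm, hn]; rfl⟩
  refine ⟨k, hk1, ?_, ⟨(MulEquiv.ofBijective ψ ⟨hψi, hψs⟩).symm⟩⟩
  by_contra hcon
  rw [not_or] at hcon
  obtain ⟨hk2, hp3⟩ := hcon
  -- lifting a shear modulo `p ^ 2` increases its order
  obtain ⟨c, -, hTs⟩ := exists_shear ρ.range hV hVexp (t := T) ⟨⟨t, htG⟩, rfl⟩ hTl
  let D : A →* A := MonoidHom.mk' (fun x => x⁻¹ * t x) fun x y => by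
    simp only [mul_inv_rev, map_mul]
    rw [mul_comm y⁻¹, mul_mul_mul_comm]
  have hD2 : ∀ x, D (D x) ∈ frattini A := by
    intro x
    obtain ⟨n, hn⟩ := Subgroup.mem_zpowers_iff.1 (hTs.2.2 (x : A ⧸ frattini A))
    refine (QuotientGroup.eq_one_iff _).1 ?_
    show ((((D x)⁻¹ * t (D x)) : A) : A ⧸ frattini A) = 1
    have e : ((D x : A) : A ⧸ frattini A) = c ^ n := by rw [hn]; rfl
    rw [QuotientGroup.mk_mul, QuotientGroup.mk_inv,
      show ((t (D x) : A) : A ⧸ frattini A) = T ((D x : A) : A ⧸ frattini A) from rfl, e, map_zpow,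
      hTs.2.1, inv_mul_cancel]
  let N := (powMonoidHom (p ^ 2) : A →* A).range
  have hD4 : ∀ x, D (D (D (D x))) ∈ N := by
    intro x
    obtain ⟨y, hy⟩ := hroot _ (hD2 x)
    obtain ⟨w, hw⟩ := hroot _ (hD2 y)
    refine ⟨w, ?_⟩
    show w ^ p ^ 2 = _
    rw [← hy, map_pow, map_pow, ← hw, ← pow_mul, pow_two]
  have htD : ∀ x, t x = x * D x := fun x => (mul_inv_cancel_left x (t x)).symm
  have hTp : t ^ p = 1 := by
    have h := shear_isPGroup ρ.range (hVexp c)
    obtain ⟨n, hn⟩ := Subgroup.mem_zpowers_iff.1 (hTs.2.2 1)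
    have hTp' : T ^ p = 1 := by
      refine MulEquiv.ext fun v => ?_
      obtain ⟨n, hn⟩ := TransvectionCentre.exists_zpow hTs v
      have hpow : ∀ m : ℕ, (T ^ m) v = v * (c ^ n) ^ m := by
        intro m
        induction m with
        | zero => simp
        | succ m ih =>
          rw [pow_succ', MulAut.mul_apply, ih, map_mul, map_pow, map_zpow, hTs.2.1, hn, pow_succ']
          simp only [mul_assoc]
      rw [hpow, hVexp, mul_one]; rfl
    rw [hT, ← map_pow] at hTp'
    exact congrArg Subtype.val (hρ (hTp'.trans (map_one ρ).symm))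
  have hform : ∀ (x : A) (n : ℕ),
      ((t ^ n) x : A ⧸ N) = (x : A ⧸ N) * (D x : A ⧸ N) ^ n * (D (D x) : A ⧸ N) ^ n.choose 2 *
        (D (D (D x)) : A ⧸ N) ^ n.choose 3 := by
    intro x n
    induction n with
    | zero => simp
    | succ n ih =>
      have ht' : ∀ y y' : A, (y : A ⧸ N) = (y' : A ⧸ N) → (t y : A ⧸ N) = (t y' : A ⧸ N) := by
        intro y y' h
        refine QuotientGroup.eq.2 ?_
        obtain ⟨w, hw⟩ := QuotientGroup.eq.1 h
        refine ⟨t w, ?_⟩
        show (t w) ^ p ^ 2 = _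
        rw [← map_pow, show w ^ p ^ 2 = y⁻¹ * y' from hw, map_mul, map_inv]
      rw [pow_succ', MulAut.mul_apply,
        ht' _ (x * D x ^ n * D (D x) ^ n.choose 2 * D (D (D x)) ^ n.choose 3) (by simpa using ih)]
      simp only [map_mul, map_pow, htD x, htD (D x), htD (D (D x)), htD (D (D (D x))),
        QuotientGroup.mk_mul, QuotientGroup.mk_pow,
        (QuotientGroup.eq_one_iff _).2 (hD4 x), mul_one, Nat.choose_succ_succ', Nat.choose_one_right,
        mul_pow, pow_add, pow_one, one_pow]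
      simp only [mul_comm, mul_left_comm, mul_assoc]
  have hDΦ : ∀ x, D x ∈ frattini A := by
    intro x
    have h := hform x p
    rw [hTp] at h
    obtain ⟨c2, hc2⟩ := hp.out.dvd_choose_self (two_ne_zero) (by omega : 2 < p)
    obtain ⟨c3, hc3⟩ := hp.out.dvd_choose_self (by omega : 3 ≠ 0) (by omega : 3 < p)
    have hkill : ∀ (y : A) (m : ℕ), y ∈ frattini A → (y : A ⧸ N) ^ (p * m) = 1 := by
      intro y m hy
      obtain ⟨w, rfl⟩ := hroot y hy
      rw [← QuotientGroup.mk_pow, QuotientGroup.eq_one_iff]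
      refine ⟨w ^ m, ?_⟩
      show (w ^ m) ^ p ^ 2 = _
      rw [← pow_mul, ← pow_mul]
      congr 1
      ring
    have h3 : D (D (D x)) ∈ frattini A := hD2 (D x)
    rw [hc2, hc3, hkill _ _ (hD2 x), hkill _ _ h3, mul_one, mul_one, MulAut.one_apply,
      left_eq_mul, ← QuotientGroup.mk_pow, QuotientGroup.eq_one_iff] at h
    obtain ⟨y, hy⟩ := h
    change y ^ p ^ 2 = D x ^ p at hy
    have hz : (D x * (y ^ p)⁻¹) ^ p ^ (k - 1) = 1 := by
      obtain ⟨d, hd⟩ := Nat.exists_eq_add_of_le (show 1 ≤ k - 1 by omega)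
      rw [hd, pow_add, pow_mul, pow_one, mul_pow, inv_pow, ← pow_mul, ← pow_two, hy, mul_inv_cancel,
        one_pow]
    have := mul_mem (hlow _ hz) ((CfsgLib.PGroupBasic.commutator_pow_le_frattini hAp).2 y)
    rwa [inv_mul_cancel_right] at this
  refine hT1 (MulEquiv.ext fun v => ?_)
  induction v using QuotientGroup.induction_on with
  | H x =>
    show ((t x : A) : A ⧸ frattini A) = (x : A ⧸ frattini A)
    exact (QuotientGroup.eq.2 (hDΦ x)).symm

end module

variable {Ω : Type u} [Group Ω] {S : Subgroup Ω} {F : FusionSystem S}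

/-- Abelian essential subgroups of rank at most two. -/
theorem essential_rank_two [Finite S] (p : ℕ) [Fact p.Prime] (hS : IsPGroup p S)
    (hF : F.IsSaturated p) {H : Subgroup Ω} (hH : F.IsEssential p H) (hab : IsMulCommutative H)
    (hrk : (frattini H).index ≤ p ^ 2) :
    (Cfsg.IsElementaryAbelian p H ∧ Nat.card H = p ^ 2) ∨
      (p ≤ 3 ∧ ∃ k : ℕ, Nonempty (H ≃* Multiplicative (ZMod (p ^ k) × ZMod (p ^ k)))) := by
  classical
  have := finite_of_le hH.1.1
  have hHp := isPGroup_of_le hS hH.1.1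
  have hinn : Inn H = ⊥ := by
    refine eq_bot_iff.2 ?_
    rintro _ ⟨q, rfl⟩
    exact Subgroup.mem_bot.2 (MulEquiv.ext fun x => by
      show q * x * q⁻¹ = x
      rw [hab.is_comm.comm q x, mul_inv_cancel_right])
  have hrad := (isRadical_of_essential p hS hH).2
  rw [hinn, Subgroup.map_eq_bot_iff_of_injective _ (F.autGroup H).subtype_injective] at hrad
  obtain ⟨g, hg, hgH⟩ := SetLike.exists_of_lt (lt_normalizerIn p hS le_rfl (essential_lt p hS hF hH))
  set t : MulAut H := conjAut S H ⟨g, hg⟩ with htdef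
  have htA : t ∈ autInducedBy S H := mem_autInducedBy.2 ⟨g, hg.1, fun _ => rfl⟩
  have ht1 : t ≠ 1 := fun h => hgH ((inn_mem_iff hH.1 hg.1 (α := t) fun _ => rfl).1
    (by rw [h]; exact one_mem _))
  obtain ⟨l, hl⟩ := (isPGroup_autInducedBy hS H) ⟨t, htA⟩
  letI : CommGroup H := { (inferInstance : Group H) with mul_comm := hab.is_comm.comm }
  obtain ⟨k, hk1, hk, ⟨e⟩⟩ := rank_two_structure hHp (F.autGroup H) hrad
    (autInducedBy_le_autGroup hH.1.1 htA) (congrArg Subtype.val hl : t ^ p ^ l = 1) ht1 hrk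
  rcases hk with rfl | hp3
  · left
    have hexp : ∀ x : Multiplicative (ZMod (p ^ 1) × ZMod (p ^ 1)), x ^ p = 1 := fun x => by
      refine Multiplicative.toAdd.injective ?_
      rw [toAdd_pow, toAdd_one]
      have h0 : (p : ZMod (p ^ 1)) = 0 :=
        (congrArg Nat.cast (pow_one p).symm).trans (ZMod.natCast_self _)
      ext <;> simp [h0]
    refine ⟨⟨hab, fun x hx => ?_⟩, ?_⟩
    · have h := hexp (e ⟨x, hx⟩)
      rw [← map_pow, map_eq_one_iff _ e.injective] at h
      exact congrArg Subtype.val h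
    · rw [Nat.card_congr e.toEquiv, Nat.card_congr Multiplicative.toAdd, Nat.card_prod,
        Nat.card_zmod, pow_one, pow_two]
  · exact Or.inr ⟨hp3, k, ⟨e⟩⟩

end CfsgLib.Fusion
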