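import Cfsg.Agent.Fusion.PlaneExtension
import Cfsg.Agent.Fusion.RankTwoEssential
import Cfsg.Agent.Coprime.InvariantFactors
import Mathlib.GroupTheory.FixedPointFree

/-!
For `p ≥ 5` a `p`-group of rank two other than the extraspecial group of order `p³` and exponent `p`
has no essential subgroups.
-/

set_option autoImplicit false
set_option linter.unusedSectionVars false
set_option linter.style.haveILetI false

open Cfsg Cfsg.FusionSystem
open scoped commutatorElement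

namespace CfsgLib.Fusion

universe u

theorem index_frattini_le_of_comm {Q : Type u} [CommGroup Q] [Finite Q] {p : ℕ} [Fact p.Prime]
    (hQ : IsPGroup p Q) (K : Subgroup Q) (hK : ∀ x : Q, x ^ p = 1 → x ∈ K) :
    (frattini Q).index ≤ Nat.card K := by
  have h1 : (powMonoidHom p : Q →* Q).range ≤ frattini Q := by
    rintro _ ⟨x, rfl⟩
    exact (CfsgLib.PGroupBasic.commutator_pow_le_frattini hQ).2 x
  have h2 : (powMonoidHom p : Q →* Q).range.index = Nat.card (powMonoidHom p : Q →* Q).ker := by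
    have e1 := (powMonoidHom p : Q →* Q).range.card_mul_index
    have e2 := (powMonoidHom p : Q →* Q).ker.card_mul_index
    rw [Subgroup.index_ker, mul_comm] at e2
    exact Nat.eq_of_mul_eq_mul_left Nat.card_pos (e1.trans e2.symm)
  refine (Nat.le_of_dvd (Nat.pos_of_ne_zero Subgroup.index_ne_zero_of_finite)
    (Subgroup.index_dvd_of_le h1)).trans (h2.le.trans (Subgroup.card_le_of_le ?_))
  exact fun x hx => hK x hx

/-- In a plane, powers of an element outside a subgroup lie in it only trivially. -/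
theorem dvd_of_zpow_mem {G : Type u} [Group G] {p : ℕ} [hp : Fact p.Prime] {x : G} {K : Subgroup G}
    (hx : x ^ p ∈ K) (hxK : x ∉ K) {i : ℤ} (hi : x ^ i ∈ K) : (p : ℤ) ∣ i := by
  by_contra h
  obtain ⟨k, l, hl⟩ := exists_inv_mod h
  refine hxK ?_
  have e : x = (x ^ i) ^ k * ((x ^ p) ^ l)⁻¹ := by
    rw [← zpow_natCast, ← zpow_mul, ← zpow_mul, ← zpow_neg, ← zpow_add,
      show i * k + -((p : ℤ) * l) = 1 by linarith, zpow_one]
  rw [e]
  exact mul_mem (zpow_mem hi k) (inv_mem (zpow_mem hx l))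

/-- A parameter for the torus. -/
theorem exists_torus_param {p : ℕ} [hp : Fact p.Prime] (hp5 : 5 ≤ p) :
    ∃ a b : ℤ, (p : ℤ) ∣ a * b - 1 ∧ ¬ (p : ℤ) ∣ a ∧ ¬ (p : ℤ) ∣ a * a - 1 ∧
      ¬ (p : ℤ) ∣ a * a * a - 1 ∧ ¬ (p : ℤ) ∣ a * a - a := by
  have key : ∀ n : ℕ, 0 < n → n < p → ¬ (p : ℤ) ∣ (n : ℤ) := fun n h0 hn h =>
    absurd (Nat.le_of_dvd h0 (Int.natCast_dvd_natCast.1 h)) (by omega)
  by_cases h7 : p = 7
  · subst h7
    exact ⟨3, 5, by norm_num, by norm_num, by norm_num, by norm_num, by norm_num⟩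
  have h2 : ¬ (p : ℤ) ∣ 2 := key 2 (by omega) (by omega)
  obtain ⟨b, hb⟩ := exists_inv_mod h2
  refine ⟨2, b, hb, h2, ?_, ?_, ?_⟩
  · norm_num; exact key 3 (by omega) (by omega)
  · norm_num
    intro h
    exact h7 ((Nat.prime_dvd_prime_iff_eq hp.out (by norm_num : Nat.Prime 7)).1
      (Int.natCast_dvd_natCast.1 h))
  · norm_num; exact h2

variable {Ω : Type u} [Group Ω] {S : Subgroup Ω} [Finite S] {p : ℕ} [hp : Fact p.Prime]
  {F : FusionSystem S}

section radical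

variable {P : Subgroup Ω} (hS : IsPGroup p S) (hP : F.IsEssential p P)

include hS hP in
/-- A normal subgroup of `p`-elements of `Aut_F(P)` consists of inner automorphisms. -/
theorem mem_inn_of_normal {L : Subgroup (F.autGroup P)} [L.Normal] (hL : IsPGroup p L)
    {α : F.autGroup P} (hα : α ∈ L) : (α : MulAut P) ∈ Inn P :=
  (isRadical_of_essential p hS hP).2.le ⟨α, CfsgLib.Solvable.le_pCore p inferInstance hL hα, rfl⟩

include hS hP in
/-- The facts about an action of `Aut_F(P)` on a plane with `p`-group kernel. -/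
theorem essential_plane {A : Type u} [CommGroup A] [Finite A] (hA : Nat.card A = p ^ 2)
    (hAexp : ∀ x : A, x ^ p = 1) (ρ : F.autGroup P →* MulAut A)
    (hK : ∀ α, ρ α = 1 → ∃ n : ℕ, (α : MulAut P) ^ p ^ n = 1) (hF : F.IsSaturated p) :
    (∀ α, ρ α = 1 → (α : MulAut P) ∈ Inn P) ∧
      ∃ (g : Ω) (hg : g ∈ normalizerIn S P) (c : A), g ∉ P ∧ c ≠ 1 ∧
        (∀ u : ↥(normalizerIn S P), ρ (conjF F hP.1.1 u) ∈ TransvectionCentre.shear ρ.range c) ∧
        ρ (conjF F hP.1.1 ⟨g, hg⟩) ≠ 1 ∧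
        (∃ f ∈ ρ.range, f c ∉ Subgroup.zpowers c) ∧
        ∀ (u : Ω) (hu : u ∈ P), ρ (conjF F hP.1.1 ⟨u, le_normalizerIn hP.1.1 hu⟩) = 1 := by
  classical
  have hKp : IsPGroup p ρ.ker := by
    rintro ⟨α, hα⟩
    obtain ⟨n, hn⟩ := hK α hα
    exact ⟨n, Subtype.ext (Subtype.ext hn)⟩
  have hker : ∀ α, ρ α = 1 → (α : MulAut P) ∈ Inn P := fun α hα => mem_inn_of_normal hS hP hKp hα
  refine ⟨hker, ?_⟩
  obtain ⟨g, hg, hgP⟩ := SetLike.exists_of_lt (lt_normalizerIn p hS le_rfl (essential_lt p hS hF hP))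
  obtain ⟨c, hc1, hcent⟩ := exists_plane_centre hP.1 hA hAexp ρ hS
  have hs1 : ρ (conjF F hP.1.1 ⟨g, hg⟩) ≠ 1 := fun h => hgP (mem_of_conjF_one hP.1 ρ hker hg h)
  have hf : ∃ f ∈ ρ.range, f c ∉ Subgroup.zpowers c := by
    by_contra hcon
    push Not at hcon
    have hco : orderOf c = p := orderOf_eq_prime (hAexp c) hc1
    let L := (TransvectionCentre.shear ρ.range c).comap ρ
    haveI : L.Normal := ⟨fun α hα β => by
      obtain ⟨h1, h2, h3⟩ := TransvectionCentre.conj_shear (show ρ α ∈ _ from hα)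
        (MonoidHom.mem_range.2 ⟨β, rfl⟩ : ρ β ∈ ρ.range)
      have hmem := hcon (ρ β) ⟨β, rfl⟩
      have hne : ρ β c ≠ 1 := fun h => hc1 ((map_eq_one_iff _ (ρ β).injective).1 h)
      obtain ⟨i, hi⟩ := Subgroup.mem_zpowers_iff.1 (TransvectionCentre.mem_zpowers_swap hco hmem hne)
      show ρ (β * α * β⁻¹) ∈ TransvectionCentre.shear ρ.range c
      rw [map_mul, map_mul, map_inv]
      refine ⟨h1, ?_, fun y => Subgroup.zpowers_le.2 hmem (h3 y)⟩
      conv_lhs => rw [← hi]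
      rw [map_zpow, h2, hi]⟩
    exact hgP ((inn_mem_iff hP.1 hg.1 fun _ => rfl).1 (mem_inn_of_normal hS hP
      ((shear_isPGroup ρ.range (hAexp c)).comap_of_ker_isPGroup ρ hKp)
      (hcent ⟨g, hg⟩ : conjF F hP.1.1 ⟨g, hg⟩ ∈ L)))
  refine ⟨g, hg, c, hgP, hc1, hcent, hs1, hf, fun u hu => ?_⟩
  obtain ⟨f, ⟨β, rfl⟩, hfc⟩ := hf
  have e : β * conjF F hP.1.1 ⟨u, le_normalizerIn hP.1.1 hu⟩ * β⁻¹ =
      conjF F hP.1.1 ⟨_, le_normalizerIn hP.1.1 ((β : MulAut P) ⟨u, hu⟩).2⟩ := by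
    refine Subtype.ext (MulEquiv.ext fun x => Subtype.ext ?_)
    obtain ⟨z, rfl⟩ := (β : MulAut P).surjective x
    rw [Subgroup.coe_mul, Subgroup.coe_mul, InvMemClass.coe_inv, MulAut.mul_apply, MulAut.mul_apply,
      MulAut.inv_apply_self, coe_conjF,
      show ((conjF F hP.1.1 ⟨u, le_normalizerIn hP.1.1 hu⟩ : F.autGroup P) : MulAut P) z =
        ⟨u, hu⟩ * z * (⟨u, hu⟩ : P)⁻¹ from Subtype.ext rfl, map_mul, map_mul, map_inv,
      Subgroup.coe_mul, Subgroup.coe_mul, InvMemClass.coe_inv]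
  set s := ρ (conjF F hP.1.1 ⟨u, le_normalizerIn hP.1.1 hu⟩)
  have h1 : ρ β * s * (ρ β)⁻¹ ∈ TransvectionCentre.shear ρ.range c := by
    rw [← map_inv, ← map_mul, ← map_mul, e]
    exact hcent _
  have h2 := TransvectionCentre.conj_shear (hcent ⟨u, le_normalizerIn hP.1.1 hu⟩)
    (MonoidHom.mem_range.2 ⟨β, rfl⟩ : ρ β ∈ ρ.range)
  exact conj_eq_one_iff.1 (plane_ext hA hAexp hc1 hfc h1.2.1 h2.2.1 : ρ β * s * (ρ β)⁻¹ = 1)

end radical

section cube

variable {P : Subgroup Ω} (D : Subgroup P) (hDi : ∀ α ∈ F.autGroup P, ∀ x ∈ D, α x ∈ D)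

/-- The plane of a nonabelian invariant subgroup of order `p³`. -/
theorem exists_cube_plane (hD : Nat.card D = p ^ 3) (hne : ¬ ∀ a b : D, a * b = b * a) :
    ∃ (A : Type u) (_ : CommGroup A) (_ : Finite A) (q : D →* A) (ρ : F.autGroup P →* MulAut A),
      Nat.card A = p ^ 2 ∧ (∀ x : A, x ^ p = 1) ∧ Function.Surjective q ∧
      (∀ x, q x = 1 ↔ x ∈ Subgroup.center D) ∧
      (∀ (α : F.autGroup P) (x : D), ρ α (q x) = q ⟨(α : MulAut P) x, hDi _ α.2 x x.2⟩) ∧
      ∀ α, ρ α = 1 → ∃ d : D, ∀ x : D, (α : MulAut P) x = d * x * (d : P)⁻¹ := by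
  haveI : Finite D := Nat.finite_of_card_ne_zero (by rw [hD]; exact pow_ne_zero _ hp.out.ne_zero)
  obtain ⟨-, hZ, hc, hpow⟩ := cube_frattini hD hne
  have hcomm : ∀ a b : D ⧸ Subgroup.center D, a * b = b * a := fun a b => by
    induction a using QuotientGroup.induction_on with
    | H a =>
      induction b using QuotientGroup.induction_on with
      | H b =>
        rw [← commutatorElement_eq_one_iff_mul_comm, ← QuotientGroup.mk'_apply, ← QuotientGroup.mk'_apply,
          ← map_commutatorElement, QuotientGroup.mk'_apply, QuotientGroup.eq_one_iff]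
        exact hc a b
  let r : F.autGroup P →* MulAut D :=
    CfsgLib.Coprime.restrictAut (F.autGroup P).subtype D fun a x hx => hDi _ a.2 x hx
  let ρ := CfsgLib.Coprime.quotientAut r (Subgroup.center D) fun a x hx =>
    Subgroup.characteristic_iff_le_comap.1 inferInstance (r a) hx
  refine ⟨D ⧸ Subgroup.center D, { (inferInstance : Group _) with mul_comm := hcomm }, inferInstance,
    QuotientGroup.mk' _, ρ, ?_, ?_, QuotientGroup.mk'_surjective _,
    fun x => QuotientGroup.eq_one_iff x, fun α x => rfl, fun α hα => ?_⟩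
  · have h := (Subgroup.center D).index_mul_card
    rw [hZ, hD, pow_succ, Subgroup.index_eq_card] at h
    exact Nat.eq_of_mul_eq_mul_right hp.out.pos h
  · intro x
    induction x using QuotientGroup.induction_on with
    | H x => rw [← QuotientGroup.mk_pow, QuotientGroup.eq_one_iff]; exact hpow x
  · obtain ⟨d, hd⟩ := cube_aut_inn hD hne (r α) fun w => by
      have h := DFunLike.congr_fun hα (w : D ⧸ Subgroup.center D)
      exact QuotientGroup.eq.1 h.symm
    exact ⟨d, fun x => (congrArg Subtype.val (DFunLike.congr_fun hd x)).symm⟩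

variable {A : Type u} [CommGroup A] [Finite A] (hA : Nat.card A = p ^ 2)
  (hAexp : ∀ x : A, x ^ p = 1) (q : D →* A) (hqk : ∀ x, q x = 1 ↔ x ∈ Subgroup.center D)
  (hqs : Function.Surjective q)

include hA hAexp hqk hqs in
omit [Finite S] in
/-- Elements with independent images do not commute. -/
theorem cube_not_commute (hne : ¬ ∀ a b : D, a * b = b * a) {x y : D} (hx : q x ≠ 1)
    (hy : q y ∉ Subgroup.zpowers (q x)) : ¬ Commute x y := by
  intro hxy
  refine hne fun a b => ?_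
  have key : ∀ w : D, ∃ i j : ℤ, ∃ z ∈ Subgroup.center D, w = x ^ i * y ^ j * z := by
    intro w
    obtain ⟨i, j, hij⟩ := plane_decomp hA hAexp hx hy (q w)
    refine ⟨i, j, (x ^ i * y ^ j)⁻¹ * w, ?_, (mul_inv_cancel_left _ _).symm⟩
    rw [← hqk, map_mul, map_inv, map_mul, map_zpow, map_zpow, hij, inv_mul_cancel]
  obtain ⟨i, j, z, hz, rfl⟩ := key a
  obtain ⟨k, l, z', hz', rfl⟩ := key b
  have hcz : ∀ {z : D}, z ∈ Subgroup.center D → ∀ w : D, Commute z w := fun hz w =>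
    (Subgroup.mem_center_iff.1 hz w).symm
  have h1 : Commute (x ^ i * y ^ j) (x ^ k * y ^ l) :=
    (((Commute.refl x).zpow_zpow i k).mul_right (hxy.zpow_zpow i l)).mul_left
      ((hxy.symm.zpow_zpow j k).mul_right ((Commute.refl y).zpow_zpow j l))
  exact ((h1.mul_right (hcz hz' _).symm).mul_left ((hcz hz _).mul_right (hcz hz z'))).eq

include hA hAexp hqk hqs in
/-- No configuration with a diagonal automorphism of these eigenvalues exists. -/
theorem cube_false (hS : IsPGroup p S) (hp5 : 5 ≤ p)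
    (hrank : ∀ E : Subgroup Ω, E ≤ S → Cfsg.IsElementaryAbelian p E → Nat.card E ≤ p ^ 2)
    (hc : F.IsCentric P) (hrec : F.IsReceptive P)
    (hD : Nat.card D = p ^ 3) (hDexp : ∀ x ∈ D, x ^ p = 1) (hne : ¬ ∀ a b : D, a * b = b * a)
    (ρ : F.autGroup P →* MulAut A)
    (hρ : ∀ (α : F.autGroup P) (x : D), ρ α (q x) = q ⟨(α : MulAut P) x, hDi _ α.2 x x.2⟩)
    (hker : ∀ α, ρ α = 1 → (α : MulAut P) ∈ Inn P)
    {g : Ω} (hg : g ∈ normalizerIn S P) (hgP : g ∉ P) {c d : A} (hc1 : c ≠ 1)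
    (hcent : ∀ u : ↥(normalizerIn S P), ρ (conjF F hc.1 u) ∈ TransvectionCentre.shear ρ.range c)
    (hd : d ∉ Subgroup.zpowers c) {h : MulAut A} (hh : h ∈ ρ.range) {a b b' : ℤ}
    (hb : (p : ℤ) ∣ b * b' - 1) (hhc : h c = c ^ a) (hhd : h d = d ^ b)
    (hm1 : ¬ (p : ℤ) ∣ a * b' - 1) (hma : ¬ (p : ℤ) ∣ a * b' - a)
    (hmz : ¬ (p : ℤ) ∣ a * b' - a * b)
    (hfix : ∀ α : F.autGroup P, (orderOf (α : MulAut P)).Coprime p → ρ α = h →
      (∀ x : D, x ∈ Subgroup.center D → (α : MulAut P) x = (x : P) ^ (a * b)) →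
      ∀ y : P, y⁻¹ * (α : MulAut P) y ∈ D) : False := by
  classical
  have := finite_of_le hc.1
  have hz : ∀ α : F.autGroup P, ρ α = h → ∀ x : D, x ∈ Subgroup.center D →
      (α : MulAut P) x = (x : P) ^ (a * b) := by
    intro α hα x hx
    obtain ⟨xc, hxc⟩ := hqs c
    obtain ⟨xd, hxd⟩ := hqs d
    let r : F.autGroup P →* MulAut D :=
      CfsgLib.Coprime.restrictAut (F.autGroup P).subtype D fun a x hx => hDi _ a.2 x hx
    have hmem : ∀ (w : D) (e : ℤ), h (q w) = q w ^ e → (w ^ e)⁻¹ * r α w ∈ Subgroup.center D := by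
      intro w e he
      rw [← hqk, map_mul, map_inv, map_zpow, ← he, ← hα, hρ]
      exact inv_mul_cancel _
    exact congrArg Subtype.val (cube_center_eigen hD (cube_not_commute D hA hAexp q hqk hqs hne
      (hxc.symm ▸ hc1) (by rw [hxc, hxd]; exact hd)) (r α) (hmem xc a (by rw [hxc, hhc]))
      (hmem xd b (by rw [hxd, hhd])) hx)
  obtain ⟨u, hu, huP, hup⟩ := exists_order_p_outside hc hA hAexp ρ hker hg hc1 hcent hS hrec hp5 hgP
    D hDi hDexp hD.le hh (diag_pow_prime hA hAexp hc1 hd hhc hhd) (m := a * b')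
    (diag_conj hA hAexp hc1 hd (hcent ⟨g, hg⟩) hb hhc hhd) hm1
    (fun α hα hρα => hfix α hα hρα (hz α hρα))
    (fun α hρα u hu huP x hx hfx hαx => by
      have hfix' : ρ (conjF F hc.1 ⟨u, hu⟩) (q ⟨x, hx⟩) = q ⟨x, hx⟩ := by
        rw [hρ]
        exact congrArg q (Subtype.ext hfx)
      obtain ⟨i, hi⟩ := Subgroup.mem_zpowers_iff.1 (mem_centre_of_fix hA hAexp hc1 (hcent ⟨u, hu⟩)
        (fun h1 => huP (mem_of_conjF_one hc ρ hker hu h1)) hfix')
      have h1 : h (q ⟨x, hx⟩) = q ⟨x, hx⟩ ^ a := by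
        rw [← hi, map_zpow, hhc, ← zpow_mul, ← zpow_mul, mul_comm]
      have h2 : h (q ⟨x, hx⟩) = q ⟨x, hx⟩ ^ (a * b') := by
        rw [← hρα, hρ, ← map_zpow]
        exact congrArg q (Subtype.ext hαx)
      have hq1 : q ⟨x, hx⟩ = 1 := by
        by_contra hne1
        exact hma (dvd_sub_of_zpow_eq (hAexp _) hne1 (h2.symm.trans h1))
      by_contra hx1
      exact hmz (dvd_sub_of_zpow_eq (hDexp x hx) hx1
        (hαx.symm.trans (hz α hρα ⟨x, hx⟩ ((hqk _).1 hq1)))))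
  set M := P ⊔ Subgroup.zpowers g
  have hMS : M ≤ S := sup_le hc.1 (Subgroup.zpowers_le.2 hg.1)
  have := finite_of_le hMS
  obtain ⟨-, hle⟩ := omega_bound hS hp5 hrank M hMS
  let ι : P →* M := Subgroup.inclusion le_sup_left
  have hlt : D.map ι < Subgroup.closure {x : M | x ^ p = 1} := by
    refine SetLike.lt_iff_le_and_exists.2 ⟨?_, ⟨u, hu⟩,
      Subgroup.subset_closure (Subtype.ext hup), ?_⟩
    · rintro _ ⟨x, hx, rfl⟩
      exact Subgroup.subset_closure (show (ι x) ^ p = 1 by rw [← map_pow, hDexp x hx, map_one])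
    · rintro ⟨x, -, e⟩
      have e' : (x : Ω) = u := congrArg Subtype.val e
      exact huP (e' ▸ x.2)
  have h1 := CfsgLib.Solvable.card_lt_of_lt hlt
  rw [Subgroup.card_map_of_injective (Subgroup.inclusion_injective le_sup_left), hD] at h1
  omega

end cube

section main

variable (hS : IsPGroup p S) (hF : F.IsSaturated p) (hp5 : 5 ≤ p)
  (hrank : ∀ E : Subgroup Ω, E ≤ S → Cfsg.IsElementaryAbelian p E → Nat.card E ≤ p ^ 2)

include hrank in
omit [Finite S] hp in
theorem not_comm_of_cube [Fact p.Prime] {N : Subgroup Ω} (hN : N ≤ S) (hcard : Nat.card N = p ^ 3)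
    (hexp : ∀ x : N, x ^ p = 1) : ¬ ∀ a b : N, a * b = b * a := by
  intro h
  have h1 := hrank N hN ⟨⟨⟨h⟩⟩, fun x hx => congrArg Subtype.val (hexp ⟨x, hx⟩)⟩
  rw [hcard] at h1
  exact absurd ((Nat.pow_le_pow_iff_right (Fact.out : p.Prime).one_lt).1 h1) (by norm_num)

include hS hF hp5 hrank in
/-- The case of a large `Ω₁`. -/
theorem essential_false_cube {P : Subgroup Ω} (hP : F.IsEssential p P)
    (hW : Nat.card (Subgroup.closure {x : P | x ^ p = 1}) = p ^ 3) : False := by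
  classical
  have hPS := hP.1.1
  have := finite_of_le hPS
  have hPp := isPGroup_of_le hS hPS
  set W := Subgroup.closure {x : P | x ^ p = 1} with hWdef
  obtain ⟨hWexp, -⟩ := omega_bound hS hp5 hrank P hPS
  have hWi : ∀ α ∈ F.autGroup P, ∀ x ∈ W, α x ∈ W := by
    intro α _
    suffices W ≤ W.comap α.toMonoidHom from fun x hx => this hx
    refine (Subgroup.closure_le _).2 fun x hx => Subgroup.subset_closure ?_
    show (α x) ^ p = 1
    rw [← map_pow, show x ^ p = 1 from hx, map_one]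
  have hne : ¬ ∀ a b : W, a * b = b * a := by
    intro h
    refine not_comm_of_cube (p := p) hrank (N := W.map P.subtype)
      ((Subgroup.map_subtype_le W).trans hPS)
      (by rw [Subgroup.card_map_of_injective P.subtype_injective, hW]) ?_ ?_
    · rintro ⟨_, x, hx, rfl⟩
      exact Subtype.ext (by rw [SubgroupClass.coe_pow, ← map_pow, hWexp x hx, map_one]; rfl)
    · rintro ⟨_, x, hx, rfl⟩ ⟨_, y, hy, rfl⟩
      exact Subtype.ext (by
        rw [Subgroup.coe_mul, Subgroup.coe_mul, ← map_mul, ← map_mul]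
        exact congrArg (fun z : W => P.subtype (z : P)) (h ⟨x, hx⟩ ⟨y, hy⟩))
  obtain ⟨A, _, _, q, ρ, hA, hAexp, hqs, hqk, hρ, hinner⟩ := exists_cube_plane W hWi hW hne
  obtain ⟨hker, g, hg, c, hgP, hc1, hcent, hs1, ⟨f, hf, hfc⟩, htriv⟩ :=
    essential_plane hS hP hA hAexp ρ (fun α hα => by
      obtain ⟨d, hd⟩ := hinner α hα
      have hpow : ∀ (k : ℕ) (x : W),
          ((α : MulAut P) ^ k) x = (d : P) ^ k * x * ((d : P) ^ k)⁻¹ := by
        intro k
        induction k with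
        | zero => intro x; simp
        | succ k ih =>
          intro x
          rw [pow_succ, MulAut.mul_apply, hd, ← InvMemClass.coe_inv, ← Subgroup.coe_mul,
            ← Subgroup.coe_mul, ih, Subgroup.coe_mul, Subgroup.coe_mul, InvMemClass.coe_inv,
            pow_succ, mul_inv_rev]
          simp only [mul_assoc]
      obtain ⟨n, hn⟩ := exists_primePow_eq_one (p := p) (by omega) hPp (α := (α : MulAut P) ^ p)
        fun x hx => by
          have h1 := hpow p ⟨x, Subgroup.subset_closure hx⟩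
          rwa [hWexp _ d.2, one_mul, inv_one, mul_one] at h1
      exact ⟨n + 1, by rw [pow_succ', pow_mul]; exact hn⟩) hF
  obtain ⟨a, b, hab, ha, ha2, ha3, ha1⟩ := exists_torus_param (p := p) hp5
  obtain ⟨h, hh, hhc, hhd⟩ := exists_diag hA hAexp hc1 (hcent ⟨g, hg⟩) hs1 hf hfc hab
  refine cube_false W hWi hA hAexp q hqk hqs hS hp5 hrank hP.1 (good_of_fullyNormalized p hS hF hP.2.1).2
    hW hWexp hne ρ hρ hker hg hgP hc1 hcent hfc hh (b' := a) (by rwa [mul_comm]) hhc hhd ha2 ha1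
    (fun h' => ha2 ?_) fun α hα hρα hz => ?_
  · have := dvd_add h' hab
    rwa [sub_add_sub_cancel] at this
  -- `P = W * C_P(W)` and `α` is trivial on the centralizer
  let C := Subgroup.centralizer (W : Set P)
  have hCi : ∀ β ∈ F.autGroup P, ∀ x ∈ C, β x ∈ C := by
    intro β hβ x hx
    refine Subgroup.mem_centralizer_iff.2 fun w hw => ?_
    obtain ⟨w', rfl⟩ := β.surjective w
    have hw' : w' ∈ W := by simpa using hWi β⁻¹ (inv_mem hβ) _ hw
    rw [← map_mul, ← map_mul, Subgroup.mem_centralizer_iff.1 hx w' hw']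
  let rC : F.autGroup P →* MulAut C :=
    CfsgLib.Coprime.restrictAut (F.autGroup P).subtype C fun a x hx => hCi _ a.2 x hx
  have hrC : rC α = 1 := by
    refine CfsgLib.PGroupRank.aut_eq_one_of_omega_one (p := p) (by omega) (hPp.to_subgroup C) _
      (Nat.Coprime.coprime_dvd_left ?_ hα) fun x hx => ?_
    · rw [Subgroup.orderOf_coe]; exact orderOf_map_dvd rC α
    · have hxW : (x : P) ∈ W := Subgroup.subset_closure
        (show (x : P) ^ p = 1 by rw [← SubgroupClass.coe_pow, hx]; rfl)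
      have hxc : (⟨x, hxW⟩ : W) ∈ Subgroup.center W := Subgroup.mem_center_iff.2 fun w =>
        Subtype.ext (Subgroup.mem_centralizer_iff.1 x.2 w w.2)
      refine Subtype.ext ((hz _ hxc).trans ?_)
      rw [zpow_congr (hWexp _ hxW) hab, zpow_one]
  intro y
  obtain ⟨d, hd⟩ := hinner _ (htriv y y.2)
  have hv : (d : P)⁻¹ * y ∈ C := by
    refine Subgroup.mem_centralizer_iff.2 fun w hw => ?_
    have e : y * w * y⁻¹ = (d : P) * w * (d : P)⁻¹ := by
      rw [← hd ⟨w, hw⟩]; exact Subtype.ext rfl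
    calc w * ((d : P)⁻¹ * y) = (d : P)⁻¹ * ((d : P) * w * (d : P)⁻¹) * y := by group
      _ = (d : P)⁻¹ * (y * w * y⁻¹) * y := by rw [e]
      _ = (d : P)⁻¹ * y * w := by group
  have hαv : (α : MulAut P) ((d : P)⁻¹ * y) = (d : P)⁻¹ * y :=
    congrArg Subtype.val (DFunLike.congr_fun hrC (⟨(d : P)⁻¹ * y, hv⟩ : C))
  obtain ⟨v, hvdef⟩ : ∃ v, v = (d : P)⁻¹ * y := ⟨_, rfl⟩
  rw [← hvdef] at hαv hv
  have hy : y = (d : P) * v := by rw [hvdef, mul_inv_cancel_left]
  have hmem : (d : P)⁻¹ * (α : MulAut P) d ∈ W := mul_mem (inv_mem d.2) (hWi _ α.2 _ d.2)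
  rw [hy, map_mul, hαv]
  have e : ((d : P) * v)⁻¹ * ((α : MulAut P) d * v) = v⁻¹ * (((d : P)⁻¹ * (α : MulAut P) d) * v) := by
    group
  rw [e, Subgroup.mem_centralizer_iff.1 hv _ hmem, inv_mul_cancel_left]
  exact hmem

include hS hF hp5 hrank in
/-- The case of `Ω₁` of order `p²`: the subgroup has order `p²` and its normalizer order `p³`. -/
theorem essential_false_square {P : Subgroup Ω} (hP : F.IsEssential p P)
    (hnotE : ¬ (Nat.card S = p ^ 3 ∧ Monoid.exponent ↥S = p))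
    (hW : Nat.card (Subgroup.closure {x : P | x ^ p = 1}) = p ^ 2) : False := by
  classical
  have hPS := hP.1.1
  have := finite_of_le hPS
  have : Finite (MulAut P) := finite_mulAut
  have hPp := isPGroup_of_le hS hPS
  set W := Subgroup.closure {x : P | x ^ p = 1} with hWdef
  obtain ⟨hWexp, -⟩ := omega_bound hS hp5 hrank P hPS
  have hWmem : ∀ x : P, x ^ p = 1 → x ∈ W := fun x hx => Subgroup.subset_closure hx
  letI : CommGroup W :=
    { (inferInstance : Group W) with mul_comm := IsPGroup.commutative_of_card_eq_prime_sq hW }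
  have hWi : ∀ (α : MulAut P), ∀ x ∈ W, α x ∈ W := fun α x hx =>
    hWmem _ (by rw [← map_pow, hWexp x hx, map_one])
  let ρ : F.autGroup P →* MulAut W :=
    CfsgLib.Coprime.restrictAut (F.autGroup P).subtype W fun a x hx => hWi _ x hx
  have hAexp : ∀ x : W, x ^ p = 1 := fun x => Subtype.ext (hWexp x x.2)
  obtain ⟨hker, g, hg, c, hgP, hc1, hcent, hs1, ⟨f, hf, hfc⟩, htriv⟩ :=
    essential_plane hS hP hW hAexp ρ (fun α hα => exists_primePow_eq_one (p := p) (by omega) hPp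
      fun x hx => by
        have h := DFunLike.congr_fun hα (⟨x, hWmem x hx⟩ : W)
        exact congrArg Subtype.val h) hF
  -- an involution inverting `W` shows that `P` is abelian
  have hab : ∀ x y : P, Commute x y := by
    obtain ⟨h, hh, hhc, hhd⟩ := exists_diag hW hAexp hc1 (hcent ⟨g, hg⟩) hs1 hf hfc
      (a := -1) (b := -1) (by norm_num)
    obtain ⟨α₀, rfl⟩ := hh
    obtain ⟨n, hn⟩ := exists_primePow_coprime p (α₀ : MulAut P)
    set α := (α₀ : MulAut P) ^ p ^ n with hαdef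
    have hinv : ∀ x ∈ W, α x = x⁻¹ := by
      intro x hx
      have h1 : ρ (α₀ ^ p ^ n) ⟨x, hx⟩ = (⟨x, hx⟩ : W)⁻¹ := by
        rw [map_pow, pow_primePow_eq (diag_pow_prime hW hAexp hc1 hfc hhc hhd) n]
        obtain ⟨i, j, e⟩ := plane_decomp hW hAexp hc1 hfc ⟨x, hx⟩
        rw [← e, map_mul, map_zpow, map_zpow, hhc, hhd, ← zpow_mul, ← zpow_mul, mul_inv]
        simp [zpow_neg]
      exact congrArg Subtype.val h1
    have h2 : α ^ 2 = 1 := by
      refine CfsgLib.PGroupRank.aut_eq_one_of_omega_one (p := p) (by omega) hPp _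
        (Nat.Coprime.coprime_dvd_left (orderOf_pow_dvd 2) hn) fun x hx => ?_
      rw [pow_two, MulAut.mul_apply, hinv x (hWmem x hx), map_inv, hinv x (hWmem x hx), inv_inv]
    refine MonoidHom.FixedPointFree.commute_all_of_involutive (φ := α) (fun x hx => ?_)
      fun x => ?_
    · by_contra hx1
      obtain ⟨k, hk⟩ := IsPGroup.iff_orderOf.1 hPp x
      obtain ⟨k, rfl⟩ : ∃ l, k = l + 1 := Nat.exists_eq_succ_of_ne_zero fun h0 => hx1
        (orderOf_eq_one_iff.1 (by rw [hk, h0, pow_zero]))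
      have hy : orderOf (x ^ p ^ k) = p := by
        rw [orderOf_pow_of_dvd (pow_ne_zero _ hp.out.ne_zero) (hk ▸ pow_dvd_pow p (by omega)), hk,
          pow_succ, Nat.mul_div_cancel_left _ (pow_pos hp.out.pos _)]
      have hyW : x ^ p ^ k ∈ W := hWmem _ (by have := pow_orderOf_eq_one (x ^ p ^ k); rwa [hy] at this)
      have h3 := hinv _ hyW
      rw [map_pow, show α x = x from hx, eq_inv_iff_mul_eq_one, ← pow_two] at h3
      have h4 := Nat.le_of_dvd (by norm_num) (orderOf_dvd_of_pow_eq_one h3)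
      omega
    · show α (α x) = x
      rw [← MulAut.mul_apply, ← pow_two, h2]; rfl
  -- `P` is elementary abelian of order `p ^ 2`
  have hidx : (frattini P).index ≤ p ^ 2 := by
    rw [← hW]
    letI : CommGroup P := { (inferInstance : Group P) with mul_comm := hab }
    exact index_frattini_le_of_comm hPp W hWmem
  obtain ⟨hPe, hPcard⟩ := (essential_rank_two p hS hF hP ⟨⟨hab⟩⟩ hidx).resolve_right
    fun h => by omega
  have hPW : ∀ x : P, x ∈ W := fun x => hWmem x (Subtype.ext (hPe.2 x x.2))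
  have hrecP := (good_of_fullyNormalized p hS hF hP.2.1).2
  obtain ⟨a, b, hab', ha, ha2, ha3, ha1⟩ := exists_torus_param (p := p) hp5
  have hb : (p : ℤ) ∣ b * a - 1 := by rwa [mul_comm]
  obtain ⟨h, hh, hhc, hhd⟩ := exists_diag hW hAexp hc1 (hcent ⟨g, hg⟩) hs1 hf hfc hab'
  have hhp := diag_pow_prime hW hAexp hc1 hfc hhc hhd
  have hconj := diag_conj hW hAexp hc1 hfc (hcent ⟨g, hg⟩) hb hhc hhd
  obtain ⟨u, hu, huP, hup⟩ := exists_order_p_outside hP.1 hW hAexp ρ hker hg hc1 hcent hS hrecP hp5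
    hgP ⊤ (fun _ _ _ _ => trivial) (fun x _ => Subtype.ext (hPe.2 x x.2))
    (by rw [Subgroup.card_top, hPcard]; exact Nat.pow_le_pow_right hp.out.pos (by norm_num))
    hh hhp hconj ha2 (fun _ _ _ _ => trivial)
    (fun α hρα u hu huP x _ hfx hαx => by
      obtain ⟨i, hi⟩ := Subgroup.mem_zpowers_iff.1 (mem_centre_of_fix hW hAexp hc1 (hcent ⟨u, hu⟩)
        (fun h1 => huP (mem_of_conjF_one hP.1 ρ hker hu h1))
        (x := ⟨x, hPW x⟩) (Subtype.ext hfx))
      have h2 : h ⟨x, hPW x⟩ = (⟨x, hPW x⟩ : W) ^ a := by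
        rw [← hi, map_zpow, hhc, ← zpow_mul, ← zpow_mul, mul_comm]
      rw [← hρα] at h2
      have h3 : x ^ (a * a) = x ^ a := hαx.symm.trans (congrArg Subtype.val h2)
      by_contra hx1
      exact ha1 (dvd_sub_of_zpow_eq (Subtype.ext (hPe.2 x x.2)) hx1 h3))
  -- the normalizer of `P`
  set N := P ⊔ Subgroup.zpowers g with hNdef
  obtain ⟨ψ, hψ, α, -, hρα, hψα, hψg⟩ :=
    exists_extension_plane hP.1 hW hAexp ρ hker hg hc1 hcent hS hrecP hh hhp hconj
  have hgp : g ^ p ∈ P := pow_mem_of_plane hP.1 hW hAexp ρ hker hg hc1 hcent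
  have hNeq : normalizerIn S P = N := le_antisymm
    (normalizerIn_le_sup hP.1 hW hAexp ρ hker hg hc1 hcent hgP)
    (sup_le (le_normalizerIn hPS) (Subgroup.zpowers_le.2 hg))
  have hNS : N ≤ S := sup_le hPS (Subgroup.zpowers_le.2 hg.1)
  have := finite_of_le hNS
  have : Finite (MulAut N) := finite_mulAut
  have hgN : g ∈ N := Subgroup.mem_sup_right (Subgroup.mem_zpowers g)
  obtain ⟨hCexp, hC3⟩ := omega_bound hS hp5 hrank N hNS
  have hCtop : Subgroup.closure {x : N | x ^ p = 1} = ⊤ := by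
    set C := Subgroup.closure {x : N | x ^ p = 1}
    have hPC : ∀ (x : Ω) (hx : x ∈ P), (⟨x, Subgroup.mem_sup_left hx⟩ : N) ∈ C := fun x hx =>
      Subgroup.subset_closure (Subtype.ext (hPe.2 x hx))
    obtain ⟨z, hz, y, hy, e⟩ : ∃ z ∈ Subgroup.zpowers g, ∃ y ∈ P, z * y = u := by
      have h1 : (u : Ω) ∈ ((Subgroup.zpowers g ⊔ P : Subgroup Ω) : Set Ω) := by rwa [sup_comm]
      rw [Subgroup.coe_mul_of_left_le_normalizer_right _ _ (Subgroup.zpowers_le.2 hg.2)] at h1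
      exact h1
    obtain ⟨j, rfl⟩ := Subgroup.mem_zpowers_iff.1 hz
    have hgC : (⟨g, hgN⟩ : N) ∈ C := by
      by_contra hgC
      have h1 : (⟨g, hgN⟩ : N) ^ j ∈ C := by
        have h2 := mul_mem (Subgroup.subset_closure (show (⟨u, hu⟩ : N) ^ p = 1 from Subtype.ext hup) :
          (⟨u, hu⟩ : N) ∈ C) (inv_mem (hPC y hy))
        rwa [show (⟨u, hu⟩ : N) * (⟨y, Subgroup.mem_sup_left hy⟩ : N)⁻¹ = ⟨g, hgN⟩ ^ j from
          Subtype.ext (by rw [Subgroup.coe_mul, InvMemClass.coe_inv, SubgroupClass.coe_zpow]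
                          exact (eq_mul_inv_of_mul_eq e).symm)] at h2
      obtain ⟨k, hk⟩ := dvd_of_zpow_mem (p := p) (hPC _ hgp) hgC h1
      refine huP ?_
      rw [← e, hk, zpow_mul, zpow_natCast]
      exact mul_mem (zpow_mem hgp k) hy
    have hle : N ≤ C.map N.subtype := sup_le (fun x hx => ⟨_, hPC x hx, rfl⟩)
      (Subgroup.zpowers_le.2 ⟨_, hgC, rfl⟩)
    refine eq_top_iff.2 fun x _ => ?_
    obtain ⟨x', hx', e'⟩ := hle x.2
    exact Subtype.ext e' ▸ hx'
  rw [hCtop] at hCexp hC3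
  rw [Subgroup.card_top] at hC3
  have hNexp : ∀ x : N, x ^ p = 1 := fun x => hCexp x trivial
  have hNcard : Nat.card N = p ^ 3 := by
    obtain ⟨k, hk⟩ := IsPGroup.iff_card.1 (isPGroup_of_le hS hNS)
    have h1 : Nat.card P < Nat.card N := lt_of_not_ge fun hge =>
      hgP ((eq_of_le_of_card_le hNS le_sup_left hge).ge hgN)
    rw [hPcard, hk] at h1
    rw [hk] at hC3
    have h2 := (Nat.pow_lt_pow_iff_right hp.out.one_lt).1 h1
    have h3 := (Nat.pow_le_pow_iff_right hp.out.one_lt).1 hC3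
    rw [hk, show k = 3 by omega]
  have hNne : N ≠ S := fun hNS' => hnotE ⟨hNS' ▸ hNcard, by
    subst hNS'
    haveI : Nontrivial N := Finite.one_lt_card_iff_nontrivial.1
      (by rw [hNcard]; exact Nat.one_lt_pow (by norm_num) hp.out.one_lt)
    refine ((Nat.dvd_prime hp.out).1 (Monoid.exponent_dvd_of_forall_pow_eq_one hNexp)).resolve_left
      fun h1 => ?_
    exact not_subsingleton N (Monoid.exp_eq_one_iff.1 h1)⟩
  have hNN := not_comm_of_cube (p := p) hrank hNS hNcard hNexp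
  have hne' : ¬ ∀ a b : (⊤ : Subgroup N), a * b = b * a := fun h' => hNN fun a b =>
    congrArg Subtype.val (h' ⟨a, trivial⟩ ⟨b, trivial⟩)
  have htopcard : Nat.card (⊤ : Subgroup N) = p ^ 3 := by rw [Subgroup.card_top, hNcard]
  have htopi : ∀ α ∈ F.autGroup N, ∀ x ∈ (⊤ : Subgroup N), α x ∈ (⊤ : Subgroup N) :=
    fun _ _ _ _ => trivial
  obtain ⟨A, _, _, q, ρ', hA, hA'exp, hqs, hqk, hρ', hinner⟩ :=
    exists_cube_plane (F := F) ⊤ htopi htopcard hne'
  have hker' : ∀ β, ρ' β = 1 → (β : MulAut N) ∈ Inn N := fun β hβ => by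
    obtain ⟨d, hd⟩ := hinner β hβ
    exact ⟨d, MulEquiv.ext fun x => (hd ⟨x, trivial⟩).symm⟩
  have hcN : F.IsCentric N := isCentric_mono hP.1 le_sup_left hNS
  have hrecN : F.IsReceptive N :=
    receptive_of_fullyCentralized p hS hF (isFullyCentralized_of_centric hcN)
  obtain ⟨g', hg', hg'N⟩ :=
    SetLike.exists_of_lt (lt_normalizerIn p hS le_rfl (lt_of_le_of_ne hNS hNne))
  obtain ⟨c', hc'1, hcent'⟩ := exists_plane_centre hcN hA hA'exp ρ' hS
  have hs'1 : ρ' (conjF F hcN.1 ⟨g', hg'⟩) ≠ 1 := fun h1 =>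
    hg'N (mem_of_conjF_one hcN ρ' hker' hg' h1)
  -- the centre of `N` lies in `P`
  let π : N → A := fun x => q ⟨x, trivial⟩
  have hπker : ∀ x : N, π x = 1 → (x : Ω) ∈ P := fun x hx =>
    centralizer_mem_of_centric hP.1 (hNS x.2) fun y hy => by
      have h1 := Subgroup.mem_center_iff.1 ((hqk _).1 hx) ⟨⟨y, Subgroup.mem_sup_left hy⟩, trivial⟩
      exact congrArg (fun z : (⊤ : Subgroup N) => ((z : N) : Ω)) h1
  set e : N := ⟨((f c : W) : P), Subgroup.mem_sup_left ((f c : W) : P).2⟩ with hedef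
  have he1 : π e ≠ 1 := by
    intro h1
    have h2 := Subgroup.mem_center_iff.1 ((hqk _).1 h1) ⟨⟨g, hgN⟩, trivial⟩
    refine hfc (mem_centre_of_fix hW hAexp hc1 (hcent ⟨g, hg⟩) hs1 (Subtype.ext (Subtype.ext ?_)))
    have h3 := congrArg (fun z : (⊤ : Subgroup N) => ((z : N) : Ω)) h2
    change g * (e : Ω) = (e : Ω) * g at h3
    show g * (((f c : W) : P) : Ω) * g⁻¹ = _
    rw [show g * (((f c : W) : P) : Ω) = (((f c : W) : P) : Ω) * g from h3, mul_inv_cancel_right]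
  have hπg : π ⟨g, hgN⟩ ∉ Subgroup.zpowers (π e) := fun hmem => by
    obtain ⟨i, hi⟩ := Subgroup.mem_zpowers_iff.1 hmem
    have h1 : π (⟨g, hgN⟩ * (e ^ i)⁻¹) = 1 := by
      show q (⟨⟨g, hgN⟩, trivial⟩ * ((⟨e, trivial⟩ : (⊤ : Subgroup N)) ^ i)⁻¹) = 1
      rw [map_mul, map_inv, map_zpow]
      exact mul_inv_eq_one.2 hi.symm
    have h2 := mul_mem (hπker _ h1) (zpow_mem (show (e : Ω) ∈ P from ((f c : W) : P).2) i)
    rw [Subgroup.coe_mul, InvMemClass.coe_inv, SubgroupClass.coe_zpow, inv_mul_cancel_right] at h2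
    exact hgP h2
  have hπP : ∀ y : N, (y : Ω) ∈ P → π y ∈ Subgroup.zpowers (π e) := fun y hy => by
    by_contra hne1
    refine cube_not_commute ⊤ hA hA'exp q hqk hqs hne' he1 hne1 (Subtype.ext (Subtype.ext ?_))
    exact congrArg (fun z : P => (z : Ω)) (hab ((f c : W) : P) ⟨y, hy⟩).eq
  have hec : π e ∉ Subgroup.zpowers c' := by
    intro hmem
    obtain ⟨i, hi⟩ := Subgroup.mem_zpowers_iff.1 hmem
    have hfix' : ρ' (conjF F hcN.1 ⟨g', hg'⟩) (π e) = π e := by
      rw [← hi, map_zpow, (hcent' ⟨g', hg'⟩).2.1]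
    have hnorm : g' ∈ Subgroup.normalizer (P : Set Ω) := by
      refine mem_normalizer_of_conj_mem hPS fun x hx => ?_
      set x' : N := ⟨x, Subgroup.mem_sup_left hx⟩
      set y : N := ((conjF F hcN.1 ⟨g', hg'⟩ : F.autGroup N) : MulAut N) x'
      have h1 : π y = π x' := by
        obtain ⟨j, hj⟩ := Subgroup.mem_zpowers_iff.1 (hπP x' hx)
        show q ⟨y, trivial⟩ = π x'
        rw [← hρ' (conjF F hcN.1 ⟨g', hg'⟩) ⟨x', trivial⟩]
        show ρ' _ (π x') = π x'
        rw [← hj, map_zpow, hfix']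
      have h2 : π (y * x'⁻¹) = 1 := by
        show q (⟨y, trivial⟩ * (⟨x', trivial⟩ : (⊤ : Subgroup N))⁻¹) = 1
        rw [map_mul, map_inv, mul_inv_eq_one]
        exact h1
      have h3 := mul_mem (hπker _ h2) hx
      rw [Subgroup.coe_mul, InvMemClass.coe_inv, show ((x' : N) : Ω) = x from rfl,
        inv_mul_cancel_right] at h3
      exact h3
    exact hg'N (hNeq ▸ (⟨hg'.1, hnorm⟩ : g' ∈ normalizerIn S P))
  have hd' : ∀ {β : F.autGroup N} {a₁ b₁ : ℤ} {d : A}, d ∉ Subgroup.zpowers c' →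
      (p : ℤ) ∣ b₁ * a - 1 → ρ' β c' = c' ^ a₁ → ρ' β d = d ^ b₁ → ¬ (p : ℤ) ∣ a₁ * a - 1 →
      ¬ (p : ℤ) ∣ a₁ * a - a₁ → ¬ (p : ℤ) ∣ a₁ * a - a₁ * b₁ → False :=
    fun hd hb₁ h1 h2 h3 h4 h5 => cube_false ⊤ htopi hA hA'exp q hqk hqs hS hp5 hrank hcN hrecN
      htopcard (fun x _ => hNexp x) hne' ρ' hρ' hker' hg' hg'N hc'1 hcent' hd
      (MonoidHom.mem_range.2 ⟨_, rfl⟩) hb₁ h1 h2 h3 h4 h5 fun _ _ _ _ _ => trivial
  have hpa : Prime (p : ℤ) := Int.prime_iff_natAbs_prime.2 (by simpa using hp.out)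
  by_cases hmove : ∃ f' ∈ ρ'.range, f' c' ∉ Subgroup.zpowers c'
  · obtain ⟨f', hf', hfc'⟩ := hmove
    obtain ⟨h', ⟨β, rfl⟩, h1, h2⟩ :=
      exists_diag hA hA'exp hc'1 (hcent' ⟨g', hg'⟩) hs'1 hf' hfc' hab'
    refine hd' hfc' hb h1 h2 ha2 ha1 fun h' => ha2 ?_
    have := dvd_add h' hab'
    rwa [sub_add_sub_cancel] at this
  push Not at hmove
  -- the extension of the torus fixes the line of the shears
  set β : F.autGroup N := ⟨ψ, hψ⟩
  have hβe : ρ' β (π e) = π e ^ b := by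
    show ρ' β (q ⟨e, trivial⟩) = q ⟨e, trivial⟩ ^ b
    rw [hρ', ← map_zpow]
    refine congrArg q (Subtype.ext (Subtype.ext ?_))
    show ((ψ e : N) : Ω) = ((e : N) : Ω) ^ b
    rw [show e = Subgroup.inclusion le_sup_left ((f c : W) : P) from rfl, hψα]
    have h1 : ρ α (f c) = f c ^ b := by rw [hρα]; exact hhd
    exact congrArg (fun z : W => ((z : P) : Ω)) h1
  obtain ⟨l, hl⟩ : ∃ l : ℤ, ρ' β (π ⟨g, hgN⟩) = π ⟨g, hgN⟩ ^ (a * a) * π e ^ l := by
    obtain ⟨l, hl⟩ := Subgroup.mem_zpowers_iff.1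
      (hπP ⟨_, Subgroup.mem_sup_left hψg⟩ hψg)
    refine ⟨l, ?_⟩
    rw [hl]
    show ρ' β (q ⟨_, trivial⟩) = q ⟨_, trivial⟩ ^ (a * a) * q ⟨_, trivial⟩
    rw [hρ', ← map_zpow, ← map_mul]
    refine congrArg q (Subtype.ext (Subtype.ext ?_))
    exact (mul_inv_cancel_left (g ^ (a * a)) _).symm
  obtain ⟨i, j, hij⟩ := plane_decomp hA hA'exp he1 hπg c'
  have hj : ¬ (p : ℤ) ∣ j := by
    intro hdiv
    rw [zpow_congr (hA'exp (π ⟨g, hgN⟩)) (j := 0) (by simpa using hdiv), zpow_zero, mul_one] at hij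
    exact hec (TransvectionCentre.mem_zpowers_swap (orderOf_eq_prime (hA'exp _) he1) ⟨i, hij⟩ hc'1)
  obtain ⟨k, hk⟩ := Subgroup.mem_zpowers_iff.1 (hmove (ρ' β) ⟨β, rfl⟩)
  have hkm : (p : ℤ) ∣ a * a - k := by
    have h1 : π ⟨g, hgN⟩ ^ ((a * a - k) * j) ∈ Subgroup.zpowers (π e) := by
      have h2 : π e ^ (b * i) * (π ⟨g, hgN⟩ ^ (a * a * j) * π e ^ (l * j)) =
          π e ^ (i * k) * π ⟨g, hgN⟩ ^ (j * k) := by
        have h3 := hk
        conv at h3 => lhs; rw [← hij]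
        conv at h3 => rhs; rw [← hij]
        rw [map_mul, map_zpow, map_zpow, hβe, hl, mul_zpow, mul_zpow, ← zpow_mul, ← zpow_mul,
          ← zpow_mul, ← zpow_mul, ← zpow_mul] at h3
        exact h3.symm
      refine ⟨i * k - b * i - l * j, ?_⟩
      show π e ^ (i * k - b * i - l * j) = _
      rw [zpow_sub, zpow_sub, sub_mul, zpow_sub, mul_comm k j]
      generalize π e ^ (b * i) = x₁ at h2 ⊢
      generalize π e ^ (l * j) = x₂ at h2 ⊢
      generalize π e ^ (i * k) = x₃ at h2 ⊢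
      generalize π ⟨g, hgN⟩ ^ (a * a * j) = y₁ at h2 ⊢
      generalize π ⟨g, hgN⟩ ^ (j * k) = y₂ at h2 ⊢
      rw [eq_mul_inv_iff_mul_eq]
      calc x₃ * x₁⁻¹ * x₂⁻¹ * y₂ = x₃ * y₂ * (x₁ * x₂)⁻¹ := by
            rw [mul_inv, ← mul_assoc, mul_right_comm x₃ y₂, mul_right_comm (x₃ * x₁⁻¹) y₂]
        _ = x₁ * (y₁ * x₂) * (x₁ * x₂)⁻¹ := by rw [h2]
        _ = y₁ := by rw [mul_left_comm x₁, mul_inv_cancel_right]
    have h4 := dvd_of_zpow_mem (p := p) (x := π ⟨g, hgN⟩)
      (by rw [hA'exp]; exact one_mem _) hπg h1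
    exact (hpa.dvd_or_dvd h4).resolve_right hj
  have hβc : ρ' β c' = c' ^ (a * a) := by
    rw [← hk]
    exact (zpow_congr (hA'exp c') hkm).symm
  refine hd' hec hb hβc hβe ha3 (fun h' => ?_) fun h' => ?_
  · rw [show a * a * a - a * a = a * (a * a - a) by ring] at h'
    exact ha1 ((hpa.dvd_or_dvd h').resolve_left ha)
  · have h5 : (p : ℤ) ∣ a * (a * a - 1) := by
      have e : a * (a * a - 1) = (a * a * a - a * a * b) + a * (a * b - 1) := by ring
      rw [e]
      exact dvd_add h' (dvd_mul_of_dvd_right hab' a)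
    exact ha2 ((hpa.dvd_or_dvd h5).resolve_left ha)

include hS hF hp5 hrank in
/-- There are no essential subgroups. -/
theorem not_essential_of_rank_two (hnotE : ¬ (Nat.card S = p ^ 3 ∧ Monoid.exponent ↥S = p))
    {P : Subgroup Ω} (hP : F.IsEssential p P) : False := by
  classical
  have hPS := hP.1.1
  have := finite_of_le hPS
  have : Finite (MulAut P) := finite_mulAut
  have hPp := isPGroup_of_le hS hPS
  obtain ⟨hexp, hle⟩ := omega_bound hS hp5 hrank P hPS
  obtain ⟨j, hj⟩ := IsPGroup.iff_card.1 (hPp.to_subgroup (Subgroup.closure {x : P | x ^ p = 1}))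
  have hj3 : j ≤ 3 := (Nat.pow_le_pow_iff_right hp.out.one_lt).1 (hj ▸ hle)
  rcases (show j = 3 ∨ j = 2 ∨ j ≤ 1 by omega) with rfl | rfl | hj1
  · exact essential_false_cube hS hF hp5 hrank hP hj
  · exact essential_false_square hS hF hp5 hrank hP hnotE hj
  set W := Subgroup.closure {x : P | x ^ p = 1}
  obtain ⟨g, hg, hgP⟩ := SetLike.exists_of_lt (lt_normalizerIn p hS le_rfl (essential_lt p hS hF hP))
  have hWi : ∀ (α : MulAut P), ∀ x ∈ W, α x ∈ W := fun α x hx =>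
    Subgroup.subset_closure (show (α x) ^ p = 1 by rw [← map_pow, hexp x hx, map_one])
  let r : F.autGroup P →* MulAut W :=
    CfsgLib.Coprime.restrictAut (F.autGroup P).subtype W fun a x hx => hWi _ x hx
  have hKp : IsPGroup p r.ker := by
    rintro ⟨α, hα⟩
    obtain ⟨n, hn⟩ := exists_primePow_eq_one (p := p) (by omega) hPp (α := (α : MulAut P))
      fun x hx => by
        have h := DFunLike.congr_fun hα (⟨x, Subgroup.subset_closure hx⟩ : W)
        exact congrArg Subtype.val h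
    exact ⟨n, Subtype.ext (Subtype.ext hn)⟩
  refine hgP ((inn_mem_iff hP.1 hg.1 fun _ => rfl).1
    (mem_inn_of_normal hS hP hKp (?_ : conjF F hP.1.1 ⟨g, hg⟩ ∈ r.ker)))
  rw [MonoidHom.mem_ker]
  refine MulEquiv.ext fun w => ?_
  rcases (show j = 0 ∨ j = 1 by omega) with rfl | rfl
  · haveI := (Nat.card_eq_one_iff_unique.1 (hj.trans (pow_zero p))).1
    exact Subsingleton.elim _ _
  rw [pow_one] at hj
  have hT : IsPGroup p (r.comp (conjF F hP.1.1)).range :=
    (isPGroup_of_le hS (normalizerIn_le_S P)).of_surjective _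
      (r.comp (conjF F hP.1.1)).rangeRestrict_surjective
  obtain ⟨c, hc, hc1⟩ := hT.exists_fixed_point_of_prime_dvd_card_of_fixed_point W (hj ▸ dvd_rfl)
    (a := (1 : W)) (fun γ => map_one (γ : MulAut W))
  obtain ⟨i, rfl⟩ := Subgroup.mem_zpowers_iff.1 (mem_zpowers_of_prime_card hj hc1.symm (g' := w))
  rw [map_zpow, MulAut.one_apply,
    show r (conjF F hP.1.1 ⟨g, hg⟩) c = c from hc ⟨_, ⟨g, hg⟩, rfl⟩]

end main

end CfsgLib.Fusion
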