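import Cfsg.Agent.Fusion.SimpleRadicals
import Cfsg.Agent.AutPSL.Unipotent

/-!
The fusion system of `PSL_n(q)`, `n ≥ 3`, in the defining characteristic is simple.
-/

set_option autoImplicit false
set_option linter.style.haveILetI false

open Matrix

namespace CfsgLib.Fusion.PSLChar

open CfsgLib.AutPSL

variable {F : Type*} [Field F] [Finite F] {n : ℕ}

local notation "SLn" => Matrix.SpecialLinearGroup (Fin n) F
local notation "PSLn" => Matrix.ProjectiveSpecialLinearGroup (Fin n) F

/-- The class of an element. -/
local notation "π" => (QuotientGroup.mk' (Subgroup.center (Matrix.SpecialLinearGroup (Fin n) F)))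

/-- The row vector `e_i` against the column vector `e_j`, as a root flag. -/
def rowFlag (i : Fin n) (w : Fin n → F) (hw : w i = 0) (hw0 : w ≠ 0) : Flag F n where
  pt := Pi.single i 1
  hyp := w
  pt_ne := Pi.single_ne_zero_iff.mpr one_ne_zero
  hyp_ne := hw0
  orth := by simp [hw]

omit [Finite F] in
theorem coe_transvec {i j : Fin n} (h : i ≠ j) (c : F) :
    ((Matrix.SpecialLinearGroup.transvection h c : SLn) : Matrix (Fin n) (Fin n) F) =
      1 + c • Matrix.vecMulVec (Pi.single i 1) (Pi.single j 1) := by
  rw [CfsgLib.Linear.transvec_coe]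
  ext a b
  simp [Matrix.transvection, Matrix.single_apply, Matrix.vecMulVec_apply, Pi.single_apply]
  by_cases ha : a = i <;> by_cases hb : b = j <;> simp [ha, hb, eq_comm] <;> simp_all [eq_comm]

theorem transvec_mem_unitri {i j : Fin n} (h : i < j) (c : F) :
    (Matrix.SpecialLinearGroup.transvection h.ne c : SLn) ∈ unitriSL F n := by
  constructor
  · intro a
    simp only [coe_transvec, Matrix.add_apply, Matrix.smul_apply, Matrix.vecMulVec_apply,
      Pi.single_apply, Matrix.one_apply_eq, smul_eq_mul]
    by_cases ha : a = i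
    · subst ha; simp [h.ne]
    · simp [ha]
  · intro a b hba
    simp only [coe_transvec, Matrix.add_apply, Matrix.smul_apply, Matrix.vecMulVec_apply,
      Pi.single_apply, Matrix.one_apply_ne (ne_of_gt hba), smul_eq_mul]
    by_cases ha : a = i
    · subst ha
      simp [ne_of_lt (hba.trans h)]
    · simp [ha]

omit [Finite F] in
theorem transvec_pow {p : ℕ} [CharP F p] {i j : Fin n} (h : i ≠ j) (c : F) :
    (Matrix.SpecialLinearGroup.transvection h c : SLn) ^ p = 1 := by
  have hX : ∀ k : ℕ, (Matrix.SpecialLinearGroup.transvection h c : SLn) ^ k =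
      Matrix.SpecialLinearGroup.transvection h ((k : F) * c) := by
    intro k
    induction k with
    | zero => exact Subtype.ext (by simp [coe_transvec])
    | succ k ih =>
      rw [pow_succ, ih]
      refine Subtype.ext ?_
      simp only [Matrix.SpecialLinearGroup.coe_mul, coe_transvec, mul_add, add_mul, mul_one, one_mul,
        Matrix.smul_mul, Matrix.mul_smul, vmv_mul_vmv, single_dotProduct]
      simp [h.symm, add_mul, add_smul, add_comm, add_left_comm]
  rw [hX, CharP.cast_eq_zero, zero_mul]
  exact Subtype.ext (by simp [coe_transvec])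

theorem eq_of_mk {p : ℕ} [Fact p.Prime] [CharP F p] {A B : SLn} (hA : A ^ p = 1) (hB : B ^ p = 1)
    (h : π A = π B) : A = B :=
  AutPSL.eq_of_mk_eq p hA hB h

/-- Commuting modulo the centre with a transvection means commuting. -/
theorem comm_transvec {p : ℕ} [Fact p.Prime] [CharP F p] (s : SLn) {i j : Fin n} (h : i ≠ j) (c : F)
    (hs : π s * π (Matrix.SpecialLinearGroup.transvection h c) =
      π (Matrix.SpecialLinearGroup.transvection h c) * π s) :
    s * Matrix.SpecialLinearGroup.transvection h c =
      Matrix.SpecialLinearGroup.transvection h c * s := by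
  refine mul_inv_eq_iff_eq_mul.1 (eq_of_mk (p := p) ?_ (transvec_pow h c) ?_)
  · rw [conj_pow, transvec_pow, mul_one, mul_inv_cancel]
  · rw [map_mul, map_mul, map_inv, hs, mul_inv_cancel_right]

omit [Finite F] in
/-- The monomial conjugation between coordinate transvections. -/
theorem exists_monomial (hn : 3 ≤ n) {i j k l : Fin n} (hij : i ≠ j) (hkl : k ≠ l) {c d : F}
    (hc : c ≠ 0) (hd : d ≠ 0) : ∃ g : SLn, g * Matrix.SpecialLinearGroup.transvection hij c * g⁻¹ =
      Matrix.SpecialLinearGroup.transvection hkl d := by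
  obtain ⟨σ, hi, hj⟩ : ∃ σ : Equiv.Perm (Fin n), σ i = k ∧ σ j = l := by
    refine ⟨(Equiv.swap i k).trans (Equiv.swap (Equiv.swap i k j) l), ?_, by simp⟩
    rw [Equiv.trans_apply, Equiv.swap_apply_left]
    refine Equiv.swap_apply_of_ne_of_ne (fun e => hij ?_) hkl
    exact (Equiv.swap i k).injective ((Equiv.swap_apply_left i k).trans e)
  obtain ⟨t, hti, htj⟩ : ∃ t : Fin n, t ≠ i ∧ t ≠ j := by
    by_contra hcon
    push Not at hcon
    have : (Finset.univ : Finset (Fin n)) ⊆ {i, j} := fun x _ => by
      by_cases hx : x = i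
      · simp [hx]
      · simp [hcon x hx]
    have h1 := (Finset.card_le_card this).trans Finset.card_le_two
    simp at h1
    omega
  have hε : ((Equiv.Perm.sign σ : ℤˣ) : ℤ) = 1 ∨ ((Equiv.Perm.sign σ : ℤˣ) : ℤ) = -1 := by
    rcases Int.units_eq_one_or (Equiv.Perm.sign σ) with h | h <;> simp [h]
  set ε : F := (((Equiv.Perm.sign σ : ℤˣ) : ℤ) : F) with hεdef
  have hεsq : ε * ε = 1 := by
    rcases hε with h | h <;> simp [hεdef, h]
  set v : Fin n → F := fun x => if x = i then d / c else if x = t then ε / (d / c) else 1 with hv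
  have hprod : ∏ x, v x = ε := by
    rw [← Finset.mul_prod_erase Finset.univ v (Finset.mem_univ i),
      ← Finset.mul_prod_erase _ v (Finset.mem_erase.2 ⟨hti, Finset.mem_univ t⟩),
      Finset.prod_eq_one (fun x hx => by
        obtain ⟨hxt, hxi⟩ := by simpa [Finset.mem_erase] using hx
        simp [hv, hxt, hxi])]
    simp only [hv, if_pos, if_neg hti, mul_one]
    field_simp
  set M : Matrix (Fin n) (Fin n) F := (Matrix.diagonal v).submatrix σ.symm id with hM
  have hdet : M.det = 1 := by
    rw [hM, Matrix.det_permute, Matrix.det_diagonal, hprod, Equiv.Perm.sign_symm]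
    exact hεsq
  refine ⟨⟨M, hdet⟩, mul_inv_eq_iff_eq_mul.2 (Subtype.ext ?_)⟩
  show M * ((Matrix.SpecialLinearGroup.transvection hij c : SLn) : Matrix (Fin n) (Fin n) F) =
    ((Matrix.SpecialLinearGroup.transvection hkl d : SLn) : Matrix (Fin n) (Fin n) F) * M
  rw [coe_transvec, coe_transvec]
  rw [mul_add, add_mul, mul_one, one_mul, Matrix.mul_smul, Matrix.smul_mul, Matrix.mul_vecMulVec,
    Matrix.vecMulVec_mul]
  congr 1
  ext a b
  simp only [Matrix.smul_apply, Matrix.vecMulVec_apply, Matrix.mulVec_single_one,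
    Matrix.single_one_vecMul, hM, Matrix.submatrix_apply, id_eq, Matrix.diagonal_apply,
    Pi.single_apply, smul_eq_mul, Matrix.col_apply, Matrix.row_apply]
  by_cases ha : a = k
  · subst ha
    rw [if_pos (by rw [← hi, Equiv.symm_apply_apply]), if_pos rfl,
      show σ.symm l = j by rw [← hj, Equiv.symm_apply_apply]]
    by_cases hb : b = j
    · subst hb
      simp [hv, hi.symm, hij.symm, htj.symm]
      field_simp
    · simp [hb, Ne.symm hb]
  · have hne : σ.symm a ≠ i := fun e => ha (by rw [← hi, ← e, Equiv.apply_symm_apply])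
    simp [ha, hne]

/-- The radical of the stabilizer of a point. -/
def rowRad (i₀ : Fin n) : Subgroup SLn where
  carrier := {s | ∀ a b, a ≠ i₀ ∨ b = i₀ → (s : Matrix (Fin n) (Fin n) F) a b =
    (1 : Matrix (Fin n) (Fin n) F) a b}
  mul_mem' := fun {s t} hs ht a b hab => by
    rw [Matrix.SpecialLinearGroup.coe_mul, Matrix.mul_apply]
    by_cases ha : a = i₀
    · subst ha
      obtain rfl := hab.resolve_left (by simp)
      rw [Finset.sum_eq_single b (fun x _ hx => by
        rw [ht x b (Or.inl hx), Matrix.one_apply_ne hx, mul_zero]) (by simp),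
        hs b b (Or.inr rfl), ht b b (Or.inr rfl), Matrix.one_apply_eq, one_mul]
    · rw [Finset.sum_eq_single a (fun x _ hx => by
        rw [hs a x (Or.inl ha), Matrix.one_apply_ne (Ne.symm hx), zero_mul]) (by simp),
        hs a a (Or.inl ha), ht a b (Or.inl ha), Matrix.one_apply_eq, one_mul]
  one_mem' := fun a b _ => by simp
  inv_mem' := fun {s} hs => by
    have hpow : ∀ k : ℕ, ∀ a b, a ≠ i₀ ∨ b = i₀ → ((s ^ k : SLn) : Matrix (Fin n) (Fin n) F) a b =
        (1 : Matrix (Fin n) (Fin n) F) a b := by
      intro k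
      induction k with
      | zero => intro a b _; simp
      | succ k ih =>
        intro a b hab
        rw [pow_succ, Matrix.SpecialLinearGroup.coe_mul, Matrix.mul_apply]
        by_cases ha : a = i₀
        · subst ha
          obtain rfl := hab.resolve_left (by simp)
          rw [Finset.sum_eq_single b (fun x _ hx => by
            rw [hs x b (Or.inl hx), Matrix.one_apply_ne hx, mul_zero]) (by simp),
            ih b b (Or.inr rfl), hs b b (Or.inr rfl), Matrix.one_apply_eq, one_mul]
        · rw [Finset.sum_eq_single a (fun x _ hx => by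
            rw [ih a x (Or.inl ha), Matrix.one_apply_ne (Ne.symm hx), zero_mul]) (by simp),
            ih a a (Or.inl ha), hs a b (Or.inl ha), Matrix.one_apply_eq, one_mul]
    have : s⁻¹ = s ^ (orderOf s - 1) := by
      rw [inv_eq_iff_mul_eq_one, ← pow_succ', Nat.sub_add_cancel (orderOf_pos s), pow_orderOf_eq_one]
    show ∀ a b, _
    rw [this]
    exact hpow _

/-- The radical of the stabilizer of a hyperplane. -/
def colRad (j₀ : Fin n) : Subgroup SLn where
  carrier := {s | ∀ a b, b ≠ j₀ ∨ a = j₀ → (s : Matrix (Fin n) (Fin n) F) a b =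
    (1 : Matrix (Fin n) (Fin n) F) a b}
  mul_mem' := fun {s t} hs ht a b hab => by
    rw [Matrix.SpecialLinearGroup.coe_mul, Matrix.mul_apply]
    by_cases hb : b = j₀
    · subst hb
      obtain rfl := hab.resolve_left (by simp)
      rw [Finset.sum_eq_single a (fun x _ hx => by
        rw [hs a x (Or.inl hx), Matrix.one_apply_ne (Ne.symm hx), zero_mul]) (by simp),
        hs a a (Or.inr rfl), ht a a (Or.inr rfl), Matrix.one_apply_eq, one_mul]
    · rw [Finset.sum_eq_single b (fun x _ hx => by
        rw [ht x b (Or.inl hb), Matrix.one_apply_ne hx, mul_zero]) (by simp),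
        hs a b (Or.inl hb), ht b b (Or.inl hb), Matrix.one_apply_eq, mul_one]
  one_mem' := fun a b _ => by simp
  inv_mem' := fun {s} hs => by
    have hpow : ∀ k : ℕ, ∀ a b, b ≠ j₀ ∨ a = j₀ → ((s ^ k : SLn) : Matrix (Fin n) (Fin n) F) a b =
        (1 : Matrix (Fin n) (Fin n) F) a b := by
      intro k
      induction k with
      | zero => intro a b _; simp
      | succ k ih =>
        intro a b hab
        rw [pow_succ, Matrix.SpecialLinearGroup.coe_mul, Matrix.mul_apply]
        by_cases hb : b = j₀
        · subst hb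
          obtain rfl := hab.resolve_left (by simp)
          rw [Finset.sum_eq_single a (fun x _ hx => by
            rw [ih a x (Or.inl hx), Matrix.one_apply_ne (Ne.symm hx), zero_mul]) (by simp),
            ih a a (Or.inr rfl), hs a a (Or.inr rfl), Matrix.one_apply_eq, one_mul]
        · rw [Finset.sum_eq_single b (fun x _ hx => by
            rw [hs x b (Or.inl hb), Matrix.one_apply_ne hx, mul_zero]) (by simp),
            ih a b (Or.inl hb), hs b b (Or.inl hb), Matrix.one_apply_eq, mul_one]
    have : s⁻¹ = s ^ (orderOf s - 1) := by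
      rw [inv_eq_iff_mul_eq_one, ← pow_succ', Nat.sub_add_cancel (orderOf_pos s), pow_orderOf_eq_one]
    show ∀ a b, _
    rw [this]
    exact hpow _

/-- `g` normalizes `H` when it conjugates `H` into itself. -/
theorem mem_normalizer_of_le {G : Type*} [Group G] [Finite G] {H : Subgroup G} {g : G}
    (h : ∀ x ∈ H, g * x * g⁻¹ ∈ H) : g ∈ Subgroup.normalizer (H : Set G) := by
  have heq : H.map (MulAut.conj g).toMonoidHom = H :=
    Subgroup.eq_of_le_of_card_ge (by rintro _ ⟨x, hx, rfl⟩; exact h x hx)
      (le_of_eq (Subgroup.card_map_of_injective (MulAut.conj g).injective).symm)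
  rw [Subgroup.mem_normalizer_iff]
  intro x
  conv_rhs => rw [← heq]
  exact ⟨fun hx => ⟨x, hx, rfl⟩, fun ⟨y, hy, e⟩ => (MulAut.conj g).injective e ▸ hy⟩

theorem map_normalizer_le {H : Subgroup SLn} {g : SLn} (h : ∀ x ∈ H, g * x * g⁻¹ ∈ H) :
    π g ∈ Subgroup.normalizer ((H.map π : Subgroup PSLn) : Set PSLn) :=
  mem_normalizer_of_le fun _ ⟨x, hx, e⟩ =>
    ⟨g * x * g⁻¹, h x hx, by rw [map_mul, map_mul, map_inv, e]⟩

omit [Finite F] in
theorem sum_transvec {i j : Fin n} (h : i ≠ j) (c : F) (M : Matrix (Fin n) (Fin n) F) (a b : Fin n) :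
    (((Matrix.SpecialLinearGroup.transvection h c : SLn) : Matrix (Fin n) (Fin n) F) * M) a b =
      M a b + if a = i then c * M j b else 0 := by
  rw [coe_transvec, Matrix.add_mul, Matrix.one_mul, Matrix.smul_mul, Matrix.vecMulVec_mul,
    Matrix.single_one_vecMul]
  by_cases ha : a = i <;>
    simp [ha, Matrix.vecMulVec_apply, Matrix.row_apply, Pi.single_apply]

omit [Finite F] in
theorem sum_transvec' {i j : Fin n} (h : i ≠ j) (c : F) (M : Matrix (Fin n) (Fin n) F) (a b : Fin n) :
    (M * ((Matrix.SpecialLinearGroup.transvection h c : SLn) : Matrix (Fin n) (Fin n) F)) a b =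
      M a b + if b = j then c * M a i else 0 := by
  rw [coe_transvec, Matrix.mul_add, Matrix.mul_one, Matrix.mul_smul, Matrix.mul_vecMulVec,
    Matrix.mulVec_single_one]
  by_cases hb : b = j <;>
    simp [hb, Matrix.vecMulVec_apply, Matrix.col_apply, Pi.single_apply]

omit [Finite F] in
theorem transvec_inv {i j : Fin n} (h : i ≠ j) (c : F) :
    (Matrix.SpecialLinearGroup.transvection h c : SLn)⁻¹ =
      Matrix.SpecialLinearGroup.transvection h (-c) :=
  Matrix.SpecialLinearGroup.transvection_inv h c

theorem transvec_normalizes_row {i₀ i j : Fin n} (h : i ≠ j) (hi : i ≠ i₀) (hj : j ≠ i₀) (c : F) :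
    ∀ x ∈ rowRad (F := F) i₀, Matrix.SpecialLinearGroup.transvection h c * x *
      (Matrix.SpecialLinearGroup.transvection h c)⁻¹ ∈ rowRad (F := F) i₀ := by
  intro x hx a b hab
  rw [transvec_inv, Matrix.SpecialLinearGroup.coe_mul, sum_transvec', Matrix.SpecialLinearGroup.coe_mul,
    sum_transvec, sum_transvec]
  by_cases ha : a = i₀
  · have hbi : b = i₀ := hab.resolve_left (not_not_intro ha)
    subst ha
    subst hbi
    rw [if_neg hi.symm, if_neg hi.symm, if_neg hj.symm, hx _ _ (Or.inr rfl)]
    simp
  · rw [hx a b (Or.inl ha), hx j b (Or.inl hj), hx a i (Or.inl ha), hx j i (Or.inl hj)]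
    by_cases hai : a = i <;> by_cases hbj : b = j <;>
      simp_all [Matrix.one_apply, eq_comm]

theorem transvec_normalizes_col {j₀ i j : Fin n} (h : i ≠ j) (hi : i ≠ j₀) (hj : j ≠ j₀) (c : F) :
    ∀ x ∈ colRad (F := F) j₀, Matrix.SpecialLinearGroup.transvection h c * x *
      (Matrix.SpecialLinearGroup.transvection h c)⁻¹ ∈ colRad (F := F) j₀ := by
  intro x hx a b hab
  rw [transvec_inv, Matrix.SpecialLinearGroup.coe_mul, sum_transvec', Matrix.SpecialLinearGroup.coe_mul,
    sum_transvec, sum_transvec]
  by_cases hb : b = j₀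
  · have hai : a = j₀ := hab.resolve_left (not_not_intro hb)
    subst hb
    subst hai
    rw [if_neg hi.symm, if_neg hi.symm, if_neg hj.symm, hx _ _ (Or.inr rfl)]
    simp
  · rw [hx a b (Or.inl hb), hx j b (Or.inl hb), hx a i (Or.inl hi), hx j i (Or.inl hi)]
    by_cases hai : a = i <;> by_cases hbj : b = j <;>
      simp_all [Matrix.one_apply, eq_comm]

/-- An element which is a scalar times an element of a subgroup. -/
theorem mk_mem_of_smul {H : Subgroup SLn} (s : SLn) {α : F} (hα : α ^ n = 1)
    (h : ∀ r : SLn, (r : Matrix (Fin n) (Fin n) F) = α⁻¹ • (s : Matrix (Fin n) (Fin n) F) → r ∈ H)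
    (hn : 0 < n) : π s ∈ H.map π := by
  have hα0 : α ≠ 0 := fun e => by rw [e, zero_pow hn.ne'] at hα; exact zero_ne_one hα
  let r : SLn := ⟨α⁻¹ • (s : Matrix (Fin n) (Fin n) F), by
    rw [Matrix.det_smul, s.2, mul_one, Fintype.card_fin, inv_pow, hα, inv_one]⟩
  refine ⟨r, h r rfl, QuotientGroup.eq.2 ?_⟩
  rw [Matrix.SpecialLinearGroup.mem_center_iff]
  refine ⟨α, by rw [Fintype.card_fin]; exact hα, ?_⟩
  have h1 : ((r⁻¹ : SLn) : Matrix (Fin n) (Fin n) F) * (r : Matrix (Fin n) (Fin n) F) = 1 := by
    rw [← Matrix.SpecialLinearGroup.coe_mul, inv_mul_cancel, Matrix.SpecialLinearGroup.coe_one]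
  rw [show (r : Matrix (Fin n) (Fin n) F) = α⁻¹ • (s : Matrix (Fin n) (Fin n) F) from rfl,
    Matrix.mul_smul] at h1
  rw [Matrix.SpecialLinearGroup.coe_mul, Matrix.scalar_apply, ← Matrix.smul_one_eq_diagonal, ← h1,
    smul_smul, mul_inv_cancel₀ hα0, one_smul]

theorem centralizer_row {p : ℕ} [Fact p.Prime] [CharP F p] (hn : 3 ≤ n) (x : PSLn)
    (hx : ∀ r ∈ (rowRad (F := F) (⟨0, by omega⟩ : Fin n)).map π, x * r = r * x) :
    x ∈ (rowRad (F := F) (⟨0, by omega⟩ : Fin n)).map π := by
  obtain ⟨s, rfl⟩ := QuotientGroup.mk'_surjective _ x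
  set o : Fin n := ⟨0, by omega⟩ with ho
  have hcomm : ∀ (j : Fin n) (h : o ≠ j) (a b : Fin n),
      (if b = j then (s : Matrix (Fin n) (Fin n) F) a o else 0) =
        if a = o then (s : Matrix (Fin n) (Fin n) F) j b else 0 := by
    intro j h a b
    have hmem : (Matrix.SpecialLinearGroup.transvection h 1 : SLn) ∈ rowRad (F := F) o := by
      intro a b hab
      simp only [coe_transvec, one_smul, Matrix.add_apply, Matrix.vecMulVec_apply, Pi.single_apply]
      rcases hab with hab | hab
      · simp [hab]
      · simp [hab, h]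
    have h1 := congrArg (fun M : SLn => (M : Matrix (Fin n) (Fin n) F) a b)
      (comm_transvec (p := p) s h 1 (hx _ ⟨_, hmem, rfl⟩))
    simp only [Matrix.SpecialLinearGroup.coe_mul, sum_transvec, sum_transvec', one_mul] at h1
    exact add_left_cancel h1
  set α := (s : Matrix (Fin n) (Fin n) F) o o
  have hzero : ∀ j b : Fin n, j ≠ o → b ≠ j → (s : Matrix (Fin n) (Fin n) F) j b = 0 := fun j b hj hb => by
    simpa [hb] using (hcomm j hj.symm o b).symm
  have hdiag : ∀ j : Fin n, (s : Matrix (Fin n) (Fin n) F) j j = α := fun j => by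
    by_cases hj : j = o
    · subst hj; rfl
    · simpa [α] using (hcomm j (Ne.symm hj) o j).symm
  have hdet : α ^ n = 1 := by
    have h1 := s.2
    rw [Matrix.det_of_isUpperTriangular (fun a b (hba : b < a) =>
      hzero a b (fun e => by rw [e] at hba; exact absurd hba (by simp [ho, Fin.lt_def]))
        (ne_of_lt hba))] at h1
    simpa [hdiag] using h1
  refine mk_mem_of_smul s hdet (fun r hr a b hab => ?_) (by omega)
  have hα0 : α ≠ 0 := fun e => by rw [e, zero_pow (by omega)] at hdet; exact zero_ne_one hdet
  rw [hr, Matrix.smul_apply, smul_eq_mul]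
  by_cases hab' : a = b
  · subst hab'
    rw [hdiag, inv_mul_cancel₀ hα0, Matrix.one_apply_eq]
  · rw [Matrix.one_apply_ne hab']
    rcases hab with ha | hb
    · rw [hzero a b ha (Ne.symm hab'), mul_zero]
    · have hao : a ≠ o := fun e => hab' (e.trans hb.symm)
      rw [hzero a b hao (Ne.symm hab'), mul_zero]

theorem centralizer_col {p : ℕ} [Fact p.Prime] [CharP F p] (hn : 3 ≤ n) (x : PSLn)
    (hx : ∀ r ∈ (colRad (F := F) (⟨n - 1, by omega⟩ : Fin n)).map π, x * r = r * x) :
    x ∈ (colRad (F := F) (⟨n - 1, by omega⟩ : Fin n)).map π := by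
  obtain ⟨s, rfl⟩ := QuotientGroup.mk'_surjective _ x
  set o : Fin n := ⟨n - 1, by omega⟩ with ho
  have hcomm : ∀ (j : Fin n) (h : j ≠ o) (a b : Fin n),
      (if b = o then (s : Matrix (Fin n) (Fin n) F) a j else 0) =
        if a = j then (s : Matrix (Fin n) (Fin n) F) o b else 0 := by
    intro j h a b
    have hmem : (Matrix.SpecialLinearGroup.transvection h 1 : SLn) ∈ colRad (F := F) o := by
      intro a b hab
      simp only [coe_transvec, one_smul, Matrix.add_apply, Matrix.vecMulVec_apply, Pi.single_apply]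
      rcases hab with hab | hab
      · simp [hab]
      · simp [hab, h.symm]
    have h1 := congrArg (fun M : SLn => (M : Matrix (Fin n) (Fin n) F) a b)
      (comm_transvec (p := p) s h 1 (hx _ ⟨_, hmem, rfl⟩))
    simp only [Matrix.SpecialLinearGroup.coe_mul, sum_transvec, sum_transvec', one_mul] at h1
    exact add_left_cancel h1
  set α := (s : Matrix (Fin n) (Fin n) F) o o
  have hzero : ∀ a j : Fin n, j ≠ o → a ≠ j → (s : Matrix (Fin n) (Fin n) F) a j = 0 := fun a j hj ha => by
    simpa [ha] using hcomm j hj a o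
  have hdiag : ∀ j : Fin n, (s : Matrix (Fin n) (Fin n) F) j j = α := fun j => by
    by_cases hj : j = o
    · subst hj; rfl
    · simpa [α] using hcomm j hj j o
  have hdet : α ^ n = 1 := by
    have h1 := s.2
    rw [Matrix.det_of_isUpperTriangular (fun a b (hba : b < a) =>
      hzero a b (fun e => by
        have : (b : ℕ) < a := hba
        have : (b : ℕ) = n - 1 := congrArg Fin.val e
        omega) (ne_of_gt hba))] at h1
    simpa [hdiag] using h1
  refine mk_mem_of_smul s hdet (fun r hr a b hab => ?_) (by omega)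
  have hα0 : α ≠ 0 := fun e => by rw [e, zero_pow (by omega)] at hdet; exact zero_ne_one hdet
  rw [hr, Matrix.smul_apply, smul_eq_mul]
  by_cases hab' : a = b
  · subst hab'
    rw [hdiag, inv_mul_cancel₀ hα0, Matrix.one_apply_eq]
  · rw [Matrix.one_apply_ne hab']
    rcases hab with hb | ha
    · rw [hzero a b hb hab', mul_zero]
    · have hbo : b ≠ o := fun e => hab' (ha.trans e.symm)
      rw [hzero a b hbo hab', mul_zero]

theorem rowRad_le (hn : 0 < n) : rowRad (F := F) (⟨0, hn⟩ : Fin n) ≤ unitriSL F n := by
  intro s hs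
  refine ⟨fun a => ?_, fun a b hba => ?_⟩
  · by_cases ha : a = ⟨0, hn⟩
    · rw [hs a a (Or.inr ha), Matrix.one_apply_eq]
    · rw [hs a a (Or.inl ha), Matrix.one_apply_eq]
  · rw [hs a b (Or.inl fun e => by rw [e] at hba; simp [Fin.lt_def] at hba),
      Matrix.one_apply_ne (ne_of_gt hba)]

theorem colRad_le (hn : 0 < n) : colRad (F := F) (⟨n - 1, by omega⟩ : Fin n) ≤ unitriSL F n := by
  intro s hs
  refine ⟨fun a => ?_, fun a b hba => ?_⟩
  · by_cases ha : a = ⟨n - 1, by omega⟩
    · rw [hs a a (Or.inr ha), Matrix.one_apply_eq]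
    · rw [hs a a (Or.inl ha), Matrix.one_apply_eq]
  · rw [hs a b (Or.inl fun e => by
      have : (b : ℕ) < a := hba
      have : (b : ℕ) = n - 1 := congrArg Fin.val e
      omega), Matrix.one_apply_ne (ne_of_gt hba)]

omit [Finite F] in
/-- Upper unitriangular elements lie in every subgroup containing the upper transvections. -/
theorem mem_of_transvections {T : Subgroup SLn}
    (hT : ∀ (i j : Fin n) (h : i < j) (c : F), Matrix.SpecialLinearGroup.transvection h.ne c ∈ T)
    (s : SLn) (hs : IsUnitri s) : s ∈ T := by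
  have key : ∀ m : ℕ, ∀ s : SLn, IsUnitri s →
      (∀ a b : Fin n, m ≤ a → (s : Matrix (Fin n) (Fin n) F) a b = (1 : Matrix (Fin n) (Fin n) F) a b) →
      s ∈ T := by
    intro m
    induction m with
    | zero =>
      intro s _ h
      have : s = 1 := Subtype.ext (Matrix.ext fun a b => h a b (Nat.zero_le _))
      rw [this]; exact one_mem _
    | succ m ih =>
      intro s hs h
      by_cases hm : m < n
      swap
      · exact ih s hs fun a b hab => absurd a.2 (by omega)
      set k : Fin n := ⟨m, hm⟩
      -- clear the row `k` one column at a time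
      have col : ∀ J : Finset (Fin n), (∀ j ∈ J, k < j) → ∀ s : SLn, IsUnitri s →
          (∀ a b : Fin n, m + 1 ≤ a → (s : Matrix (Fin n) (Fin n) F) a b =
            (1 : Matrix (Fin n) (Fin n) F) a b) →
          (∀ b, k < b → b ∉ J → (s : Matrix (Fin n) (Fin n) F) k b = 0) → s ∈ T := by
        intro J
        induction J using Finset.induction_on with
        | empty =>
          intro _ s hs h h0
          refine ih s hs fun a b hab => ?_
          by_cases hak : a = k
          · subst hak
            rcases lt_trichotomy b k with hb | hb | hb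
            · rw [hs.2 _ b hb, Matrix.one_apply_ne (ne_of_gt hb)]
            · rw [hb, hs.1, Matrix.one_apply_eq]
            · rw [h0 b hb (Finset.notMem_empty b), Matrix.one_apply_ne (ne_of_lt hb)]
          · exact h a b (by
              have : (a : ℕ) ≠ m := fun e => hak (Fin.ext e)
              omega)
        | insert j J hj ihJ =>
          intro hJ s hs h h0
          have hkj := hJ j (Finset.mem_insert_self _ _)
          set c := (s : Matrix (Fin n) (Fin n) F) k j
          set E : SLn := Matrix.SpecialLinearGroup.transvection hkj.ne (-c)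
          have hrow : ∀ b, (s : Matrix (Fin n) (Fin n) F) j b = (1 : Matrix (Fin n) (Fin n) F) j b :=
            fun b => h j b (Nat.succ_le_of_lt hkj)
          have hE : ∀ a b, ((E * s : SLn) : Matrix (Fin n) (Fin n) F) a b =
              (s : Matrix (Fin n) (Fin n) F) a b + if a = k ∧ b = j then -c else 0 := by
            intro a b
            rw [Matrix.SpecialLinearGroup.coe_mul, sum_transvec, hrow b]
            congr 1
            by_cases ha : a = k <;> by_cases hb : b = j <;> simp [ha, hb, Matrix.one_apply, Ne.symm]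
          have hmem : E * s ∈ T := by
            refine ihJ (fun x hx => hJ x (Finset.mem_insert_of_mem hx)) _ ⟨fun a => ?_, fun a b hba => ?_⟩
              (fun a b hab => ?_) fun b hb hbJ => ?_
            · rw [hE, hs.1, if_neg (fun e => hkj.ne (e.1.symm.trans e.2)), add_zero]
            · rw [hE, hs.2 a b hba, if_neg (fun e => lt_asymm hkj (by rwa [e.1, e.2] at hba)), add_zero]
            · rw [hE, h a b hab, if_neg (fun e => by
                have : (a : ℕ) = m := congrArg Fin.val e.1
                omega), add_zero]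
            · rw [hE]
              by_cases hbj : b = j
              · rw [if_pos ⟨rfl, hbj⟩, hbj, add_neg_cancel]
              · rw [if_neg (fun e => hbj e.2), add_zero,
                  h0 b hb (by simp [hbj, hbJ])]
          have : s = E⁻¹ * (E * s) := by rw [inv_mul_cancel_left]
          rw [this]
          exact mul_mem (inv_mem (hT k j hkj (-c))) hmem
      exact col (Finset.univ.filter fun j => k < j) (fun j hj => (Finset.mem_filter.1 hj).2) s hs h
        fun b hb hbJ => absurd (Finset.mem_filter.2 ⟨Finset.mem_univ b, hb⟩) hbJ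
  exact key n s hs fun a b hab => absurd a.2 (by omega)

theorem upper_of_normalizes {p : ℕ} [Fact p.Prime] [CharP F p] (s : SLn)
    (hs : π s ∈ Subgroup.normalizer ((unitri F n : Subgroup PSLn) : Set PSLn)) :
    ∀ a k : Fin n, k < a → (s : Matrix (Fin n) (Fin n) F) a k = 0 := by
  have hconj : ∀ (i j : Fin n) (h : i < j),
      s⁻¹ * Matrix.SpecialLinearGroup.transvection h.ne 1 * s ∈ unitriSL F n := by
    intro i j h
    have h1 : (π s)⁻¹ * π (Matrix.SpecialLinearGroup.transvection h.ne 1) * π s ∈ unitri F n := by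
      refine (Subgroup.mem_normalizer_iff.1 hs _).2 ?_
      simp only [mul_assoc, mul_inv_cancel_left, mul_inv_cancel, mul_one]
      exact ⟨_, transvec_mem_unitri h 1, rfl⟩
    obtain ⟨u, hu, hue⟩ := h1
    have hA : (s⁻¹ * Matrix.SpecialLinearGroup.transvection h.ne 1 * s) ^ p = 1 := by
      have : s⁻¹ * Matrix.SpecialLinearGroup.transvection h.ne 1 * s =
          s⁻¹ * Matrix.SpecialLinearGroup.transvection h.ne 1 * s⁻¹⁻¹ := by rw [inv_inv]
      rw [this, conj_pow, transvec_pow, mul_one, mul_inv_cancel]
    have hueq : π u = π (s⁻¹ * Matrix.SpecialLinearGroup.transvection h.ne 1 * s) := by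
      rw [map_mul, map_mul, map_inv]; exact hue
    have hB : u ^ p = 1 := by
      refine mk_injOn_unitri (pow_mem hu p) (one_mem _) ?_
      show π (u ^ p) = π 1
      rw [map_pow, hueq, ← map_pow, hA]
    rw [← eq_of_mk hB hA hueq]
    exact hu
  intro a k
  induction hk : (k : ℕ) using Nat.strong_induction_on generalizing a k with
  | _ m ih =>
    intro hka
    have hu := hconj k a hka
    set u := s⁻¹ * Matrix.SpecialLinearGroup.transvection hka.ne 1 * s with hudef
    have heq : Matrix.SpecialLinearGroup.transvection hka.ne 1 * s = s * u := by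
      rw [hudef]; group
    have h1 := congrArg (fun M : SLn => (M : Matrix (Fin n) (Fin n) F) k k) heq
    simp only [Matrix.SpecialLinearGroup.coe_mul, sum_transvec, if_pos, one_mul] at h1
    rw [Matrix.mul_apply, Finset.sum_eq_single k (fun x _ hx => ?_) (by simp), hu.1 k, mul_one] at h1
    · simpa using h1
    · rcases lt_or_gt_of_ne hx with hlt | hgt
      · rw [ih (x : ℕ) (by rw [← hk]; exact hlt) k x rfl hlt, zero_mul]
      · rw [hu.2 x k hgt, mul_zero]

theorem diag2n_normalizes {i j : Fin n} (h : i ≠ j) {a : F} (ha : a ≠ 0) :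
    π (Matrix.SpecialLinearGroup.diag2n h a ha) ∈
      Subgroup.normalizer ((unitri F n : Subgroup PSLn) : Set PSLn) := by
  refine map_normalizer_le fun x hx => ?_
  set d := fun k : Fin n => if k = i then a else if k = j then a⁻¹ else 1
  have hd0 : ∀ k, d k ≠ 0 := fun k => by
    simp only [d]
    split_ifs <;> simp [ha]
  set D := Matrix.SpecialLinearGroup.diag2n h a ha with hD
  have hinv : ((D⁻¹ : SLn) : Matrix (Fin n) (Fin n) F) = Matrix.diagonal fun k => (d k)⁻¹ := by
    rw [Matrix.SpecialLinearGroup.coe_inv]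
    have h1 := Matrix.mul_adjugate (D : Matrix (Fin n) (Fin n) F)
    rw [D.2, one_smul] at h1
    have h2 : (Matrix.diagonal fun k => (d k)⁻¹) * (D : Matrix (Fin n) (Fin n) F) = 1 := by
      rw [hD, Matrix.SpecialLinearGroup.diag2n_coe, Matrix.diagonal_mul_diagonal]
      simp only [d] at hd0 ⊢
      simp [hd0]
    calc Matrix.adjugate (D : Matrix (Fin n) (Fin n) F)
        = ((Matrix.diagonal fun k => (d k)⁻¹) * (D : Matrix (Fin n) (Fin n) F)) *
            Matrix.adjugate (D : Matrix (Fin n) (Fin n) F) := by rw [h2, Matrix.one_mul]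
      _ = _ := by rw [Matrix.mul_assoc, h1, Matrix.mul_one]
  constructor
  · intro k
    rw [Matrix.SpecialLinearGroup.coe_mul, Matrix.SpecialLinearGroup.coe_mul, hinv,
      hD, Matrix.SpecialLinearGroup.diag2n_coe, Matrix.mul_diagonal, Matrix.diagonal_mul, hx.1 k,
      mul_one]
    exact mul_inv_cancel₀ (hd0 k)
  · intro k l hlk
    rw [Matrix.SpecialLinearGroup.coe_mul, Matrix.SpecialLinearGroup.coe_mul, hinv,
      hD, Matrix.SpecialLinearGroup.diag2n_coe, Matrix.mul_diagonal, Matrix.diagonal_mul,
      hx.2 k l hlk, mul_zero, zero_mul]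

omit [Finite F] in
/-- Diagonal elements lie in every subgroup containing the adjacent ones. -/
theorem diag_mem {T : Subgroup SLn}
    (hT : ∀ (i j : Fin n) (h : i ≠ j), (j : ℕ) = i + 1 → ∀ (a : F) (ha : a ≠ 0),
      Matrix.SpecialLinearGroup.diag2n h a ha ∈ T)
    (d : SLn) (hd : ∀ a b, a ≠ b → (d : Matrix (Fin n) (Fin n) F) a b = 0) : d ∈ T := by
  have hdet : ∀ d : SLn, (∀ a b, a ≠ b → (d : Matrix (Fin n) (Fin n) F) a b = 0) →
      ∏ a, (d : Matrix (Fin n) (Fin n) F) a a = 1 := fun d hd => by
    have h1 := d.2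
    rwa [Matrix.det_of_isUpperTriangular fun a b (h : b < a) => hd a b (ne_of_gt h)] at h1
  have key : ∀ m : ℕ, ∀ d : SLn, (∀ a b, a ≠ b → (d : Matrix (Fin n) (Fin n) F) a b = 0) →
      (∀ a : Fin n, m ≤ a → (d : Matrix (Fin n) (Fin n) F) a a = 1) → d ∈ T := by
    intro m
    induction m with
    | zero =>
      intro d hd h
      have : d = 1 := Subtype.ext (Matrix.ext fun a b => by
        by_cases hab : a = b
        · subst hab; rw [h a (Nat.zero_le _)]; simp
        · rw [hd a b hab]; simp [hab])
      rw [this]; exact one_mem _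
    | succ m ih =>
      intro d hd h
      by_cases hm : m < n
      swap
      · exact ih d hd fun a ha => absurd a.2 (by omega)
      set k : Fin n := ⟨m, hm⟩
      set e := (d : Matrix (Fin n) (Fin n) F) k k
      have he0 : e ≠ 0 := fun e0 => by
        have h1 := hdet d hd
        exact zero_ne_one ((Finset.prod_eq_zero (f := fun a => (d : Matrix (Fin n) (Fin n) F) a a) (Finset.mem_univ k) e0).symm.trans h1)
      rcases Nat.eq_zero_or_pos m with hm0 | hm0
      · refine ih d hd fun a ha => ?_
        by_cases hak : a = k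
        · subst hak
          have h1 := hdet d hd
          rw [Finset.prod_eq_single k (fun b _ hb => h b (by
            have : (b : ℕ) ≠ m := fun e => hb (Fin.ext e)
            omega)) (by simp)] at h1
          exact h1
        · exact h a (by
            have : (a : ℕ) ≠ m := fun e => hak (Fin.ext e)
            omega)
      set l : Fin n := ⟨m - 1, by omega⟩
      have hlk : l ≠ k := fun e => by
        have : m - 1 = m := congrArg Fin.val e
        omega
      set D := Matrix.SpecialLinearGroup.diag2n hlk e he0 with hD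
      have hDT : D ∈ T := hT l k hlk (show m = m - 1 + 1 by omega) e he0
      have hval : ∀ a b, ((D * d : SLn) : Matrix (Fin n) (Fin n) F) a b =
          (if a = l then e else if a = k then e⁻¹ else 1) * (d : Matrix (Fin n) (Fin n) F) a b := fun a b => by
        rw [Matrix.SpecialLinearGroup.coe_mul, hD, Matrix.SpecialLinearGroup.diag2n_coe,
          Matrix.diagonal_mul]
      have hmem : D * d ∈ T := by
        refine ih _ (fun a b hab => by rw [hval, hd a b hab, mul_zero]) fun a ha => ?_
        rw [hval]
        have hal : a ≠ l := fun e => by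
          have : (a : ℕ) = m - 1 := congrArg Fin.val e
          omega
        rw [if_neg hal]
        by_cases hak : a = k
        · subst hak
          rw [if_pos rfl]
          exact inv_mul_cancel₀ he0
        · rw [if_neg hak, one_mul]
          exact h a (by
            have : (a : ℕ) ≠ m := fun e => hak (Fin.ext e)
            omega)
      have : d = D⁻¹ * (D * d) := by rw [inv_mul_cancel_left]
      rw [this]
      exact mul_mem (inv_mem hDT) hmem
  exact key n d hd fun a ha => absurd a.2 (by omega)

/-- **The fusion system of `PSL_n(q)` in the defining characteristic is simple.** -/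
theorem isSimple_fusion (p : ℕ) [Fact p.Prime] [CharP F p] (hn : 3 ≤ n) (S : Sylow p PSLn) :
    (Cfsg.groupFusionSystem (S : Subgroup PSLn)).IsSimple p := by
  have hp : p.Prime := Fact.out
  set o : Fin n := ⟨0, by omega⟩ with ho
  set t : Fin n := ⟨n - 1, by omega⟩ with ht
  have hot : o < t := show 0 < n - 1 by omega
  let P : Sylow p PSLn := (isPGroup_unitri (F := F) (n := n) p).toSylow
    (not_dvd_index_unitri (by omega))
  have hP : (P : Subgroup PSLn) = unitri F n := rfl
  have hPmem : ∀ {s : SLn}, s ∈ unitriSL F n → π s ∈ (P : Subgroup PSLn) := fun hs => ⟨_, hs, rfl⟩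
  refine Fusion.isSimple_of_radicalGens P (fun h => ?_) ?_ ?_ S
  · have h1 : π (Matrix.SpecialLinearGroup.transvection hot.ne 1) = 1 :=
      Subgroup.mem_bot.1 (h.le (hPmem (transvec_mem_unitri hot 1)))
    rw [← map_one π] at h1
    have h3 := congrArg (fun M : SLn => (M : Matrix (Fin n) (Fin n) F) o t)
      (eq_of_mk (p := p) (transvec_pow _ _) (one_pow p) h1)
    simp [coe_transvec, hot.ne, Matrix.vecMulVec_apply] at h3
  · intro x hx hxc hx1 T hxT hcl
    rw [hP] at hx
    obtain ⟨c0, rfl⟩ := mem_rootGroup.mp ((centralizer_inf_unitri (F := F) (by omega : 2 ≤ n)).le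
      ⟨Subgroup.mem_centralizer_iff.2 fun y hy => (hxc y hy).symm, hx⟩)
    have hc0 : c0 ≠ 0 := fun e => hx1 (by rw [e, tv_zero]; rfl)
    have htv : tv (stdFlag F (by omega : 2 ≤ n)) c0 =
        Matrix.SpecialLinearGroup.transvection hot.ne c0 := Subtype.ext (by
      rw [coe_tv, coe_transvec]; rfl)
    rw [hP]
    rintro _ ⟨s, hs, rfl⟩
    refine mem_of_transvections (T := T.comap π) (fun i j hij c => ?_) s hs
    show π _ ∈ T
    rcases eq_or_ne c 0 with rfl | hc
    · have : (Matrix.SpecialLinearGroup.transvection hij.ne (0 : F) : SLn) = 1 :=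
        Subtype.ext (by simp [coe_transvec])
      rw [this, map_one]; exact one_mem _
    · obtain ⟨g, hg⟩ := exists_monomial hn hot.ne hij.ne hc0 hc
      have h1 : π g * π (tv (stdFlag F (by omega : 2 ≤ n)) c0) * (π g)⁻¹ =
          π (Matrix.SpecialLinearGroup.transvection hij.ne c) := by
        rw [← map_inv, ← map_mul, ← map_mul, htv, hg]
      rw [← h1]
      exact hcl _ hxT _ (h1 ▸ hPmem (transvec_mem_unitri hij c))
  · intro g hg
    obtain ⟨s, rfl⟩ := QuotientGroup.mk'_surjective _ g
    have hup := upper_of_normalizes (p := p) s (by rwa [hP] at hg)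
    have hsd : ∀ a, (s : Matrix (Fin n) (Fin n) F) a a ≠ 0 := fun a ha => by
      have h1 := s.2
      rw [Matrix.det_of_isUpperTriangular fun a b (h : b < a) => hup a b h] at h1
      exact zero_ne_one ((Finset.prod_eq_zero (f := fun a => (s : Matrix (Fin n) (Fin n) F) a a) (Finset.mem_univ a) ha).symm.trans h1)
    set W := Subgroup.closure (radicalGens p (P : Subgroup PSLn) ∪
      (Subgroup.centralizer ((P : Subgroup PSLn) : Set PSLn) : Set PSLn))
    have hPW : ∀ y ∈ (P : Subgroup PSLn), y ∈ W := fun y hy => Subgroup.subset_closure (Or.inl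
      ⟨Subgroup.le_normalizer hy, P, le_rfl, fun x hxc hxk => by
        obtain ⟨k, hk⟩ := hxk
        have hz : IsPGroup p (Subgroup.zpowers x) :=
          IsPGroup.of_card (n := k) (by rw [Nat.card_zpowers, hk])
        have hxN : x ∈ Subgroup.normalizer ((P : Subgroup PSLn) : Set PSLn) :=
          mem_normalizer_of_le fun r hr => by rwa [hxc r hr, mul_inv_cancel_right]
        rw [← P.3 (IsPGroup.to_sup_of_normal_right' hz P.2 (Subgroup.zpowers_le.2 hxN))
          le_sup_right]
        exact Subgroup.mem_sup_left (Subgroup.mem_zpowers x),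
      Subgroup.subset_closure ⟨Subgroup.le_normalizer hy, by
        obtain ⟨k, hk⟩ := IsPGroup.iff_orderOf.1 P.2 ⟨y, hy⟩
        exact ⟨k, by rw [← hk, ← Subgroup.orderOf_coe]⟩⟩⟩)
    have hDW : ∀ (i j : Fin n) (h : i ≠ j), (j : ℕ) = i + 1 → ∀ (a : F) (ha : a ≠ 0),
        Matrix.SpecialLinearGroup.diag2n h a ha ∈ W.comap π := by
      intro i j h hij a ha
      have hj : (j : ℕ) < n := j.2
      refine Subgroup.subset_closure (Or.inl ⟨hP ▸ diag2n_normalizes h ha, ?_⟩)
      have key : ∀ R : Subgroup SLn, (∀ c : F, ∀ x ∈ R,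
            Matrix.SpecialLinearGroup.transvection h c * x *
              (Matrix.SpecialLinearGroup.transvection h c)⁻¹ ∈ R) →
          (∀ c : F, ∀ x ∈ R, Matrix.SpecialLinearGroup.transvection h.symm c * x *
              (Matrix.SpecialLinearGroup.transvection h.symm c)⁻¹ ∈ R) →
          π (Matrix.SpecialLinearGroup.diag2n h a ha) ∈ Subgroup.closure {y : PSLn |
            y ∈ Subgroup.normalizer ((R.map π : Subgroup PSLn) : Set PSLn) ∧
              ∃ k : ℕ, orderOf y = p ^ k} := by
        intro R h1 h2
        have hgen : ∀ (u v : Fin n) (huv : u ≠ v) (c : F), (∀ x ∈ R,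
            Matrix.SpecialLinearGroup.transvection huv c * x *
              (Matrix.SpecialLinearGroup.transvection huv c)⁻¹ ∈ R) →
            π (Matrix.SpecialLinearGroup.transvection huv c) ∈ Subgroup.closure {y : PSLn |
              y ∈ Subgroup.normalizer ((R.map π : Subgroup PSLn) : Set PSLn) ∧
                ∃ k : ℕ, orderOf y = p ^ k} := by
          intro u v huv c hc
          have hord : orderOf (π (Matrix.SpecialLinearGroup.transvection huv c)) ∣ p ^ 1 := by
            rw [pow_one]
            exact orderOf_dvd_of_pow_eq_one (by rw [← map_pow, transvec_pow, map_one])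
          obtain ⟨k, -, hk⟩ := (Nat.dvd_prime_pow hp).1 hord
          exact Subgroup.subset_closure ⟨map_normalizer_le hc, k, hk⟩
        rw [CfsgLib.Linear.diag2n_decompose h ha]
        simp only [map_mul]
        exact mul_mem (mul_mem (mul_mem (hgen i j h _ (h1 _)) (hgen j i h.symm _ (h2 _)))
          (hgen i j h _ (h1 _))) (mul_mem (mul_mem (hgen i j h _ (h1 _)) (hgen j i h.symm _ (h2 _)))
          (hgen i j h _ (h1 _)))
      by_cases hi : i = o
      · have hit : i ≠ t := fun e => by
          have : (i : ℕ) = n - 1 := congrArg Fin.val e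
          have : (i : ℕ) = 0 := congrArg Fin.val hi
          omega
        have hjt : j ≠ t := fun e => by
          have : (j : ℕ) = n - 1 := congrArg Fin.val e
          have : (i : ℕ) = 0 := congrArg Fin.val hi
          omega
        exact ⟨(colRad (F := F) t).map π, hP ▸ Subgroup.map_mono (colRad_le (by omega)),
          fun x hx _ => centralizer_col (p := p) hn x hx,
          key _ (transvec_normalizes_col h hit hjt) (transvec_normalizes_col h.symm hjt hit)⟩
      · have hjo : j ≠ o := fun e => by
          have : (j : ℕ) = 0 := congrArg Fin.val e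
          omega
        exact ⟨(rowRad (F := F) o).map π, hP ▸ Subgroup.map_mono (rowRad_le (by omega)),
          fun x hx _ => centralizer_row (p := p) hn x hx,
          key _ (transvec_normalizes_row h hi hjo) (transvec_normalizes_row h.symm hjo hi)⟩
    -- `s` is diagonal times unitriangular
    let d : SLn := ⟨Matrix.diagonal fun a => (s : Matrix (Fin n) (Fin n) F) a a, by
      rw [Matrix.det_diagonal]
      have h1 := s.2
      rwa [Matrix.det_of_isUpperTriangular fun a b (h : b < a) => hup a b h] at h1⟩
    let u : SLn := ⟨(Matrix.diagonal fun a => ((s : Matrix (Fin n) (Fin n) F) a a)⁻¹) *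
        (s : Matrix (Fin n) (Fin n) F), by
      rw [Matrix.det_mul, Matrix.det_diagonal, s.2, mul_one, Finset.prod_inv_distrib]
      have h1 := s.2
      rw [Matrix.det_of_isUpperTriangular fun a b (h : b < a) => hup a b h] at h1
      rw [h1, inv_one]⟩
    have hsdu : s = d * u := Subtype.ext (Matrix.ext fun a b => by
      rw [Matrix.SpecialLinearGroup.coe_mul]
      show _ = (Matrix.diagonal (fun a => (s : Matrix (Fin n) (Fin n) F) a a) * (Matrix.diagonal (fun a => ((s : Matrix (Fin n) (Fin n) F) a a)⁻¹) * (s : Matrix (Fin n) (Fin n) F))) a b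
      rw [Matrix.diagonal_mul, Matrix.diagonal_mul, mul_inv_cancel_left₀ (hsd a)])
    have hu : u ∈ unitriSL F n := ⟨fun a => by
        show (Matrix.diagonal (fun a => ((s : Matrix (Fin n) (Fin n) F) a a)⁻¹) * (s : Matrix (Fin n) (Fin n) F)) a a = 1
        rw [Matrix.diagonal_mul, inv_mul_cancel₀ (hsd a)], fun a b hba => by
        show (Matrix.diagonal (fun a => ((s : Matrix (Fin n) (Fin n) F) a a)⁻¹) * (s : Matrix (Fin n) (Fin n) F)) a b = 0
        rw [Matrix.diagonal_mul, hup a b hba, mul_zero]⟩
    rw [hsdu, map_mul]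
    exact mul_mem (diag_mem hDW d fun a b hab => Matrix.diagonal_apply_ne _ hab)
      (hPW _ (hPmem hu))

end CfsgLib.Fusion.PSLChar
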