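import Cfsg.Agent.AutPSU.Sylow

/-!
Eichler elements of `SU_n` inside a non-degenerate orthogonal complement: they generate the
pointwise stabilizer of the complement, and every maximal `p`-subgroup is generated by its own.
-/

set_option autoImplicit false
set_option linter.style.haveILetI false
set_option linter.unusedSectionVars false

open Matrix

namespace CfsgLib.Fusion.PSUChar

open CfsgLib.Unitary CfsgLib.Forms CfsgLib.AutPSU

variable {F : Type*} [Field F] [Finite F] {q n : ℕ}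

local notation "hf" => Cfsg.hermForm n F q
local notation "SUn" => Cfsg.SU n F q
local notation "Vn" => Fin n → F

/-- The vectors orthogonal to a set. -/
def wsp (q : ℕ) (M : Set (Fin n → F)) : Submodule F (Fin n → F) where
  carrier := {x | ∀ v ∈ M, Cfsg.hermForm n F q x v = 0}
  add_mem' {x y} hx hy v hv := by rw [herm_add_left, hx v hv, hy v hv, add_zero]
  zero_mem' v _ := hf_zero_left v
  smul_mem' c x hx v hv := by rw [herm_smul_left, hx v hv, mul_zero]

/-- The elements fixing a set. -/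
def fixSub (M : Set (Fin n → F)) : Subgroup (Cfsg.SU n F q) where
  carrier := {g | ∀ v ∈ M, suMat g *ᵥ v = v}
  mul_mem' {a b} ha hb v hv := by rw [suMat_mul, ← Matrix.mulVec_mulVec, hb v hv, ha v hv]
  one_mem' v _ := by rw [suMat_one, Matrix.one_mulVec]
  inv_mem' {a} ha v hv := by
    conv_lhs => rw [← ha v hv]
    exact su_inv_mulVec a v

/-- The complement of the set is non-degenerate. -/
def Nd (q : ℕ) (M : Set (Fin n → F)) : Prop :=
  ∀ w ∈ wsp q M, (∀ w' ∈ wsp q M, Cfsg.hermForm n F q w' w = 0) → w = 0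

/-- Eichler elements in the complement. -/
def eichGens (M : Set (Fin n → F)) : Set (Cfsg.SU n F q) :=
  {A | ∃ (v a : Fin n → F) (s : F), v ∈ wsp q M ∧ a ∈ wsp q M ∧ Cfsg.hermForm n F q v v = 0 ∧
    Cfsg.hermForm n F q a v = 0 ∧ suMat A = eichMat q v a s}

/-- All Eichler elements. -/
def eichAll : Set (Cfsg.SU n F q) :=
  {A | ∃ (v a : Fin n → F) (s : F), Cfsg.hermForm n F q v v = 0 ∧
    Cfsg.hermForm n F q a v = 0 ∧ suMat A = eichMat q v a s}

variable (hF : Nat.card F = q ^ 2)
include hF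

theorem eichGens_fix (M : Set Vn) : Subgroup.closure (eichGens (q := q) M) ≤ fixSub M := by
  rw [Subgroup.closure_le]
  rintro A ⟨v, a, s, hv, ha, hvv, hav, hA⟩ x hx
  rw [hA, eichMat_mulVec hvv, hf_swap_zero hF (hv x hx), hf_swap_zero hF (ha x hx)]
  simp

theorem mulVec_mem_wsp {M : Set Vn} {g : SUn} (hg : g ∈ fixSub M) {x : Vn} (hx : x ∈ wsp q M) :
    suMat g *ᵥ x ∈ wsp q M := fun v hv => by
  rw [← hg v hv, su_preserves, hx v hv]

theorem mem_wsp_sub {M : Set Vn} {g : SUn} (hg : g ∈ fixSub M) (x : Vn) :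
    suMat g *ᵥ x - x ∈ wsp q M := fun v hv => by
  rw [herm_sub_left hF, sub_eq_zero]
  conv_lhs => rw [← hg v hv]
  exact su_preserves g x v

/-- A non-degenerate nonzero complement has an anisotropic vector. -/
theorem exists_aniso {M : Set Vn} (hnd : Nd q M) (h : wsp q M ≠ ⊥) :
    ∃ a ∈ wsp q M, hf a a ≠ 0 := by
  by_contra hc
  push Not at hc
  obtain ⟨w, hw, hw0⟩ := (Submodule.ne_bot_iff _).1 h
  obtain ⟨w', hw', hww⟩ : ∃ w' ∈ wsp q M, hf w' w ≠ 0 := by
    by_contra hc'
    push Not at hc'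
    exact hw0 (hnd w hw hc')
  obtain ⟨l, hl⟩ : ∃ l : F, l ^ q ≠ l := by
    by_contra hc'; push Not at hc'; exact frobQ_ne_id hF (RingHom.ext hc')
  have key : ∀ μ : F, μ ^ q * hf w w' + μ * hf w' w = 0 := fun μ => by
    have h1 := hc _ (add_mem hw (Submodule.smul_mem _ μ hw'))
    simp only [herm_add_left, herm_add_right hF, herm_smul_left, herm_smul_right hF, hc w hw,
      hc w' hw'] at h1
    linear_combination h1
  have h1 := key 1
  have h2 := key l
  rw [one_pow, one_mul, one_mul] at h1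
  exact hww ((mul_eq_zero.1 (by linear_combination h2 - l ^ q * h1 : (l - l ^ q) * hf w' w = 0)).resolve_left
    (sub_ne_zero.2 (Ne.symm hl)))

/-- An isotropic vector of the complement lies in a hyperbolic pair there. -/
theorem exists_hyp_wsp {M : Set Vn} (hnd : Nd q M) {e : Vn} (he : e ∈ wsp q M) (he0 : e ≠ 0)
    (hee : hf e e = 0) : ∃ f ∈ wsp q M, Hyp q e f := by
  obtain ⟨w', hw', hww⟩ : ∃ w' ∈ wsp q M, hf w' e ≠ 0 := by
    by_contra hc'
    push Not at hc'
    exact he0 (hnd e he hc')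
  obtain ⟨y, hyW, hye⟩ : ∃ y ∈ wsp q M, hf y e = 1 :=
    ⟨(hf w' e)⁻¹ • w', Submodule.smul_mem _ _ hw', by rw [herm_smul_left, inv_mul_cancel₀ hww]⟩
  have hey : hf e y = 1 := by rw [herm_swap hF y e, hye, one_pow]
  obtain ⟨t, ht⟩ := exists_trace_eq hF (herm_self_fixed hF y)
  refine ⟨y - t • e, sub_mem hyW (Submodule.smul_mem _ _ he), hee, ?_, ?_⟩
  · rw [herm_sub_left hF, herm_smul_left, herm_sub_right hF, herm_sub_right hF,
      herm_smul_right hF, herm_smul_right hF, hey, hye, hee]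
    linear_combination -ht
  · rw [herm_sub_right hF, herm_smul_right hF, hey, hee, mul_zero, sub_zero]

/-- Without isotropic vectors the complement is at most a line. -/
theorem le_span_of_aniso {M : Set Vn} (h : ∀ x ∈ wsp q M, hf x x = 0 → x = 0) {a : Vn}
    (ha : a ∈ wsp q M) (ha0 : hf a a ≠ 0) {y : Vn} (hy : y ∈ wsp q M) : ∃ c : F, y = c • a := by
  set c := hf y a / hf a a
  refine ⟨c, sub_eq_zero.1 ?_⟩
  set y' := y - c • a with hy'
  have hy'W : y' ∈ wsp q M := sub_mem hy (Submodule.smul_mem _ _ ha)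
  have hya : hf y' a = 0 := by
    rw [hy', herm_sub_left hF, herm_smul_left, div_mul_cancel₀ _ ha0, sub_self]
  by_contra hne
  have hyy : hf y' y' ≠ 0 := fun e => hne (h _ hy'W e)
  have hfix : (-hf a a / hf y' y') ^ q = -hf a a / hf y' y' := by
    have h1 := herm_self_fixed hF a
    have h2 := herm_self_fixed hF y'
    rw [← frobQ_apply hF] at h1 h2 ⊢
    rw [map_div₀, map_neg, h1, h2]
  obtain ⟨l, hl⟩ := exists_norm_eq hF hfix
  have h0 := h _ (add_mem ha (Submodule.smul_mem _ l hy'W)) (by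
    simp only [herm_add_left, herm_add_right hF, herm_smul_left, herm_smul_right hF, hya,
      hf_swap_zero hF hya]
    rw [pow_succ] at hl
    field_simp at hl
    linear_combination hl)
  have h1 := congrArg (fun z => hf z a) h0
  simp only [herm_add_left, herm_smul_left, hya, hf_zero_left, mul_zero, add_zero] at h1
  exact ha0 h1

/-- A matrix moving only along an anisotropic line is trivial. -/
theorem eq_one_of_aniso {M : Set Vn} (hnd : Nd q M) (h : ∀ x ∈ wsp q M, hf x x = 0 → x = 0)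
    {g : SUn} (hg : g ∈ fixSub M) : g = 1 := by
  by_cases hbot : wsp q M = ⊥
  · refine su_ext fun x => ?_
    have h1 := mem_wsp_sub hF hg x
    rw [hbot, Submodule.mem_bot, sub_eq_zero] at h1
    rw [suMat_one, Matrix.one_mulVec, h1]
  obtain ⟨a, ha, ha0⟩ := exists_aniso hF hnd hbot
  obtain ⟨l, hl⟩ := le_span_of_aniso hF h ha ha0 (mulVec_mem_wsp hF hg ha)
  have hl0 : l ≠ 0 := fun e => by
    have h1 := congrArg (fun z => hf z z) hl
    simp only [su_preserves, e, zero_smul, hf_zero_left] at h1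
    exact ha0 h1
  have hx : ∀ x, suMat g *ᵥ x = x + ((l - 1) * (hf x a / hf a a)) • a := by
    intro x
    set x' := x - (hf x a / hf a a) • a with hx'
    have hxa : hf x' a = 0 := by
      rw [hx', herm_sub_left hF, herm_smul_left, div_mul_cancel₀ _ ha0, sub_self]
    have hfx : suMat g *ᵥ x' = x' := by
      obtain ⟨c, hc⟩ := le_span_of_aniso hF h ha ha0 (mem_wsp_sub hF hg x')
      have h1 : hf (suMat g *ᵥ x') (suMat g *ᵥ a) = 0 := (su_preserves g x' a).trans hxa
      rw [hl, herm_smul_right hF] at h1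
      have h2 := congrArg (fun z => hf z a) hc
      simp only [herm_sub_left hF, herm_smul_left, hxa,
        (mul_eq_zero.1 h1).resolve_left (pow_ne_zero _ hl0), sub_zero] at h2
      rw [(mul_eq_zero.1 h2.symm).resolve_right ha0, zero_smul, sub_eq_zero] at hc
      exact hc
    have : x = x' + (hf x a / hf a a) • a := (sub_add_cancel _ _).symm
    conv_lhs => rw [this, Matrix.mulVec_add, Matrix.mulVec_smul, hfx, hl, hx']
    module
  have hmat : suMat g = 1 + Matrix.vecMulVec (((l - 1) / hf a a) • a) (barVec q a) :=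
    Matrix.ext_iff_smul.mpr fun x => by
      rw [Matrix.smul_eq_mulVec, Matrix.smul_eq_mulVec, hx, Matrix.add_mulVec, Matrix.one_mulVec,
        Matrix.vecMulVec_mulVec, op_smul_eq_smul, barVec_dot, smul_smul]
      congr 2
      ring
  have hdet : (suMat g).det = 1 := g.1.2
  rw [hmat, Matrix.vecMulVec_eq (Fin 1), Matrix.det_one_add_replicateCol_mul_replicateRow,
    dotProduct_smul, barVec_dot, smul_eq_mul, div_mul_cancel₀ _ ha0, add_sub_cancel] at hdet
  refine su_ext fun x => ?_
  rw [hx, hdet, sub_self, zero_mul, zero_smul, add_zero, suMat_one, Matrix.one_mulVec]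

/-- The Eichler element is in the generated group. -/
theorem eich_mem {M : Set Vn} {v a : Vn} (s : F) (hv : v ∈ wsp q M) (ha : a ∈ wsp q M)
    (hvv : hf v v = 0) (hav : hf a v = 0) (hs : s + s ^ q + hf a a = 0) :
    eich hF v a s hvv hav hs ∈ Subgroup.closure (eichGens (q := q) M) :=
  Subgroup.subset_closure ⟨v, a, s, hv, ha, hvv, hav, rfl⟩

/-- Moving an isotropic vector with product one onto the partner. -/
theorem exists_radical_move {M : Set Vn} {e f : Vn} (H : Hyp q e f) (he : e ∈ wsp q M)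
    (hf' : f ∈ wsp q M) {y : Vn} (hy : y ∈ wsp q M) (hyy : hf y y = 0) (hye : hf y e = 1) :
    ∃ (a : Vn) (s : F) (hav : hf a e = 0) (hs : s + s ^ q + hf a a = 0),
      a ∈ wsp q M ∧ InW q e f a ∧ suMat (eich hF e a s H.ee hav hs) *ᵥ f = y := by
  set a := y - hf y f • e - hf y e • f with ha
  have hW := inW_proj hF H y
  rw [← ha] at hW
  have hdec : y = f + a + hf y f • e := by rw [ha, hye, one_smul]; abel
  have hs : hf y f + hf y f ^ q + hf a a = 0 := by
    have h1 := hyy
    rw [hdec] at h1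
    simp only [herm_add_left, herm_add_right hF, herm_smul_left, herm_smul_right hF, H.ee, H.ff,
      H.ef, H.fe hF, hW.1, hW.2, hf_swap_zero hF hW.1, hf_swap_zero hF hW.2] at h1
    linear_combination h1
  refine ⟨a, hf y f, hW.1, hs, sub_mem (sub_mem hy (Submodule.smul_mem _ _ he))
    (Submodule.smul_mem _ _ hf'), hW, ?_⟩
  show eichMat q e a _ *ᵥ f = y
  rw [eichMat_apply_f hF H hW, ← hdec]

/-- Turning a hyperbolic pair. -/
theorem exists_turn {M : Set Vn} {e f : Vn} (H : Hyp q e f) (he : e ∈ wsp q M)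
    (hf' : f ∈ wsp q M) {a : Vn} (ha : a ∈ wsp q M) (haW : InW q e f a) {s : F} (hs0 : s ≠ 0)
    (hs : s + s ^ q + hf a a = 0) :
    ∃ k ∈ Subgroup.closure (eichGens (q := q) M), suMat k *ᵥ e = (s ^ q)⁻¹ • f := by
  set t := (s ^ q)⁻¹ with ht
  have hsq0 : s ^ q ≠ 0 := pow_ne_zero _ hs0
  have htq : t ^ q = s⁻¹ := by rw [ht, inv_pow, pow_q_q hF]
  set b := (-t) • a with hb
  have hbf : hf b f = 0 := by rw [hb, herm_smul_left, haW.2, mul_zero]
  have hbe : hf b e = 0 := by rw [hb, herm_smul_left, haW.1, mul_zero]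
  have ht2 : t + t ^ q + hf b b = 0 := by
    rw [hb, herm_smul_left, herm_smul_right hF, ← frobQ_apply hF (-t), map_neg, frobQ_apply, htq, ht]
    field_simp
    linear_combination hs
  refine ⟨eich hF e a s H.ee haW.1 hs * eich hF f b t H.ff hbf ht2,
    mul_mem (eich_mem hF s he ha H.ee haW.1 hs)
      (eich_mem hF t hf' (Submodule.smul_mem _ _ ha) H.ff hbf ht2), ?_⟩
  have h1 : suMat (eich hF f b t H.ff hbf ht2) *ᵥ e = e + b + t • f :=
    eichMat_apply_f hF (Hyp.swap hF H) ⟨hbf, hbe⟩ t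
  rw [suMat_mul, ← Matrix.mulVec_mulVec, h1, suMat_eich, hb]
  simp only [herm_add_left, herm_smul_left, H.ee, haW.1, H.fe hF, hf_swap_zero hF haW.1,
    hf_swap_zero hF haW.2]
  have h3 : hf a a = -(s + s ^ q) := by linear_combination hs
  rw [h3, ht]
  match_scalars <;> field_simp <;> ring

/-- An isotropic vector moves onto the line of another. -/
theorem exists_move {M : Set Vn} (hnd : Nd q M) {e f : Vn} (H : Hyp q e f) (he : e ∈ wsp q M)
    (hf' : f ∈ wsp q M) {y : Vn} (hy : y ∈ wsp q M) (hy0 : y ≠ 0) (hyy : hf y y = 0) :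
    ∃ k ∈ Subgroup.closure (eichGens (q := q) M), ∃ α : F, α ≠ 0 ∧ suMat k *ᵥ y = α • e := by
  obtain ⟨s0, hs00, hs0⟩ := exists_skew hF
  have hskew : ∀ v : Vn, v = 0 → s0 + s0 ^ q + hf v v = 0 := fun v hv => by
    rw [hv, hf_zero_left, add_zero, hs0]
  have main : ∀ z ∈ wsp q M, hf z z = 0 → hf z e ≠ 0 →
      ∃ k ∈ Subgroup.closure (eichGens (q := q) M), ∃ α : F, α ≠ 0 ∧ suMat k *ᵥ z = α • e := by
    intro z hz hzz hze
    obtain ⟨a, s, hav, hs, ha, -, hr⟩ := exists_radical_move hF H he hf'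
      (Submodule.smul_mem _ (hf z e)⁻¹ hz)
      (by rw [herm_smul_left, herm_smul_right hF, hzz, mul_zero, mul_zero])
      (by rw [herm_smul_left, inv_mul_cancel₀ hze])
    obtain ⟨k, hk, hke⟩ := exists_turn hF (Hyp.swap hF H) hf' he (zero_mem _)
      ⟨hf_zero_left _, hf_zero_left _⟩ hs00 (hskew 0 rfl)
    refine ⟨k * (eich hF e a s H.ee hav hs)⁻¹, mul_mem hk (inv_mem (eich_mem hF s he ha H.ee hav hs)),
      hf z e * (s0 ^ q)⁻¹, mul_ne_zero hze (inv_ne_zero (pow_ne_zero _ hs00)), ?_⟩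
    have h1 : suMat (eich hF e a s H.ee hav hs)⁻¹ *ᵥ ((hf z e)⁻¹ • z) = f := by
      rw [← hr, su_inv_mulVec]
    rw [suMat_mul, ← Matrix.mulVec_mulVec]
    conv_lhs => rw [show z = hf z e • ((hf z e)⁻¹ • z) by rw [smul_smul, mul_inv_cancel₀ hze, one_smul]]
    rw [Matrix.mulVec_smul, h1, Matrix.mulVec_smul, hke, smul_smul]
  have comb : ∀ z ∈ wsp q M, hf z z = 0 → hf z f ≠ 0 →
      ∃ k ∈ Subgroup.closure (eichGens (q := q) M), ∃ α : F, α ≠ 0 ∧ suMat k *ᵥ z = α • e := by
    intro z hz hzz hzf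
    by_cases hze : hf z e ≠ 0
    · exact main z hz hzz hze
    rw [not_not] at hze
    set A := eich hF f 0 s0 H.ff (hf_zero_left f) (hskew 0 rfl)
    have hA : A ∈ Subgroup.closure (eichGens (q := q) M) :=
      eich_mem hF s0 hf' (zero_mem _) H.ff (hf_zero_left f) (hskew 0 rfl)
    have hv : suMat A *ᵥ z = z + (s0 * hf z f) • f := by
      rw [suMat_eich, hf_swap_zero hF (hf_zero_left z)]
      simp
    obtain ⟨k, hk, α, hα, h⟩ := main (suMat A *ᵥ z)
      (mulVec_mem_wsp hF (eichGens_fix hF M hA) hz) ((su_preserves A z z).trans hzz) (by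
        rw [hv, herm_add_left, herm_smul_left, hze, H.fe hF, zero_add, mul_one]
        exact mul_ne_zero hs00 hzf)
    exact ⟨k * A, mul_mem hk hA, α, hα, by rw [suMat_mul, ← Matrix.mulVec_mulVec, h]⟩
  by_cases hye : hf y e ≠ 0
  · exact main y hy hyy hye
  by_cases hyf : hf y f ≠ 0
  · exact comb y hy hyy hyf
  rw [not_not] at hye hyf
  obtain ⟨b0, hb0, hby⟩ : ∃ b ∈ wsp q M, hf b y ≠ 0 := by
    by_contra hc
    push Not at hc
    exact hy0 (hnd y hy hc)
  set b := b0 - hf b0 f • e - hf b0 e • f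
  have hbW : InW q e f b := inW_proj hF H b0
  have hyb : hf y b ≠ 0 := by
    show hf y (b0 - hf b0 f • e - hf b0 e • f) ≠ 0
    rw [herm_sub_right hF, herm_sub_right hF, herm_smul_right hF, herm_smul_right hF, hye, hyf]
    simpa using fun h => hby (hf_swap_zero hF h)
  obtain ⟨s, hs⟩ := exists_root hF (herm_self_fixed hF b)
  have hbM : b ∈ wsp q M :=
    sub_mem (sub_mem hb0 (Submodule.smul_mem _ _ he)) (Submodule.smul_mem _ _ hf')
  set A := eich hF e b s H.ee hbW.1 hs
  have hA : A ∈ Subgroup.closure (eichGens (q := q) M) := eich_mem hF s he hbM H.ee hbW.1 hs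
  obtain ⟨k, hk, α, hα, h⟩ := comb (suMat A *ᵥ y) (mulVec_mem_wsp hF (eichGens_fix hF M hA) hy)
    ((su_preserves A y y).trans hyy) (by
      rw [suMat_eich, hye, mul_zero, zero_sub, zero_smul, add_zero, herm_add_left, herm_smul_left,
        hyf, H.ef, zero_add, mul_one]
      exact neg_ne_zero.2 hyb)
  exact ⟨k * A, mul_mem hk hA, α, hα, by rw [suMat_mul, ← Matrix.mulVec_mulVec, h]⟩

/-- The complement of a further pair. -/
theorem nd_insert {M : Set Vn} (hnd : Nd q M) {e f : Vn} (H : Hyp q e f) (he : e ∈ wsp q M)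
    (hf' : f ∈ wsp q M) : Nd q (M ∪ {e, f}) := by
  intro w hw h
  refine hnd w (fun v hv => hw v (Or.inl hv)) fun w' hw' => ?_
  have hwe : hf w e = 0 := hw e (by simp)
  have hwf : hf w f = 0 := hw f (by simp)
  have hp : w' - hf w' f • e - hf w' e • f ∈ wsp q (M ∪ {e, f}) := by
    rintro v (hv | hv)
    · exact sub_mem (sub_mem hw' (Submodule.smul_mem _ _ he)) (Submodule.smul_mem _ _ hf') v hv
    · rcases hv with rfl | rfl
      · exact (inW_proj hF H w').1
      · exact (inW_proj hF H w').2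
  have h1 := h _ hp
  rw [herm_sub_left hF, herm_sub_left hF, herm_smul_left, herm_smul_left, hf_swap_zero hF hwe,
    hf_swap_zero hF hwf] at h1
  simpa using h1

theorem wsp_insert_lt {M : Set Vn} {e f : Vn} (H : Hyp q e f) (he : e ∈ wsp q M) :
    wsp q (M ∪ {e, f}) < wsp q M :=
  lt_of_le_of_ne (fun x hx v hv => hx v (Or.inl hv)) fun h => by
    have h1 : hf e f = 0 := (h.symm ▸ he : e ∈ wsp q (M ∪ {e, f})) f (by simp)
    rw [H.ef] at h1
    exact one_ne_zero h1

/-- The torus values reached by Eichler elements. -/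
theorem exists_scale {M : Set Vn} (hnd : Nd q M) {e f : Vn} (H : Hyp q e f) (he : e ∈ wsp q M)
    (hf' : f ∈ wsp q M) {α : F} (hα : α ≠ 0)
    (h : α ^ q = α ∨ wsp q (M ∪ {e, f}) ≠ ⊥) :
    ∃ k ∈ Subgroup.closure (eichGens (q := q) M), suMat k *ᵥ e = α • e := by
  obtain ⟨s0, hs00, hs0⟩ := exists_skew hF
  obtain ⟨k0, hk0, hk0e⟩ := exists_turn hF H he hf' (zero_mem _)
    ⟨hf_zero_left _, hf_zero_left _⟩ hs00 (by rw [hf_zero_left, add_zero, hs0])
  set s := s0 * (α ^ q)⁻¹ with hs
  have hs1 : s ≠ 0 := mul_ne_zero hs00 (inv_ne_zero (pow_ne_zero _ hα))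
  obtain ⟨a, ha, haW, has⟩ : ∃ a ∈ wsp q M, InW q e f a ∧ s + s ^ q + hf a a = 0 := by
    by_cases hc : s + s ^ q = 0
    · exact ⟨0, zero_mem _, ⟨hf_zero_left _, hf_zero_left _⟩, by rw [hf_zero_left, add_zero, hc]⟩
    rcases h with h | h
    · exfalso
      apply hc
      rw [hs, h, mul_pow, inv_pow, h, ← add_mul, hs0, zero_mul]
    obtain ⟨a0, ha0, haa⟩ := exists_aniso hF (nd_insert hF hnd H he hf') h
    have hfix : (-(s + s ^ q) / hf a0 a0) ^ q = -(s + s ^ q) / hf a0 a0 := by
      have h1 := herm_self_fixed hF a0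
      rw [← frobQ_apply hF] at h1
      rw [← frobQ_apply hF (-(s + s ^ q) / hf a0 a0), map_div₀, map_neg, map_add, frobQ_apply,
        frobQ_apply hF (s ^ q), pow_q_q hF, h1, add_comm (s ^ q)]
    obtain ⟨l, hl⟩ := exists_norm_eq hF hfix
    refine ⟨l • a0, Submodule.smul_mem _ _ (fun v hv => ha0 v (Or.inl hv)),
      ⟨by rw [herm_smul_left, ha0 e (by simp), mul_zero],
        by rw [herm_smul_left, ha0 f (by simp), mul_zero]⟩, ?_⟩
    rw [herm_smul_left, herm_smul_right hF, ← mul_assoc, ← pow_succ', hl, div_mul_cancel₀ _ haa]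
    ring
  obtain ⟨k, hk, hke⟩ := exists_turn hF H he hf' ha haW hs1 has
  refine ⟨k0⁻¹ * k, mul_mem (inv_mem hk0) hk, ?_⟩
  have hf0 : suMat k0⁻¹ *ᵥ f = s0 ^ q • e := by
    have h1 : suMat k0⁻¹ *ᵥ (suMat k0 *ᵥ e) = e := su_inv_mulVec k0 e
    rw [hk0e, Matrix.mulVec_smul] at h1
    conv_rhs => rw [← h1, smul_smul, mul_inv_cancel₀ (pow_ne_zero _ hs00), one_smul]
  rw [suMat_mul, ← Matrix.mulVec_mulVec, hke, Matrix.mulVec_smul, hf0, smul_smul]
  congr 1
  rw [hs, mul_pow, inv_pow, pow_q_q hF]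
  field_simp

/-- **The stabilizer of the complement is generated by Eichler elements.** -/
theorem fixSub_le {M : Set Vn} (hnd : Nd q M) :
    fixSub M ≤ Subgroup.closure (eichGens (q := q) M) := by
  generalize hd : Module.finrank F (wsp q M) = d
  induction d using Nat.strong_induction_on generalizing M with
  | _ d ih =>
    intro g hg
    by_cases hiso : ∀ x ∈ wsp q M, hf x x = 0 → x = 0
    · rw [eq_one_of_aniso hF hnd hiso hg]; exact one_mem _
    push Not at hiso
    obtain ⟨e, he, hee, he0⟩ := hiso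
    obtain ⟨f, hf', H⟩ := exists_hyp_wsp hF hnd he he0 hee
    obtain ⟨k, hk, α, hα, hke⟩ := exists_move hF hnd H he hf' (mulVec_mem_wsp hF hg he)
      (su_mulVec_ne_zero g he0) ((su_preserves g e e).trans hee)
    set g1 := k * g with hg1
    have hgg : g = k⁻¹ * g1 := by rw [hg1, inv_mul_cancel_left]
    rw [hgg]
    refine mul_mem (inv_mem hk) ?_
    have hg1f : g1 ∈ fixSub M := mul_mem (eichGens_fix hF M hk) hg
    have hg1e : suMat g1 *ᵥ e = α • e := by rw [hg1, suMat_mul, ← Matrix.mulVec_mulVec, hke]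
    clear_value g1
    clear hgg hg1 hke hk k hg g
    have hαq : α ^ q ≠ 0 := pow_ne_zero _ hα
    have hy : hf (α ^ q • (suMat g1 *ᵥ f)) e = 1 := by
      have h1 : hf (suMat g1 *ᵥ f) (suMat g1 *ᵥ e) = 1 := (su_preserves g1 f e).trans (H.fe hF)
      rw [hg1e, herm_smul_right hF] at h1
      rw [herm_smul_left, h1]
    obtain ⟨a, s, hav, hs, ha, haW, hr⟩ := exists_radical_move hF H he hf'
      (Submodule.smul_mem _ (α ^ q) (mulVec_mem_wsp hF hg1f hf'))
      (by
        have h1 : hf (suMat g1 *ᵥ f) (suMat g1 *ᵥ f) = 0 := (su_preserves g1 f f).trans H.ff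
        rw [herm_smul_left, herm_smul_right hF, h1, mul_zero, mul_zero]) hy
    set r := eich hF e a s H.ee hav hs
    have hrK : r ∈ Subgroup.closure (eichGens (q := q) M) := eich_mem hF s he ha H.ee hav hs
    set g2 := r⁻¹ * g1 with hg2
    rw [show g1 = r * g2 by rw [hg2, mul_inv_cancel_left]]
    refine mul_mem hrK ?_
    have hg2f : g2 ∈ fixSub M := mul_mem (inv_mem (eichGens_fix hF M hrK)) hg1f
    have hg2e : suMat g2 *ᵥ e = α • e := by
      have hre : suMat r *ᵥ e = e := by
        rw [suMat_eich, H.ee, hf_swap_zero hF hav]; simp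
      rw [hg2, suMat_mul, ← Matrix.mulVec_mulVec, hg1e, Matrix.mulVec_smul]
      congr 1
      conv_lhs => rw [← hre]
      exact su_inv_mulVec r e
    have hg2f' : suMat g2 *ᵥ f = (α ^ q)⁻¹ • f := by
      rw [hg2, suMat_mul, ← Matrix.mulVec_mulVec]
      have h1 : suMat r⁻¹ *ᵥ (α ^ q • (suMat g1 *ᵥ f)) = f := by rw [← hr, su_inv_mulVec]
      rw [Matrix.mulVec_smul] at h1
      conv_rhs => rw [← h1, smul_smul, inv_mul_cancel₀ hαq, one_smul]
    clear_value g2
    clear hg2 hrK hr hy hg1e hg1f g1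
    have hαcond : α ^ q = α ∨ wsp q (M ∪ {e, f}) ≠ ⊥ := by
      by_cases hbot : wsp q (M ∪ {e, f}) = ⊥
      swap
      · exact Or.inr hbot
      left
      have hx : ∀ x, suMat g2 *ᵥ x =
          x + ((α - 1) * hf x f) • e + (((α ^ q)⁻¹ - 1) * hf x e) • f := by
        intro x
        have hp := inW_proj hF H x
        set x' := x - hf x f • e - hf x e • f with hx'
        have hfx : suMat g2 *ᵥ x' = x' := by
          refine sub_eq_zero.1 ((Submodule.mem_bot F).1 (hbot ▸ ?_))
          rintro v (hv | hv)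
          · exact mem_wsp_sub hF hg2f x' v hv
          · rcases hv with rfl | rfl
            · have h1 : hf (suMat g2 *ᵥ x') (suMat g2 *ᵥ v) = 0 := (su_preserves g2 x' v).trans hp.1
              rw [hg2e, herm_smul_right hF] at h1
              have h2 : hf x' v = 0 := hp.1
              rw [herm_sub_left hF, (mul_eq_zero.1 h1).resolve_left hαq, h2, sub_zero]
            · have h1 : hf (suMat g2 *ᵥ x') (suMat g2 *ᵥ v) = 0 := (su_preserves g2 x' v).trans hp.2
              rw [hg2f', herm_smul_right hF] at h1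
              have h2 : hf x' v = 0 := hp.2
              rw [herm_sub_left hF,
                (mul_eq_zero.1 h1).resolve_left (pow_ne_zero _ (inv_ne_zero hαq)), h2, sub_zero]
        have : x = x' + hf x f • e + hf x e • f := by rw [hx']; abel
        conv_lhs => rw [this, Matrix.mulVec_add, Matrix.mulVec_add, Matrix.mulVec_smul,
          Matrix.mulVec_smul, hfx, hg2e, hg2f', hx']
        module
      have hmat : suMat g2 = (1 + Matrix.vecMulVec ((α - 1) • e) (barVec q f)) *
          (1 + Matrix.vecMulVec (((α ^ q)⁻¹ - 1) • f) (barVec q e)) :=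
        Matrix.ext_iff_smul.mpr fun x => by
          rw [Matrix.smul_eq_mulVec, Matrix.smul_eq_mulVec, hx]
          simp only [← Matrix.mulVec_mulVec, Matrix.add_mulVec, Matrix.one_mulVec,
            Matrix.vecMulVec_mulVec, op_smul_eq_smul, smul_smul, barVec_dot, herm_add_left,
            herm_smul_left, H.ff, mul_zero, add_zero]
          module
      have hdet : (suMat g2).det = 1 := g2.1.2
      rw [hmat, Matrix.det_mul, Matrix.vecMulVec_eq (Fin 1), Matrix.vecMulVec_eq (Fin 1),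
        Matrix.det_one_add_replicateCol_mul_replicateRow,
        Matrix.det_one_add_replicateCol_mul_replicateRow, dotProduct_smul, dotProduct_smul,
        barVec_dot, barVec_dot, H.ef, H.fe hF, smul_eq_mul, smul_eq_mul, mul_one, mul_one,
        add_sub_cancel, add_sub_cancel] at hdet
      field_simp at hdet
      exact hdet.symm
    obtain ⟨k, hk, hke⟩ := exists_scale hF hnd H he hf' hα hαcond
    set g3 := k⁻¹ * g2 with hg3
    rw [show g2 = k * g3 by rw [hg3, mul_inv_cancel_left]]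
    refine mul_mem hk ?_
    have hg3e : suMat g3 *ᵥ e = e := by
      rw [hg3, suMat_mul, ← Matrix.mulVec_mulVec, hg2e, ← hke, su_inv_mulVec]
    have hg3f : g3 ∈ fixSub M := mul_mem (inv_mem (eichGens_fix hF M hk)) hg2f
    clear_value g3
    clear hg3 hke hk k hg2e hg2f' hg2f g2
    obtain ⟨a', s', hav', hs', ha', -, hr'⟩ := exists_radical_move hF H he hf'
      (mulVec_mem_wsp hF hg3f hf') ((su_preserves g3 f f).trans H.ff)
      (by conv_lhs => rw [← hg3e]
          exact (su_preserves g3 f e).trans (H.fe hF))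
    set r' := eich hF e a' s' H.ee hav' hs'
    have hr'K : r' ∈ Subgroup.closure (eichGens (q := q) M) := eich_mem hF s' he ha' H.ee hav' hs'
    rw [show g3 = r' * (r'⁻¹ * g3) by rw [mul_inv_cancel_left]]
    refine mul_mem hr'K ?_
    have hr'e : suMat r' *ᵥ e = e := by
      rw [suMat_eich, H.ee, hf_swap_zero hF hav']; simp
    have hmem : r'⁻¹ * g3 ∈ fixSub (M ∪ {e, f}) := by
      rintro v (hv | hv)
      · exact mul_mem (inv_mem (eichGens_fix hF M hr'K)) hg3f v hv
      · rcases hv with rfl | rfl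
        · rw [suMat_mul, ← Matrix.mulVec_mulVec, hg3e]
          conv_lhs => rw [← hr'e]
          exact su_inv_mulVec r' _
        · rw [suMat_mul, ← Matrix.mulVec_mulVec, ← hr', su_inv_mulVec]
    have h3 := ih _ (hd ▸ Submodule.finrank_lt_finrank_of_lt (wsp_insert_lt hF H he))
      (nd_insert hF hnd H he hf') rfl hmem
    refine Subgroup.closure_mono ?_ h3
    rintro A ⟨v, b, c, hv, hb, hvv, hbv, hA⟩
    exact ⟨v, b, c, fun x hx => hv x (Or.inl hx), fun x hx => hb x (Or.inl hx), hvv, hbv, hA⟩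

/-- A `p`-group fixing a set fixes a nonzero vector of the complement. -/
theorem exists_fixed {p : ℕ} [Fact p.Prime] [CharP F p] {Q : Subgroup SUn} (hQ : IsPGroup p Q)
    {M : Set Vn} (hQM : Q ≤ fixSub M) (h : wsp q M ≠ ⊥) :
    ∃ x ∈ wsp q M, x ≠ 0 ∧ ∀ g ∈ Q, suMat g *ᵥ x = x := by
  letI : MulAction Q (wsp q M) :=
    { smul := fun g x => ⟨suMat g.1 *ᵥ x.1, mulVec_mem_wsp hF (hQM g.2) x.2⟩
      one_smul := fun x => Subtype.ext (Matrix.one_mulVec x.1)
      mul_smul := fun g h x => Subtype.ext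
        (Matrix.mulVec_mulVec x.1 (suMat g.1) (suMat h.1)).symm }
  letI := Fintype.ofFinite F
  have hpdvd : p ∣ Nat.card (wsp q M) := by
    obtain ⟨k, -, hk⟩ := FiniteField.card F p
    rw [Module.natCard_eq_pow_finrank (K := F), Nat.card_eq_fintype_card, hk, ← pow_mul]
    exact dvd_pow_self p (Nat.mul_ne_zero k.ne_zero
      (fun e => h (Submodule.finrank_eq_zero.1 e)))
  obtain ⟨x, hx, hx0⟩ := hQ.exists_fixed_point_of_prime_dvd_card_of_fixed_point (α := wsp q M)
    hpdvd (a := (0 : wsp q M)) (fun g => Subtype.ext (Matrix.mulVec_zero (suMat g.1)))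
  exact ⟨x.1, x.2, fun e => hx0 (Subtype.ext e.symm), fun g hg => congrArg Subtype.val (hx ⟨g, hg⟩)⟩

/-- A `p`-group fixing a set fixes an isotropic vector of the complement, if there is one. -/
theorem exists_fixed_iso {p : ℕ} [Fact p.Prime] [CharP F p] {Q : Subgroup SUn} (hQ : IsPGroup p Q)
    {M : Set Vn} (hQM : Q ≤ fixSub M) {z : Vn} (hz : z ∈ wsp q M) (hz0 : z ≠ 0)
    (hzz : hf z z = 0) :
    ∃ x ∈ wsp q M, x ≠ 0 ∧ hf x x = 0 ∧ ∀ g ∈ Q, suMat g *ᵥ x = x := by
  obtain ⟨x, hx, hx0, hxQ⟩ := exists_fixed hF hQ hQM ((Submodule.ne_bot_iff _).2 ⟨z, hz, hz0⟩)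
  by_cases hxx : hf x x = 0
  · exact ⟨x, hx, hx0, hxx, hxQ⟩
  have hQM' : Q ≤ fixSub (M ∪ {x}) := fun g hg v hv => by
    rcases hv with hv | hv
    · exact hQM hg v hv
    · rw [hv]; exact hxQ g hg
  have hne : wsp q (M ∪ {x}) ≠ ⊥ := by
    intro hb
    have h1 : z - (hf z x / hf x x) • x ∈ wsp q (M ∪ {x}) := by
      rintro v (hv | hv)
      · exact sub_mem hz (Submodule.smul_mem _ _ hx) v hv
      · rw [hv, herm_sub_left hF, herm_smul_left, div_mul_cancel₀ _ hxx, sub_self]
    rw [hb, Submodule.mem_bot, sub_eq_zero] at h1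
    set c := hf z x / hf x x
    have hc : c ≠ 0 := fun e => hz0 (by rw [h1, e, zero_smul])
    rw [h1, herm_smul_left, herm_smul_right hF] at hzz
    rcases mul_eq_zero.1 hzz with h2 | h2
    · exact hc h2
    · rcases mul_eq_zero.1 h2 with h3 | h3
      · exact pow_ne_zero _ hc h3
      · exact hxx h3
  obtain ⟨y, hy, hy0, hyQ⟩ := exists_fixed hF hQ hQM' hne
  have hyW : y ∈ wsp q M := fun v hv => hy v (Or.inl hv)
  by_cases hyy : hf y y = 0
  · exact ⟨y, hyW, hy0, hyy, hyQ⟩
  have hyx : hf y x = 0 := hy x (Or.inr rfl)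
  have hfix : (-hf x x / hf y y) ^ q = -hf x x / hf y y := by
    have h1 := herm_self_fixed hF x
    have h2 := herm_self_fixed hF y
    rw [← frobQ_apply hF] at h1 h2 ⊢
    rw [map_div₀, map_neg, h1, h2]
  obtain ⟨l, hl⟩ := exists_norm_eq hF hfix
  refine ⟨x + l • y, add_mem hx (Submodule.smul_mem _ _ hyW), fun e => ?_, ?_, fun g hg => ?_⟩
  · have h1 := congrArg (fun z => hf z x) e
    simp only [herm_add_left, herm_smul_left, hyx, hf_zero_left, mul_zero, add_zero] at h1
    exact hxx h1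
  · simp only [herm_add_left, herm_add_right hF, herm_smul_left, herm_smul_right hF, hyx,
      hf_swap_zero hF hyx]
    rw [pow_succ] at hl
    field_simp at hl
    linear_combination hl
  · rw [Matrix.mulVec_add, Matrix.mulVec_smul, hxQ g hg, hyQ g hg]

/-- The radical of a fixed point inside a maximal `p`-subgroup of the stabilizer. -/
theorem radical_le_max {p : ℕ} [Fact p.Prime] [CharP F p] {M : Set Vn} {Q : Subgroup SUn}
    (hQ : IsPGroup p Q) (hQM : Q ≤ fixSub M)
    (hmax : ∀ R : Subgroup SUn, IsPGroup p R → R ≤ fixSub M → Q ≤ R → R ≤ Q) {x : Vn}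
    (hxx : hf x x = 0) (hxQ : ∀ g ∈ Q, suMat g *ᵥ x = x) :
    radical hF x hxx ⊓ fixSub M ≤ Q := by
  have hnorm : Q ≤ Subgroup.normalizer ((radical hF x hxx ⊓ fixSub M : Subgroup SUn) : Set SUn) := by
    intro g hg
    have hin : ∀ h : SUn, h ∈ Q → ∀ A, A ∈ radical hF x hxx ⊓ fixSub M →
        h * A * h⁻¹ ∈ radical hF x hxx ⊓ fixSub M := fun h hh A hA =>
      ⟨radical_conj hF h hxx (μ := 1) (by rw [hxQ h hh, one_smul]) hA.1,
        (fixSub M).mul_mem ((fixSub M).mul_mem (hQM hh) hA.2) ((fixSub M).inv_mem (hQM hh))⟩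
    rw [Subgroup.mem_normalizer_iff]
    intro A
    refine ⟨hin g hg A, fun hA => ?_⟩
    have h1 := hin g⁻¹ (inv_mem hg) _ hA
    simpa [mul_assoc] using h1
  exact le_sup_right.trans (hmax _ (IsPGroup.to_sup_of_normal_right' hQ
    ((radical_pGroup hF (p := p) hxx).to_le inf_le_left) hnorm) (sup_le hQM inf_le_right) le_sup_left)

/-- **A maximal `p`-subgroup of the stabilizer is generated by its Eichler elements.** -/
theorem le_closure_eich {p : ℕ} [Fact p.Prime] [CharP F p] {M : Set Vn} (hnd : Nd q M)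
    {Q : Subgroup SUn} (hQ : IsPGroup p Q) (hQM : Q ≤ fixSub M)
    (hmax : ∀ R : Subgroup SUn, IsPGroup p R → R ≤ fixSub M → Q ≤ R → R ≤ Q) :
    Q ≤ Subgroup.closure (eichAll ∩ (Q : Set SUn)) := by
  generalize hd : Module.finrank F (wsp q M) = d
  induction d using Nat.strong_induction_on generalizing M Q with
  | _ d ih =>
    intro g hg
    by_cases hiso : ∀ x ∈ wsp q M, hf x x = 0 → x = 0
    · rw [eq_one_of_aniso hF hnd hiso (hQM hg)]; exact one_mem _
    push Not at hiso
    obtain ⟨z, hz, hzz, hz0⟩ := hiso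
    obtain ⟨e, he, he0, hee, heQ⟩ := exists_fixed_iso hF hQ hQM hz hz0 hzz
    obtain ⟨f, hf', H⟩ := exists_hyp_wsp hF hnd he he0 hee
    have hrad := radical_le_max hF hQ hQM hmax hee heQ
    obtain ⟨a, s, hav, hs, ha, -, hr⟩ := exists_radical_move hF H he hf'
      (mulVec_mem_wsp hF (hQM hg) hf') ((su_preserves g f f).trans H.ff)
      (by conv_lhs => rw [← heQ g hg]
          exact (su_preserves g f e).trans (H.fe hF))
    set r := eich hF e a s H.ee hav hs
    have hrQ : r ∈ Q := hrad ⟨⟨a, s, hav, rfl⟩, eichGens_fix hF M (eich_mem hF s he ha H.ee hav hs)⟩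
    rw [show g = r * (r⁻¹ * g) by rw [mul_inv_cancel_left]]
    refine mul_mem (Subgroup.subset_closure ⟨⟨e, a, s, H.ee, hav, rfl⟩, hrQ⟩) ?_
    set Q' := Q ⊓ fixSub (M ∪ {e, f})
    have hmem : r⁻¹ * g ∈ Q' := by
      refine ⟨Q.mul_mem (Q.inv_mem hrQ) hg, ?_⟩
      rintro v (hv | hv)
      · exact hQM (mul_mem (inv_mem hrQ) hg) v hv
      · rcases hv with rfl | rfl
        · exact heQ _ (mul_mem (inv_mem hrQ) hg)
        · rw [suMat_mul, ← Matrix.mulVec_mulVec, ← hr, su_inv_mulVec]
    have hmax' : ∀ R : Subgroup SUn, IsPGroup p R → R ≤ fixSub (M ∪ {e, f}) → Q' ≤ R → R ≤ Q' := by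
      intro R hR hRM hQR
      refine le_inf ?_ hRM
      have hRfix : ∀ h ∈ R, suMat h *ᵥ e = e := fun h hh => hRM hh e (by simp)
      set N := radical hF e H.ee ⊓ fixSub M
      have hRM' : R ≤ fixSub M := fun h hh v hv => hRM hh v (Or.inl hv)
      have hnorm : R ≤ Subgroup.normalizer (N : Set SUn) := by
        intro h hh
        have hin : ∀ k : SUn, k ∈ R → ∀ A, A ∈ N → k * A * k⁻¹ ∈ N := fun k hk A hA =>
          ⟨radical_conj hF k H.ee (μ := 1) (by rw [hRfix k hk, one_smul]) hA.1,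
            (fixSub M).mul_mem ((fixSub M).mul_mem (hRM' hk) hA.2) ((fixSub M).inv_mem (hRM' hk))⟩
        rw [Subgroup.mem_normalizer_iff]
        intro A
        refine ⟨hin h hh A, fun hA => ?_⟩
        have h1 := hin h⁻¹ (inv_mem hh) _ hA
        simpa [mul_assoc] using h1
      have hQle : Q ≤ R ⊔ N := by
        intro h hh
        obtain ⟨a', s', hav', hs', ha', -, hr'⟩ := exists_radical_move hF H he hf'
          (mulVec_mem_wsp hF (hQM hh) hf') ((su_preserves h f f).trans H.ff)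
          (by conv_lhs => rw [← heQ h hh]
              exact (su_preserves h f e).trans (H.fe hF))
        set r' := eich hF e a' s' H.ee hav' hs'
        have hr'N : r' ∈ N :=
          ⟨⟨a', s', hav', rfl⟩, eichGens_fix hF M (eich_mem hF s' he ha' H.ee hav' hs')⟩
        rw [show h = r' * (r'⁻¹ * h) by rw [mul_inv_cancel_left]]
        refine mul_mem (Subgroup.mem_sup_right hr'N) (Subgroup.mem_sup_left (hQR ?_))
        refine ⟨Q.mul_mem (Q.inv_mem (hrad hr'N)) hh, ?_⟩
        rintro v (hv | hv)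
        · exact hQM (mul_mem (inv_mem (hrad hr'N)) hh) v hv
        · rcases hv with rfl | rfl
          · exact heQ _ (mul_mem (inv_mem (hrad hr'N)) hh)
          · rw [suMat_mul, ← Matrix.mulVec_mulVec, ← hr', su_inv_mulVec]
      exact le_sup_left.trans (hmax _ (IsPGroup.to_sup_of_normal_right' hR
        ((radical_pGroup hF (p := p) H.ee).to_le inf_le_left) hnorm)
        (sup_le hRM' inf_le_right) hQle)
    have h3 := ih _ (hd ▸ Submodule.finrank_lt_finrank_of_lt (wsp_insert_lt hF H he))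
      (nd_insert hF hnd H he hf') (hQ.to_le inf_le_left) inf_le_right hmax' rfl hmem
    exact Subgroup.closure_mono (Set.inter_subset_inter_right _ fun x hx => hx.1) h3

end CfsgLib.Fusion.PSUChar
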