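import Cfsg.Agent.Fusion.PSUEich
import Cfsg.Agent.Fusion.PSLSimple

/-!
Radicals of totally isotropic subspaces of a Hermitian space and their centralizers.
-/

set_option autoImplicit false
set_option linter.style.haveILetI false
set_option linter.unusedSectionVars false

open Matrix

namespace CfsgLib.Fusion.PSUChar

open CfsgLib.Unitary CfsgLib.Forms CfsgLib.AutPSU

variable {F : Type*} [Field F] [Finite F] {q n : ℕ}

local notation "hf" => Cfsg.hermForm n F q
local notation "SUn" => Cfsg.SU n F q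
local notation "Vn" => Fin n → F

/-- Conjugate of an Eichler element. -/
theorem suMat_conj_eich (k : SUn) {v : Vn} (hv : hf v v = 0) {a : Vn} {s : F} {A : SUn}
    (hA : suMat A = eichMat q v a s) :
    suMat (k * A * k⁻¹) = eichMat q (suMat k *ᵥ v) (suMat k *ᵥ a) s := by
  have h := eichMat_conj (suToGU k) hv a s
  have hi : (((suToGU k : GL (Fin n) F)⁻¹ : GL (Fin n) F) : Matrix (Fin n) (Fin n) F) = suMat k⁻¹ := by
    rw [← InvMemClass.coe_inv, ← map_inv]; rfl
  rw [hi] at h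
  rw [suMat_mul, suMat_mul, hA]
  exact h

/-- The elements stabilizing a subspace. -/
def stabU (U : Submodule F (Fin n → F)) : Subgroup (Cfsg.SU n F q) where
  carrier := {g | ∀ u ∈ U, suMat g *ᵥ u ∈ U}
  mul_mem' {a b} ha hb u hu := by rw [suMat_mul, ← Matrix.mulVec_mulVec]; exact ha _ (hb u hu)
  one_mem' u hu := by rwa [suMat_one, Matrix.one_mulVec]
  inv_mem' {a} ha := by
    have hpow : ∀ k : ℕ, ∀ u ∈ U, suMat (a ^ k) *ᵥ u ∈ U := by
      intro k
      induction k with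
      | zero => intro u hu; rwa [pow_zero, suMat_one, Matrix.one_mulVec]
      | succ k ih => intro u hu; rw [pow_succ', suMat_mul, ← Matrix.mulVec_mulVec]; exact ha _ (ih u hu)
    have : a⁻¹ = a ^ (orderOf a - 1) := by
      rw [inv_eq_iff_mul_eq_one, ← pow_succ', Nat.sub_add_cancel (orderOf_pos a), pow_orderOf_eq_one]
    show ∀ u ∈ U, _
    rw [this]
    exact hpow _

/-- The unipotent radical attached to a totally isotropic subspace. -/
def radU (U : Submodule F (Fin n → F)) : Subgroup (Cfsg.SU n F q) where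
  carrier := {g | (∀ u ∈ U, suMat g *ᵥ u = u) ∧
    ∀ x : Fin n → F, (∀ u ∈ U, Cfsg.hermForm n F q x u = 0) → suMat g *ᵥ x - x ∈ U}
  mul_mem' {a b} ha hb := by
    refine ⟨fun u hu => by rw [suMat_mul, ← Matrix.mulVec_mulVec, hb.1 u hu, ha.1 u hu], fun x hx => ?_⟩
    have : suMat (a * b) *ᵥ x - x = suMat a *ᵥ (suMat b *ᵥ x - x) + (suMat a *ᵥ x - x) := by
      rw [suMat_mul, ← Matrix.mulVec_mulVec, Matrix.mulVec_sub]; abel
    rw [this, ha.1 _ (hb.2 x hx)]
    exact add_mem (hb.2 x hx) (ha.2 x hx)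
  one_mem' := ⟨fun u _ => by rw [suMat_one, Matrix.one_mulVec],
    fun x _ => by rw [suMat_one, Matrix.one_mulVec, sub_self]; exact zero_mem _⟩
  inv_mem' {a} ha := by
    have hfix : ∀ u ∈ U, suMat a⁻¹ *ᵥ u = u := fun u hu => by
      conv_lhs => rw [← ha.1 u hu]
      exact su_inv_mulVec a u
    refine ⟨hfix, fun x hx => ?_⟩
    have h1 := hfix _ (ha.2 x hx)
    rw [Matrix.mulVec_sub, su_inv_mulVec] at h1
    have : suMat a⁻¹ *ᵥ x - x = -(suMat a *ᵥ x - x) := by rw [← h1]; abel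
    rw [this]
    exact neg_mem (ha.2 x hx)

/-- Conjugation by a stabilizing element. -/
theorem radU_conj {U : Submodule F Vn} {s : SUn} (hs : s ∈ stabU U) :
    ∀ A ∈ radU (q := q) U, s * A * s⁻¹ ∈ radU (q := q) U := by
  intro A hA
  have hsi : s⁻¹ ∈ stabU (q := q) U := inv_mem hs
  have hcancel : ∀ x, suMat s *ᵥ (suMat s⁻¹ *ᵥ x) = x := fun x => by
    simpa using su_inv_mulVec s⁻¹ x
  refine ⟨fun u hu => ?_, fun x hx => ?_⟩
  · rw [suMat_mul, suMat_mul, ← Matrix.mulVec_mulVec, ← Matrix.mulVec_mulVec, hA.1 _ (hsi u hu),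
      hcancel]
  · have hx' : ∀ u ∈ U, hf (suMat s⁻¹ *ᵥ x) u = 0 := fun u hu => by
      rw [← su_preserves s, hcancel]; exact hx _ (hs u hu)
    have h1 := hs _ (hA.2 _ hx')
    rw [Matrix.mulVec_sub, hcancel] at h1
    rwa [suMat_mul, suMat_mul, ← Matrix.mulVec_mulVec, ← Matrix.mulVec_mulVec]

variable (hF : Nat.card F = q ^ 2)
include hF

theorem radU_pGroup {p : ℕ} [Fact p.Prime] [CharP F p] (hn : 0 < n) {U : Submodule F Vn}
    (hU : ∀ u ∈ U, ∀ u' ∈ U, hf u u' = 0) : IsPGroup p (radU (q := q) U) := by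
  rintro ⟨A, hfix, hA⟩
  refine ⟨2, Subtype.ext (suMat_inj ?_)⟩
  show suMat (A ^ p ^ 2) = suMat 1
  haveI : Nonempty (Fin n) := ⟨⟨0, hn⟩⟩
  haveI : ExpChar (Matrix (Fin n) (Fin n) F) p := ExpChar.prime Fact.out
  set D := suMat A - 1 with hD
  have hDx : ∀ x, D *ᵥ x = suMat A *ᵥ x - x := fun x => by
    rw [hD, Matrix.sub_mulVec, Matrix.one_mulVec]
  have h3 : D ^ 3 = 0 := Matrix.ext_iff_smul.mpr fun x => by
    rw [Matrix.smul_eq_mulVec, Matrix.smul_eq_mulVec, Matrix.zero_mulVec, pow_succ, pow_two,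
      ← Matrix.mulVec_mulVec, ← Matrix.mulVec_mulVec, hDx x]
    have h1 : ∀ u ∈ U, hf (suMat A *ᵥ x - x) u = 0 := fun u hu => by
      rw [herm_sub_left hF, sub_eq_zero]
      conv_lhs => rw [← hfix u hu]
      exact su_preserves A x u
    rw [hDx, hDx, hfix _ (hA _ h1), sub_self]
  have hp3 : 3 ≤ p ^ 2 := by nlinarith [(Fact.out : p.Prime).two_le]
  have h4 : suMat A = 1 + D := by rw [hD, add_sub_cancel]
  rw [suMat_pow, h4, add_pow_expChar_pow_of_commute p 2 (Commute.one_left D), one_pow, pow_eq_zero_of_le hp3 h3,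
    add_zero, suMat_one]

theorem utv_mem_radU {U : Submodule F Vn} (hU : ∀ u ∈ U, ∀ u' ∈ U, hf u u' = 0) {u : Vn}
    (hu : u ∈ U) {c : F} (hc : c + c ^ q = 0) {A : SUn}
    (hA : suMat A = Cfsg.unitaryTransvection n q u c) : A ∈ radU (q := q) U := by
  refine ⟨fun u' hu' => ?_, fun x _ => ?_⟩
  · rw [hA, utv_mulVec, hU u' hu' u hu]; simp
  · rw [hA, utv_mulVec, add_sub_cancel_left]; exact Submodule.smul_mem _ _ hu

/-- A `p`-element of `PSU` has a lift of `p`-power order. -/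
theorem exists_lift (hn : 2 ≤ n) {p : ℕ} [Fact p.Prime] [CharP F p] {x : Cfsg.PSU n F q} {k : ℕ}
    (hk : x ^ p ^ k = 1) : ∃ z : SUn,
      QuotientGroup.mk' (Subgroup.center SUn) z = x ∧ z ^ p ^ k = 1 := by
  obtain ⟨z0, rfl⟩ := QuotientGroup.mk'_surjective _ x
  have hp : p.Prime := Fact.out
  set c := Nat.gcd n (q + 1)
  have hcop : Nat.Coprime c (p ^ k) := by
    obtain ⟨p', j, hp', hc', hj, hj0⟩ := exists_prime hF
    have hpp : p' = p := CharP.eq F hc' ‹CharP F p›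
    subst hpp
    refine (Nat.Coprime.pow_left k ((Nat.Prime.coprime_iff_not_dvd hp).mpr fun hd => ?_)).symm
    have h1 : p' ∣ q + 1 := hd.trans (Nat.gcd_dvd_right n (q + 1))
    have h2 : p' ∣ q := hj ▸ dvd_pow_self p' hj0
    exact hp.ne_one (Nat.dvd_one.mp ((Nat.dvd_add_right h2).mp h1))
  obtain ⟨j, hj⟩ : ∃ j, c * j ≡ 1 [MOD p ^ k] := by
    rcases Nat.eq_zero_or_pos k with rfl | hk0
    · exact ⟨0, by rw [pow_zero]; exact Nat.modEq_one⟩
    · obtain ⟨j, -, hj⟩ := Nat.exists_mul_mod_eq_one_of_coprime hcop (Nat.one_lt_pow hk0.ne' hp.one_lt)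
      exact ⟨j, by
        show c * j % p ^ k = 1 % p ^ k
        rw [Nat.one_mod_eq_one.2 (Nat.one_lt_pow hk0.ne' hp.one_lt).ne', hj]⟩
  refine ⟨z0 ^ (c * j), ?_, ?_⟩
  · rw [map_pow, ← pow_mod_orderOf,
      Nat.ModEq.of_dvd (orderOf_dvd_of_pow_eq_one hk) hj, pow_mod_orderOf, pow_one]
  · have hz : z0 ^ p ^ k ∈ Subgroup.center SUn :=
      (QuotientGroup.eq_one_iff _).1 ((map_pow _ z0 (p ^ k)).trans hk)
    have h1 : (z0 ^ p ^ k) ^ c = 1 := by
      show (z0 ^ p ^ k) ^ Nat.gcd n (q + 1) = 1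
      rw [← card_center_SU hF hn]
      exact congrArg Subtype.val (pow_card_eq_one' (x := (⟨_, hz⟩ : Subgroup.center SUn)))
    rw [← pow_mul, mul_comm (c * j), pow_mul, pow_mul, h1, one_pow]

/-- `p`-elements commuting with the radical fix the subspace and move its orthogonal inside it. -/
theorem mem_radU_of_comm {p : ℕ} [Fact p.Prime] [CharP F p] {U : Submodule F Vn}
    (hU : ∀ u ∈ U, ∀ u' ∈ U, hf u u' = 0) (hU0 : U ≠ ⊥) {z : SUn} {k : ℕ}
    (hk : z ^ p ^ k = 1) (hz : ∀ A ∈ radU (q := q) U, z * A * z⁻¹ = A) :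
    z ∈ radU (q := q) U := by
  have hfix : ∀ u ∈ U, suMat z *ᵥ u = u := by
    intro u hu
    by_cases hu0 : u = 0
    · rw [hu0, Matrix.mulVec_zero]
    obtain ⟨c, hc0, hc⟩ := exists_skew hF
    have huu := hU u hu u hu
    have h1 : suMat (z * suTv n u c huu hc hF * z⁻¹) =
        Cfsg.unitaryTransvection n q (suMat z *ᵥ u) c := utv_conj z rfl
    rw [hz _ (utv_mem_radU hF hU hu hc rfl)] at h1
    obtain ⟨l, hl⟩ := utv_eq_span hF (su_mulVec_ne_zero z hu0) hc0 h1.symm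
    have hpow : ∀ j : ℕ, suMat (z ^ j) *ᵥ u = l ^ j • u := by
      intro j
      induction j with
      | zero => rw [pow_zero, pow_zero, suMat_one, Matrix.one_mulVec, one_smul]
      | succ j ih =>
        rw [pow_succ', suMat_mul, ← Matrix.mulVec_mulVec, ih, Matrix.mulVec_smul, hl, smul_smul,
          pow_succ]
    have h2 := hpow (p ^ k)
    rw [hk, suMat_one, Matrix.one_mulVec] at h2
    have h3 : l ^ p ^ k = 1 := smul_left_injective F hu0 (h2.symm.trans (one_smul F u).symm)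
    have h4 : (l - 1) ^ p ^ k = 0 := by rw [sub_pow_char_pow, h3, one_pow, sub_self]
    rw [hl, sub_eq_zero.1 (eq_zero_of_pow_eq_zero h4), one_smul]
  refine ⟨hfix, fun x hx => ?_⟩
  obtain ⟨e, heU, he0⟩ := (Submodule.ne_bot_iff U).1 hU0
  have hee := hU e heU e heU
  obtain ⟨f, H⟩ := exists_hyp hF he0 hee
  obtain ⟨s, hs⟩ := exists_root hF (herm_self_fixed hF x)
  have hxe := hx e heU
  have hA : eich hF e x s hee hxe hs ∈ radU (q := q) U := by
    refine ⟨fun u hu => ?_, fun y hy => ?_⟩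
    · rw [suMat_eich, hU u hu e heU, hf_swap_zero hF (hx u hu)]; simp
    · rw [suMat_eich, hy e heU, zero_smul, add_zero, add_sub_cancel_left]
      exact Submodule.smul_mem _ _ heU
  have h1 : suMat (z * eich hF e x s hee hxe hs * z⁻¹) = eichMat q e (suMat z *ᵥ x) s := by
    rw [suMat_conj_eich z hee (A := eich hF e x s hee hxe hs) rfl, hfix e heU]
  rw [hz _ hA] at h1
  have h2 := congrArg (fun M => M *ᵥ f) h1
  have h3 : suMat (eich hF e x s hee hxe hs) = eichMat q e x s := rfl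
  simp only [h3, eichMat_mulVec hee, H.fe hF, one_smul] at h2
  have : suMat z *ᵥ x - x = (hf f (suMat z *ᵥ x) - hf f x) • e := by
    rw [sub_smul]
    linear_combination (norm := module) -h2
  rw [this]
  exact Submodule.smul_mem _ _ heU

end CfsgLib.Fusion.PSUChar
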