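import Cfsg.Agent.Fusion.PSURad
import Cfsg.Agent.AutPSU.RadicalMap

/-!
The fusion system of `PSU_n(q)`, `n ≥ 4`, in the defining characteristic is simple.
-/

set_option autoImplicit false
set_option linter.style.haveILetI false
set_option linter.unusedSectionVars false

open Matrix

namespace CfsgLib.Fusion.PSUChar

open CfsgLib.Unitary CfsgLib.Forms CfsgLib.AutPSU

variable {F : Type*} [Field F] [Finite F] {q n : ℕ}

local notation "hf" => Cfsg.hermForm n F q
local notation "SUn" => Cfsg.SU n F q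
local notation "Vn" => Fin n → F

variable (hF : Nat.card F = q ^ 2)
include hF

theorem nd_empty : Nd q (∅ : Set Vn) := fun w _ h =>
  uForm_nondeg hF n w fun u => h u fun v hv => absurd hv (Set.notMem_empty v)

theorem exists_iso_empty (hn : 4 ≤ n) : ∃ e : Vn, e ≠ 0 ∧ hf e e = 0 := by
  by_contra hc
  push Not at hc
  have hall : ∀ x ∈ wsp q (∅ : Set Vn), hf x x = 0 → x = 0 := fun x _ hx =>
    Classical.byContradiction fun h => hc x h hx
  have hne : wsp q (∅ : Set Vn) ≠ ⊥ := (Submodule.ne_bot_iff _).2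
    ⟨Pi.single ⟨0, by omega⟩ 1, fun v hv => absurd hv (Set.notMem_empty v),
      Pi.single_ne_zero_iff.mpr one_ne_zero⟩
  obtain ⟨a, ha, ha0⟩ := exists_aniso hF (nd_empty hF) hne
  have hle : (⊤ : Submodule F Vn) ≤ Submodule.span F {a} := fun y _ => by
    obtain ⟨c, rfl⟩ := le_span_of_aniso hF hall ha ha0
      (show y ∈ wsp q (∅ : Set Vn) from fun v hv => absurd hv (Set.notMem_empty v))
    exact Submodule.smul_mem _ _ (Submodule.mem_span_singleton_self a)
  have h1 := (Submodule.finrank_mono hle).trans (finrank_span_le_card ({a} : Set Vn))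
  rw [finrank_top, Module.finrank_fin_fun] at h1
  simp at h1
  omega

theorem exists_iso_pair (hn : 4 ≤ n) {e f : Vn} (H : Hyp q e f) :
    ∃ z ∈ wsp q (∅ ∪ {e, f} : Set Vn), z ≠ 0 ∧ hf z z = 0 := by
  by_contra hc
  push Not at hc
  have hall : ∀ x ∈ wsp q (∅ ∪ {e, f} : Set Vn), hf x x = 0 → x = 0 := fun x hx' hx =>
    Classical.byContradiction fun h => hc x hx' h hx
  have hnd := nd_insert hF (nd_empty hF) H (fun v hv => absurd hv (Set.notMem_empty v))
    (fun v hv => absurd hv (Set.notMem_empty v))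
  classical
  have hspan : ∀ b : Vn, (∀ y ∈ wsp q (∅ ∪ {e, f} : Set Vn), ∃ c : F, y = c • b) → False := by
    intro b hb
    have hle : (⊤ : Submodule F Vn) ≤ Submodule.span F (({e, f, b} : Finset Vn) : Set Vn) := by
      intro y _
      have hp : y - hf y f • e - hf y e • f ∈ wsp q (∅ ∪ {e, f} : Set Vn) := by
        rintro v (hv | hv)
        · exact absurd hv (Set.notMem_empty v)
        · rcases hv with rfl | rfl
          · exact (inW_proj hF H y).1
          · exact (inW_proj hF H y).2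
      obtain ⟨c, hc⟩ := hb _ hp
      have : y = hf y f • e + hf y e • f + c • b := by rw [← hc]; abel
      rw [this]
      refine add_mem (add_mem ?_ ?_) ?_ <;>
        exact Submodule.smul_mem _ _ (Submodule.subset_span (by simp))
    have h1 := (Submodule.finrank_mono hle).trans (finrank_span_finset_le_card _)
    rw [finrank_top, Module.finrank_fin_fun] at h1
    have h2 := h1.trans Finset.card_le_three
    omega
  by_cases hb : wsp q (∅ ∪ {e, f} : Set Vn) = ⊥
  · exact hspan e fun y hy => ⟨0, by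
      rw [hb, Submodule.mem_bot] at hy
      rw [hy, zero_smul]⟩
  · obtain ⟨a, ha, ha0⟩ := exists_aniso hF hnd hb
    exact hspan a fun y hy => le_span_of_aniso hF hall ha ha0 hy

/-- Conjugating a transvection. -/
theorem suTv_conj (k : SUn) {v : Vn} {c : F} (hv : hf v v = 0) (hc : c + c ^ q = 0) {e : Vn}
    (hee : hf e e = 0) {α : F} (hk : suMat k *ᵥ v = α • e)
    (hc' : c * α ^ (q + 1) + (c * α ^ (q + 1)) ^ q = 0) :
    k * suTv n v c hv hc hF * k⁻¹ = suTv n e (c * α ^ (q + 1)) hee hc' hF :=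
  suMat_inj (by
    rw [utv_conj k (A := suTv n v c hv hc hF) rfl, hk, utv_smul hF]
    rfl)

theorem norm_fixed (α : F) : (α ^ (q + 1)) ^ q = α ^ (q + 1) := by
  rw [← pow_mul, add_mul, one_mul, pow_add, pow_mul, pow_q_q hF, pow_succ]
  ring

/-- Strong closure of a transvection gives the maximal unipotent subgroup. -/
theorem le_of_central (hn : 4 ≤ n) {p : ℕ} [Fact p.Prime] [CharP F p] {S : Sylow p SUn} {e f e2 : Vn}
    (H : Hyp q e f) (hrad : radical hF e H.ee ≤ (S : Subgroup SUn))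
    (h2e : hf e2 e = 0) (h2f : hf e2 f = 0) (h2 : hf e2 e2 = 0) (h20 : e2 ≠ 0)
    (hU : radU (q := q) (Submodule.span F {e, e2}) ≤ (S : Subgroup SUn)) {T : Subgroup SUn}
    {c0 : F} (hc0 : c0 ≠ 0) (hc0s : c0 + c0 ^ q = 0)
    (hmem : suTv n e c0 H.ee hc0s hF ∈ T)
    (hcl : ∀ t ∈ T, ∀ g : SUn, g * t * g⁻¹ ∈ (S : Subgroup SUn) → g * t * g⁻¹ ∈ T) :
    (S : Subgroup SUn) ≤ T := by
  have hempty : ∀ x : Vn, x ∈ wsp q (∅ : Set Vn) := fun x v hv => absurd hv (Set.notMem_empty v)
  have he0 : e ≠ 0 := Hyp.ne_left H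
  set U := Submodule.span F ({e, e2} : Set Vn) with hUdef
  have heU : e ∈ U := Submodule.subset_span (by simp)
  have he2U : e2 ∈ U := Submodule.subset_span (by simp)
  have hUiso : ∀ u ∈ U, ∀ u' ∈ U, hf u u' = 0 := by
    intro u hu u' hu'
    obtain ⟨a, b, rfl⟩ := Submodule.mem_span_pair.1 hu
    obtain ⟨a', b', rfl⟩ := Submodule.mem_span_pair.1 hu'
    simp only [herm_add_left, herm_add_right hF, herm_smul_left, herm_smul_right hF, H.ee, h2,
      h2e, hf_swap_zero hF h2e, mul_zero, add_zero]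
  -- all transvections at `e`
  have hte : ∀ c (hc : c + c ^ q = 0), suTv n e c H.ee hc hF ∈ T := by
    intro c hc
    by_cases hc00 : c = 0
    · have : suTv n e c H.ee hc hF = 1 := suMat_inj (by
        show Cfsg.unitaryTransvection n q e c = _
        rw [hc00, utv_zero]; rfl)
      rw [this]; exact one_mem _
    obtain ⟨α, hα⟩ := exists_norm_eq hF (skew_div hc hc0s)
    have hα0 : α ≠ 0 := fun e0 => by
      rw [e0, zero_pow (by omega)] at hα
      exact div_ne_zero hc00 hc0 hα.symm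
    obtain ⟨k, -, hk⟩ := exists_scale hF (nd_empty hF) H (hempty e) (hempty f) hα0 (Or.inr (by
      obtain ⟨z, hz, hz0, -⟩ := exists_iso_pair hF hn H
      exact (Submodule.ne_bot_iff _).2 ⟨z, hz, hz0⟩))
    have hcc : c0 * α ^ (q + 1) = c := by rw [hα, mul_div_cancel₀ _ hc0]
    have h1 := suTv_conj hF k H.ee hc0s H.ee hk (by rw [hcc]; exact hc)
    simp only [hcc] at h1
    exact h1 ▸ hcl _ hmem k (h1 ▸ hrad (suTv_mem_radical hF H.ee hc))
  -- all transvections of `S`
  have htv : ∀ (v : Vn) (c : F) (hv : hf v v = 0) (hc : c + c ^ q = 0),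
      suTv n v c hv hc hF ∈ (S : Subgroup SUn) → suTv n v c hv hc hF ∈ T := by
    intro v c hv hc hmemS
    by_cases hv0 : v = 0
    · have : suTv n v c hv hc hF = 1 := su_ext fun x => by
        show Cfsg.unitaryTransvection n q v c *ᵥ x = _
        rw [utv_mulVec, hv0, smul_zero, add_zero, suMat_one, Matrix.one_mulVec]
      rw [this]; exact one_mem _
    obtain ⟨k, -, α, hα, hk⟩ := exists_move hF (nd_empty hF) H (hempty e) (hempty f) (hempty v) hv0 hv
    have hc' : c * α ^ (q + 1) + (c * α ^ (q + 1)) ^ q = 0 := by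
      rw [mul_comm]; exact skew_smul hc (norm_fixed hF α)
    have h1 := suTv_conj hF k hv hc H.ee hk hc'
    have h2' : k⁻¹ * (k * suTv n v c hv hc hF * k⁻¹) * k⁻¹⁻¹ = suTv n v c hv hc hF := by group
    rw [← h2']
    exact hcl _ (h1 ▸ hte _ hc') k⁻¹ (h2'.symm ▸ hmemS)
  -- short root elements
  obtain ⟨s0, hs00, hs0⟩ := exists_skew hF
  have hshort : ∀ β : F, ∀ A : SUn, suMat A = eichMat q e (β • e2) 0 → A ∈ T := by
    intro β A hA
    set w := (s0⁻¹ * β) • e2 with hw
    have hwU : w ∈ U := Submodule.smul_mem _ _ he2U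
    have hs0' : -s0 + (-s0) ^ q = 0 := by
      rw [← frobQ_apply hF, map_neg, frobQ_apply]; linear_combination -hs0
    have hww := hUiso w hwU w hwU
    have heww := hUiso (e + w) (add_mem heU hwU) (e + w) (add_mem heU hwU)
    have key : A = suTv n (e + w) s0 heww hs0 hF *
        (suTv n e (-s0) H.ee hs0' hF * suTv n w (-s0) hww hs0' hF) := by
      refine su_ext fun x => ?_
      rw [suMat_mul, suMat_mul, ← Matrix.mulVec_mulVec, ← Matrix.mulVec_mulVec, hA,
        eichMat_mulVec H.ee]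
      show _ = Cfsg.unitaryTransvection n q (e + w) s0 *ᵥ (Cfsg.unitaryTransvection n q e (-s0) *ᵥ
        (Cfsg.unitaryTransvection n q w (-s0) *ᵥ x))
      simp only [utv_mulVec, herm_add_left, herm_add_right hF, herm_smul_left, H.ee, hww,
        hUiso w hwU e heU, hUiso e heU w hwU, mul_zero, add_zero]
      have hβ : β • e2 = s0 • w := by
        rw [hw, smul_smul, ← mul_assoc, mul_inv_cancel₀ hs00, one_mul]
      have hs0q : s0 ^ q = -s0 := by linear_combination hs0
      rw [hβ, herm_smul_right hF, hs0q]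
      module
    rw [key]
    refine mul_mem (htv _ _ _ _ (hU (utv_mem_radU hF hUiso (add_mem heU hwU) hs0 rfl)))
      (mul_mem (hte _ _) (htv _ _ _ _ (hU (utv_mem_radU hF hUiso hwU hs0' rfl))))
  have he2W : e2 ∈ wsp q (∅ ∪ {e, f} : Set Vn) := by
    rintro v (hv | hv)
    · exact absurd hv (Set.notMem_empty v)
    · rcases hv with rfl | rfl <;> assumption
  have hnd := nd_insert hF (nd_empty hF) H (hempty e) (hempty f)
  obtain ⟨f2, hf2, H2⟩ := exists_hyp_wsp hF hnd he2W h20 h2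
  have hiso : ∀ a ∈ wsp q (∅ ∪ {e, f} : Set Vn), hf a a = 0 →
      ∃ A ∈ T, ∃ s, suMat A = eichMat q e a s := by
    intro a ha haa
    have hae : hf a e = 0 := ha e (by simp)
    by_cases ha0 : a = 0
    · exact ⟨1, one_mem _, 0, by rw [ha0, suMat_one, eichMat_zero' hF]⟩
    obtain ⟨k, hk, α, hα, hka⟩ := exists_move hF hnd H2 he2W hf2 ha ha0 haa
    have hke : suMat k *ᵥ e = e := eichGens_fix hF _ hk e (by simp)
    have hs : (0 : F) + 0 ^ q + hf a a = 0 := by rw [haa, zero_pow (q_ne_zero hF)]; ring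
    set A := eich hF e a 0 H.ee hae hs
    have hA2 : suMat (k * A * k⁻¹) = eichMat q e (α • e2) 0 := by
      rw [suMat_conj_eich k H.ee (A := A) rfl, hke, hka]
    have h1 : k⁻¹ * (k * A * k⁻¹) * k⁻¹⁻¹ = A := by group
    refine ⟨A, ?_, 0, rfl⟩
    rw [← h1]
    exact hcl _ (hshort α _ hA2) k⁻¹ (h1.symm ▸ hrad ⟨a, 0, hae, rfl⟩)
  have hradT : radical hF e H.ee ≤ T := by
    intro A hA
    obtain ⟨a, s, haW, hAs⟩ := (mem_radical hF H).1 hA
    have haM : a ∈ wsp q (∅ ∪ {e, f} : Set Vn) := by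
      rintro v (hv | hv)
      · exact absurd hv (Set.notMem_empty v)
      · rcases hv with rfl | rfl
        · exact haW.1
        · exact haW.2
    have hadd : ∀ x ∈ wsp q (∅ ∪ {e, f} : Set Vn), ∀ y ∈ wsp q (∅ ∪ {e, f} : Set Vn),
        (∃ A ∈ T, ∃ s, suMat A = eichMat q e x s) → (∃ A ∈ T, ∃ s, suMat A = eichMat q e y s) →
        ∃ A ∈ T, ∃ s, suMat A = eichMat q e (x + y) s := by
      rintro x hx y hy ⟨A, hA, s, hs⟩ ⟨B, hB, r, hr⟩
      exact ⟨A * B, mul_mem hA hB, s + r - hf y x, by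
        rw [suMat_mul, hs, hr, eichMat_mul hF H.ee (hx e (by simp)) (hy e (by simp))]⟩
    obtain ⟨A', hA', s', hs'⟩ : ∃ A ∈ T, ∃ s, suMat A = eichMat q e a s := by
      set b := a - hf a f2 • e2 - hf a e2 • f2 with hb
      have hbW : InW q e2 f2 b := inW_proj hF H2 a
      have hbM : b ∈ wsp q (∅ ∪ {e, f} : Set Vn) :=
        sub_mem (sub_mem haM (Submodule.smul_mem _ _ he2W)) (Submodule.smul_mem _ _ hf2)
      obtain ⟨τ, hτ⟩ := exists_root hF (herm_self_fixed hF b)
      have hdec : a = (b + f2 + τ • e2) + (hf a e2 - 1) • f2 + (hf a f2 - τ) • e2 := by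
        rw [hb, sub_smul, sub_smul, one_smul]; abel
      rw [hdec]
      have hbf : b + f2 + τ • e2 ∈ wsp q (∅ ∪ {e, f} : Set Vn) :=
        add_mem (add_mem hbM hf2) (Submodule.smul_mem _ _ he2W)
      refine hadd _ (add_mem hbf (Submodule.smul_mem _ _ hf2)) _ (Submodule.smul_mem _ _ he2W)
        (hadd _ hbf _ (Submodule.smul_mem _ _ hf2) (hiso _ hbf ?_)
          (hiso _ (Submodule.smul_mem _ _ hf2) ?_)) (hiso _ (Submodule.smul_mem _ _ he2W) ?_)
      · simp only [herm_add_left, herm_add_right hF, herm_smul_left, herm_smul_right hF, H2.ee,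
          H2.ff, H2.ef, H2.fe hF, hbW.1, hbW.2, hf_swap_zero hF hbW.1, hf_swap_zero hF hbW.2]
        linear_combination hτ
      · rw [herm_smul_left, herm_smul_right hF, H2.ff, mul_zero, mul_zero]
      · rw [herm_smul_left, herm_smul_right hF, H2.ee, mul_zero, mul_zero]
    have hd : (s - s') + (s - s') ^ q = 0 := by
      have h1 := eich_cond hF H haW hAs
      have h3 := eich_cond hF H haW hs'
      rw [← frobQ_apply hF, map_sub, frobQ_apply, frobQ_apply]
      linear_combination h1 - h3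
    have : A = A' * suTv n e (s - s') H.ee hd hF := suMat_inj (by
      rw [suMat_mul, hs', show suMat (suTv n e (s - s') H.ee hd hF) =
        Cfsg.unitaryTransvection n q e (s - s') from rfl, ← eichMat_zero e _ (q_ne_zero hF),
        eichMat_mul hF H.ee haW.1 (hf_zero_left e), add_zero, hf_zero_left, sub_zero, hAs]
      congr 1; ring)
    rw [this]
    exact mul_mem hA' (hte _ hd)
  refine (le_closure_eich hF (nd_empty hF) S.2
    (fun g _ v hv => absurd hv (Set.notMem_empty v)) fun R hR _ hle => (S.3 hR hle).le).trans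
    ((Subgroup.closure_le T).2 ?_)
  rintro A ⟨⟨v, a, s, hv, hav, hA⟩, hAS⟩
  by_cases hv0 : v = 0
  · have : A = 1 := su_ext fun x => by
      rw [hA, eichMat_mulVec hv, hv0, suMat_one, Matrix.one_mulVec, hf_swap_zero hF (hf_zero_left x)]
      simp
    rw [this]; exact one_mem _
  obtain ⟨k, -, α, hα, hk⟩ := exists_move hF (nd_empty hF) H (hempty e) (hempty f) (hempty v) hv0 hv
  have h1 : suMat (k * A * k⁻¹) = eichMat q e (α ^ q • (suMat k *ᵥ a)) (α ^ (q + 1) * s) := by
    rw [suMat_conj_eich k hv hA, hk, eichMat_smul hF H.ee]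
  have hke : hf (α ^ q • (suMat k *ᵥ a)) e = 0 := by
    have h3 : hf (suMat k *ᵥ a) (suMat k *ᵥ v) = 0 := (su_preserves k a v).trans hav
    rw [hk, herm_smul_right hF] at h3
    rw [herm_smul_left, (mul_eq_zero.1 h3).resolve_left (pow_ne_zero _ hα), mul_zero]
  have h2' : k⁻¹ * (k * A * k⁻¹) * k⁻¹⁻¹ = A := by group
  rw [SetLike.mem_coe, ← h2']
  exact hcl _ (hradT ⟨_, _, hke, h1⟩) k⁻¹ (h2'.symm ▸ hAS)

/-- The central elements of a maximal unipotent subgroup are transvections. -/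
theorem central_eq {p : ℕ} [Fact p.Prime] [CharP F p] {S : Sylow p SUn} {e f : Vn} (H : Hyp q e f)
    (hrad : radical hF e H.ee ≤ (S : Subgroup SUn)) {z : SUn} (hz : z ∈ (S : Subgroup SUn))
    (hc : ∀ y ∈ (S : Subgroup SUn), z * y = y * z) :
    ∃ c, ∃ hc : c + c ^ q = 0, z = suTv n e c H.ee hc hF := by
  have hempty : ∀ x : Vn, x ∈ wsp q (∅ : Set Vn) := fun x v hv => absurd hv (Set.notMem_empty v)
  have hU : ∀ u ∈ Submodule.span F {e}, ∀ u' ∈ Submodule.span F {e}, hf u u' = 0 := by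
    intro u hu u' hu'
    obtain ⟨a, rfl⟩ := Submodule.mem_span_singleton.1 hu
    obtain ⟨b, rfl⟩ := Submodule.mem_span_singleton.1 hu'
    rw [herm_smul_left, herm_smul_right hF, H.ee, mul_zero, mul_zero]
  have he0 : e ≠ 0 := Hyp.ne_left H
  obtain ⟨k, hk⟩ := S.2 ⟨z, hz⟩
  have hk' : z ^ p ^ k = 1 := congrArg Subtype.val hk
  have hradU : ∀ A ∈ radU (q := q) (Submodule.span F {e}), A ∈ radical hF e H.ee := by
    rintro A ⟨hfix, hA⟩
    have heA : suMat A *ᵥ e = e := hfix e (Submodule.mem_span_singleton_self e)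
    obtain ⟨a, s, hav, hs, -, haW, hr⟩ := exists_radical_move hF H (hempty e) (hempty f)
      (hempty (suMat A *ᵥ f)) ((su_preserves A f f).trans H.ff)
      (by conv_lhs => rw [← heA]
          exact (su_preserves A f e).trans (H.fe hF))
    refine ⟨a, s, hav, ?_⟩
    refine Matrix.ext_iff_smul.mpr fun x => ?_
    rw [Matrix.smul_eq_mulVec, Matrix.smul_eq_mulVec]
    have hdec : x = hf x f • e + hf x e • f + (x - hf x f • e - hf x e • f) := by abel
    have hW := inW_proj hF H x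
    set x' := x - hf x f • e - hf x e • f
    obtain ⟨c, hc'⟩ := Submodule.mem_span_singleton.1 (hA x' fun u hu => by
      obtain ⟨b, rfl⟩ := Submodule.mem_span_singleton.1 hu
      rw [herm_smul_right hF, hW.1, mul_zero])
    have h1 : hf (suMat A *ᵥ x') (suMat A *ᵥ f) = 0 := (su_preserves A x' f).trans hW.2
    have h2 : suMat A *ᵥ x' = x' + c • e := by rw [hc']; abel
    rw [← hr, h2, suMat_eich, H.fe hF, hf_swap_zero hF haW.2] at h1
    simp only [herm_add_left, herm_add_right hF, herm_smul_left, herm_smul_right hF, H.ee, H.ef,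
      hW.1, hW.2, hf_swap_zero hF haW.1, one_smul, mul_zero, add_zero, zero_add, mul_one] at h1
    conv_lhs => rw [hdec, Matrix.mulVec_add, Matrix.mulVec_add, Matrix.mulVec_smul,
      Matrix.mulVec_smul, heA, h2, ← hr, suMat_eich, H.fe hF, hf_swap_zero hF haW.2]
    conv_rhs => rw [hdec, Matrix.mulVec_add, Matrix.mulVec_add, Matrix.mulVec_smul,
      Matrix.mulVec_smul, eichMat_mulVec H.ee, eichMat_mulVec H.ee, eichMat_mulVec H.ee, H.ee,
      H.fe hF, hW.1, hf_swap_zero hF hav, hf_swap_zero hF haW.2]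
    have h3 : c = -hf x' a := by linear_combination h1
    rw [h3]
    module
  have hrU : ∀ A ∈ radical hF e H.ee, A ∈ radU (q := q) (Submodule.span F {e}) := by
    rintro A ⟨a, s, hav, hA⟩
    refine ⟨fun u hu => ?_, fun x hx => ?_⟩
    · obtain ⟨b, rfl⟩ := Submodule.mem_span_singleton.1 hu
      rw [hA, eichMat_mulVec H.ee]
      simp only [herm_smul_left, H.ee, hf_swap_zero hF hav]
      simp
    · rw [hA, eichMat_mulVec H.ee, hx e (Submodule.mem_span_singleton_self e), zero_smul,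
        add_zero, add_sub_cancel_left]
      exact Submodule.smul_mem _ _ (Submodule.mem_span_singleton_self e)
  obtain ⟨a, s, haW, hzs⟩ := (mem_radical hF H).1 (hradU z (mem_radU_of_comm hF hU
    ((Submodule.ne_bot_iff _).2 ⟨e, Submodule.mem_span_singleton_self e, he0⟩) hk'
    fun A hA => by rw [hc A (hrad (hradU A hA)), mul_inv_cancel_right]))
  have hnd := nd_insert hF (nd_empty hF) H (hempty e) (hempty f)
  have haM : ∀ b : Vn, InW q e f b → b ∈ wsp q (∅ ∪ {e, f} : Set Vn) := fun b hb => by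
    rintro v (hv | hv)
    · exact absurd hv (Set.notMem_empty v)
    · rcases hv with rfl | rfl
      · exact hb.1
      · exact hb.2
  have hab : ∀ b, InW q e f b → hf b a = hf a b := by
    intro b hb
    obtain ⟨r, hr⟩ := exists_root hF (herm_self_fixed hF b)
    have h1 := congrArg suMat (hc _ (hrad ⟨b, r, hb.1, rfl⟩ :
      eich hF e b r H.ee hb.1 hr ∈ (S : Subgroup SUn)))
    rw [suMat_mul, suMat_mul, hzs, show suMat (eich hF e b r H.ee hb.1 hr) = eichMat q e b r from rfl,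
      eichMat_mul hF H.ee haW.1 hb.1, eichMat_mul hF H.ee hb.1 haW.1] at h1
    have hsum : InW q e f (a + b) := ⟨by rw [herm_add_left, haW.1, hb.1, add_zero],
      by rw [herm_add_left, haW.2, hb.2, add_zero]⟩
    rw [add_comm b a] at h1
    linear_combination -(eichMat_injective hF H hsum hsum h1).2
  have ha0 : a = 0 := by
    obtain ⟨l, hl⟩ : ∃ l : F, l ^ q ≠ l := by
      by_contra hc'; push Not at hc'; exact frobQ_ne_id hF (RingHom.ext hc')
    refine hnd a (haM a haW) fun b hb => ?_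
    have hbW : InW q e f b := ⟨hb e (by simp), hb f (by simp)⟩
    have hlb : InW q e f (l • b) := ⟨by rw [herm_smul_left, hbW.1, mul_zero],
      by rw [herm_smul_left, hbW.2, mul_zero]⟩
    have h1 := hab _ hlb
    rw [herm_smul_left, herm_smul_right hF, ← hab b hbW] at h1
    exact (mul_eq_zero.1 (by linear_combination h1 : (l - l ^ q) * hf b a = 0)).resolve_left
      (sub_ne_zero.2 (Ne.symm hl))
  subst ha0
  have hs : s + s ^ q = 0 := by
    have h1 := eich_cond hF H haW hzs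
    rwa [hf_zero_left, add_zero] at h1
  exact ⟨s, hs, suMat_inj (hzs.trans (eichMat_zero e s (q_ne_zero hF)))⟩

/-- **The fusion system of `PSU_n(q)` in the defining characteristic is simple.** -/
theorem isSimple_fusion (p : ℕ) [Fact p.Prime] [CharP F p] (hn : 4 ≤ n)
    (S : Sylow p (Cfsg.PSU n F q)) :
    (Cfsg.groupFusionSystem (S : Subgroup (Cfsg.PSU n F q))).IsSimple p := by
  classical
  have hp : p.Prime := Fact.out
  have hempty : ∀ x : Vn, x ∈ wsp q (∅ : Set Vn) := fun x v hv => absurd hv (Set.notMem_empty v)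
  set π := QuotientGroup.mk' (Subgroup.center SUn)
  obtain ⟨e, he0, hee⟩ := exists_iso_empty hF hn
  obtain ⟨f, H⟩ := exists_hyp hF he0 hee
  obtain ⟨S0, hrad⟩ := (radical_pGroup hF (p := p) H.ee).exists_le_sylow
  have hmax : ∀ R : Subgroup SUn, IsPGroup p R → R ≤ fixSub (∅ : Set Vn) →
      (S0 : Subgroup SUn) ≤ R → R ≤ (S0 : Subgroup SUn) := fun R hR _ hle => (S0.3 hR hle).le
  -- the fixed point
  have hefix : ∀ g ∈ (S0 : Subgroup SUn), suMat g *ᵥ e = e := by
    obtain ⟨x, -, hx0, hx⟩ := exists_fixed hF S0.2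
      (fun g _ v hv => absurd hv (Set.notMem_empty v))
      ((Submodule.ne_bot_iff _).2 ⟨e, hempty e, he0⟩)
    have hxe := eq_smul_of_fixed hF H fun A hA => hx A (hrad hA)
    have hc : hf x f ≠ 0 := fun h => hx0 (by rw [hxe, h, zero_smul])
    intro g hg
    have h1 := hx g hg
    rw [hxe, Matrix.mulVec_smul] at h1
    exact smul_right_injective _ hc h1
  obtain ⟨z, hzW, hz0, hzz⟩ := exists_iso_pair hF hn H
  obtain ⟨e2, he2, he20, he22, he2fix⟩ := exists_fixed_iso hF
    (Q := (S0 : Subgroup SUn) ⊓ fixSub (∅ ∪ {e, f})) (p := p) (S0.2.to_le inf_le_left)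
    inf_le_right hzW hz0 hzz
  have h2e : hf e2 e = 0 := he2 e (by simp)
  have h2f : hf e2 f = 0 := he2 f (by simp)
  set U := Submodule.span F ({e, e2} : Set Vn)
  have heU : e ∈ U := Submodule.subset_span (by simp)
  have he2U : e2 ∈ U := Submodule.subset_span (by simp)
  have hUiso : ∀ u ∈ U, ∀ u' ∈ U, hf u u' = 0 := by
    intro u hu u' hu'
    obtain ⟨a, b, rfl⟩ := Submodule.mem_span_pair.1 hu
    obtain ⟨a', b', rfl⟩ := Submodule.mem_span_pair.1 hu'
    simp only [herm_add_left, herm_add_right hF, herm_smul_left, herm_smul_right hF, H.ee, he22,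
      h2e, hf_swap_zero hF h2e, mul_zero, add_zero]
  have hstab : ∀ {g : SUn}, suMat g *ᵥ e ∈ U → suMat g *ᵥ e2 ∈ U → g ∈ stabU (q := q) U := by
    intro g h1 h2 u hu
    obtain ⟨a, b, rfl⟩ := Submodule.mem_span_pair.1 hu
    rw [Matrix.mulVec_add, Matrix.mulVec_smul, Matrix.mulVec_smul]
    exact add_mem (Submodule.smul_mem _ _ h1) (Submodule.smul_mem _ _ h2)
  have hS0U : (S0 : Subgroup SUn) ≤ stabU (q := q) U := by
    intro g hg
    refine hstab (by rw [hefix g hg]; exact heU) ?_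
    obtain ⟨a, s, hav, hs, -, -, hr⟩ := exists_radical_move hF H (hempty e) (hempty f)
      (hempty (suMat g *ᵥ f)) ((su_preserves g f f).trans H.ff)
      (by conv_lhs => rw [← hefix g hg]
          exact (su_preserves g f e).trans (H.fe hF))
    set r := eich hF e a s H.ee hav hs
    have hrS : r ∈ (S0 : Subgroup SUn) := hrad ⟨a, s, hav, rfl⟩
    have hfx : r⁻¹ * g ∈ (S0 : Subgroup SUn) ⊓ fixSub (∅ ∪ {e, f}) := by
      refine ⟨(S0 : Subgroup SUn).mul_mem ((S0 : Subgroup SUn).inv_mem hrS) hg, ?_⟩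
      rintro v (hv | hv)
      · exact absurd hv (Set.notMem_empty v)
      · rcases hv with rfl | rfl
        · exact hefix _ (mul_mem (inv_mem hrS) hg)
        · rw [suMat_mul, ← Matrix.mulVec_mulVec, ← hr, su_inv_mulVec]
    rw [show g = r * (r⁻¹ * g) by rw [mul_inv_cancel_left], suMat_mul, ← Matrix.mulVec_mulVec,
      he2fix _ hfx, suMat_eich, h2e, zero_smul, add_zero]
    exact add_mem he2U (Submodule.smul_mem _ _ heU)
  have hnormP : ∀ W : Submodule F Vn, (∀ u ∈ W, ∀ u' ∈ W, hf u u' = 0) →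
      (S0 : Subgroup SUn) ≤ stabU (q := q) W → radU (q := q) W ≤ (S0 : Subgroup SUn) := by
    intro W hW hS
    exact le_sup_right.trans (hmax _ (IsPGroup.to_sup_of_normal_right' S0.2
      (radU_pGroup hF (p := p) (by omega) hW)
      (fun g hg => PSLChar.mem_normalizer_of_le (radU_conj (hS hg))))
      (fun g _ v hv => absurd hv (Set.notMem_empty v)) le_sup_left)
  let P : Sylow p (Cfsg.PSU n F q) := (S0.2.map π).toSylow
    (fun hd => S0.not_dvd_index (hd.trans (Subgroup.index_map_dvd _ (QuotientGroup.mk'_surjective _))))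
  have hP : (P : Subgroup (Cfsg.PSU n F q)) = (S0 : Subgroup SUn).map π := rfl
  have hpow : ∀ g ∈ (S0 : Subgroup SUn), ∃ k, g ^ p ^ k = 1 := fun g hg => by
    obtain ⟨k, hk⟩ := S0.2 ⟨g, hg⟩
    exact ⟨k, congrArg Subtype.val hk⟩
  have hinj : ∀ A B : SUn, (∃ k, A ^ p ^ k = 1) → (∃ k, B ^ p ^ k = 1) → π A = π B → A = B := by
    rintro A B ⟨k, hA⟩ ⟨l, hB⟩ h
    exact eq_of_mk_eq hF (by omega) hp (k := k + l) (by rw [pow_add, pow_mul, hA, one_pow])
      (by rw [add_comm, pow_add, pow_mul, hB, one_pow]) h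
  refine Fusion.isSimple_of_radicalGens P (fun h => ?_) ?_ ?_ S
  · obtain ⟨c, hc0, hc⟩ := exists_skew hF
    have h1 : π (suTv n e c hee hc hF) = π 1 := by
      rw [map_one]
      exact Subgroup.mem_bot.1 (h.le (hP ▸ ⟨_, hrad (suTv_mem_radical hF hee hc), rfl⟩))
    have h2 := congrArg suMat (hinj _ _ ⟨2, utv_pow_eq_one hF hee (c := c) rfl⟩ ⟨0, one_pow _⟩ h1)
    rw [suMat_one] at h2
    exact hc0 (utv_injective hF he0 (h2.trans (utv_zero e).symm))
  · intro x hx hxc hx1 T hxT hcl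
    rw [hP] at hx ⊢
    obtain ⟨w, hw, rfl⟩ := hx
    have hwc : ∀ y ∈ (S0 : Subgroup SUn), w * y = y * w := fun y hy =>
      hinj _ _ (hpow _ (mul_mem hw hy)) (hpow _ (mul_mem hy hw))
        (by rw [map_mul, map_mul]; exact hxc _ (hP ▸ ⟨y, hy, rfl⟩))
    obtain ⟨c, hc, rfl⟩ := central_eq hF H hrad hw hwc
    have hc0 : c ≠ 0 := fun e0 => hx1 (by
      have : suTv n e c H.ee hc hF = 1 := suMat_inj (by
        show Cfsg.unitaryTransvection n q e c = _
        rw [e0, utv_zero]; rfl)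
      rw [this, map_one])
    refine Subgroup.map_le_iff_le_comap.2 (le_of_central hF hn H hrad h2e h2f he22 he20
      (hnormP U hUiso hS0U) hc0 hc (T := T.comap π) hxT fun t ht g hg => ?_)
    show π (g * t * g⁻¹) ∈ T
    have h1 : π (g * t * g⁻¹) ∈ (P : Subgroup (Cfsg.PSU n F q)) := hP ▸ ⟨_, hg, rfl⟩
    rw [map_mul, map_mul, map_inv] at h1 ⊢
    exact hcl _ ht _ h1
  · intro g hg
    obtain ⟨s, rfl⟩ := QuotientGroup.mk'_surjective _ g
    set W := Subgroup.closure (radicalGens p (P : Subgroup (Cfsg.PSU n F q)) ∪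
      (Subgroup.centralizer ((P : Subgroup (Cfsg.PSU n F q)) : Set (Cfsg.PSU n F q)) :
        Set (Cfsg.PSU n F q)))
    -- elements of the parabolic subgroups
    have hpar : ∀ (L : Submodule F Vn), L ≠ ⊥ → (∀ u ∈ L, ∀ u' ∈ L, hf u u' = 0) →
        (S0 : Subgroup SUn) ≤ stabU (q := q) L → ∀ t : SUn,
        (∀ x ∈ (S0 : Subgroup SUn), t * x * t⁻¹ ∈ (S0 : Subgroup SUn)) →
        t ∈ Subgroup.closure {y : SUn | y ∈ stabU (q := q) L ∧ ∃ k, y ^ p ^ k = 1} → π t ∈ W := by
      intro L hL0 hLiso hLS t htN htL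
      refine Subgroup.subset_closure (Or.inl ⟨hP ▸ ?_, (radU (q := q) L).map π,
        hP ▸ Subgroup.map_mono (hnormP L hLiso hLS), ?_, ?_⟩)
      · exact PSLChar.mem_normalizer_of_le fun _ ⟨y, hy, e⟩ =>
          ⟨t * y * t⁻¹, htN y hy, by rw [map_mul, map_mul, map_inv, e]⟩
      · rintro x hx ⟨k, hk⟩
        obtain ⟨w, rfl, hwk⟩ := exists_lift hF (p := p) (by omega) (x := x) (k := k)
          (by rw [← hk, pow_orderOf_eq_one])
        refine ⟨w, mem_radU_of_comm hF hLiso hL0 hwk fun A hA => ?_, rfl⟩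
        obtain ⟨j, hj⟩ := hpow A (hnormP L hLiso hLS hA)
        refine hinj _ _ ⟨j, by rw [conj_pow, hj, mul_one, mul_inv_cancel]⟩ ⟨j, hj⟩ ?_
        rw [map_mul, map_mul, map_inv, hx _ ⟨A, hA, rfl⟩, mul_inv_cancel_right]
      · have h1 : π t ∈ (Subgroup.closure
            {y : SUn | y ∈ stabU (q := q) L ∧ ∃ k, y ^ p ^ k = 1}).map π := ⟨t, htL, rfl⟩
        rw [MonoidHom.map_closure] at h1
        refine Subgroup.closure_mono ?_ h1
        rintro _ ⟨y, ⟨hyL, k, hyk⟩, rfl⟩
        obtain ⟨j, -, hj⟩ := (Nat.dvd_prime_pow hp).1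
          (orderOf_dvd_of_pow_eq_one (by rw [← map_pow, hyk, map_one] : π y ^ p ^ k = 1))
        exact ⟨PSLChar.mem_normalizer_of_le fun _ ⟨r, hr, e⟩ =>
          ⟨y * r * y⁻¹, radU_conj hyL r hr, by rw [map_mul, map_mul, map_inv, e]⟩, j, hj⟩
    -- the lift normalizes
    have hsN : ∀ x ∈ (S0 : Subgroup SUn), s * x * s⁻¹ ∈ (S0 : Subgroup SUn) := by
      intro x hx
      obtain ⟨y, hy, hye⟩ : π s * π x * (π s)⁻¹ ∈ (S0 : Subgroup SUn).map π := by
        rw [← hP]
        exact (Subgroup.mem_normalizer_iff.1 hg (π x)).1 (hP ▸ Subgroup.mem_map_of_mem π hx)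
      obtain ⟨k, hk⟩ := hpow x hx
      rw [← hinj y (s * x * s⁻¹) (hpow y hy) ⟨k, by rw [conj_pow, hk, mul_one, mul_inv_cancel]⟩
        (by rw [hye, map_mul, map_mul, map_inv])]
      exact hy
    have hsN' : ∀ x ∈ (S0 : Subgroup SUn), s⁻¹ * x * s ∈ (S0 : Subgroup SUn) := fun x hx => by
      have hmem : s ∈ Subgroup.normalizer ((S0 : Subgroup SUn) : Set SUn) :=
        PSLChar.mem_normalizer_of_le hsN
      have := (Subgroup.mem_normalizer_iff.1 (inv_mem hmem) x).1 hx
      rwa [inv_inv] at this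
    obtain ⟨μ, hμ⟩ : ∃ μ : F, suMat s *ᵥ e = μ • e := ⟨_, eq_smul_of_fixed hF H fun A hA => by
      have h1 := hefix _ (hsN' A (hrad hA))
      rw [suMat_mul, suMat_mul, ← Matrix.mulVec_mulVec, ← Matrix.mulVec_mulVec] at h1
      have h2 := congrArg (fun v => suMat s *ᵥ v) h1
      simp only [Matrix.mulVec_mulVec, ← suMat_mul, mul_inv_cancel_left] at h2
      rw [suMat_mul, ← Matrix.mulVec_mulVec] at h2
      exact h2⟩
    have hμ0 : μ ≠ 0 := fun e0 => su_mulVec_ne_zero s he0 (by rw [hμ, e0, zero_smul])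
    -- the torus element of the second parabolic
    have hnd := nd_insert hF (nd_empty hF) H (hempty e) (hempty f)
    obtain ⟨f2, hf2, H2⟩ := exists_hyp_wsp hF hnd he2 he20 he22
    have hf2e : hf f2 e = 0 := hf2 e (by simp)
    have hf2f : hf f2 f = 0 := hf2 f (by simp)
    set GenU := {y : SUn | y ∈ stabU (q := q) U ∧ ∃ k, y ^ p ^ k = 1}
    have hX : ∀ c : F, ∃ g ∈ Subgroup.closure GenU,
        suMat g *ᵥ e = e ∧ suMat g *ᵥ e2 = e2 + c • e := by
      intro c
      have hww : (0 : F) + 0 ^ q + hf ((-c) ^ q • f2) ((-c) ^ q • f2) = 0 := by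
        rw [herm_smul_left, herm_smul_right hF, H2.ff, zero_pow (q_ne_zero hF)]; ring
      set A := eich hF e ((-c) ^ q • f2) 0 H.ee (by rw [herm_smul_left, hf2e, mul_zero]) hww
      have h1 : suMat A *ᵥ e = e := by
        rw [suMat_eich, H.ee, herm_smul_right hF, hf_swap_zero hF hf2e]; simp
      have h2 : suMat A *ᵥ e2 = e2 + c • e := by
        rw [suMat_eich, h2e, herm_smul_right hF, H2.ef, pow_q_q hF]; simp
      refine ⟨A, Subgroup.subset_closure ⟨hstab (h1.symm ▸ heU)
        (h2.symm ▸ add_mem he2U (Submodule.smul_mem _ _ heU)), 2,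
        eich_pow_eq_one hF H.ee (a := (-c) ^ q • f2) (s := 0)
          (by rw [herm_smul_left, hf2e, mul_zero]) rfl⟩, h1, h2⟩
    have hY : ∀ c : F, ∃ g ∈ Subgroup.closure GenU,
        suMat g *ᵥ e2 = e2 ∧ suMat g *ᵥ e = e + c • e2 := by
      intro c
      have hww : (0 : F) + 0 ^ q + hf ((-c) ^ q • f) ((-c) ^ q • f) = 0 := by
        rw [herm_smul_left, herm_smul_right hF, H.ff, zero_pow (q_ne_zero hF)]; ring
      have hfe2 : hf f e2 = 0 := hf_swap_zero hF h2f
      set A := eich hF e2 ((-c) ^ q • f) 0 he22 (by rw [herm_smul_left, hfe2, mul_zero]) hww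
      have h1 : suMat A *ᵥ e2 = e2 := by
        rw [suMat_eich, he22, herm_smul_right hF, h2f]; simp
      have h2 : suMat A *ᵥ e = e + c • e2 := by
        rw [suMat_eich, hf_swap_zero hF h2e, herm_smul_right hF, H.ef, pow_q_q hF]; simp
      refine ⟨A, Subgroup.subset_closure ⟨hstab (h2.symm ▸ add_mem heU (Submodule.smul_mem _ _ he2U))
        (h1.symm ▸ he2U), 2,
        eich_pow_eq_one hF he22 (a := (-c) ^ q • f) (s := 0)
          (by rw [herm_smul_left, hfe2, mul_zero]) rfl⟩, h1, h2⟩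
    obtain ⟨A1, hA1, hA1e2, hA1e⟩ := hY 1
    obtain ⟨A2, hA2, hA2e, hA2e2⟩ := hX (μ - 1)
    obtain ⟨A3, hA3, hA3e2, hA3e⟩ := hY (-μ⁻¹)
    set t0 := A3 * A2 * A1
    have ht0 : t0 ∈ Subgroup.closure GenU := mul_mem (mul_mem hA3 hA2) hA1
    have ht0e : suMat t0 *ᵥ e = μ • e := by
      simp only [t0, suMat_mul, ← Matrix.mulVec_mulVec, hA1e, one_smul, Matrix.mulVec_add, hA2e,
        hA2e2, Matrix.mulVec_smul, hA3e, hA3e2]
      match_scalars <;> field_simp <;> ring
    -- Frattini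
    set B0 : Subgroup SUn := Subgroup.closure GenU ⊓ fixSub {e}
    have hS0B : (S0 : Subgroup SUn) ≤ B0 := fun x hx =>
      ⟨Subgroup.subset_closure ⟨hS0U hx, hpow x hx⟩, fun v hv => by rw [hv]; exact hefix x hx⟩
    have hS1B : ((t0⁻¹ • S0 : Sylow p SUn) : Subgroup SUn) ≤ B0 := by
      rw [Sylow.coe_subgroup_smul]
      rintro _ ⟨x, hx, rfl⟩
      show t0⁻¹ * x * t0⁻¹⁻¹ ∈ B0
      refine ⟨(Subgroup.closure GenU).mul_mem ((Subgroup.closure GenU).mul_mem
        ((Subgroup.closure GenU).inv_mem ht0) (hS0B hx).1) (by rw [inv_inv]; exact ht0), fun v hv => ?_⟩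
      rw [Set.mem_singleton_iff.1 hv, inv_inv, suMat_mul, suMat_mul, ← Matrix.mulVec_mulVec,
        ← Matrix.mulVec_mulVec, ht0e, Matrix.mulVec_smul, hefix x hx, ← ht0e, su_inv_mulVec]
    obtain ⟨b, hb⟩ := MulAction.exists_smul_eq B0 (S0.subtype hS0B) ((t0⁻¹ • S0).subtype hS1B)
    set t := t0 * (b : SUn) with ht
    have htN : ∀ x ∈ (S0 : Subgroup SUn), t * x * t⁻¹ ∈ (S0 : Subgroup SUn) := by
      intro x hx
      have h1 : b * ⟨x, hS0B hx⟩ * b⁻¹ ∈
          (((t0⁻¹ • S0).subtype hS1B : Sylow p B0) : Subgroup B0) := by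
        rw [← hb, Sylow.coe_subgroup_smul]
        exact ⟨⟨x, hS0B hx⟩, Sylow.coe_subtype S0 hS0B ▸ hx, rfl⟩
      rw [Sylow.coe_subtype, Subgroup.mem_subgroupOf, Sylow.coe_subgroup_smul] at h1
      obtain ⟨y, hy, hye⟩ := h1
      have : t * x * t⁻¹ = y := by
        have hye' : t0⁻¹ * y * t0⁻¹⁻¹ = (b : SUn) * x * (b : SUn)⁻¹ := hye
        calc t * x * t⁻¹ = t0 * ((b : SUn) * x * (b : SUn)⁻¹) * t0⁻¹ := by rw [ht]; group
          _ = t0 * (t0⁻¹ * y * t0⁻¹⁻¹) * t0⁻¹ := by rw [hye']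
          _ = y := by group
      rwa [this]
    have hte : suMat t *ᵥ e = μ • e := by
      rw [ht, suMat_mul, ← Matrix.mulVec_mulVec, b.2.2 e rfl, ht0e]
    have hU0 : U ≠ ⊥ := (Submodule.ne_bot_iff _).2 ⟨e, heU, he0⟩
    have htW : π t ∈ W := hpar U hU0 hUiso hS0U t htN (mul_mem ht0 b.2.1)
    have htmem : t ∈ Subgroup.normalizer ((S0 : Subgroup SUn) : Set SUn) :=
      PSLChar.mem_normalizer_of_le htN
    -- what remains fixes the point
    set s' := t⁻¹ * s with hs'
    have hs'e : suMat s' *ᵥ e = e := by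
      rw [hs', suMat_mul, ← Matrix.mulVec_mulVec, hμ, ← hte, su_inv_mulVec]
    have hs'N : ∀ x ∈ (S0 : Subgroup SUn), s' * x * s'⁻¹ ∈ (S0 : Subgroup SUn) := fun x hx =>
      (Subgroup.mem_normalizer_iff.1
        (mul_mem (inv_mem htmem) (PSLChar.mem_normalizer_of_le hsN)) x).1 hx
    set L := Submodule.span F ({e} : Set Vn)
    have hLiso : ∀ u ∈ L, ∀ u' ∈ L, hf u u' = 0 := by
      intro u hu u' hu'
      obtain ⟨a, rfl⟩ := Submodule.mem_span_singleton.1 hu
      obtain ⟨b, rfl⟩ := Submodule.mem_span_singleton.1 hu'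
      rw [herm_smul_left, herm_smul_right hF, H.ee, mul_zero, mul_zero]
    have hLstab : ∀ {g : SUn}, suMat g *ᵥ e = e → g ∈ stabU (q := q) L := by
      intro g hge u hu
      obtain ⟨a, rfl⟩ := Submodule.mem_span_singleton.1 hu
      rw [Matrix.mulVec_smul, hge]
      exact hu
    have hs'L : s' ∈ Subgroup.closure {y : SUn | y ∈ stabU (q := q) L ∧ ∃ k, y ^ p ^ k = 1} := by
      obtain ⟨a, c, hav, hc, -, -, hr⟩ := exists_radical_move hF H (hempty e) (hempty f)
        (hempty (suMat s' *ᵥ f)) ((su_preserves s' f f).trans H.ff)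
        (by conv_lhs => rw [← hs'e]
            exact (su_preserves s' f e).trans (H.fe hF))
      set r := eich hF e a c H.ee hav hc
      have hre : suMat r *ᵥ e = e := by rw [suMat_eich, H.ee, hf_swap_zero hF hav]; simp
      rw [show s' = r * (r⁻¹ * s') by rw [mul_inv_cancel_left]]
      refine mul_mem (Subgroup.subset_closure ⟨hLstab hre, 2, eich_pow_eq_one hF H.ee hav
        (A := r) rfl⟩) ?_
      have hfix : r⁻¹ * s' ∈ fixSub (∅ ∪ {e, f} : Set Vn) := by
        rintro v (hv | hv)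
        · exact absurd hv (Set.notMem_empty v)
        · rcases hv with rfl | rfl
          · rw [suMat_mul, ← Matrix.mulVec_mulVec, hs'e]
            conv_lhs => rw [← hre]
            exact su_inv_mulVec r _
          · rw [suMat_mul, ← Matrix.mulVec_mulVec, ← hr, su_inv_mulVec]
      refine (Subgroup.closure_le _).2 ?_ (fixSub_le hF hnd hfix)
      rintro A ⟨v, b, c', hv, hb, hvv, hbv, hA⟩
      exact Subgroup.subset_closure ⟨hLstab (eichGens_fix hF (∅ ∪ {e, f})
        (Subgroup.subset_closure ⟨v, b, c', hv, hb, hvv, hbv, hA⟩) e (by simp)), 2,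
        eich_pow_eq_one hF hvv hbv hA⟩
    have hs'W : π s' ∈ W := hpar L ((Submodule.ne_bot_iff _).2
      ⟨e, Submodule.mem_span_singleton_self e, he0⟩) hLiso (fun g hg => hLstab (hefix g hg)) s' hs'N hs'L
    rw [show s = t * s' by rw [hs', mul_inv_cancel_left], map_mul]
    exact mul_mem htW hs'W

end CfsgLib.Fusion.PSUChar
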