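import Cfsg.Agent.Fusion.PSpSylow
import Cfsg.Agent.Fusion.PSLSimple
import Cfsg.Agent.Forms.Classify

/-!
The centre of the unitriangular subgroup of `Sp_2m` and the subgroup its fusion closure generates.
-/

set_option autoImplicit false
set_option linter.style.haveILetI false
set_option linter.unusedSectionVars false

open Matrix

namespace CfsgLib.Fusion.PSpChar

open CfsgLib.Symp CfsgLib.AutPSp CfsgLib.Symp.Torus

variable {F : Type*} [Field F] {m : ℕ}

local notation "Sp" => Matrix.symplecticGroup (Fin m) F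
local notation "V" => Fin m ⊕ Fin m → F

theorem form_eV_eV (i j : Fin m) : form (eV i : V) (eV j) = 0 := by rw [form_eV]; simp [eV]

theorem form_eV_fV_ne {i j : Fin m} (h : i ≠ j) : form (eV i : V) (fV j) = 0 := by
  rw [form_fV]; simp [eV, h.symm]

theorem eich_add {v w : V} (h : form v w = 0) (c d : F) :
    eich v w c * eich v w d = eich v w (c + d) := by
  refine symp_ext fun x => ?_
  have h' : form w v = 0 := by rw [form_swap, h, neg_zero]
  rw [mul_smul, eich_apply h, eich_apply h, eich_apply h]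
  simp only [form_add_left, form_smul_left, h, h', form_self, mul_zero, add_zero, smul_add,
    smul_smul]
  module

theorem eich_zero {v w : V} (h : form v w = 0) : eich v w (0 : F) = 1 :=
  symp_ext fun x => by rw [eich_apply h]; simp

theorem eich_comm {v w : V} (h : form v w = 0) (c : F) : eich v w c = eich w v c :=
  symp_ext fun x => by
    rw [eich_apply h, eich_apply (by rw [form_swap, h, neg_zero]), add_comm (form x w • v)]

theorem eich_smul_right {v w : V} (h : form v w = 0) (a c : F) :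
    eich v (a • w) c = eich v w (a * c) :=
  symp_ext fun x => by
    rw [eich_apply (by rw [form_smul_right, h, mul_zero]), eich_apply h, form_smul_right]
    module

theorem eich_smul_left {v w : V} (h : form v w = 0) (a c : F) :
    eich (a • v) w c = eich v w (a * c) :=
  symp_ext fun x => by
    rw [eich_apply (by rw [form_smul_left, h, mul_zero]), eich_apply h, form_smul_right]
    module

theorem eich_add_right {v w w' : V} (h : form v w = 0) (h' : form v w' = 0) (hw : form w' w = 0)
    (c : F) : eich v (w + w') c = eich v w c * eich v w' c := by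
  refine symp_ext fun x => ?_
  have hv : form w' v = 0 := by rw [form_swap, h', neg_zero]
  rw [mul_smul, eich_apply h, eich_apply h', eich_apply (by rw [form_add_right, h, h', add_zero])]
  simp only [form_add_left, form_add_right, form_smul_left, h, hw, hv, form_self, mul_zero,
    add_zero, smul_add, smul_smul]
  module

/-- The element exchanging the pair at `j`. -/
def swapEl (j : Fin m) : Sp :=
  ⟨monoMat 1 (fun k => decide (k = j)) 1, monoMat_mem _ _ _⟩

/-- The element permuting the pairs. -/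
def permEl (σ : Equiv.Perm (Fin m)) : Sp :=
  ⟨monoMat σ (fun _ => false) 1, monoMat_mem _ _ _⟩

theorem swapEl_self (j : Fin m) : (swapEl j : Sp) • (eV j : V) = fV j := by
  show monoMat 1 _ 1 *ᵥ Pi.single (Sum.inl j) 1 = _
  rw [monoMat_col]
  simp [monoIdx, monoCoef, fV]

theorem swapEl_other {i j : Fin m} (h : i ≠ j) : (swapEl j : Sp) • (eV i : V) = eV i := by
  show monoMat 1 _ 1 *ᵥ Pi.single (Sum.inl i) 1 = _
  rw [monoMat_col]
  simp [monoIdx, monoCoef, eV, h]

theorem permEl_eV (σ : Equiv.Perm (Fin m)) (i : Fin m) :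
    (permEl σ : Sp) • (eV i : V) = eV (σ i) := by
  show monoMat σ _ 1 *ᵥ Pi.single (Sum.inl i) 1 = _
  rw [monoMat_col]
  simp [monoIdx, monoCoef, eV]

theorem diagEl_eV (d : Fin m → Fˣ) (i : Fin m) :
    (diagEl d : Sp) • (eV i : V) = (d i : F) • eV i := by
  show monoMat 1 _ d *ᵥ Pi.single (Sum.inl i) 1 = _
  rw [monoMat_col]
  funext x
  simp [monoIdx, monoCoef, eV, Pi.single_apply]

variable [Finite F]

theorem transvec_eV {i j : Fin m} (h : i ≠ j) (k : Fin m) :
    leviHom m F (Matrix.SpecialLinearGroup.transvection h (1 : F)) • (eV k : V) =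
      if k = j then eV j + eV i else eV k := by
  rw [← eich_fV_eq_levi h, eich_apply (form_eV_fV_ne h), form_eV, form_fV]
  by_cases hk : k = j
  · subst hk; simp [eV]
  · simp [eV, hk, Ne.symm hk]

theorem eich_eV_mem_upper (i j : Fin m) (c : F) : eich (eV i : V) (eV j) c ∈ upperGroup F m := by
  rw [eich_eq_uni]; exact uni_mem_upper _ _

theorem tv_eV_mem_upper (i : Fin m) (c : F) : tv (eV i : V) c ∈ upperGroup F m := by
  rw [eV, tv_single_eq_uni]; exact uni_mem_upper _ _

theorem eich_fV_mem_upper {i j : Fin m} (h : i < j) (c : F) :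
    eich (eV i : V) (fV j) c ∈ upperGroup F m := by
  rw [← neg_neg c, eich_fV_eq_levi h.ne]
  exact levi_mem_upper (PSLChar.transvec_mem_unitri h _)

/-- The centre of the unitriangular group. -/
theorem central_eq {p : ℕ} [Fact p.Prime] [CharP F p] (hm : 2 ≤ m) [NeZero m] {s : Sp}
    (hs : s ∈ upperGroup F m) (hc : ∀ u ∈ upperGroup F m, s * u = u * s) :
    ∃ a b : F, 2 * b = 0 ∧
      s = tv (eV 0 : V) a * eich (eV 0) (eV ⟨1, hm⟩) b := by
  obtain ⟨k, hk⟩ := exists_pow_upper (p := p) hs
  obtain ⟨B, hB, rfl⟩ := exists_uni_of_comm hm Fact.out hk fun S hS => hc _ (uni_mem_upper S hS)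
  obtain ⟨hBeq, hd2⟩ := sym_fixed hm hB (fun i j hij => by
    have h2 := mul_inv_eq_iff_eq_mul.2
      (hc _ (levi_mem_upper (PSLChar.transvec_mem_unitri hij (1 : F)))).symm
    rw [leviHom_conj_uni, CfsgLib.Linear.transvec_coe] at h2
    exact (Matrix.fromBlocks_inj.mp (congrArg Subtype.val h2)).2.1)
  refine ⟨B 0 0, B 0 ⟨1, hm⟩, hd2, ?_⟩
  rw [eV, tv_single_eq_uni, ← eV, eich_eq_uni, uni_mul]
  refine uni_congr ?_ _ _
  conv_lhs => rw [hBeq]
  abel

/-- A short root element yields a long one. -/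
theorem long_of_short {T : Subgroup Sp}
    (hcl : ∀ t ∈ T, ∀ g : Sp, g * t * g⁻¹ ∈ upperGroup F m → g * t * g⁻¹ ∈ T) {i j : Fin m}
    (hij : i < j) {c : F} (hE : eich (eV i : V) (eV j) c ∈ T) : tv (eV i : V) (c ^ 2) ∈ T := by
  have hconj : ∀ d : F, swapEl j * eich (eV i : V) (eV j) d * (swapEl j)⁻¹ = eich (eV i) (fV j) d :=
    fun d => by rw [eich_conj, swapEl_self, swapEl_other hij.ne]
  have hE' : eich (eV i : V) (fV j) c ∈ T := hconj c ▸ hcl _ hE _
    (by rw [hconj]; exact eich_fV_mem_upper hij c)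
  set E' := eich (eV i : V) (fV j) c
  have hu : tv (eV j : V) 1 * E'⁻¹ * (tv (eV j : V) 1)⁻¹ ∈ T :=
    hcl _ (inv_mem hE') _ (mul_mem (mul_mem (tv_eV_mem_upper j 1)
      (inv_mem (eich_fV_mem_upper hij c))) (inv_mem (tv_eV_mem_upper j 1)))
  have hvec : E' • (eV j : V) = (-c) • eV i + eV j := by
    rw [eich_apply (form_eV_fV_ne hij.ne), form_fV, form_eV_eV]
    simp [eV, add_comm]
  have h1 : form ((-c) • eV i : V) (eV j) = 0 := by rw [form_smul_left, form_eV_eV, mul_zero]
  have hkey : tv (eV i : V) (c ^ 2) =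
      eich (eV i : V) (eV j) c * (E' * (tv (eV j : V) 1 * E'⁻¹ * (tv (eV j : V) 1)⁻¹)) := by
    have h2 : E' * (tv (eV j : V) 1 * E'⁻¹ * (tv (eV j : V) 1)⁻¹) =
        (E' * tv (eV j : V) 1 * E'⁻¹) * (tv (eV j : V) 1)⁻¹ := by group
    have h3 : tv ((-c) • eV i + eV j : V) 1 =
        eich ((-c) • eV i) (eV j) 1 * (tv (eV j : V) 1 * tv ((-c) • eV i : V) 1) := by
      rw [eich, ← tv_inv, ← tv_inv]; group
    have h4 : tv ((-c) • eV i : V) (1 : F) = tv (eV i) (c ^ 2) := by
      rw [tv_smul_vec, mul_one, neg_sq]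
    have h5 : tv (eV j : V) 1 * tv (eV i : V) (c ^ 2) * (tv (eV j : V) 1)⁻¹ =
        tv (eV i : V) (c ^ 2) := by
      rw [tv_conj, tv_smul, form_eV_eV]; simp
    rw [h2, tv_conj, hvec, h3, h4, eich_smul_left (form_eV_eV i j), mul_assoc _ _ (tv (eV j) 1)⁻¹,
      h5, ← mul_assoc, eich_add (form_eV_eV i j), mul_one, add_neg_cancel,
      eich_zero (form_eV_eV i j), one_mul]
  rw [hkey]
  exact mul_mem hE (mul_mem hE' hu)

/-- A long root element and closure give the whole unitriangular group. -/
theorem upper_le_of_long {p : ℕ} [Fact p.Prime] [CharP F p] {T : Subgroup Sp}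
    (hcl : ∀ t ∈ T, ∀ g : Sp, g * t * g⁻¹ ∈ upperGroup F m → g * t * g⁻¹ ∈ T) {v : V} (hv : v ≠ 0)
    {c : F} (hc : c ≠ 0) (h : tv v c ∈ T) : upperGroup F m ≤ T := by
  have hlong : ∀ w : V, (∀ a : F, tv w a ∈ upperGroup F m) → ∀ d : F, tv w d ∈ T := by
    intro w hw
    by_cases hw0 : w = 0
    · subst hw0
      intro d
      have : tv (0 : V) d = 1 := symp_ext fun x => by simp [tv_smul]
      rw [this]; exact one_mem _
    have hsq : ∀ a : F, tv w (c * a ^ 2) ∈ T := by
      intro a
      by_cases ha : a = 0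
      · subst ha; rw [show c * (0 : F) ^ 2 = 0 by simp, tv_zero]; exact one_mem _
      · obtain ⟨g, hg⟩ := exists_smul_eq_of_ne_zero hv (smul_ne_zero ha hw0)
        have h1 : g * tv v c * g⁻¹ = tv w (c * a ^ 2) := by
          rw [tv_conj, hg, tv_smul_vec, mul_comm]
        exact h1 ▸ hcl _ h g (h1 ▸ hw _)
    intro d
    by_cases h2 : (2 : F) = 0
    · letI := Fintype.ofFinite F
      have hF2 : ringChar F = 2 :=
        CharP.ringChar_of_prime_eq_zero Nat.prime_two (by exact_mod_cast h2)
      obtain ⟨a, ha⟩ := FiniteField.isSquare_of_char_two hF2 (d / c)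
      have : d = c * a ^ 2 := by rw [pow_two, ← ha, mul_div_cancel₀ _ hc]
      rw [this]; exact hsq a
    · obtain ⟨x, y, e⟩ := CfsgLib.Forms.exists_binary h2 hc hc d
      rw [← e, ← tv_add]
      exact mul_mem (hsq x) (hsq y)
  have hshort : ∀ i j : Fin m, ∀ d : F, eich (eV i : V) (eV j) d ∈ T := by
    intro i j d
    have hw : ∀ a : F, tv (eV i + eV j : V) a ∈ upperGroup F m := fun a => by
      have : tv (eV i + eV j : V) a =
          eich (eV i) (eV j) a * (tv (eV j : V) a * tv (eV i : V) a) := by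
        rw [eich, ← tv_inv, ← tv_inv]; group
      rw [this]
      exact mul_mem (eich_eV_mem_upper i j a) (mul_mem (tv_eV_mem_upper j a) (tv_eV_mem_upper i a))
    exact mul_mem (hlong _ hw d) (mul_mem (hlong _ (tv_eV_mem_upper i) _)
      (hlong _ (tv_eV_mem_upper j) _))
  have huni : ∀ (S : Matrix (Fin m) (Fin m) F) (hS : Sᵀ = S), uni S hS ∈ T := by
    intro S hS
    have hsum : S = ∑ q : Fin m × Fin m, (if q.1 = q.2 then Matrix.single q.1 q.1 (S q.1 q.1)
        else if q.1 < q.2 then Matrix.single q.1 q.2 (S q.1 q.2) + Matrix.single q.2 q.1 (S q.1 q.2)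
        else 0) := by
      ext a b
      have hsym : S b a = S a b := congrFun (congrFun hS a) b
      rw [Matrix.sum_apply]
      rcases lt_trichotomy a b with hab | rfl | hab
      · rw [Finset.sum_eq_single (a, b) ?_ (by simp)]
        · simp [hab.ne, hab, Matrix.single_apply, hab.ne']
        · rintro ⟨i, j⟩ - hne
          dsimp only
          split_ifs with h1 h2
          · subst h1; rw [Matrix.single_apply, if_neg]; exact fun e => hab.ne (e.1.symm.trans e.2)
          · rw [Matrix.add_apply, Matrix.single_apply, Matrix.single_apply, if_neg, if_neg, add_zero]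
            · rintro ⟨rfl, rfl⟩; exact lt_asymm hab h2
            · rintro ⟨rfl, rfl⟩; exact hne rfl
          · rfl
      · rw [Finset.sum_eq_single (a, a) ?_ (by simp)]
        · simp
        · rintro ⟨i, j⟩ - hne
          dsimp only
          split_ifs with h1 h2
          · subst h1; rw [Matrix.single_apply, if_neg]; exact fun e => hne (by rw [e.1])
          · rw [Matrix.add_apply, Matrix.single_apply, Matrix.single_apply, if_neg, if_neg, add_zero]
            · rintro ⟨rfl, rfl⟩; exact h1 rfl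
            · rintro ⟨rfl, rfl⟩; exact h1 rfl
          · rfl
      · rw [Finset.sum_eq_single (b, a) ?_ (by simp)]
        · simp [hab.ne, hab, Matrix.single_apply, hab.ne', hsym]
        · rintro ⟨i, j⟩ - hne
          dsimp only
          split_ifs with h1 h2
          · subst h1; rw [Matrix.single_apply, if_neg]; exact fun e => hab.ne' (e.1.symm.trans e.2)
          · rw [Matrix.add_apply, Matrix.single_apply, Matrix.single_apply, if_neg, if_neg, add_zero]
            · rintro ⟨rfl, rfl⟩; exact hne rfl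
            · rintro ⟨rfl, rfl⟩; exact lt_asymm hab h2
          · rfl
    obtain ⟨hM, hmem⟩ := Finset.sum_induction
      (f := fun q : Fin m × Fin m => (if q.1 = q.2 then Matrix.single q.1 q.1 (S q.1 q.1)
        else if q.1 < q.2 then Matrix.single q.1 q.2 (S q.1 q.2) + Matrix.single q.2 q.1 (S q.1 q.2)
        else 0 : Matrix (Fin m) (Fin m) F))
      (p := fun M => ∃ hM : Mᵀ = M, uni M hM ∈ T) (s := Finset.univ)
      (fun A B ⟨hA, hA'⟩ ⟨hB, hB'⟩ => ⟨by simp [hA, hB], by
        have := mul_mem hB' hA'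
        rwa [uni_mul] at this⟩)
      ⟨Matrix.transpose_zero, by
        have h0 : uni (0 : Matrix (Fin m) (Fin m) F) Matrix.transpose_zero = 1 :=
          Subtype.ext (by simp [uni, Matrix.fromBlocks_one])
        rw [h0]; exact one_mem _⟩
      (fun q _ => by
        split_ifs with h1 h2
        · refine ⟨by simp, ?_⟩
          rw [← tv_single_eq_uni]
          exact hlong _ (tv_eV_mem_upper q.1) _
        · refine ⟨by simp [add_comm], ?_⟩
          rw [← eich_eq_uni]
          exact hshort _ _ _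
        · refine ⟨Matrix.transpose_zero, ?_⟩
          have h0 : uni (0 : Matrix (Fin m) (Fin m) F) Matrix.transpose_zero = 1 :=
            Subtype.ext (by simp [uni, Matrix.fromBlocks_one])
          rw [h0]; exact one_mem _)
    rwa [uni_congr hsum.symm hM hS] at hmem
  rintro _ ⟨t, ht, _, ⟨S, hS, rfl⟩, rfl⟩
  refine mul_mem ?_ (huni S hS)
  refine PSLChar.mem_of_transvections (T := T.comap (leviHom m F)) (fun i j hij a => ?_) t ht
  show leviHom m F _ ∈ T
  have h1 : swapEl j * eich (eV i : V) (eV j) (-a) * (swapEl j)⁻¹ =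
      leviHom m F (Matrix.SpecialLinearGroup.transvection hij.ne a) := by
    rw [eich_conj, swapEl_self, swapEl_other hij.ne, eich_fV_eq_levi hij.ne]
  exact h1 ▸ hcl _ (hshort i j (-a)) _ (h1 ▸ levi_mem_upper (PSLChar.transvec_mem_unitri hij a))

/-- The fusion closure of a nontrivial central element is everything. -/
theorem upper_le_of_central {p : ℕ} [Fact p.Prime] [CharP F p] (hm : 2 ≤ m) [NeZero m]
    (hex : m = 2 → 3 ≤ Nat.card F) {T : Subgroup Sp} {s : Sp} (hs : s ∈ upperGroup F m)
    (hc : ∀ u ∈ upperGroup F m, s * u = u * s) (hs1 : s ≠ 1) (hsT : s ∈ T)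
    (hcl : ∀ t ∈ T, ∀ g : Sp, g * t * g⁻¹ ∈ upperGroup F m → g * t * g⁻¹ ∈ T) :
    upperGroup F m ≤ T := by
  obtain ⟨a, b, h2b, rfl⟩ := central_eq (p := p) hm hs hc
  set o : Fin m := ⟨1, hm⟩
  have h0o : (0 : Fin m) < o := by simp [o, Fin.lt_def]
  rcases eq_or_ne b 0 with rfl | hb
  · rw [eich_zero (form_eV_eV _ _), mul_one] at hsT hs1
    refine upper_le_of_long (p := p) hcl (eV_ne_zero 0) (fun e => hs1 ?_) hsT
    rw [e, tv_zero]
  suffices ∃ j : Fin m, 0 < j ∧ ∃ c : F, c ≠ 0 ∧ eich (eV 0 : V) (eV j) c ∈ T by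
    obtain ⟨j, hj, c, hc0, hE⟩ := this
    exact upper_le_of_long (p := p) hcl (eV_ne_zero 0) (pow_ne_zero 2 hc0)
      (long_of_short hcl hj hE)
  have h2 : (2 : F) = 0 := (mul_eq_zero.1 h2b).resolve_right hb
  by_cases hm2 : m = 2
  · obtain ⟨μ, hμ0, hμ1⟩ : ∃ μ : F, μ ≠ 0 ∧ μ ≠ 1 := by
      letI := Fintype.ofFinite F
      classical
      by_contra hcon
      push Not at hcon
      have hsub : (Finset.univ : Finset F) ⊆ {0, 1} := fun x _ => by
        by_cases hx : x = 0
        · simp [hx]
        · simp [hcon x hx]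
      have h1 := (Finset.card_le_card hsub).trans Finset.card_le_two
      rw [Finset.card_univ, ← Nat.card_eq_fintype_card] at h1
      have := hex hm2
      omega
    set g : Sp := diagEl (Function.update 1 o (Units.mk0 μ hμ0))
    have hg : g * (tv (eV 0 : V) a * eich (eV 0) (eV o) b) * g⁻¹ =
        tv (eV 0 : V) a * eich (eV 0) (eV o) (μ * b) := by
      have : g * (tv (eV 0 : V) a * eich (eV 0) (eV o) b) * g⁻¹ =
          (g * tv (eV 0 : V) a * g⁻¹) * (g * eich (eV 0) (eV o) b * g⁻¹) := by group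
      rw [this, tv_conj, eich_conj, diagEl_eV, diagEl_eV, Function.update_self,
        Function.update_of_ne h0o.ne, Pi.one_apply, Units.val_one, one_smul, Units.val_mk0,
        eich_smul_right (form_eV_eV _ _)]
    have h1 : g * (tv (eV 0 : V) a * eich (eV 0) (eV o) b) * g⁻¹ ∈ T := hcl _ hsT g
      (hg ▸ mul_mem (tv_eV_mem_upper 0 a) (eich_eV_mem_upper 0 o _))
    rw [hg] at h1
    refine ⟨o, h0o, μ * b - b, ?_, ?_⟩
    · rw [sub_ne_zero]
      exact fun e => hμ1 (mul_right_cancel₀ hb (e.trans (one_mul b).symm))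
    · have key : eich (eV 0 : V) (eV o) (μ * b - b) =
          (tv (eV 0 : V) a * eich (eV 0) (eV o) b)⁻¹ *
            (tv (eV 0 : V) a * eich (eV 0) (eV o) (μ * b)) := by
        rw [eq_inv_mul_iff_mul_eq, mul_assoc, eich_add (form_eV_eV _ _), add_sub_cancel]
      rw [key]
      exact mul_mem (inv_mem hsT) h1
  · set t : Fin m := ⟨2, by omega⟩
    have hto : o < t := show 1 < 2 by omega
    have h0t : (0 : Fin m) < t := h0o.trans hto
    set g : Sp := permEl (Equiv.swap 0 t)
    have hg : g * (tv (eV 0 : V) a * eich (eV 0) (eV o) b) * g⁻¹ =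
        tv (eV t : V) a * eich (eV t) (eV o) b := by
      have : g * (tv (eV 0 : V) a * eich (eV 0) (eV o) b) * g⁻¹ =
          (g * tv (eV 0 : V) a * g⁻¹) * (g * eich (eV 0) (eV o) b * g⁻¹) := by group
      rw [this, tv_conj, eich_conj, permEl_eV, permEl_eV, Equiv.swap_apply_left,
        Equiv.swap_apply_of_ne_of_ne h0o.ne' hto.ne]
    have h1 : g * (tv (eV 0 : V) a * eich (eV 0) (eV o) b) * g⁻¹ ∈ T := hcl _ hsT g
      (hg ▸ mul_mem (tv_eV_mem_upper t a) (eich_eV_mem_upper t o b))
    rw [hg] at h1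
    set u : Sp := leviHom m F (Matrix.SpecialLinearGroup.transvection h0o.ne (1 : F))
    have hu : u ∈ upperGroup F m := levi_mem_upper (PSLChar.transvec_mem_unitri h0o 1)
    have h2' : u * (tv (eV t : V) a * eich (eV t) (eV o) b) * u⁻¹ ∈ T := hcl _ h1 u
      (mul_mem (mul_mem hu (mul_mem (tv_eV_mem_upper t a) (eich_eV_mem_upper t o b))) (inv_mem hu))
    have hu2 : u * (tv (eV t : V) a * eich (eV t) (eV o) b) * u⁻¹ =
        tv (eV t : V) a * eich (eV t) (eV o) b * eich (eV 0) (eV t) b := by
      have : u * (tv (eV t : V) a * eich (eV t) (eV o) b) * u⁻¹ =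
          (u * tv (eV t : V) a * u⁻¹) * (u * eich (eV t) (eV o) b * u⁻¹) := by group
      rw [this, tv_conj, eich_conj, transvec_eV, transvec_eV, if_neg hto.ne', if_pos rfl,
        eich_add_right (form_eV_eV _ _) (form_eV_eV _ _) (form_eV_eV _ _),
        eich_comm (form_eV_eV t 0), mul_assoc]
    rw [hu2] at h2'
    refine ⟨t, h0t, b, hb, ?_⟩
    have := mul_mem (inv_mem h1) h2'
    rwa [inv_mul_cancel_left] at this

end CfsgLib.Fusion.PSpChar
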