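import Cfsg.Agent.Fusion.PSpGen

/-!
The fusion system of `PSp_2m(q)`, `m ≥ 2`, in the defining characteristic is simple.
-/

set_option autoImplicit false
set_option linter.style.haveILetI false
set_option linter.unusedSectionVars false

open Matrix

namespace CfsgLib.Fusion.PSpChar

open CfsgLib.Symp CfsgLib.AutPSp CfsgLib.Symp.Torus

variable {F : Type*} [Field F] {m : ℕ}

local notation "Sp" => Matrix.symplecticGroup (Fin m) F
local notation "V" => Fin m ⊕ Fin m → F
local notation "π" => (QuotientGroup.mk' (Subgroup.center (Matrix.symplecticGroup (Fin m) F)))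

theorem levi_transvec_pow {p : ℕ} [CharP F p] {i j : Fin m} (h : i ≠ j) (c : F) :
    leviHom m F (Matrix.SpecialLinearGroup.transvection h c) ^ p = 1 := by
  rw [← eich_fV_eq_levi h]
  exact eich_pow_char (form_eV_fV_ne h) _

theorem uni_pow_char {p : ℕ} [CharP F p] (S : Matrix (Fin m) (Fin m) F) (hS : Sᵀ = S) :
    uni S hS ^ p = 1 :=
  Subtype.ext (by rw [uni_pow, CharP.cast_eq_zero, zero_smul, Matrix.fromBlocks_one]; rfl)

theorem diagEl_val (d : Fin m → Fˣ) :
    (diagEl d : Sp).1 = Matrix.diagonal (monoCoef (fun _ => false) d) := by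
  ext x y
  rw [diagEl_apply, Matrix.diagonal_apply]

theorem diagEl_mul (d d' : Fin m → Fˣ) : (diagEl (d * d') : Sp) = diagEl d * diagEl d' := by
  refine Subtype.ext ?_
  rw [Submonoid.coe_mul, diagEl_val, diagEl_val, diagEl_val, Matrix.diagonal_mul_diagonal]
  congr 1
  funext x
  rcases x with i | i <;> simp [monoCoef, mul_comm]

theorem diagEl_one : (diagEl 1 : Sp) = 1 := by
  refine Subtype.ext ?_
  rw [diagEl_val, OneMemClass.coe_one, ← Matrix.diagonal_one]
  congr 1
  funext x
  rcases x with i | i <;> simp [monoCoef]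

theorem levi_diag2n {i j : Fin m} (h : i ≠ j) (a : Fˣ) :
    leviHom m F (Matrix.SpecialLinearGroup.diag2n h (a : F) a.ne_zero) =
      diagEl (Function.update (1 : Fin m → Fˣ) i a * Function.update (1 : Fin m → Fˣ) j a⁻¹) := by
  refine Subtype.ext ?_
  set D := Matrix.SpecialLinearGroup.diag2n h (a : F) a.ne_zero
  set d : Fin m → F := fun k => if k = i then (a : F) else if k = j then (a : F)⁻¹ else 1
  have hD : (D : Matrix (Fin m) (Fin m) F) = Matrix.diagonal d :=
    Matrix.SpecialLinearGroup.diag2n_coe h (a : F) a.ne_zero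
  have hinv : ((D⁻¹ : Matrix.SpecialLinearGroup (Fin m) F) : Matrix (Fin m) (Fin m) F) =
      Matrix.diagonal fun k => (d k)⁻¹ := by
    have h1 : ((D⁻¹ : Matrix.SpecialLinearGroup (Fin m) F) : Matrix (Fin m) (Fin m) F) *
        (D : Matrix (Fin m) (Fin m) F) = 1 := by
      rw [← Matrix.SpecialLinearGroup.coe_mul, inv_mul_cancel, Matrix.SpecialLinearGroup.coe_one]
    have h2 : (D : Matrix (Fin m) (Fin m) F) * (Matrix.diagonal fun k => (d k)⁻¹) = 1 := by
      rw [hD, Matrix.diagonal_mul_diagonal, ← Matrix.diagonal_one]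
      congr 1
      funext k
      refine mul_inv_cancel₀ ?_
      simp only [d]
      split_ifs <;> simp
    exact left_inv_eq_right_inv h1 h2
  show Matrix.fromBlocks (D : Matrix (Fin m) (Fin m) F) 0 0
    ((D⁻¹ : Matrix.SpecialLinearGroup (Fin m) F) : Matrix (Fin m) (Fin m) F)ᵀ = _
  rw [hinv, hD, Matrix.diagonal_transpose, Matrix.fromBlocks_diagonal, diagEl_val]
  congr 1
  funext x
  rcases x with k | k <;> simp only [Sum.elim_inl, Sum.elim_inr, monoCoef, d] <;>
    rcases eq_or_ne k i with rfl | hki <;> rcases eq_or_ne k j with rfl | hkj <;>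
    first | exact absurd rfl h | simp [*, Ne.symm h]

theorem diagEl_single_eq (i : Fin m) (a : Fˣ) :
    (diagEl (Function.update (1 : Fin m → Fˣ) i a) : Sp) =
      tv (eV i) (a : F) * tv (fV i) (a : F)⁻¹ * tv (eV i) (a : F) *
        (tv (eV i) (-1) * tv (fV i) (-1) * tv (eV i) (-1)) := by
  refine symp_ext fun x => ?_
  simp only [mul_smul, tv_smul, form_add_left, form_smul_left, form_eV, form_fV, form_self]
  funext y
  show ((diagEl (Function.update (1 : Fin m → Fˣ) i a) : Sp).1 *ᵥ x) y = _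
  rw [diagEl_val, Matrix.mulVec_diagonal]
  rcases y with k | k <;> rcases eq_or_ne k i with rfl | hk
  · simp [monoCoef, eV, fV]
    ring_nf
    field_simp
    ring
  · simp [monoCoef, eV, fV, hk]
  · simp [monoCoef, eV, fV]
    field_simp
    ring
  · simp [monoCoef, eV, fV, hk]

variable [Finite F]

theorem map_normalizer {H : Subgroup Sp} {g : Sp} (h : ∀ x ∈ H, g * x * g⁻¹ ∈ H) :
    π g ∈ Subgroup.normalizer ((H.map π : Subgroup (Cfsg.PSp m F)) : Set (Cfsg.PSp m F)) :=
  PSLChar.mem_normalizer_of_le fun _ ⟨x, hx, e⟩ =>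
    ⟨g * x * g⁻¹, h x hx, by rw [map_mul, map_mul, map_inv, e]⟩

theorem normalizes_pointRad {o : Fin m} {g : Sp} (hg : g • (eV o : V) = eV o) :
    ∀ r ∈ pointRad (F := F) o, g * r * g⁻¹ ∈ pointRad (F := F) o := by
  rintro r ⟨hre, hrv⟩
  have hg' : g⁻¹ • (eV o : V) = eV o := inv_smul_eq_iff.2 hg.symm
  refine ⟨by rw [mul_smul, mul_smul, hg', hre, hg], fun v hv => ?_⟩
  obtain ⟨c, hc⟩ := hrv (g⁻¹ • v) (by rw [← hg', form_smul_smul, hv])
  exact ⟨c, by rw [mul_smul, mul_smul, hc, smul_add, smul_inv_smul, smul_comm g c, hg]⟩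

theorem normalizes_uni (t : Matrix.SpecialLinearGroup (Fin m) F) :
    ∀ r ∈ uniGroup m F, leviHom m F t * r * (leviHom m F t)⁻¹ ∈ uniGroup m F := by
  rintro _ ⟨S, hS, rfl⟩
  rw [leviHom_conj_uni]
  exact uni_mem _ _

theorem upper_unitri {g : Sp} (hg : g ∈ upperGroup F m) :
    (∀ x, g.1 x x = 1) ∧ ∀ x y, pos y < pos x → g.1 x y = 0 := by
  obtain ⟨t, ht, _, ⟨S, hS, rfl⟩, rfl⟩ := hg
  obtain ⟨hi1, hi0⟩ := inv_mem ht
  obtain ⟨ht1, ht0⟩ := ht
  have hv : (leviHom m F t * uni S hS : Sp).1 = Matrix.fromBlocks (t : Matrix (Fin m) (Fin m) F)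
      ((t : Matrix (Fin m) (Fin m) F) * S) 0
      ((t⁻¹ : Matrix.SpecialLinearGroup (Fin m) F) : Matrix (Fin m) (Fin m) F)ᵀ := by
    simp [leviHom, Symp.levi, uni, Matrix.fromBlocks_multiply]
  rw [hv]
  refine ⟨?_, ?_⟩
  · rintro (i | i)
    · exact ht1 i
    · exact hi1 i
  · rintro (i | i) (j | j) h <;> simp only [pos, Sum.elim_inl, Sum.elim_inr] at h
    · exact ht0 i j h
    · have := i.2; have := j.2; omega
    · rfl
    · exact hi0 j i (show (i : ℕ) < j by have := i.2; have := j.2; omega)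

theorem diagEl_normalizes (d : Fin m → Fˣ) :
    ∀ r ∈ upperGroup F m, diagEl d * r * (diagEl d)⁻¹ ∈ upperGroup F m := by
  intro r hr
  obtain ⟨h1, h0⟩ := upper_unitri hr
  have hinv : (diagEl d : Sp)⁻¹ = diagEl d⁻¹ :=
    inv_eq_of_mul_eq_one_right (by rw [← diagEl_mul, mul_inv_cancel, diagEl_one])
  have hval : ∀ x y, (diagEl d * r * (diagEl d)⁻¹ : Sp).1 x y =
      monoCoef (fun _ => false) d x * r.1 x y * monoCoef (fun _ => false) d⁻¹ y := fun x y => by
    rw [hinv, Submonoid.coe_mul, Submonoid.coe_mul, diagEl_val, diagEl_val, Matrix.mul_diagonal,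
      Matrix.diagonal_mul]
  refine mem_upper_of_unitri _ (fun x => ?_) fun x y hxy => ?_
  · rw [hval, h1]
    rcases x with i | i <;> simp [monoCoef]
  · rw [hval, h0 x y hxy]; simp

/-- Normalizing the unitriangular group forces triangularity. -/
theorem triangular_of_normalizes {p : ℕ} [Fact p.Prime] [CharP F p] (s : Sp)
    (hs : π s ∈ Subgroup.normalizer (((upperGroup F m).map π : Subgroup (Cfsg.PSp m F)) :
      Set (Cfsg.PSp m F))) :
    ∀ x y, pos y < pos x → s.1 x y = 0 := by
  have hconj : ∀ r ∈ upperGroup F m, r ^ p = 1 → s⁻¹ * r * s ∈ upperGroup F m := by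
    intro r hr hrp
    have h1 : (π s)⁻¹ * π r * π s ∈ (upperGroup F m).map π := by
      refine (Subgroup.mem_normalizer_iff.1 hs _).2 ?_
      simp only [mul_assoc, mul_inv_cancel_left, mul_inv_cancel, mul_one]
      exact ⟨r, hr, rfl⟩
    obtain ⟨u, hu, hue⟩ := h1
    obtain ⟨k, hk⟩ := exists_pow_upper (p := p) hu
    have hA : (s⁻¹ * r * s) ^ p ^ 1 = 1 := by
      rw [pow_one, show s⁻¹ * r * s = s⁻¹ * r * s⁻¹⁻¹ by rw [inv_inv], conj_pow, hrp, mul_one,
        mul_inv_cancel]
    rw [eq_of_mk hA hk (by rw [hue, map_mul, map_mul, map_inv])]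
    exact hu
  -- a root element whose row at `y` is that of `1` changed at the single place `a`
  have hroot : ∀ y a : Fin m ⊕ Fin m, pos y < pos a → ∃ r ∈ upperGroup F m, r ^ p = 1 ∧
      ∃ e : F, e ≠ 0 ∧ ∀ z, r.1 y z = (if z = y then 1 else 0) + if z = a then e else 0 := by
    rintro (i | i) (j | j) h <;> simp only [pos, Sum.elim_inl, Sum.elim_inr] at h
    · have hij : i < j := h
      refine ⟨_, levi_mem_upper (PSLChar.transvec_mem_unitri hij (1 : F)),
        levi_transvec_pow hij.ne 1, 1, one_ne_zero, ?_⟩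
      rintro (k | k) <;>
        simp [leviHom, Symp.levi, CfsgLib.Linear.transvec_coe, Matrix.transvection, Matrix.single_apply,
          Matrix.one_apply, eq_comm]
    · have hS : (if i = j then Matrix.single i i (1 : F) else Matrix.single i j 1 + Matrix.single j i 1)ᵀ =
          if i = j then Matrix.single i i (1 : F) else Matrix.single i j 1 + Matrix.single j i 1 := by
        split_ifs <;> simp [add_comm]
      refine ⟨_, uni_mem_upper _ hS, uni_pow_char _ _, 1, one_ne_zero, ?_⟩
      rintro (k | k)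
      · simp [uni, Matrix.one_apply, eq_comm]
      · by_cases hij : i = j
        · subst hij; simp [uni, Matrix.single_apply, eq_comm]
        · simp [uni, hij, Matrix.single_apply, Ne.symm hij, eq_comm]
    · have := i.2; have := j.2; omega
    · have hij : j < i := show (j : ℕ) < i by have := i.2; have := j.2; omega
      refine ⟨_, levi_mem_upper (PSLChar.transvec_mem_unitri hij (1 : F)),
        levi_transvec_pow hij.ne 1, -1, by simp, ?_⟩
      rintro (k | k) <;>
        simp only [leviHom, Symp.levi, MonoidHom.coe_mk, OneHom.coe_mk,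
          Matrix.SpecialLinearGroup.transvection_inv, CfsgLib.Linear.transvec_coe] <;>
        simp [Matrix.transvection, Matrix.single_apply, Matrix.one_apply, eq_comm]
  intro x y
  induction hk : pos y using Nat.strong_induction_on generalizing x y with
  | _ k ih =>
    intro hxy
    subst hk
    obtain ⟨r, hr, hrp, e, he, hrow⟩ := hroot y x hxy
    obtain ⟨hu1, hu0⟩ := upper_unitri (hconj r hr hrp)
    set u := s⁻¹ * r * s with hudef
    have heq : r * s = s * u := by rw [hudef]; group
    have h1 := congrArg (fun g : Sp => g.1 y y) heq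
    simp only [Submonoid.coe_mul, Matrix.mul_apply, hrow, add_mul, Finset.sum_add_distrib, ite_mul,
      zero_mul, one_mul, Finset.sum_ite_eq', Finset.mem_univ, if_true] at h1
    rw [Finset.sum_eq_single y (fun z _ hz => ?_) (by simp), hu1 y, mul_one] at h1
    · have h2 : e * s.1 x y = 0 := by linear_combination h1
      exact (mul_eq_zero.1 h2).resolve_left he
    · rcases lt_or_gt_of_ne (pos_injective.ne hz) with hlt | hgt
      · rw [ih (pos z) hlt y z rfl hlt, zero_mul]
      · rw [hu0 z y hgt, mul_zero]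

/-- **The fusion system of `PSp_2m(q)` in the defining characteristic is simple.** -/
theorem isSimple_fusion (p : ℕ) [Fact p.Prime] [CharP F p] (hm : 2 ≤ m)
    (hex : m = 2 → 3 ≤ Nat.card F) (S : Sylow p (Cfsg.PSp m F)) :
    (Cfsg.groupFusionSystem (S : Subgroup (Cfsg.PSp m F))).IsSimple p := by
  have hp : p.Prime := Fact.out
  haveI : NeZero m := ⟨by omega⟩
  obtain ⟨P, hP⟩ := exists_sylow (F := F) (m := m) (by omega) p
  have hPmem : ∀ {s : Sp}, s ∈ upperGroup F m → π s ∈ (P : Subgroup (Cfsg.PSp m F)) :=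
    fun hs => hP ▸ ⟨_, hs, rfl⟩
  refine Fusion.isSimple_of_radicalGens P (fun h => ?_) ?_ ?_ S
  · have h1 : π (tv (eV 0 : V) 1) = π 1 :=
      (Subgroup.mem_bot.1 (h.le (hPmem (tv_eV_mem_upper 0 1)))).trans (map_one π).symm
    have h2 := mk_injOn_upper (p := p) (tv_eV_mem_upper 0 1) (one_mem _) h1
    rw [← tv_zero (eV 0 : V)] at h2
    exact one_ne_zero (tv_injective (eV_ne_zero 0) h2)
  · intro x hx hxc hx1 T hxT hcl
    rw [hP] at hx
    obtain ⟨s, hs, rfl⟩ := hx
    have hle := upper_le_of_central (p := p) hm hex hs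
      (fun u hu => mk_injOn_upper (p := p) (mul_mem hs hu) (mul_mem hu hs)
        (by rw [map_mul, map_mul]; exact hxc _ (hPmem hu)))
      (fun e => hx1 (by rw [e, map_one])) (T := T.comap π) hxT
      (fun t ht g hg => by
        show π (g * t * g⁻¹) ∈ T
        have h1 := hPmem hg
        rw [map_mul, map_mul, map_inv] at h1 ⊢
        exact hcl _ ht _ h1)
    rw [hP]
    exact Subgroup.map_le_iff_le_comap.2 hle
  · intro g hg
    obtain ⟨s, rfl⟩ := QuotientGroup.mk'_surjective _ g
    set W := Subgroup.closure (radicalGens p (P : Subgroup (Cfsg.PSp m F)) ∪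
      (Subgroup.centralizer ((P : Subgroup (Cfsg.PSp m F)) : Set (Cfsg.PSp m F)) :
        Set (Cfsg.PSp m F)))
    have hPW : ∀ y ∈ (P : Subgroup (Cfsg.PSp m F)), y ∈ W := fun y hy =>
      Subgroup.subset_closure (Or.inl ⟨Subgroup.le_normalizer hy, P, le_rfl, fun x hxc hxk => by
        obtain ⟨k, hk⟩ := hxk
        have hz : IsPGroup p (Subgroup.zpowers x) :=
          IsPGroup.of_card (n := k) (by rw [Nat.card_zpowers, hk])
        have hxN : x ∈ Subgroup.normalizer ((P : Subgroup (Cfsg.PSp m F)) : Set (Cfsg.PSp m F)) :=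
          PSLChar.mem_normalizer_of_le fun r hr => by rwa [hxc r hr, mul_inv_cancel_right]
        rw [← P.3 (IsPGroup.to_sup_of_normal_right' hz P.2 (Subgroup.zpowers_le.2 hxN))
          le_sup_right]
        exact Subgroup.mem_sup_left (Subgroup.mem_zpowers x),
      Subgroup.subset_closure ⟨Subgroup.le_normalizer hy, by
        obtain ⟨k, hk⟩ := IsPGroup.iff_orderOf.1 P.2 ⟨y, hy⟩
        exact ⟨k, by rw [← hk, ← Subgroup.orderOf_coe]⟩⟩⟩)
    have hgen : ∀ (R : Subgroup Sp) (r : Sp), r ^ p = 1 → (∀ x ∈ R, r * x * r⁻¹ ∈ R) →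
        π r ∈ Subgroup.closure {y : Cfsg.PSp m F |
          y ∈ Subgroup.normalizer ((R.map π : Subgroup (Cfsg.PSp m F)) : Set (Cfsg.PSp m F)) ∧
            ∃ k : ℕ, orderOf y = p ^ k} := by
      intro R r hr hR
      have hord : orderOf (π r) ∣ p ^ 1 := by
        rw [pow_one]; exact orderOf_dvd_of_pow_eq_one (by rw [← map_pow, hr, map_one])
      obtain ⟨k, -, hk⟩ := (Nat.dvd_prime_pow hp).1 hord
      exact Subgroup.subset_closure ⟨map_normalizer hR, k, hk⟩
    set o : Fin m := ⟨0, by omega⟩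
    set o' : Fin m := ⟨1, by omega⟩
    have hoo : o ≠ o' := by simp [o, o']
    have hdN : ∀ d : Fin m → Fˣ, π (diagEl d) ∈
        Subgroup.normalizer ((P : Subgroup (Cfsg.PSp m F)) : Set (Cfsg.PSp m F)) := fun d => by
      rw [hP]; exact map_normalizer (diagEl_normalizes d)
    have hne : ∀ (i : Fin m) (a : Fˣ), i ≠ o → π (diagEl (Function.update (1 : Fin m → Fˣ) i a)) ∈ W := by
      intro i a hio
      refine Subgroup.subset_closure (Or.inl ⟨hdN _, (pointRad (F := F) o).map π, ?_,
        fun x hx ⟨k, hk⟩ => centralizer_pointRad o hx (k := k) (by rw [← hk, pow_orderOf_eq_one]), ?_⟩)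
      · rw [hP]; exact Subgroup.map_mono (pointRad_le_upper o rfl)
      · have he : ∀ c : F, π (tv (eV i : V) c) ∈ Subgroup.closure {y : Cfsg.PSp m F |
            y ∈ Subgroup.normalizer (((pointRad (F := F) o).map π : Subgroup (Cfsg.PSp m F)) :
              Set (Cfsg.PSp m F)) ∧ ∃ k : ℕ, orderOf y = p ^ k} := fun c =>
          hgen _ _ (tv_pow_char _ _) (normalizes_pointRad (by rw [tv_smul, form_eV_eV]; simp))
        have hf : ∀ c : F, π (tv (fV i : V) c) ∈ Subgroup.closure {y : Cfsg.PSp m F |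
            y ∈ Subgroup.normalizer (((pointRad (F := F) o).map π : Subgroup (Cfsg.PSp m F)) :
              Set (Cfsg.PSp m F)) ∧ ∃ k : ℕ, orderOf y = p ^ k} := fun c =>
          hgen _ _ (tv_pow_char _ _)
            (normalizes_pointRad (by rw [tv_smul, form_eV_fV_ne hio.symm]; simp))
        rw [diagEl_single_eq]
        simp only [map_mul]
        exact mul_mem (mul_mem (mul_mem (he _) (hf _)) (he _))
          (mul_mem (mul_mem (he _) (hf _)) (he _))
    have hlev : ∀ a : Fˣ,
        π (diagEl (Function.update (1 : Fin m → Fˣ) o a * Function.update (1 : Fin m → Fˣ) o' a⁻¹)) ∈ W := by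
      intro a
      refine Subgroup.subset_closure (Or.inl ⟨hdN _, (uniGroup m F).map π, ?_, ?_, ?_⟩)
      · rw [hP]
        refine Subgroup.map_mono ?_
        rintro _ ⟨S, hS, rfl⟩
        exact uni_mem_upper S hS
      · rintro x hx ⟨k, hk⟩
        obtain ⟨t, rfl, htk⟩ := exists_lift (p := p) (k := k) (x := x) (by rw [← hk, pow_orderOf_eq_one])
        obtain ⟨B, hB, rfl⟩ := exists_uni_of_comm hm hp htk fun S hS =>
          mul_inv_eq_iff_eq_mul.1 (eq_of_mk (p := p) (k := 1) (l := 1)
            (by rw [pow_one, conj_pow, uni_pow_char, mul_one, mul_inv_cancel])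
            (by rw [pow_one, uni_pow_char])
            (by rw [map_mul, map_mul, map_inv, hx _ ⟨_, uni_mem S hS, rfl⟩, mul_inv_cancel_right]))
        exact ⟨_, uni_mem B hB, rfl⟩
      · rw [← levi_diag2n hoo a, CfsgLib.Linear.diag2n_decompose]
        have ht : ∀ (i j : Fin m) (hij : i ≠ j) (c : F),
            π (leviHom m F (Matrix.SpecialLinearGroup.transvection hij c)) ∈
              Subgroup.closure {y : Cfsg.PSp m F | y ∈ Subgroup.normalizer
                (((uniGroup m F).map π : Subgroup (Cfsg.PSp m F)) : Set (Cfsg.PSp m F)) ∧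
                  ∃ k : ℕ, orderOf y = p ^ k} := fun i j hij c =>
          hgen _ _ (levi_transvec_pow hij c) (normalizes_uni _)
        simp only [map_mul]
        exact mul_mem (mul_mem (mul_mem (ht _ _ _ _) (ht _ _ _ _)) (ht _ _ _ _))
          (mul_mem (mul_mem (ht _ _ _ _) (ht _ _ _ _)) (ht _ _ _ _))
    have hsingle : ∀ (i : Fin m) (a : Fˣ), π (diagEl (Function.update (1 : Fin m → Fˣ) i a)) ∈ W := by
      intro i a
      rcases eq_or_ne i o with rfl | hio
      · have : Function.update (1 : Fin m → Fˣ) o a =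
            (Function.update (1 : Fin m → Fˣ) o a * Function.update (1 : Fin m → Fˣ) o' a⁻¹) * Function.update (1 : Fin m → Fˣ) o' a := by
          funext k
          rcases eq_or_ne k o' with rfl | hk <;> simp [*, hoo.symm]
        rw [this, diagEl_mul, map_mul]
        exact mul_mem (hlev a) (hne o' a hoo.symm)
      · exact hne i a hio
    have hdiag : ∀ d : Fin m → Fˣ, π (diagEl d) ∈ W := fun d => by
      rw [← Finset.univ_prod_mulSingle d]
      refine Finset.prod_induction _ (fun d : Fin m → Fˣ => π (diagEl d) ∈ W)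
        (fun d d' h h' => ?_) ?_ fun i _ => hsingle i (d i)
      · simp only [diagEl_mul, map_mul]; exact mul_mem h h'
      · simp only [diagEl_one, map_one]; exact one_mem _
    rw [hP] at hg
    have htri := triangular_of_normalizes (p := p) s hg
    have hC : s.1.toBlocks₂₁ = 0 := Matrix.ext fun i j => htri _ _ (by
      show (j : ℕ) < 2 * m - 1 - i
      have := i.2
      have := j.2
      omega)
    have hAD : ∀ i, s.1 (Sum.inl i) (Sum.inl i) * s.1 (Sum.inr i) (Sum.inr i) = 1 := by
      intro i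
      have h1 := congrFun (congrFun (blocks_of_c_zero s hC).1 i) i
      rw [Matrix.mul_apply, Matrix.one_apply_eq, Finset.sum_eq_single i ?_ (by simp)] at h1
      · exact h1
      · intro k _ hk
        rcases lt_or_gt_of_ne hk with hlt | hgt
        · refine mul_eq_zero_of_right _ (htri (Sum.inr k) (Sum.inr i) ?_)
          show 2 * m - 1 - (i : ℕ) < 2 * m - 1 - k
          have := i.2; have : (k : ℕ) < i := hlt
          omega
        · exact mul_eq_zero_of_left (htri (Sum.inl k) (Sum.inl i) hgt) _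
    let d : Fin m → Fˣ := fun i =>
      ⟨s.1 (Sum.inl i) (Sum.inl i), s.1 (Sum.inr i) (Sum.inr i), hAD i, by rw [mul_comm]; exact hAD i⟩
    have hu : diagEl d⁻¹ * s ∈ upperGroup F m := by
      refine mem_upper_of_unitri _ (fun x => ?_) fun x y hxy => ?_
      · rw [Submonoid.coe_mul, diagEl_val, Matrix.diagonal_mul]
        rcases x with i | i
        · show ((d⁻¹) i : F) * s.1 (Sum.inl i) (Sum.inl i) = 1
          exact (d i).inv_mul
        · show (((d⁻¹) i : Fˣ) : F)⁻¹ * s.1 (Sum.inr i) (Sum.inr i) = 1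
          rw [Pi.inv_apply, Units.val_inv_eq_inv_val, inv_inv]
          exact hAD i
      · rw [Submonoid.coe_mul, diagEl_val, Matrix.diagonal_mul, htri x y hxy, mul_zero]
    have hsd : s = diagEl d * (diagEl d⁻¹ * s) := by
      rw [← mul_assoc, ← diagEl_mul, mul_inv_cancel, diagEl_one, one_mul]
    rw [hsd, map_mul]
    exact mul_mem (hdiag d) (hPW _ (hPmem hu))

end CfsgLib.Fusion.PSpChar
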