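import Cfsg.Agent.Fusion.SimpleRadicals
import Cfsg.Agent.AutPSp.Sylow
import Cfsg.Agent.Classical.SympTorus

/-!
The upper unitriangular group of `Sp_2m` as a Sylow subgroup, root elements and two radicals.
-/

set_option autoImplicit false
set_option linter.style.haveILetI false
set_option linter.unusedSectionVars false

open Matrix

namespace CfsgLib.Fusion.PSpChar

open CfsgLib.Symp CfsgLib.AutPSp

variable {F : Type*} [Field F] {m : ℕ}

local notation "Sp" => Matrix.symplecticGroup (Fin m) F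
local notation "V" => Fin m ⊕ Fin m → F

/-- The standard vector `f_i`. -/
def fV (i : Fin m) : V := Pi.single (Sum.inr i) 1

theorem form_eV (x : V) (i : Fin m) : form x (eV i) = x (Sum.inr i) := by
  rw [form_swap, eV, form_single_inl, one_mul, neg_neg]

theorem form_fV (x : V) (i : Fin m) : form x (fV i) = -x (Sum.inl i) := by
  rw [form_swap, fV, form_single_inr, one_mul]

theorem uni_apply (S : Matrix (Fin m) (Fin m) F) (hS : Sᵀ = S) (x : V) :
    uni S hS • x = x + Sum.elim (S *ᵥ (x ∘ Sum.inr)) 0 := by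
  funext k
  show (Matrix.fromBlocks 1 S 0 1 *ᵥ x) k = _
  rw [Matrix.fromBlocks_mulVec]
  rcases k with k | k <;> simp

/-! ### Short root elements -/

/-- The element `x ↦ x + c (form x w • v + form x v • w)` for orthogonal `v`, `w`. -/
def eich (v w : V) (c : F) : Sp := tv (v + w) c * (tv v (-c) * tv w (-c))

theorem eich_apply {v w : V} (h : form v w = 0) (c : F) (x : V) :
    eich v w c • x = x + c • (form x w • v + form x v • w) := by
  have h' : form w v = 0 := by rw [form_swap, h, neg_zero]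
  rw [eich, mul_smul, mul_smul]
  simp only [tv_smul, form_add_right, form_smul_left, h, h', form_self, mul_zero,
    add_zero, smul_add, smul_smul]
  match_scalars <;> ring

theorem eich_conj (g : Sp) (v w : V) (c : F) : g * eich v w c * g⁻¹ = eich (g • v) (g • w) c := by
  have hg : g * eich v w c * g⁻¹ =
      (g * tv (v + w) c * g⁻¹) * ((g * tv v (-c) * g⁻¹) * (g * tv w (-c) * g⁻¹)) := by
    rw [eich]; group
  rw [hg, tv_conj, tv_conj, tv_conj, smul_add]
  rfl

theorem eich_eq_uni {i j : Fin m} (c : F) :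
    eich (eV i : V) (eV j) c =
      uni (Matrix.single i j c + Matrix.single j i c) (by simp [add_comm]) := by
  refine symp_ext fun x => ?_
  rw [eich_apply (by rw [form_eV]; simp [eV]), uni_apply, form_eV, form_eV]
  funext k
  rcases k with k | k
  · simp [eV, Matrix.mulVec, dotProduct, Matrix.single_apply, Pi.single_apply, 
      add_mul, Finset.sum_add_distrib, ite_and]
    by_cases h1 : k = i <;> by_cases h2 : k = j <;> simp [h1, h2, eq_comm] <;>
      first | ring1 | (rw [if_neg (Ne.symm h1), if_neg (Ne.symm h2), add_zero])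
  · simp [eV]

theorem eich_fV_eq_levi {i j : Fin m} (h : i ≠ j) (c : F) :
    eich (eV i : V) (fV j) (-c) =
      leviHom m F (Matrix.SpecialLinearGroup.transvection h c) := by
  refine symp_ext fun x => ?_
  rw [eich_apply (by rw [form_fV]; simp [eV, h.symm]), form_eV, form_fV]
  funext k
  show _ = (Matrix.fromBlocks _ 0 0 _ *ᵥ x) k
  rw [Matrix.fromBlocks_mulVec]
  rcases k with k | k
  · simp only [Matrix.zero_mulVec, add_zero, Sum.elim_inl, CfsgLib.Linear.transvec_coe,
      Matrix.transvection, Matrix.add_mulVec, Matrix.one_mulVec]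
    simp [eV, fV, Matrix.mulVec, dotProduct, Matrix.single_apply, Pi.single_apply, ite_and]
    by_cases hk : k = i <;> simp [hk, eq_comm] <;> intro e <;> exact absurd e.symm hk
  · simp only [Matrix.zero_mulVec, zero_add, Sum.elim_inr,
      Matrix.SpecialLinearGroup.transvection_inv, CfsgLib.Linear.transvec_coe, Matrix.transvection,
      Matrix.transpose_add, Matrix.transpose_one, Matrix.transpose_single, Matrix.add_mulVec,
      Matrix.one_mulVec]
    simp [eV, fV, Matrix.mulVec, dotProduct, Matrix.single_apply, Pi.single_apply, ite_and]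
    by_cases hk : k = j <;> simp [hk, eq_comm] <;> intro e <;> exact absurd e.symm hk

theorem eich_pow_char {p : ℕ} [CharP F p] {v w : V} (h : form v w = 0) (c : F) :
    eich v w c ^ p = 1 := by
  have hk : ∀ k : ℕ, eich v w c ^ k = eich v w (k * c) := by
    intro k
    induction k with
    | zero => simp [eich, tv_zero]
    | succ k ih =>
      refine symp_ext fun x => ?_
      rw [pow_succ, ih, mul_smul, eich_apply h, eich_apply h, eich_apply h]
      have h' : form w v = 0 := by rw [form_swap, h, neg_zero]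
      simp only [form_add_left, form_smul_left, h, h', form_self, mul_zero, add_zero,
        Nat.cast_succ, smul_add, smul_smul]
      match_scalars <;> ring
  rw [hk, CharP.cast_eq_zero, zero_mul]
  simp [eich, tv_zero]

/-! ### The unitriangular group -/

variable [Finite F]

/-- The upper unitriangular group. -/
def upperGroup (F : Type*) [Field F] [Finite F] (m : ℕ) :
    Subgroup (Matrix.symplecticGroup (Fin m) F) where
  carrier := {g | ∃ t ∈ AutPSL.unitriSL F m, ∃ u ∈ uniGroup m F, g = leviHom m F t * u}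
  mul_mem' := by
    rintro _ _ ⟨t, ht, u, hu, rfl⟩ ⟨t', ht', u', hu', rfl⟩
    refine ⟨t * t', mul_mem ht ht', (leviHom m F t')⁻¹ * u * leviHom m F t' * u', mul_mem ?_ hu', ?_⟩
    · obtain ⟨S, hS, rfl⟩ := hu
      have h1 := leviHom_conj_uni t'⁻¹ S hS
      rw [map_inv, inv_inv] at h1
      rw [h1]
      exact uni_mem _ _
    · rw [map_mul]; group
  one_mem' := ⟨1, one_mem _, 1, one_mem _, by simp⟩
  inv_mem' := by
    rintro _ ⟨t, ht, u, hu, rfl⟩
    refine ⟨t⁻¹, inv_mem ht, leviHom m F t * u⁻¹ * (leviHom m F t)⁻¹, ?_, ?_⟩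
    · obtain ⟨S, hS, e⟩ := inv_mem hu
      rw [e, leviHom_conj_uni]
      exact uni_mem _ _
    · rw [map_inv]; group

theorem leviHom_injective : Function.Injective (leviHom m F) := fun s t h => Subtype.ext (by
  have := congrArg (fun g : Sp => (g : Matrix (Fin m ⊕ Fin m) (Fin m ⊕ Fin m) F).toBlocks₁₁) h
  simpa [leviHom, levi] using this)

theorem levi_mem_upper {t : Matrix.SpecialLinearGroup (Fin m) F} (ht : t ∈ AutPSL.unitriSL F m) :
    leviHom m F t ∈ upperGroup F m :=
  ⟨t, ht, 1, one_mem _, (mul_one _).symm⟩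

theorem uni_mem_upper (S : Matrix (Fin m) (Fin m) F) (hS : Sᵀ = S) :
    uni S hS ∈ upperGroup F m :=
  ⟨1, one_mem _, _, uni_mem S hS, by simp⟩

theorem card_upper : Nat.card (upperGroup F m) = Nat.card F ^ (m ^ 2) := by
  classical
  let f : AutPSL.unitriSL F m × {S : Matrix (Fin m) (Fin m) F // Sᵀ = S} → upperGroup F m :=
    fun x => ⟨leviHom m F x.1.1 * uni x.2.1 x.2.2, x.1.1, x.1.2, _, uni_mem _ _, rfl⟩
  have hf : Function.Bijective f := by
    refine ⟨fun x y h => ?_, ?_⟩
    · have h1 := congrArg (fun g : upperGroup F m =>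
        ((g.1 : Sp) : Matrix (Fin m ⊕ Fin m) (Fin m ⊕ Fin m) F)) h
      simp only [f, Submonoid.coe_mul, leviHom, levi, uni, MonoidHom.coe_mk, OneHom.coe_mk,
        Matrix.fromBlocks_multiply, Matrix.fromBlocks_inj, Matrix.mul_one, Matrix.mul_zero,
        Matrix.zero_mul, add_zero, zero_add] at h1
      obtain ⟨h11, h12, -, -⟩ := h1
      have ht : x.1 = y.1 := Subtype.ext (Subtype.ext h11)
      refine Prod.ext ht (Subtype.ext ?_)
      rw [ht] at h12
      have h3 := congrArg (fun M => ((y.1.1⁻¹ : Matrix.SpecialLinearGroup (Fin m) F) :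
        Matrix (Fin m) (Fin m) F) * M) h12
      simpa only [← Matrix.mul_assoc, ← Matrix.SpecialLinearGroup.coe_mul, inv_mul_cancel,
        Matrix.SpecialLinearGroup.coe_one, Matrix.one_mul] using h3
    · rintro ⟨_, t, ht, _, ⟨S, hS, rfl⟩, rfl⟩
      exact ⟨(⟨t, ht⟩, ⟨S, hS⟩), rfl⟩
  rw [← Nat.card_eq_of_bijective f hf, Nat.card_prod, AutPSL.card_unitriSL,
    CfsgLib.Symp.Torus.card_symm, ← pow_add, ← CfsgLib.Linear.GLn.two_dvd_mul_pred]
  congr 1
  obtain ⟨k, hk⟩ := Nat.even_mul_succ_self m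
  rcases Nat.eq_zero_or_pos m with rfl | h0
  · rfl
  have h1 : m * (m - 1) + m = m ^ 2 := by
    obtain ⟨j, rfl⟩ := Nat.exists_eq_add_of_le' h0
    rw [Nat.succ_eq_add_one, zero_add, Nat.add_sub_cancel]
    ring
  have h2 : m * (m + 1) = m ^ 2 + m := by ring
  omega

theorem isPGroup_upper (p : ℕ) [Fact p.Prime] [CharP F p] : IsPGroup p (upperGroup F m) := by
  obtain ⟨k, hk⟩ : ∃ k, Nat.card F = p ^ k := by
    letI := Fintype.ofFinite F
    obtain ⟨k, -, hk⟩ := FiniteField.card F p
    exact ⟨k, by rw [Nat.card_eq_fintype_card, hk]⟩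
  exact IsPGroup.of_card (n := k * m ^ 2) (by rw [card_upper, hk, pow_mul])

local notation "π" => (QuotientGroup.mk' (Subgroup.center (Matrix.symplecticGroup (Fin m) F)))

/-- Elements of `p`-power order are equal if their classes are. -/
theorem eq_of_mk {p : ℕ} [Fact p.Prime] [CharP F p] {A B : Sp} {k l : ℕ} (hA : A ^ p ^ k = 1)
    (hB : B ^ p ^ l = 1) (h : π A = π B) : A = B :=
  AutPSp.eq_of_mk_eq Fact.out (k := k + l) (by rw [pow_add, pow_mul, hA, one_pow])
    (by rw [add_comm k, pow_add, pow_mul, hB, one_pow]) h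

theorem exists_pow_upper {p : ℕ} [Fact p.Prime] [CharP F p] {g : Sp} (hg : g ∈ upperGroup F m) :
    ∃ k, g ^ p ^ k = 1 := by
  obtain ⟨k, hk⟩ := isPGroup_upper p ⟨g, hg⟩
  exact ⟨k, congrArg Subtype.val hk⟩

theorem mk_injOn_upper {p : ℕ} [Fact p.Prime] [CharP F p] {g h : Sp} (hg : g ∈ upperGroup F m)
    (hh : h ∈ upperGroup F m) (e : π g = π h) : g = h := by
  obtain ⟨k, hk⟩ := exists_pow_upper (p := p) hg
  obtain ⟨l, hl⟩ := exists_pow_upper (p := p) hh
  exact eq_of_mk hk hl e

/-- The Sylow subgroup of `PSp`. -/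
theorem exists_sylow (hm : 1 ≤ m) (p : ℕ) [Fact p.Prime] [CharP F p] :
    ∃ P : Sylow p (Cfsg.PSp m F),
      (P : Subgroup (Cfsg.PSp m F)) = (upperGroup F m).map π := by
  have hp : p.Prime := Fact.out
  have hc : Nat.card ((upperGroup F m).map π : Subgroup (Cfsg.PSp m F)) = Nat.card F ^ (m ^ 2) := by
    rw [← card_upper (F := F) (m := m)]
    refine (Nat.card_eq_of_bijective
      (fun g : upperGroup F m => (⟨π g.1, g.1, g.2, rfl⟩ : (upperGroup F m).map π)) ⟨?_, ?_⟩).symm
    · exact fun g h e => Subtype.ext (mk_injOn_upper (p := p) g.2 h.2 (congrArg Subtype.val e))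
    · rintro ⟨_, g, hg, rfl⟩
      exact ⟨⟨g, hg⟩, rfl⟩
  refine ⟨((isPGroup_upper (F := F) (m := m) p).map π).toSylow fun hd => ?_, rfl⟩
  have h1 := Subgroup.card_mul_index ((upperGroup F m).map π : Subgroup (Cfsg.PSp m F))
  have h2 : Nat.card (Cfsg.PSp m F) * Nat.card (Subgroup.center Sp) = Nat.card Sp :=
    (Subgroup.card_eq_card_quotient_mul_card_subgroup _).symm
  rw [← h1, hc, card_Sp, mul_assoc] at h2
  have h3 := Nat.eq_of_mul_eq_mul_left (pow_pos Nat.card_pos _) h2
  have h4 : p ∣ ∏ i ∈ Finset.range m, (Nat.card F ^ (2 * (i + 1)) - 1) :=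
    h3 ▸ hd.mul_right _
  obtain ⟨i, -, hi⟩ := hp.prime.exists_mem_finset_dvd h4
  have hq : p ∣ Nat.card F := by
    letI := Fintype.ofFinite F
    obtain ⟨k, -, hk⟩ := FiniteField.card F p
    rw [Nat.card_eq_fintype_card, hk]; exact dvd_pow_self p k.ne_zero
  have := Nat.dvd_sub (dvd_pow hq (by omega : 2 * (i + 1) ≠ 0)) hi
  rw [Nat.sub_sub_self (Nat.one_le_pow _ _ Nat.card_pos)] at this
  exact hp.not_dvd_one this

/-- An element of `p`-power order has a lift of `p`-power order. -/
theorem exists_lift {p : ℕ} [Fact p.Prime] [CharP F p] {x : Cfsg.PSp m F} {k : ℕ}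
    (hk : x ^ p ^ k = 1) : ∃ s : Sp, π s = x ∧ s ^ p ^ k = 1 := by
  obtain ⟨s, rfl⟩ := QuotientGroup.mk'_surjective _ x
  set z := s ^ p ^ k with hz
  have hzc : z ∈ Subgroup.center Sp :=
    (QuotientGroup.eq_one_iff _).1 ((map_pow π s (p ^ k)).trans hk)
  rcases (Fact.out : p.Prime).eq_two_or_odd' with rfl | hodd
  · refine ⟨s, rfl, ?_⟩
    rcases mem_center_iff.mp hzc with e | e
    · exact Subtype.ext e
    · refine Subtype.ext (e.trans ?_)
      ext a b
      simp [Matrix.one_apply, CharTwo.neg_eq]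
  · refine ⟨s * z, by rw [map_mul, show π z = 1 from (QuotientGroup.eq_one_iff z).2 hzc, mul_one], ?_⟩
    obtain ⟨j, hj⟩ := hodd.pow (n := k)
    rw [(show Commute s z from Subgroup.mem_center_iff.mp hzc s).mul_pow, ← hz, hj, pow_succ,
      pow_mul, sq_eq_one_of_center hzc, one_pow, one_mul, ← pow_two, sq_eq_one_of_center hzc]

/-- The position in the ordering `e₀, …, e_{m-1}, f_{m-1}, …, f₀`. -/
def pos : Fin m ⊕ Fin m → ℕ := Sum.elim (fun i => i) fun i => 2 * m - 1 - i

theorem pos_injective : Function.Injective (pos (m := m)) := by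
  rintro (i | i) (j | j) h <;> simp only [pos, Sum.elim_inl, Sum.elim_inr] at h <;>
    (have := i.2; have := j.2; first | exact congrArg _ (Fin.ext (by omega)) | omega)

/-- Upper unitriangular elements are in the group. -/
theorem mem_upper_of_unitri (g : Sp)
    (h1 : ∀ x, g.1 x x = 1) (h0 : ∀ x y, pos y < pos x → g.1 x y = 0) : g ∈ upperGroup F m := by
  have hC : g.1.toBlocks₂₁ = 0 := Matrix.ext fun i j => h0 _ _ (by
    show (j : ℕ) < 2 * m - 1 - i
    have := i.2
    have := j.2
    omega)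
  have hA : ∀ i j : Fin m, j < i → g.1.toBlocks₁₁ i j = 0 := fun i j hij => h0 _ _ hij
  let t : Matrix.SpecialLinearGroup (Fin m) F := ⟨g.1.toBlocks₁₁, by
    rw [Matrix.det_of_isUpperTriangular fun i j (h : j < i) => hA i j h]
    exact Finset.prod_eq_one fun i _ => h1 (Sum.inl i)⟩
  have ht : t ∈ AutPSL.unitriSL F m := ⟨fun i => h1 (Sum.inl i), hA⟩
  set s := (leviHom m F t)⁻¹ * g with hs
  have hsm : (s : Matrix (Fin m ⊕ Fin m) (Fin m ⊕ Fin m) F) = Matrix.fromBlocks 1
      (((t⁻¹ : Matrix.SpecialLinearGroup (Fin m) F) : Matrix (Fin m) (Fin m) F) * g.1.toBlocks₁₂) 0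
      (((t : Matrix.SpecialLinearGroup (Fin m) F) : Matrix (Fin m) (Fin m) F)ᵀ * g.1.toBlocks₂₂) := by
    rw [hs, ← map_inv, Submonoid.coe_mul]
    conv_lhs => rw [← Matrix.fromBlocks_toBlocks g.1, hC]
    simp only [leviHom, levi, MonoidHom.coe_mk, OneHom.coe_mk, inv_inv, Matrix.fromBlocks_multiply,
      Matrix.mul_zero, Matrix.zero_mul, add_zero, zero_add]
    rw [show g.1.toBlocks₁₁ = (t : Matrix (Fin m) (Fin m) F) from rfl,
      ← Matrix.SpecialLinearGroup.coe_mul, inv_mul_cancel, Matrix.SpecialLinearGroup.coe_one]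
  have hmem := s.2
  rw [hsm, SymplecticGroup.fromBlocks_mem_iff] at hmem
  obtain ⟨-, h2, h3⟩ := hmem
  have hD : ((t : Matrix.SpecialLinearGroup (Fin m) F) : Matrix (Fin m) (Fin m) F)ᵀ *
      g.1.toBlocks₂₂ = 1 := by
    first | simpa using h3 | simpa using h3.symm
  rw [hD] at h2 hsm
  obtain ⟨B, hB, hsB⟩ : ∃ B, ∃ hB : Bᵀ = B, s = uni B hB := by
    refine ⟨_, ?_, Subtype.ext hsm⟩
    first | simpa using h2 | simpa using h2.symm
  exact ⟨t, ht, uni B hB, uni_mem _ _, by rw [← hsB, hs, mul_inv_cancel_left]⟩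

/-! ### The radical of a point stabilizer -/

/-- The elements fixing `e₀` and acting trivially on `e₀^⊥/⟨e₀⟩`. -/
def pointRad (o : Fin m) : Subgroup Sp where
  carrier := {g | g • (eV o : V) = eV o ∧
    ∀ v : V, form (eV o) v = 0 → ∃ c : F, g • v = v + c • eV o}
  mul_mem' := by
    rintro a b ⟨ha, ha'⟩ ⟨hb, hb'⟩
    refine ⟨by rw [mul_smul, hb, ha], fun v hv => ?_⟩
    obtain ⟨c, hc⟩ := hb' v hv
    obtain ⟨d, hd⟩ := ha' v hv
    refine ⟨d + c, ?_⟩
    rw [mul_smul, hc, smul_add, hd, smul_comm a c (eV o : V), ha]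
    module
  one_mem' := ⟨one_smul _ _, fun v _ => ⟨0, by simp⟩⟩
  inv_mem' := by
    rintro a ⟨ha, ha'⟩
    have hae : a⁻¹ • (eV o : V) = eV o := inv_smul_eq_iff.2 ha.symm
    refine ⟨hae, fun v hv => ?_⟩
    obtain ⟨c, hc⟩ := ha' v hv
    refine ⟨-c, ?_⟩
    rw [inv_smul_eq_iff, smul_add, smul_comm a (-c) (eV o : V), ha, hc]
    module

theorem pointRad_le_upper (o : Fin m) (ho : (o : ℕ) = 0) :
    pointRad (F := F) o ≤ upperGroup F m := by
  rintro g ⟨he, hv⟩
  have hcol : ∀ (x y : Fin m ⊕ Fin m), g.1 x y = (g • (Pi.single y 1 : V)) x := fun x y =>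
    (congrFun (Matrix.mulVec_single_one g.1 y) x).symm
  have key : ∀ y, y ≠ Sum.inr o → ∀ x, x ≠ Sum.inl o →
      g.1 x y = (1 : Matrix (Fin m ⊕ Fin m) (Fin m ⊕ Fin m) F) x y := by
    intro y hy x hx
    obtain ⟨c, hc⟩ := hv (Pi.single y 1) (by
      rw [eV, form_single_inl, Pi.single_eq_of_ne (Ne.symm hy)]; simp)
    rw [hcol, hc]
    simp [eV, hx, Matrix.one_apply, Pi.single_apply]
  have hee : ∀ x, g.1 x (Sum.inl o) = (1 : Matrix (Fin m ⊕ Fin m) (Fin m ⊕ Fin m) F) x (Sum.inl o) := by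
    intro x
    rw [hcol, show (Pi.single (Sum.inl o) 1 : V) = eV o from rfl, he]
    simp [eV, Matrix.one_apply, Pi.single_apply]
  have hff : g.1 (Sum.inr o) (Sum.inr o) = 1 := by
    have h1 := form_smul_smul g (fV o : V) (eV o)
    rw [he, form_eV, form_eV] at h1
    rw [hcol]
    simpa [fV] using h1
  refine mem_upper_of_unitri g (fun x => ?_) fun x y hxy => ?_
  · by_cases hx : x = Sum.inl o
    · subst hx; simpa using hee (Sum.inl o)
    by_cases hx' : x = Sum.inr o
    · subst hx'; exact hff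
    · rw [key x hx' x hx, Matrix.one_apply_eq]
  · have hne : x ≠ y := fun e => (lt_irrefl _) (e ▸ hxy)
    have hy : y ≠ Sum.inr o := by
      rintro rfl
      rcases x with i | i <;> simp only [pos, Sum.elim_inl, Sum.elim_inr] at hxy <;> omega
    have hx : x ≠ Sum.inl o := by
      rintro rfl
      simp only [pos, Sum.elim_inl] at hxy
      omega
    rw [key y hy x hx, Matrix.one_apply_ne hne]

theorem eich_mem_pointRad (o : Fin m) {v : V} (hv : form (eV o) v = 0) :
    eich (eV o) v 1 ∈ pointRad (F := F) o := by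
  refine ⟨?_, fun w hw => ⟨form w v, ?_⟩⟩
  · rw [eich_apply hv, hv, form_self]; simp
  · rw [eich_apply hv, one_smul, show form w (eV o) = 0 by rw [form_swap, hw, neg_zero], zero_smul,
      add_zero]

theorem tv_mem_pointRad (o : Fin m) (c : F) : tv (eV o : V) c ∈ pointRad (F := F) o :=
  ⟨by rw [tv_smul, form_self]; simp, fun w hw => ⟨0, by
    rw [tv_smul, show form w (eV o) = 0 by rw [form_swap, hw, neg_zero]]; simp⟩⟩

theorem centralizer_pointRad {p : ℕ} [Fact p.Prime] [CharP F p] (o : Fin m) {x : Cfsg.PSp m F}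
    (hx : ∀ r ∈ (pointRad (F := F) o).map π, x * r = r * x) {k : ℕ} (hk : x ^ p ^ k = 1) :
    x ∈ (pointRad (F := F) o).map π := by
  obtain ⟨s, rfl, hs⟩ := exists_lift (p := p) hk
  have hconj : ∀ u : Sp, u ∈ pointRad (F := F) o → u ^ p = 1 → s * u * s⁻¹ = u := by
    intro u hu hup
    refine eq_of_mk (p := p) (k := 1) (l := 1) ?_ (by rwa [pow_one]) ?_
    · rw [pow_one, conj_pow, hup, mul_one, mul_inv_cancel]
    · rw [map_mul, map_mul, map_inv, hx _ ⟨u, hu, rfl⟩, mul_inv_cancel_right]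
  have h1 := hconj _ (tv_mem_pointRad o 1) (tv_pow_char _ _)
  rw [tv_conj] at h1
  have hse0 : s • (eV o : V) ≠ 0 := fun e => eV_ne_zero (F := F) o (by
    have := congrArg (fun z => s⁻¹ • z) e
    simpa using this)
  obtain ⟨c, hc⟩ := span_of_tv_eq hse0 one_ne_zero h1
  rw [hc, tv_smul_vec, mul_one] at h1
  have hc2 : c * c = 1 := by rw [← pow_two]; exact tv_injective (eV_ne_zero o) h1
  have hpow : ∀ j : ℕ, (s ^ j) • (eV o : V) = c ^ j • eV o := by
    intro j
    induction j with
    | zero => simp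
    | succ j ih => rw [pow_succ', mul_smul, ih, smul_comm, hc, smul_smul, ← pow_succ]
  have hc1 : c = 1 := by
    have h3 := hpow (p ^ k)
    rw [hs, one_smul] at h3
    have h4 : c ^ p ^ k = 1 := by simpa [eV] using (congrFun h3 (Sum.inl o)).symm
    rcases (Fact.out : p.Prime).eq_two_or_odd' with rfl | hodd
    · rcases mul_self_eq_one_iff.mp hc2 with e | e
      · exact e
      · rw [e, CharTwo.neg_eq]
    · obtain ⟨j, hj⟩ := hodd.pow (n := k)
      rwa [hj, pow_succ, pow_mul, pow_two, hc2, one_pow, one_mul] at h4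
  rw [hc1, one_smul] at hc
  refine ⟨s, ⟨hc, fun v hv => ?_⟩, rfl⟩
  have h5 := hconj _ (eich_mem_pointRad o hv) (eich_pow_char hv 1)
  rw [eich_conj, hc] at h5
  have hv' : form (eV o) (s • v) = 0 := by rw [← hc, form_smul_smul, hv]
  have h6 := congrArg (fun g : Sp => g • (fV o : V)) h5
  simp only [eich_apply hv, eich_apply hv', one_smul, add_right_inj] at h6
  have hfe : form (fV o : V) (eV o) = 1 := by rw [form_eV]; simp [fV]
  rw [hfe, one_smul, one_smul] at h6
  refine ⟨form (fV o) v - form (fV o) (s • v), ?_⟩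
  rw [sub_smul, eq_comm]
  calc v + (form (fV o) v • eV o - form (fV o) (s • v) • eV o)
      = (form (fV o) v • eV o + v) - form (fV o) (s • v) • eV o := by abel
    _ = (form (fV o) (s • v) • eV o + s • v) - form (fV o) (s • v) • eV o := by rw [h6]
    _ = s • v := by abel

end CfsgLib.Fusion.PSpChar
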