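import Cfsg.Agent.ZJ.Inherit
import Cfsg.Agent.Fusion.GroupSystem
import Cfsg.Agent.Fusion.NormalCriteria
import Cfsg.Agent.Fusion.LocalModels

/-
The fusion system of a finite group whose fusion system is p-stable: the group itself is p-stable in
the normalizer form, so Z(J) of a strongly closed subgroup is normal in the fusion system, and the
fusion system is constrained.
-/

set_option autoImplicit false

namespace CfsgLib.Fusion

open Cfsg Cfsg.FusionSystem
open scoped CfsgLib.Functor commutatorElement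

universe u

variable {G : Type u} [Group G] [Finite G] {p : ℕ} [Fact p.Prime]

/-- p-stability of the fusion system at fully normalized subgroups. -/
def IsStableFusion (p : ℕ) (S : Subgroup G) : Prop :=
  ∀ Q : Subgroup G, (groupFusionSystem S).IsFullyNormalized Q → ∀ χ : MulAut ↥Q,
    χ ∈ (groupFusionSystem S).autGroup Q →
      (∀ a : ↥Q, (χ a⁻¹) * a * (χ a⁻¹) * (χ (χ a)) = 1) →
        χ ∈ ((Cfsg.pCore p ↥((groupFusionSystem S).autGroup Q)).map
          ((groupFusionSystem S).autGroup Q).subtype : Subgroup (MulAut ↥Q))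

/-- The group is p-stable in the normalizer form. -/
theorem isNormalizerPStable_of_fusion (S : Sylow p G) (hst : IsStableFusion p (S : Subgroup G)) :
    Cfsg.IsNormalizerPStable p G := by
  intro P hP g hg hq
  obtain ⟨T, hT⟩ := hP.exists_le_sylow
  obtain ⟨x, hx⟩ := MulAction.exists_smul_eq G T S
  have hPS : P.map (MulAut.conj x).toMonoidHom ≤ S := by
    rintro _ ⟨y, hy, rfl⟩
    rw [← hx, Sylow.coe_subgroup_smul]
    exact ⟨y, hT hy, rfl⟩
  obtain ⟨z, hzS, hz⟩ := exists_conj_sylow_normalizer S hPS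
  set w := z * x with hw
  set Q := (P.map (MulAut.conj x).toMonoidHom).map (MulAut.conj z).toMonoidHom with hQ
  have hfn : (groupFusionSystem (S : Subgroup G)).IsFullyNormalized Q :=
    (fullyNormalized_iff_sylowIn S hzS).2 hz
  have hmemQ : ∀ y, y ∈ P → w * y * w⁻¹ ∈ Q := fun y hy =>
    ⟨_, ⟨y, hy, rfl⟩, by simp [hw, mul_assoc]⟩
  have hQmem : ∀ q, q ∈ Q → w⁻¹ * q * w ∈ P := by
    rintro _ ⟨_, ⟨y, hy, rfl⟩, rfl⟩
    simpa [hw, mul_assoc] using hy
  set N := Subgroup.normalizer (P : Set G) with hN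
  have hconj : ∀ n : N, w * (n : G) * w⁻¹ ∈ Subgroup.normalizer (Q : Set G) := by
    intro n
    rw [Subgroup.mem_normalizer_iff]
    intro q
    constructor
    · intro hq
      have h1 := hmemQ _ ((Subgroup.mem_normalizer_iff.1 n.2 _).1 (hQmem q hq))
      simpa [mul_assoc] using h1
    · intro hq
      have h1 := hQmem _ hq
      have h2 : (n : G) * (w⁻¹ * q * w) * (n : G)⁻¹ ∈ P := by simpa [mul_assoc] using h1
      have h3 := hmemQ _ ((Subgroup.mem_normalizer_iff.1 n.2 _).2 h2)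
      simpa [mul_assoc] using h3
  set A := (groupFusionSystem (S : Subgroup G)).autGroup Q with hA
  have hAe : A = autInducedBy ⊤ Q := autGroup_groupFusion hfn.1
  let ρ₀ : N →* MulAut Q :=
    (conjAut ⊤ Q).comp ((((MulAut.conj w).toMonoidHom.comp N.subtype)).codRestrict
      (⊤ ⊓ Subgroup.normalizer (Q : Set G)) fun n => ⟨trivial, hconj n⟩)
  have hρA : ∀ n, ρ₀ n ∈ A := fun n => hAe ▸ mem_autInducedBy.2 ⟨_, trivial, fun _ => rfl⟩
  let ρ : N →* A := ρ₀.codRestrict A hρA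
  have hρval : ∀ (n : N) (q : Q), (((ρ n : MulAut Q) q : Q) : G) =
      (w * (n : G) * w⁻¹) * q * (w * (n : G) * w⁻¹)⁻¹ := fun n q => rfl
  have hsurj : Function.Surjective ρ := by
    rintro ⟨α, hα⟩
    obtain ⟨m, -, hm⟩ := mem_autInducedBy.1 (hAe ▸ hα)
    have hmn := mem_normalizer_of_aut hm
    refine ⟨⟨w⁻¹ * m * w, ?_⟩, Subtype.ext (MulEquiv.ext fun q => Subtype.ext ?_)⟩
    · rw [hN, Subgroup.mem_normalizer_iff]
      intro y
      constructor
      · intro hy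
        have h1 := hQmem _ ((Subgroup.mem_normalizer_iff.1 hmn _).1 (hmemQ y hy))
        simpa [mul_assoc] using h1
      · intro hy
        have h1 := (Subgroup.mem_normalizer_iff.1 hmn (w * y * w⁻¹)).2
          (by simpa [mul_assoc] using hmemQ _ hy)
        simpa [mul_assoc] using hQmem _ h1
    · rw [hρval, hm q]
      simp [mul_assoc]
  -- the quadratic condition
  have hquad : ∀ a : Q, ((ρ ⟨g, hg⟩ : MulAut Q) a⁻¹) * a * ((ρ ⟨g, hg⟩ : MulAut Q) a⁻¹) *
      ((ρ ⟨g, hg⟩ : MulAut Q) ((ρ ⟨g, hg⟩ : MulAut Q) a)) = 1 := by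
    intro a
    apply Subtype.ext
    simp only [Subgroup.coe_mul, map_inv, Subgroup.coe_inv, hρval, Subgroup.coe_one]
    set v := w⁻¹ * (a : G) * w with hv
    have hvP : v ∈ P := hQmem _ a.2
    have hc : ⁅⁅v, g⁆, g⁆ = 1 := Subgroup.mem_bot.1 (hq ▸ Subgroup.commutator_mem_commutator
      (Subgroup.commutator_mem_commutator hvP (Subgroup.mem_zpowers g)) (Subgroup.mem_zpowers g))
    rw [commutatorElement_eq_one_iff_mul_comm, commutatorElement_def] at hc
    have ha : (a : G) = w * v * w⁻¹ := by rw [hv]; group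
    rw [ha]
    have h1 : g * (v * g * v⁻¹ * g⁻¹) * g⁻¹ = v * g * v⁻¹ * g⁻¹ := by rw [← hc]; group
    have h2 : g * v⁻¹ * g⁻¹ * v * g * v⁻¹ * g⁻¹ * (g * (g * v * g⁻¹) * g⁻¹) = 1 := by
      calc g * v⁻¹ * g⁻¹ * v * g * v⁻¹ * g⁻¹ * (g * (g * v * g⁻¹) * g⁻¹)
          = g * v⁻¹ * g⁻¹ * (v * g * v⁻¹ * g⁻¹) * (g * (g * v * g⁻¹) * g⁻¹) := by group
        _ = g * v⁻¹ * g⁻¹ * (g * (v * g * v⁻¹ * g⁻¹) * g⁻¹) * (g * (g * v * g⁻¹) * g⁻¹) := by
          rw [h1]
        _ = 1 := by group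
    calc _ = w * (g * v⁻¹ * g⁻¹ * v * g * v⁻¹ * g⁻¹ * (g * (g * v * g⁻¹) * g⁻¹)) * w⁻¹ := by
          group
      _ = 1 := by rw [h2, mul_one, mul_inv_cancel]
  obtain ⟨a, ha, hae⟩ := hst Q hfn _ (ρ ⟨g, hg⟩).2 hquad
  refine (CfsgLib.ZJ.pcoreMod_iff _ _).1 ⟨(Cfsg.pCore p A).comap ρ,
    (CfsgLib.Solvable.pCore_normal (G := A) p).comap ρ, ?_, fun n hn => ?_⟩
  · rw [Subgroup.mem_comap]
    have : ρ ⟨g, hg⟩ = a := Subtype.ext hae.symm
    rwa [this]
  · obtain ⟨k, hk⟩ := CfsgLib.Solvable.isPGroup_pCore p (G := A) ⟨ρ n, hn⟩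
    refine ⟨k, Subgroup.mem_subgroupOf.2 (Subgroup.mem_centralizer_iff.2 fun y hy => ?_)⟩
    have hk' : ρ (n ^ p ^ k) = 1 := by
      rw [map_pow]; exact congrArg Subtype.val hk
    have h1 := hρval (n ^ p ^ k) ⟨_, hmemQ y hy⟩
    rw [hk'] at h1
    have h2 : w * y * w⁻¹ =
        w * ((n ^ p ^ k : N) : G) * w⁻¹ * (w * y * w⁻¹) * (w * ((n ^ p ^ k : N) : G) * w⁻¹)⁻¹ := h1
    have h3 : y = ((n ^ p ^ k : N) : G) * y * ((n ^ p ^ k : N) : G)⁻¹ := by
      have := congrArg (fun t => w⁻¹ * t * w) h2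
      simpa [mul_assoc] using this
    calc y * ((n ^ p ^ k : N) : G)
        = ((n ^ p ^ k : N) : G) * y * ((n ^ p ^ k : N) : G)⁻¹ * ((n ^ p ^ k : N) : G) := by rw [← h3]
      _ = _ := by group

/-- `Z(J(D))` is normal in the fusion system for strongly closed `D`. -/
theorem isNormal_centerThompson (hp : p ≠ 2) (hst : Cfsg.IsNormalizerPStable p G) (S : Sylow p G)
    {D : Subgroup G} (hD : Cfsg.IsStronglyClosed D (S : Subgroup G)) :
    (groupFusionSystem (S : Subgroup G)).IsNormal (Cfsg.centerThompsonAOf D) := by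
  have K := CfsgLib.ZJ.zkind_centerThompsonA.{u} (p := p) hp
  set W := Cfsg.centerThompsonAOf D with hW
  have hWS : W ≤ S := (K.le G D).trans hD.1
  refine ⟨hWS, ?_⟩
  rintro P φ ⟨hPS, hφS, g, hg⟩
  obtain ⟨x, hx, hxe⟩ := CfsgLib.ZJ.control_main hp (CfsgLib.ZJ.inherited_stable hp) K G S hst D hD
    P g hPS (by
      rintro _ ⟨y, hy, rfl⟩
      show g * y * g⁻¹ ∈ (S : Subgroup G)
      exact Set.mem_of_eq_of_mem (hg ⟨y, hy⟩).symm (hφS _))
  have hle : P ⊔ W ≤ (S : Subgroup G).comap (MulAut.conj x).toMonoidHom := by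
    refine sup_le (fun y hy => ?_) fun y hy => hWS ((Subgroup.mem_normalizer_iff.1 hx y).1 hy)
    show x * y * x⁻¹ ∈ (S : Subgroup G)
    rw [hxe y hy, ← hg ⟨y, hy⟩]
    exact hφS _
  refine ⟨conjHom (P ⊔ W) x, conjHom_mem_groupFusion (sup_le hPS hWS) fun y hy => hle hy,
    fun y => (hxe y y.2).trans (hg y).symm, ?_⟩
  ext y
  rw [mem_map_subgroupOf]
  constructor
  · rintro ⟨v, hv, hvW, rfl⟩
    exact (Subgroup.mem_normalizer_iff.1 hx v).1 hvW
  · intro hy
    exact ⟨x⁻¹ * y * x, Subgroup.mem_sup_right ((Subgroup.mem_normalizer_iff''.1 hx y).1 hy),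
      (Subgroup.mem_normalizer_iff''.1 hx y).1 hy, by simp [conjHom_apply, mul_assoc]⟩

theorem isNormal_centerThompson_self (hp : p ≠ 2) (hst : Cfsg.IsNormalizerPStable p G)
    (S : Sylow p G) :
    (groupFusionSystem (S : Subgroup G)).IsNormal (Cfsg.centerThompsonAOf (S : Subgroup G)) :=
  isNormal_centerThompson hp hst S (CfsgLib.ZJ.stronglyClosed_self S)

theorem core_ne_bot_of_stable (hp : p ≠ 2) (hst : Cfsg.IsNormalizerPStable p G)
    (S : Sylow p G) (hS : (S : Subgroup G) ≠ ⊥) :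
    (groupFusionSystem (S : Subgroup G)).core ≠ ⊥ := fun h =>
  (CfsgLib.ZJ.zkind_centerThompsonA.{u} (p := p) hp).ne_bot G _ S.2 hS
    (le_bot_iff.1 ((le_core (isNormal_centerThompson_self hp hst S)).trans h.le))

/-- A p-stable group has constrained fusion. -/
theorem isConstrained_of_stable (hp : p ≠ 2) (hst : Cfsg.IsNormalizerPStable p G) (S : Sylow p G) :
    (groupFusionSystem (S : Subgroup G)).IsConstrained p := by
  set F := groupFusionSystem (S : Subgroup G) with hF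
  have hsat : F.IsSaturated p := groupFusion_saturated S
  refine ⟨hsat, F.core, isNormal_core, ?_⟩
  have hQn : F.IsNormal F.core := isNormal_core
  set Q := F.core with hQdef
  have hSQ := normal_S_le_normalizer hQn
  have hNS : normalizerIn (S : Subgroup G) Q = S :=
    le_antisymm (normalizerIn_le_S Q) fun y hy => ⟨hy, hSQ hy⟩
  have hfn : F.IsFullyNormalized Q := ⟨hQn.1, fun R _ => by
    rw [hNS]; exact card_le_of_le le_rfl (normalizerIn_le_S R)⟩
  refine isCentric_of_fullyCentralized (fullyCentralized_of_fullyNormalized p S.2 hsat hfn) ?_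
  by_contra hcQ
  set C := centralizerIn (S : Subgroup G) Q with hC
  set M := Subgroup.centralizer (Q : Set G) with hM
  have hCM : C ≤ M := inf_le_right
  have hCS : C ≤ S := inf_le_left
  have hsylC : SylowIn p C M :=
    sylowIn_centralizer_of_normalizer ((fullyNormalized_iff_sylowIn S hQn.1).1 hfn)
  obtain ⟨R, hR⟩ := hsylC.2
  set Z := Q ⊓ C with hZ
  have hZC : ∀ z ∈ Z, ∀ m ∈ M, z * m = m * z := fun z hz m hm => hm z hz.1
  haveI hZn : (Z.subgroupOf M).Normal := ⟨fun z hz m => Subgroup.mem_subgroupOf.2 (by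
    have h1 := hZC _ (Subgroup.mem_subgroupOf.1 hz) m m.2
    simp only [Subgroup.coe_mul, Subgroup.coe_inv]
    rw [← h1, mul_inv_cancel_right]
    exact Subgroup.mem_subgroupOf.1 hz)⟩
  set π := QuotientGroup.mk' (Z.subgroupOf M) with hπ
  have hπs : Function.Surjective π := QuotientGroup.mk'_surjective _
  have hker : ∀ m : M, π m = 1 ↔ (m : G) ∈ Z := fun m =>
    (QuotientGroup.eq_one_iff m).trans Subgroup.mem_subgroupOf
  have hZp : IsPGroup p (Z.subgroupOf M) :=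
    ((S.2.to_le (inf_le_right.trans hCS : Z ≤ S)).comap_of_injective M.subtype M.subtype_injective)
  have hstM : Cfsg.IsNormalizerPStable p (M ⧸ Z.subgroupOf M) :=
    CfsgLib.ZJ.isNormalizerPStable_quotient hp _ hZp (fun m => ⟨0, by
      rw [pow_zero, pow_one, Subgroup.mem_centralizer_iff]
      intro z hz
      exact Subtype.ext (hZC _ (Subgroup.mem_subgroupOf.1 hz) m m.2)⟩)
      (CfsgLib.ZJ.isNormalizerPStable_subgroup M hst)
  set Rb : Sylow p (M ⧸ Z.subgroupOf M) := R.mapSurjective hπs with hRb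
  have hRbC : ∀ m : M, π m ∈ (Rb : Subgroup _) → (m : G) ∈ C := by
    rintro m ⟨r, hr, hrm⟩
    have hrC : (r : G) ∈ C := Subgroup.mem_subgroupOf.1 (hR.le hr)
    have h1 : ((r⁻¹ * m : M) : G) ∈ Z := (hker _).1 (by rw [map_mul, map_inv, hrm, inv_mul_cancel])
    simpa using mul_mem hrC h1.2
  have hCRb : ∀ m : M, (m : G) ∈ C → π m ∈ (Rb : Subgroup _) := fun m hm =>
    ⟨m, hR.ge (Subgroup.mem_subgroupOf.2 hm), rfl⟩
  have K := CfsgLib.ZJ.zkind_centerThompsonA.{u} (p := p) hp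
  set Wb := Cfsg.centerThompsonAOf (Rb : Subgroup (M ⧸ Z.subgroupOf M)) with hWb
  have hWbR : Wb ≤ Rb := K.le _ _
  set P₀ := (Wb.comap π).map M.subtype with hP₀
  have hP₀mem : ∀ m : M, (m : G) ∈ P₀ ↔ π m ∈ Wb := fun m =>
    ⟨fun ⟨m', hm', he⟩ => Subtype.ext he ▸ hm', fun h => ⟨m, h, rfl⟩⟩
  have hP₀C : P₀ ≤ C := by
    rintro _ ⟨m, hm, rfl⟩
    exact hRbC m (hWbR hm)
  have hZP₀ : Z ≤ P₀ := fun z hz => (hP₀mem ⟨z, hCM hz.2⟩).2 (by
    rw [(hker _).2 hz]; exact one_mem _)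
  -- the element conjugating stays in `C` and can be moved into the normalizer of `C`
  have hkey : ∀ (A : Subgroup G), A ≤ S → ∀ φ ∈ F.Hom A, ∀ x : A, (x : G) ∈ C →
      φ x ∈ C ∧ ∃ g ∈ Subgroup.normalizer (Q : Set G), φ x = g * x * g⁻¹ := by
    intro A hA φ hφ x hx
    obtain ⟨ψ, ⟨-, hψS, g, hg⟩, he, hm⟩ := hQn.2 A φ hφ
    have hgQ : g ∈ Subgroup.normalizer (Q : Set G) := by
      rw [Subgroup.mem_normalizer_iff]
      intro q
      constructor
      · intro hq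
        have h1 := hm.le (apply_mem_map_subgroupOf ψ (x := ⟨q, Subgroup.mem_sup_right hq⟩) hq)
        rwa [hg] at h1
      · intro hq
        obtain ⟨v, hv, hvQ, hve⟩ := mem_map_subgroupOf.1 (hm.ge hq)
        rw [hg] at hve
        rwa [← mul_left_cancel (mul_right_cancel hve)]
    have hval : φ x = g * x * g⁻¹ := by rw [← he x, hg]; rfl
    refine ⟨⟨apply_mem_S hφ x, fun q hq => ?_⟩, g, hgQ, hval⟩
    have h2 := hx.2 _ ((Subgroup.mem_normalizer_iff''.1 hgQ q).1 hq)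
    rw [hval]
    calc q * (g * x * g⁻¹) = g * (g⁻¹ * q * g * x) * g⁻¹ := by group
      _ = g * (x * (g⁻¹ * q * g)) * g⁻¹ := by rw [h2]
      _ = g * x * g⁻¹ * q := by group
  have hZsc : F.StronglyClosed Z := ⟨inf_le_left.trans hQn.1, fun A hA φ hφ x =>
    ⟨(stronglyClosed_of_isNormal hQn).2 A (hA.trans inf_le_left) φ hφ x,
      (hkey A (hA.trans (inf_le_left.trans hQn.1)) φ hφ x (hA x.2).2).1⟩⟩
  have hWsc : Cfsg.IsStronglyClosed Wb (Rb : Subgroup (M ⧸ Z.subgroupOf M)) := by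
    refine ⟨hWbR, fun v hv t ht => ?_⟩
    obtain ⟨u, hu, hue⟩ := CfsgLib.ZJ.control_main hp (CfsgLib.ZJ.inherited_stable hp) K
      (M ⧸ Z.subgroupOf M) Rb hstM _ (CfsgLib.ZJ.stronglyClosed_self Rb) (Subgroup.zpowers v) t
      (Subgroup.zpowers_le.2 (hWbR hv)) (by
        rw [Subgroup.map_le_iff_le_comap, Subgroup.zpowers_le]
        exact ht)
    rw [← hue v (Subgroup.mem_zpowers v)]
    exact (Subgroup.mem_normalizer_iff.1 hu v).1 hv
  have hP₀sc : F.StronglyClosed P₀ := by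
    refine ⟨hP₀C.trans hCS, fun A hA φ hφ x => ?_⟩
    obtain ⟨hyC, g, hgQ, hval⟩ := hkey A (hA.trans (hP₀C.trans hCS)) φ hφ x (hP₀C (hA x.2))
    have hgM : ∀ n ∈ Subgroup.normalizer (Q : Set G), ∀ m ∈ M, n * m * n⁻¹ ∈ M := by
      intro n hn m hm q hq
      have h2 := hm _ ((Subgroup.mem_normalizer_iff''.1 hn q).1 hq)
      calc q * (n * m * n⁻¹) = n * (n⁻¹ * q * n * m) * n⁻¹ := by group
        _ = n * (m * (n⁻¹ * q * n)) * n⁻¹ := by rw [h2]
        _ = n * m * n⁻¹ * q := by group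
    obtain ⟨m, hmM, hm⟩ := hsylC.exists_conj_le
      ((S.2.to_le hCS).map (MulAut.conj g).toMonoidHom)
      (U := C.map (MulAut.conj g).toMonoidHom) (by
        rintro _ ⟨c, hc, rfl⟩
        exact hgM g hgQ c (hCM hc))
    set n := m * g with hn
    have hnQ : n ∈ Subgroup.normalizer (Q : Set G) :=
      mul_mem ((centralizer_le_normalizer' Q) hmM) hgQ
    have hnC : ∀ c ∈ C, n * c * n⁻¹ ∈ C := fun c hc => by
      have := hm _ ⟨c, hc, rfl⟩
      simpa [hn, mul_assoc] using this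
    let α : M →* M := ((MulAut.conj n).toMonoidHom.comp M.subtype).codRestrict M
      fun v => hgM n hnQ v v.2
    have hαZ : Z.subgroupOf M ≤ (π.comp α).ker := fun v hv => by
      rw [MonoidHom.mem_ker, MonoidHom.comp_apply, hker]
      exact ⟨(Subgroup.mem_normalizer_iff.1 hnQ _).1 (Subgroup.mem_subgroupOf.1 hv).1,
        hnC _ (Subgroup.mem_subgroupOf.1 hv).2⟩
    let αb : (M ⧸ Z.subgroupOf M) →* (M ⧸ Z.subgroupOf M) :=
      QuotientGroup.lift _ (π.comp α) hαZ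
    have hαbπ : ∀ v : M, αb (π v) = π (α v) := fun v => rfl
    have hinj : ∀ b ∈ (Rb : Subgroup (M ⧸ Z.subgroupOf M)), αb b = 1 → b = 1 := by
      intro b _ hb
      obtain ⟨v, rfl⟩ := hπs b
      rw [hαbπ, hker] at hb
      refine (hker v).2 ⟨(Subgroup.mem_normalizer_iff.1 hnQ _).2 hb.1, ?_⟩
      have hb1 : n * (v : G) * n⁻¹ ∈ C.map (MulAut.conj n).toMonoidHom := by
        rw [Subgroup.eq_of_le_of_card_ge (H := C.map (MulAut.conj n).toMonoidHom) (K := C)]
        · exact hb.2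
        · rintro _ ⟨c, hc, rfl⟩
          exact hnC c hc
        · rw [← Nat.card_congr
            (Subgroup.equivMapOfInjective C _ (MulAut.conj n).injective).toEquiv]
      obtain ⟨c, hc, hce⟩ := hb1
      have : c = (v : G) := mul_left_cancel (mul_right_cancel hce)
      exact this ▸ hc
    have hmapR : (Rb : Subgroup (M ⧸ Z.subgroupOf M)).map αb = Rb := by
      refine Subgroup.eq_of_le_of_card_ge ?_ ?_
      · rintro _ ⟨b, hb, rfl⟩
        obtain ⟨v, rfl⟩ := hπs b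
        rw [hαbπ]
        exact hCRb _ (hnC _ (hRbC v hb))
      · refine Nat.card_le_card_of_injective
          (fun b : (Rb : Subgroup (M ⧸ Z.subgroupOf M)) => ⟨αb b, ⟨b, b.2, rfl⟩⟩) fun a b hab => ?_
        have hab' : αb a = αb b := congrArg Subtype.val hab
        have h1 : αb ((a : M ⧸ Z.subgroupOf M)⁻¹ * b) = 1 := by
          rw [map_mul, map_inv, hab', inv_mul_cancel]
        exact Subtype.ext (inv_mul_eq_one.1 (hinj _ (mul_mem (inv_mem a.2) b.2) h1))
    have hWfix : Wb.map αb = Wb := by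
      rw [hWb, ← CfsgLib.ZJ.centerThompsonAOf_map αb _ hinj, hmapR]
    have hxM : (x : G) ∈ M := hCM (hP₀C (hA x.2))
    have hxW : αb (π ⟨x, hxM⟩) ∈ Wb := hWfix.le ⟨_, (hP₀mem _).1 (hA x.2), rfl⟩
    rw [hαbπ] at hxW
    have hy : (φ x : G) = m⁻¹ * (n * x * n⁻¹) * m := by rw [hval, hn]; group
    have hyM : φ x ∈ M := hCM hyC
    rw [show φ x = ((⟨φ x, hyM⟩ : M) : G) from rfl, hP₀mem]
    have heq : π ⟨φ x, hyM⟩ = (π ⟨m, hmM⟩)⁻¹ * π (α ⟨x, hxM⟩) * (π ⟨m, hmM⟩)⁻¹⁻¹ := by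
      rw [inv_inv, ← map_inv, ← map_mul, ← map_mul]
      exact congrArg π (Subtype.ext hy)
    rw [heq]
    exact hWsc.2 _ hxW _ (heq ▸ hCRb _ hyC)
  have hP₀comm : ⁅P₀, P₀⁆ ≤ Z := by
    refine Subgroup.commutator_le.2 ?_
    rintro _ ⟨a, ha, rfl⟩ _ ⟨b, hb, rfl⟩
    show ((⁅a, b⁆ : M) : G) ∈ Z
    rw [← hker, map_commutatorElement, commutatorElement_eq_one_iff_mul_comm]
    exact K.comm _ _ _ ha _ hb
  have hP₀n : F.IsNormal P₀ := by
    refine isNormal_of_series p S.2 hsat hP₀sc (n := 2) ![⊥, Z, P₀] rfl rfl ?_ ?_ ?_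
    · intro i
      fin_cases i
      · refine (Subgroup.commutator_eq_bot_iff_le_centralizer.2 fun z hz => ?_).le
        intro y hy
        exact (hZC z hz y (hCM (hP₀C hy))).symm
      · exact hP₀comm
    · refine Fin.monotone_iff_le_succ.2 fun i => ?_
      fin_cases i
      · exact bot_le
      · exact hZP₀
    · intro i
      fin_cases i
      · exact weaklyClosed_of_stronglyClosed stronglyClosed_bot
      · exact weaklyClosed_of_stronglyClosed hZsc
  have hWb1 : Wb = ⊥ := eq_bot_iff.2 fun b hb => by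
    obtain ⟨v, rfl⟩ := hπs b
    have hv := (hP₀mem v).2 hb
    exact Subgroup.mem_bot.2 ((hker v).2 ⟨le_core hP₀n hv, hP₀C hv⟩)
  have hRb1 : (Rb : Subgroup (M ⧸ Z.subgroupOf M)) = ⊥ := by
    by_contra h
    exact K.ne_bot _ _ Rb.2 h hWb1
  refine hcQ fun c hc => ?_
  exact ((hker ⟨c, hCM hc⟩).1 (Subgroup.mem_bot.1 (hRb1 ▸ hCRb ⟨c, hCM hc⟩ hc))).1

end CfsgLib.Fusion
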