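import Cfsg.Agent.Fusion.Invariant
import Cfsg.Agent.Fusion.Local
import Cfsg.Agent.Fusion.NormalCriteria
import Cfsg.Agent.PLocal.PConstrained
import Cfsg.Agent.Solvable.Fitting

/-!
`p`-stability of a saturated system is seen in the normalizers of its centric radical subgroups.
-/

set_option autoImplicit false

open Cfsg Cfsg.FusionSystem

namespace CfsgLib.Fusion

variable {Ω : Type*} [Group Ω] {S : Subgroup Ω}

/-- `χ` acts quadratically. -/
def QuadAut {Q : Subgroup Ω} (χ : MulAut ↥Q) : Prop :=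
  ∀ a : ↥Q, (χ a⁻¹) * a * (χ a⁻¹) * (χ (χ a)) = 1

/-- `χ` lies in `O_p(Aut_F(Q))`. -/
def InAutCore (F : FusionSystem S) (p : ℕ) {Q : Subgroup Ω} (χ : MulAut ↥Q) : Prop :=
  χ ∈ ((Cfsg.pCore p ↥(F.autGroup Q)).map (F.autGroup Q).subtype : Subgroup (MulAut ↥Q))

/-- `p`-stability of a system over any subgroup. -/
def IsPStableSystem (F : FusionSystem S) (p : ℕ) : Prop :=
  ∀ Q : Subgroup Ω, F.IsFullyNormalized Q → ∀ χ : MulAut ↥Q, χ ∈ F.autGroup Q → QuadAut χ →
    InAutCore F p χ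

theorem quadAut_congr {P Q : Subgroup Ω} (e : P ≃* Q) {χ : MulAut ↥P} (h : QuadAut χ) :
    QuadAut (MulAut.congr e χ) := by
  intro a
  obtain ⟨b, rfl⟩ := e.surjective a
  simp only [MulAut.congr_apply, MulEquiv.trans_apply, ← map_inv, MulEquiv.symm_apply_apply,
    ← map_mul]
  rw [h b, map_one]

variable {F : FusionSystem S}

theorem inAutCore_congr [Finite S] (p : ℕ) [Fact p.Prime] {P Q : Subgroup Ω} {φ : P →* Ω}
    (hφ : φ ∈ F.Hom P) (e : P ≃* Q) (he : ∀ x : P, ((e x : Q) : Ω) = φ x) {χ : MulAut ↥P}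
    (h : InAutCore F p χ) : InAutCore F p (MulAut.congr e χ) := by
  have hm := map_autGroup_iso (le_of_mem_hom hφ) hφ e he
  have := finite_of_le (le_of_mem_hom hφ)
  have : Finite Q := Finite.of_equiv _ e.toEquiv
  have : Finite (MulAut P) := finite_mulAut
  have : Finite (MulAut Q) := finite_mulAut
  let E : F.autGroup P ≃* F.autGroup Q :=
    (Subgroup.equivMapOfInjective _ _ (MulAut.congr e).injective).trans (MulEquiv.subgroupCongr hm)
  obtain ⟨a, ha, rfl⟩ := h
  refine ⟨E a, ?_, rfl⟩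
  rw [← CfsgLib.PConstrained.map_pCore_equiv (p := p) E]
  exact ⟨a, ha, rfl⟩

/-- Stability passes to subsystems, tested at every subgroup. -/
theorem inAutCore_sub [Finite S] (p : ℕ) [Fact p.Prime] {T : Subgroup Ω} {E : FusionSystem T}
    (hsub : E.IsSubsystemOf F) {Q : Subgroup Ω} (hQ : Q ≤ S) {χ : MulAut ↥Q}
    (hχ : χ ∈ E.autGroup Q) (h : InAutCore F p χ) : InAutCore E p χ := by
  have := finite_of_le hQ
  have : Finite (MulAut Q) := finite_mulAut
  have hle := autGroup_mono' hsub Q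
  obtain ⟨a, ha, rfl⟩ := h
  refine ⟨⟨_, hχ⟩, ?_, rfl⟩
  refine CfsgLib.Solvable.le_pCore p
    (N := (Cfsg.pCore p ↥(F.autGroup Q)).comap (Subgroup.inclusion hle))
    ((CfsgLib.Solvable.pCore_normal p).comap _)
    ((CfsgLib.Solvable.isPGroup_pCore p).comap_of_injective _ (Subgroup.inclusion_injective hle)) ?_
  show Subgroup.inclusion hle ⟨(a : MulAut Q), hχ⟩ ∈ Cfsg.pCore p ↥(F.autGroup Q)
  exact ha

/-- Every automorphism of `Q` extends to one normalizing the centric subgroup `R`. -/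
def AutExtends (F : FusionSystem S) (R Q : Subgroup Ω) : Prop :=
  F.IsCentric R ∧ Q ≤ normalizerIn S R ∧ ∀ α ∈ F.autGroup Q, ∃ ψ ∈ F.Hom (Q ⊔ R),
    (∀ x : Q, ψ (Subgroup.inclusion le_sup_left x) = ((α x : Q) : Ω)) ∧
      (R.subgroupOf (Q ⊔ R)).map ψ = R

/-- Extensions move along maps defined on `Q` and `R`. -/
theorem AutExtends.transport [Finite S] {R Q : Subgroup Ω}
    (h : AutExtends F R Q) {φ : ↥(normalizerIn S R) →* Ω} (hφ : φ ∈ F.Hom (normalizerIn S R)) :
    AutExtends F ((R.subgroupOf (normalizerIn S R)).map φ)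
      ((Q.subgroupOf (normalizerIn S R)).map φ) := by
  obtain ⟨hc, hQN, hext⟩ := h
  have hRN : R ≤ (normalizerIn S R) := le_normalizerIn hc.1
  set R₁ := (R.subgroupOf (normalizerIn S R)).map φ with hR₁
  set Q₁ := (Q.subgroupOf (normalizerIn S R)).map φ with hQ₁
  have hconj : F.IsConj R R₁ := isConj_map hφ hRN
  refine ⟨isCentric_of_isConj hc hconj, ?_, ?_⟩
  · intro y hy
    obtain ⟨x, hxN, hxQ, rfl⟩ := mem_map_subgroupOf.1 hy
    exact map_mem_normalizerIn hφ hRN hxN hxN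
  · intro α₁ hα₁
    have hφQ : φ.comp (Subgroup.inclusion hQN) ∈ F.Hom Q := restrict_mem hφ hQN
    have hrQ : (φ.comp (Subgroup.inclusion hQN)).range = Q₁ := range_restrict φ hQN
    let e : Q ≃* Q₁ := isoRange _ (F.injective_of_mem hφQ) hrQ
    have hm := map_autGroup_iso (le_of_mem_hom hφQ) hφQ e fun x => rfl
    obtain ⟨α, hα, rfl⟩ : α₁ ∈ (F.autGroup Q).map (MulAut.congr e).toMonoidHom := hm.ge hα₁
    obtain ⟨ψ, hψ, hψα, hψR⟩ := hext α hα
    have hle : Q ⊔ R ≤ (normalizerIn S R) := sup_le hQN hRN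
    have hsup : (φ.comp (Subgroup.inclusion hle)).range = Q₁ ⊔ R₁ := by
      rw [range_restrict φ hle, Subgroup.subgroupOf_sup hQN hRN, Subgroup.map_sup]
    obtain ⟨ν, hν, hνr, hν1, -⟩ := exists_inv (restrict_mem hφ hle) hsup
    have hψin : ∀ z, ψ z ∈ Q ⊔ R := by
      intro z
      have hz : ψ z ∈ ψ.range := ⟨z, rfl⟩
      rw [range_eq_sup, hψR] at hz
      refine (sup_le ?_ le_sup_right : _ ≤ Q ⊔ R) hz
      intro y hy
      obtain ⟨x, hxm, hxQ, rfl⟩ := mem_map_subgroupOf.1 hy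
      exact Subgroup.mem_sup_left (Set.mem_of_eq_of_mem (hψα ⟨x, hxQ⟩) (α ⟨x, hxQ⟩).2)
    have hνin : ∀ y, ν y ∈ Q ⊔ R := fun y => hνr.le ⟨y, rfl⟩
    let χ₁ : ↥(Q₁ ⊔ R₁) →* Ω := ψ.comp (ν.codRestrict _ hνin)
    have hχ₁ : χ₁ ∈ F.Hom (Q₁ ⊔ R₁) := F.comp_mem hν hψ hνin
    have hχ₁in : ∀ y, χ₁ y ∈ Q ⊔ R := fun y => hψin _
    have hlehom := restrict_mem hφ hle
    refine ⟨(φ.comp (Subgroup.inclusion hle)).comp (χ₁.codRestrict _ hχ₁in),
      F.comp_mem hχ₁ hlehom hχ₁in, fun y => ?_, ?_⟩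
    · obtain ⟨x, rfl⟩ := e.surjective y
      have e1 : ν ⟨φ (Subgroup.inclusion hQN x), Subgroup.mem_sup_left (e x).2⟩ = (x : Ω) :=
        hν1 ⟨(x : Ω), Subgroup.mem_sup_left x.2⟩ (Subgroup.mem_sup_left (e x).2)
      have e2 : χ₁ (Subgroup.inclusion le_sup_left (e x)) = ((α x : Q) : Ω) :=
        (apply_congr ψ e1).trans (hψα x)
      show φ ⟨χ₁ (Subgroup.inclusion le_sup_left (e x)), _⟩ = _
      refine (apply_congr φ (y := Subgroup.inclusion hQN (α x)) e2).trans ?_
      show _ = (((MulAut.congr e α) (e x) : Q₁) : Ω)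
      simp only [MulAut.congr_apply, MulEquiv.trans_apply, MulEquiv.symm_apply_apply]
      rfl
    · ext w
      rw [mem_map_subgroupOf]
      constructor
      · rintro ⟨y, hym, hy, rfl⟩
        obtain ⟨x, hxN, hxR, rfl⟩ := mem_map_subgroupOf.1 hy
        have e1 : ν ⟨φ ⟨x, hxN⟩, hym⟩ = x := hν1 ⟨x, Subgroup.mem_sup_right hxR⟩ hym
        have e2 : χ₁ ⟨φ ⟨x, hxN⟩, hym⟩ = ψ ⟨x, Subgroup.mem_sup_right hxR⟩ := apply_congr ψ e1
        have e3 : ψ ⟨x, Subgroup.mem_sup_right hxR⟩ ∈ R :=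
          hψR.le (apply_mem_map_subgroupOf ψ (x := ⟨x, Subgroup.mem_sup_right hxR⟩) hxR)
        exact mem_map_subgroupOf.2 ⟨_, hRN e3, e3, apply_congr φ e2.symm⟩
      · intro hw
        obtain ⟨r, hrN, hrR, rfl⟩ := mem_map_subgroupOf.1 hw
        obtain ⟨x, hxm, hxR, hxe⟩ := mem_map_subgroupOf.1 (hψR.ge hrR)
        have hφx : φ ⟨x, hle hxm⟩ ∈ R₁ := mem_map_subgroupOf.2 ⟨x, hle hxm, hxR, rfl⟩
        refine ⟨_, Subgroup.mem_sup_right hφx, hφx, ?_⟩
        have e1 : ν ⟨φ ⟨x, hle hxm⟩, Subgroup.mem_sup_right hφx⟩ = x := hν1 ⟨x, hxm⟩ _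
        exact apply_congr φ ((apply_congr ψ e1).trans hxe)

/-- A non-radical `R` can be enlarged inside its normalizer. -/
theorem AutExtends.enlarge [Finite S] (p : ℕ) [Fact p.Prime] (hS : IsPGroup p S)
    (hF : F.IsSaturated p) {R Q : Subgroup Ω} (h : AutExtends F R Q)
    (hfn : F.IsFullyNormalized R) (hr : ¬ F.IsRadical p R) :
    ∃ R', R < R' ∧ AutExtends F R' Q := by
  obtain ⟨hc, hQN, hext⟩ := h
  obtain ⟨⟨-, Y, hY⟩, hrec⟩ := good_of_fullyNormalized p hS hF hfn
  have := finite_of_le hc.1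
  have : Finite (MulAut R) := finite_mulAut
  set L := (Cfsg.pCore p ↥(F.autGroup R)).map (F.autGroup R).subtype with hL
  have hLA : L ≤ F.autGroup R := Subgroup.map_subtype_le _
  have hLn : ∀ β ∈ F.autGroup R, ∀ γ ∈ L, β * γ * β⁻¹ ∈ L := by
    intro β hβ γ' hγ'
    obtain ⟨γ, hγ, rfl⟩ := Subgroup.mem_map.1 hγ'
    have h1 := (CfsgLib.Solvable.pCore_normal (G := ↥(F.autGroup R)) p).conj_mem γ hγ ⟨β, hβ⟩
    exact Subgroup.mem_map.2 ⟨_, h1, by simp only [map_mul, map_inv, Subgroup.coe_subtype]⟩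
  have hLS : L ≤ autInducedBy S R := by
    rintro _ ⟨γ, hγ, rfl⟩
    have h1 : γ ∈ (Y : Subgroup (F.autGroup R)) :=
      CfsgLib.Fitting.pCore_le_sylow Y hγ
    rw [hY] at h1
    exact h1
  set N := normalizerIn S R with hN
  let c : ↥(S ⊓ Subgroup.normalizer (R : Set Ω)) →* MulAut R := conjAut S R
  let R' : Subgroup Ω := (L.comap c).map (S ⊓ Subgroup.normalizer (R : Set Ω)).subtype
  have hmem : ∀ g, g ∈ R' ↔ ∃ hg : g ∈ N, conjAut S R ⟨g, hg⟩ ∈ L := fun g => by
    constructor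
    · rintro ⟨u, hu, rfl⟩
      exact ⟨u.2, hu⟩
    · rintro ⟨hg, hu⟩
      exact ⟨⟨g, hg⟩, hu, rfl⟩
  have hInnL : Inn R ≤ L := by
    intro γ hγ
    have hγA := inn_le_autGroup (F := F) hc.1 hγ
    refine ⟨⟨γ, hγA⟩, ?_, rfl⟩
    refine CfsgLib.Solvable.le_pCore p (N := (Inn R).subgroupOf (F.autGroup R)) ?_ ?_
      (Subgroup.mem_subgroupOf.2 hγ)
    · refine ⟨fun a ha b => ?_⟩
      rw [Subgroup.mem_subgroupOf] at ha ⊢
      obtain ⟨g, hg⟩ := ha
      refine ⟨(b : MulAut R) g, MulEquiv.ext fun x => ?_⟩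
      simp only [Subgroup.coe_mul, InvMemClass.coe_inv, MulAut.mul_apply, ← hg,
        MulAut.conj_apply, map_mul, map_inv, MulAut.apply_inv_self]
    · have h1 : IsPGroup p (Inn R) :=
        (isPGroup_of_le hS hc.1).of_surjective MulAut.conj.rangeRestrict
          MulAut.conj.rangeRestrict_surjective
      exact h1.comap_of_injective (F.autGroup R).subtype (F.autGroup R).subtype_injective
  have hRR' : R ≤ R' := fun g hg => (hmem g).2 ⟨le_normalizerIn hc.1 hg,
    hInnL ((inn_mem_iff hc (hc.1 hg) fun x => rfl).2 hg)⟩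
  have hR'N : R' ≤ N := fun g hg => ((hmem g).1 hg).1
  have hlt : R < R' := by
    refine lt_of_le_of_ne hRR' fun he => hr ⟨hc.1, le_antisymm ?_ hInnL⟩
    intro γ hγ
    obtain ⟨g, hg, hge⟩ := mem_autInducedBy.1 (hLS hγ)
    have hgn : g ∈ Subgroup.normalizer (R : Set Ω) := mem_normalizer_of_aut hge
    have hgR : g ∈ R' := (hmem g).2 ⟨⟨hg, hgn⟩, by
      rw [show conjAut S R ⟨g, hg, hgn⟩ = γ from MulEquiv.ext fun x => Subtype.ext (hge x).symm]
      exact hγ⟩
    rw [← he] at hgR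
    exact (inn_mem_iff hc hg hge).2 hgR
  refine ⟨R', hlt, isCentric_mono hc hRR' (hR'N.trans (normalizerIn_le_S R)), ?_, ?_⟩
  · intro q hq
    have hqN := hQN hq
    refine ⟨hqN.1, mem_normalizer_of_conj_mem (hR'N.trans (normalizerIn_le_S R)) fun x hx => ?_⟩
    obtain ⟨hxN, hxL⟩ := (hmem x).1 hx
    refine (hmem _).2 ⟨mul_mem (mul_mem hqN hxN) (inv_mem hqN), ?_⟩
    have e : conjAut S R ⟨q * x * q⁻¹, mul_mem (mul_mem hqN hxN) (inv_mem hqN)⟩ =
        conjAut S R ⟨q, hqN⟩ * conjAut S R ⟨x, hxN⟩ * (conjAut S R ⟨q, hqN⟩)⁻¹ := by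
      rw [← map_inv, ← map_mul, ← map_mul]; rfl
    rw [e]
    exact hLn _ (autInducedBy_le_autGroup hc.1
      (mem_autInducedBy.2 ⟨q, hqN.1, fun _ => rfl⟩)) _ hxL
  · intro α hα
    obtain ⟨ψ, hψ, hψα, hψR⟩ := hext α hα
    set β : ↥R →* Ω := ψ.comp (Subgroup.inclusion (le_sup_right : R ≤ Q ⊔ R)) with hβdef
    have hβ : β ∈ F.Hom R := restrict_mem hψ le_sup_right
    have hβr : β.range = R := (range_restrict ψ le_sup_right).trans hψR
    let b : MulAut R := autOfRange β (F.injective_of_mem hβ) hβr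
    have hbA : b ∈ F.autGroup R := autOfRange_mem hβ hβr
    have hsupN : Q ⊔ R' ≤ extender S R β := by
      refine sup_le (fun q hq => ?_) fun g hg => ?_
      · refine mem_extender_of (hQN hq) (apply_mem_S hψ ⟨q, Subgroup.mem_sup_left hq⟩)
          fun x hx => ?_
        show ψ _ = ψ _ * ψ _ * (ψ _)⁻¹
        rw [← map_inv, ← map_mul, ← map_mul]
        exact apply_congr ψ rfl
      · obtain ⟨hgN, hgL⟩ := (hmem g).1 hg
        obtain ⟨k, hk, hk'⟩ := mem_autInducedBy.1 (hLS (hLn b hbA _ hgL))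
        refine mem_extender_of hgN hk fun x hx => ?_
        have h1 := hk' (b x)
        simp only [MulAut.mul_apply, MulAut.inv_apply_self] at h1
        exact h1
    obtain ⟨ψ', hψ', he'⟩ := receptive_extend hrec hβ hβr hsupN
    have hle : Q ⊔ R ≤ Q ⊔ R' := sup_le_sup_left hRR' _
    obtain ⟨z, hzR, -, hz⟩ := centric_uniqueness p hS hF (le_sup_right : R ≤ Q ⊔ R) hc
      (restrict_mem hψ' hle) hψ fun x hx => by
        show ψ' (Subgroup.inclusion hle x) = ψ x
        exact (he' x hx _).trans (apply_congr ψ rfl)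
    set z' : ↥(Q ⊔ R') := Subgroup.inclusion hle z
    let χ : ↥(Q ⊔ R') →* Ω := ψ'.comp (MulAut.conj z').toMonoidHom
    have hχ : χ ∈ F.Hom (Q ⊔ R') := conjHom_mem_comp hψ' z' fun y => rfl
    refine ⟨χ, hχ, fun x => ?_, ?_⟩
    · rw [← hψα x, hz (Subgroup.inclusion le_sup_left x)]
      rfl
    · apply eq_of_le_of_card_le (hR'N.trans (normalizerIn_le_S R))
      · rintro w hw
        obtain ⟨g, hgm, hgR', rfl⟩ := mem_map_subgroupOf.1 hw
        obtain ⟨hgN, hgL⟩ := (hmem g).1 hgR'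
        have hχR : (R.subgroupOf (Q ⊔ R')).map χ = R := by
          apply eq_of_le_of_card_le hc.1
          · rintro y hy
            obtain ⟨r, hrm, hrR, rfl⟩ := mem_map_subgroupOf.1 hy
            have h1 : χ ⟨r, hrm⟩ = ψ ⟨r, Subgroup.mem_sup_right hrR⟩ := by
              rw [hz ⟨r, Subgroup.mem_sup_right hrR⟩]
              rfl
            rw [h1]
            exact hψR.le (apply_mem_map_subgroupOf ψ (x := ⟨r, Subgroup.mem_sup_right hrR⟩) hrR)
          · rw [card_map_subgroupOf (F.injective_of_mem hχ) (hRR'.trans le_sup_right)]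
        have hwN := map_mem_normalizerIn hχ (hRR'.trans le_sup_right) hgN hgm
        rw [hχR] at hwN
        refine (hmem _).2 ⟨hwN, ?_⟩
        have hχr : (χ.comp (Subgroup.inclusion (hRR'.trans le_sup_right : R ≤ Q ⊔ R'))).range = R :=
          (range_restrict χ _).trans hχR
        let b' : MulAut R := autOfRange _ (F.injective_of_mem (restrict_mem hχ _)) hχr
        have hb'A : b' ∈ F.autGroup R := autOfRange_mem (restrict_mem hχ _) hχr
        have e : conjAut S R ⟨χ ⟨g, hgm⟩, hwN⟩ = b' * conjAut S R ⟨g, hgN⟩ * b'⁻¹ := by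
          refine MulEquiv.ext fun x => ?_
          obtain ⟨y, rfl⟩ := b'.surjective x
          simp only [MulAut.mul_apply, MulAut.inv_apply_self]
          refine Subtype.ext ?_
          show χ ⟨g, hgm⟩ * χ _ * (χ ⟨g, hgm⟩)⁻¹ = χ _
          rw [← map_inv, ← map_mul, ← map_mul]
          exact apply_congr χ rfl
        rw [e]
        exact hLn b' hb'A _ hgL
      · rw [card_map_subgroupOf (F.injective_of_mem hχ) le_sup_right]

/-- A fully normalized subgroup has its automorphisms inside the normalizer of some centric radical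
fully normalized subgroup, up to conjugacy. -/
theorem exists_autExtends_radical [Finite S] (p : ℕ) [Fact p.Prime] (hS : IsPGroup p S)
    (hF : F.IsSaturated p) {Q : Subgroup Ω} (hQ : F.IsFullyNormalized Q) :
    ∃ R Q', F.IsConj Q Q' ∧ F.IsFullyNormalized R ∧ F.IsRadical p R ∧ AutExtends F R Q' := by
  classical
  obtain ⟨-, hrec⟩ := good_of_fullyNormalized p hS hF hQ
  have hQS := hQ.1
  -- the starting point
  set X := Q ⊔ centralizerIn S Q with hX
  have hXS : X ≤ S := sup_le hQS (centralizerIn_le_S Q)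
  have hXc : F.IsCentric X := by
    refine ⟨hXS, ?_⟩
    rintro _ ⟨φ, hφ, rfl⟩ g hg
    have hQX : Q ≤ X := le_sup_left
    have hfc := receptive_fullyCentralized hrec
    set Q₁ := (Q.subgroupOf X).map φ
    have hQ₁ : Q₁ ≤ φ.range := Subgroup.map_le_range _ _
    have hC : centralizerIn S Q₁ ≤ φ.range := by
      have hsub : ((centralizerIn S Q).subgroupOf X).map φ ≤ centralizerIn S Q₁ := by
        intro y hy
        obtain ⟨x, hxX, hxC, rfl⟩ := mem_map_subgroupOf.1 hy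
        exact map_mem_centralizerIn hφ hQX hxC hxX
      have hcard : Nat.card (centralizerIn S Q₁) ≤
          Nat.card (((centralizerIn S Q).subgroupOf X).map φ) := by
        rw [card_map_subgroupOf (F.injective_of_mem hφ) le_sup_right]
        exact hfc.2 Q₁ (isConj_map hφ hQX)
      rw [← eq_of_le_of_card_le (centralizerIn_le_S Q₁) hsub hcard]
      exact Subgroup.map_le_range _ _
    exact hC (mem_centralizerIn.2 ⟨hg.1, fun x hx => hg.2 x (hQ₁ hx)⟩)
  have hstart : AutExtends F X Q := by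
    refine ⟨hXc, fun q hq => le_normalizerIn hXS (le_sup_left (b := centralizerIn S Q) hq),
      fun α hα => ?_⟩
    have hα' := (autGroup_carrier hQS).1 hα
    have hle : Q ⊔ X ≤ extender S Q (Q.subtype.comp α.toMonoidHom) :=
      sup_le (le_extender hα')
        (sup_le (le_extender hα') (centralizerIn_le_extender Q _))
    obtain ⟨ψ, hψ, he⟩ := receptive_extend hrec hα' (range_subtype_comp α) hle
    refine ⟨ψ, hψ, fun x => he x x.2 _, ?_⟩
    have hQmap : (Q.subgroupOf (Q ⊔ X)).map ψ = Q :=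
      (map_eq_range_of_eq le_sup_left he).trans (range_subtype_comp α)
    refine eq_of_le_of_card_le hXS ?_
      (card_map_subgroupOf (F.injective_of_mem hψ) le_sup_right).ge
    rw [show X.subgroupOf (Q ⊔ X) = Q.subgroupOf (Q ⊔ X) ⊔ (centralizerIn S Q).subgroupOf (Q ⊔ X)
      from Subgroup.subgroupOf_sup le_sup_left (le_sup_right.trans le_sup_right), Subgroup.map_sup]
    refine sup_le_sup hQmap.le ?_
    intro y hy
    obtain ⟨x, hxX, hxC, rfl⟩ := mem_map_subgroupOf.1 hy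
    have := map_mem_centralizerIn hψ le_sup_left hxC hxX
    rwa [hQmap] at this
  -- a largest one
  have hbound : ∀ R Q', AutExtends F R Q' → Nat.card R ≤ Nat.card S := fun R Q' h =>
    card_le_of_le le_rfl h.1.1
  let Pn : ℕ → Prop := fun n => ∃ R Q', F.IsConj Q Q' ∧ AutExtends F R Q' ∧ Nat.card R = n
  have hP0 : Pn (Nat.card X) := ⟨X, Q, isConj_refl hQS, hstart, rfl⟩
  set n := Nat.findGreatest Pn (Nat.card S) with hn
  obtain ⟨R, Q', hconj, hR, hcard⟩ : Pn n := Nat.findGreatest_spec (hbound X Q hstart) hP0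
  obtain ⟨R₁, hR₁, hfn⟩ := exists_fullyNormalized F hR.1.1
  obtain ⟨hfa, hrec₁⟩ := good_of_fullyNormalized p hS hF hfn
  obtain ⟨φ, hφ, -, hmap⟩ := exists_map_normalizer p hS hfa hrec₁ hR₁
  have hR' := hR.transport hφ
  rw [hmap] at hR'
  have hconj' := isConj_trans hconj (isConj_map hφ hR.2.1)
  refine ⟨R₁, _, hconj', hfn, ?_, hR'⟩
  by_contra hrad
  obtain ⟨R₂, hlt, hR₂⟩ := hR'.enlarge p hS hF hfn hrad
  have h1 : Nat.card R₂ ≤ n :=
    Nat.le_findGreatest (hbound _ _ hR₂) ⟨R₂, _, hconj', hR₂, rfl⟩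
  have h2 : Nat.card R₁ < Nat.card R₂ := by
    refine lt_of_le_of_ne (card_le_of_le hR₂.1.1 hlt.le) fun he => ?_
    exact hlt.ne (eq_of_le_of_card_le hR₂.1.1 hlt.le he.ge)
  have h3 := IsConj.card_eq hR₁
  omega

theorem pStable_iff_local [Finite S] (p : ℕ) [Fact p.Prime] (hS : IsPGroup p S)
    (hF : F.IsSaturated p) :
    IsPStableSystem F p ↔ ∀ R : Subgroup Ω, F.IsFullyNormalized R → F.IsCentric R →
      F.IsRadical p R → ∀ N : FusionSystem (normalizerIn S R), F.IsNormalizerSystem R N →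
        IsPStableSystem N p := by
  constructor
  · intro h R _ _ _ N hN Q hQ χ hχ hquad
    have hsub : N.IsSubsystemOf F := fun P φ hφ => by rw [hN P] at hφ; exact hφ.1
    have hQS : Q ≤ S := hQ.1.trans (normalizerIn_le_S R)
    refine inAutCore_sub p hsub hQS hχ ?_
    obtain ⟨Q₁, hQ₁, hfn⟩ := exists_fullyNormalized F hQS
    obtain ⟨φ, hφ, hr⟩ := hQ₁
    let e := isoRange φ (F.injective_of_mem hφ) hr
    have hm := map_autGroup_iso hQS hφ e fun x => rfl
    have h1 := h Q₁ hfn (MulAut.congr e χ)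
      (hm.le ⟨χ, autGroup_mono' hsub Q hχ, rfl⟩) (quadAut_congr e hquad)
    obtain ⟨ψ, hψ, -, hψ1, -⟩ := exists_inv hφ hr
    have h2 := inAutCore_congr p hψ e.symm (fun y => by
      obtain ⟨x, rfl⟩ := e.surjective y
      rw [MulEquiv.symm_apply_apply]
      exact (hψ1 x (e x).2).symm) h1
    have e3 : MulAut.congr e.symm (MulAut.congr e χ) = χ := MulEquiv.ext fun x => by
      simp [MulAut.congr]
    rwa [e3] at h2
  · intro h Q hQ χ hχ hquad
    obtain ⟨R, Q', hconj, hfn, hrad, hc, hQ'N, hext⟩ := exists_autExtends_radical p hS hF hQ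
    set N := normSystem F R hc.1
    have hN := normSystem_spec F R hc.1
    have hst := h R hfn hc hrad N hN
    have hsub : N.IsSubsystemOf F := fun P φ hφ => hφ.1
    obtain ⟨φ, hφ, hr⟩ := hconj
    have := finite_of_le (normalizerIn_le_S (S := S) R)
    obtain ⟨Q'', hQ'', hfn''⟩ := exists_fullyNormalized N hQ'N
    obtain ⟨θ, hθ, hθr⟩ := hQ''
    let e := isoRange φ (F.injective_of_mem hφ) hr
    let d := isoRange θ (N.injective_of_mem hθ) hθr
    have hχ' : MulAut.congr e χ ∈ F.autGroup Q' :=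
      (map_autGroup_iso hQ.1 hφ e fun x => rfl).le ⟨χ, hχ, rfl⟩
    have hNaut : N.autGroup Q' = F.autGroup Q' := by
      refine le_antisymm (autGroup_mono' hsub Q') fun α hα => (autGroup_carrier hQ'N).2 ?_
      obtain ⟨ψ, hψ, he, hm⟩ := hext α hα
      exact ⟨(autGroup_carrier (hQ'N.trans (normalizerIn_le_S R))).1 hα, hQ'N,
        fun x => hQ'N (α x).2, ψ, hψ, he, hm⟩
    have hd := map_autGroup_iso (F := N) hQ'N hθ d fun x => rfl
    have hdF := map_autGroup_iso (F := F) (hQ'N.trans (normalizerIn_le_S R)) hθ.1 d fun x => rfl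
    have hNaut'' : N.autGroup Q'' = F.autGroup Q'' := by rw [← hd, ← hdF, hNaut]
    have h1 := hst Q'' hfn'' (MulAut.congr d (MulAut.congr e χ))
      (hd.le ⟨_, hNaut.ge hχ', rfl⟩) (quadAut_congr d (quadAut_congr e hquad))
    have h2 : InAutCore F p (MulAut.congr d (MulAut.congr e χ)) := by
      unfold InAutCore at h1 ⊢
      rw [hNaut''] at h1
      exact h1
    have hcomp : θ.comp (φ.codRestrict Q' fun x => hr.le ⟨x, rfl⟩) ∈ F.Hom Q :=
      F.comp_mem hφ hθ.1 fun x => hr.le ⟨x, rfl⟩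
    obtain ⟨ψ, hψ, -, hψ1, -⟩ := exists_inv hcomp (rfl : _ = _)
    let g := e.trans d
    have hQ''eq : (θ.comp (φ.codRestrict Q' fun x => hr.le ⟨x, rfl⟩)).range = Q'' := by
      apply le_antisymm
      · rintro _ ⟨x, rfl⟩
        exact (d (e x)).2
      · intro y hy
        obtain ⟨x, hx⟩ := g.surjective ⟨y, hy⟩
        exact ⟨x, congrArg Subtype.val hx⟩
    obtain ⟨ν, hν, -, hν1, -⟩ := exists_inv hcomp hQ''eq
    have h3 := inAutCore_congr p hν g.symm (fun y => by
      obtain ⟨x, rfl⟩ := g.surjective y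
      rw [MulEquiv.symm_apply_apply]
      exact (hν1 x (g x).2).symm) h2
    have e3 : MulAut.congr g.symm (MulAut.congr d (MulAut.congr e χ)) = χ :=
      MulEquiv.ext fun x => by simp [MulAut.congr, g]
    rwa [e3] at h3

end CfsgLib.Fusion
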