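import Cfsg.Agent.Fusion.StableBiset

/-!
Park's theorem: every fusion system, saturated or not, is realized inside a finite group.
Two finite actions with the same fixed point numbers are isomorphic; a set with constant marks on
the graphs of each order gives the group as a centralizer in a symmetric group.
-/

set_option autoImplicit false
set_option linter.unusedSectionVars false

open Cfsg Cfsg.FusionSystem

namespace CfsgLib.Park

universe u

open CfsgLib.Fusion

section Marks

variable {L X Y : Type*} [Group L] [Finite L] [Finite X] [Finite Y]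

theorem exists_bijOn_equivariant [Nonempty Y] (ρ : L →* Equiv.Perm X) (σ : L →* Equiv.Perm Y) :
    ∀ (n : ℕ) (A : Set X) (B : Set Y), A.ncard ≤ n → (∀ l, ∀ a ∈ A, ρ l a ∈ A) →
      (∀ l, ∀ b ∈ B, σ l b ∈ B) →
      (∀ K : Subgroup L, {a ∈ A | ∀ k ∈ K, ρ k a = a}.ncard = {b ∈ B | ∀ k ∈ K, σ k b = b}.ncard) →
      ∃ f : X → Y, Set.BijOn f A B ∧ ∀ l, ∀ a ∈ A, f (ρ l a) = σ l (f a) := by
  classical
  intro n
  induction n with
  | zero =>
    intro A B hn _ _ hfix
    have hA : A = ∅ := (Set.ncard_eq_zero (Set.toFinite A)).1 (by omega)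
    have hB : B = ∅ := by
      have h := hfix ⊥
      subst hA
      simp at h
      exact (Set.ncard_eq_zero (Set.toFinite B)).1 h.symm
    subst hA hB
    exact ⟨fun _ => Classical.arbitrary Y, Set.bijOn_empty _, fun l a ha => absurd ha (Set.notMem_empty a)⟩
  | succ n ih =>
    intro A B hn hA hB hfix
    rcases A.eq_empty_or_nonempty with rfl | hne
    · exact ih ∅ B (by simp) hA hB hfix
    let stA : X → Subgroup L := fun a =>
      { carrier := {l | ρ l a = a}
        one_mem' := by simp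
        mul_mem' := fun {x y} hx hy => by
          show ρ (x * y) a = a
          rw [map_mul, Equiv.Perm.mul_apply, show ρ y a = a from hy, show ρ x a = a from hx]
        inv_mem' := fun {x} hx => by
          show ρ x⁻¹ a = a
          rw [map_inv, Equiv.Perm.inv_eq_iff_eq]
          exact hx.symm }
    let stB : Y → Subgroup L := fun a =>
      { carrier := {l | σ l a = a}
        one_mem' := by simp
        mul_mem' := fun {x y} hx hy => by
          show σ (x * y) a = a
          rw [map_mul, Equiv.Perm.mul_apply, show σ y a = a from hy, show σ x a = a from hx]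
        inv_mem' := fun {x} hx => by
          show σ x⁻¹ a = a
          rw [map_inv, Equiv.Perm.inv_eq_iff_eq]
          exact hx.symm }
    obtain ⟨x, hx, hmax⟩ := Set.exists_max_image A (fun a => Nat.card (stA a)) (Set.toFinite A) hne
    obtain ⟨y, hy, hxy⟩ : ∃ y ∈ B, stA x ≤ stB y := by
      have hpos : 0 < {b ∈ B | ∀ k ∈ stA x, σ k b = b}.ncard := by
        rw [← hfix]
        exact (Set.ncard_pos (Set.toFinite _)).2 ⟨x, hx, fun k hk => hk⟩
      obtain ⟨y, hy, hyk⟩ := (Set.ncard_pos (Set.toFinite _)).1 hpos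
      exact ⟨y, hy, hyk⟩
    have hst : stA x = stB y := by
      obtain ⟨x', hx', hle⟩ : ∃ x' ∈ A, stB y ≤ stA x' := by
        have hpos : 0 < {a ∈ A | ∀ k ∈ stB y, ρ k a = a}.ncard := by
          rw [hfix]
          exact (Set.ncard_pos (Set.toFinite _)).2 ⟨y, hy, fun k hk => hk⟩
        obtain ⟨x', hx', hk⟩ := (Set.ncard_pos (Set.toFinite _)).1 hpos
        exact ⟨x', hx', hk⟩
      exact Subgroup.eq_of_le_of_card_ge hxy ((Subgroup.card_le_of_le hle).trans (hmax x' hx'))
    set OA : Set X := Set.range fun l => ρ l x with hOA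
    set OB : Set Y := Set.range fun l => σ l y with hOB
    have hcongr : ∀ l l', ρ l x = ρ l' x ↔ σ l y = σ l' y := by
      intro l l'
      have h1 : ρ l x = ρ l' x ↔ l'⁻¹ * l ∈ stA x := by
        show _ ↔ ρ (l'⁻¹ * l) x = x
        rw [map_mul, map_inv, Equiv.Perm.mul_apply, Equiv.Perm.inv_eq_iff_eq]
      have h2 : σ l y = σ l' y ↔ l'⁻¹ * l ∈ stB y := by
        show _ ↔ σ (l'⁻¹ * l) y = y
        rw [map_mul, map_inv, Equiv.Perm.mul_apply, Equiv.Perm.inv_eq_iff_eq]
      rw [h1, h2, hst]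
    have hOAA : OA ⊆ A := by rintro _ ⟨l, rfl⟩; exact hA l x hx
    have hOBB : OB ⊆ B := by rintro _ ⟨l, rfl⟩; exact hB l y hy
    let g : X → Y := fun z => if h : z ∈ OA then σ h.choose y else Classical.arbitrary Y
    have hg : ∀ l, g (ρ l x) = σ l y := fun l => by
      have h : ρ l x ∈ OA := ⟨l, rfl⟩
      show (if h : ρ l x ∈ OA then σ h.choose y else Classical.arbitrary Y) = _
      rw [dif_pos h]
      exact (hcongr _ _).1 h.choose_spec
    have hgbij : Set.BijOn g OA OB := by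
      refine ⟨?_, ?_, ?_⟩
      · rintro _ ⟨l, rfl⟩; exact ⟨l, (hg l).symm⟩
      · rintro _ ⟨l, rfl⟩ _ ⟨l', rfl⟩ h
        rw [hg, hg] at h
        exact (hcongr _ _).2 h
      · rintro _ ⟨l, rfl⟩; exact ⟨_, ⟨l, rfl⟩, hg l⟩
    have hstab' : ∀ l, ∀ a ∈ A \ OA, ρ l a ∈ A \ OA := fun l a ha => ⟨hA l a ha.1, fun ⟨m, hm⟩ => ha.2
      ⟨l⁻¹ * m, by
        show ρ (l⁻¹ * m) x = a
        rw [map_mul, map_inv, Equiv.Perm.mul_apply, show ρ m x = ρ l a from hm]
        exact Equiv.symm_apply_apply _ _⟩⟩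
    have hstab'' : ∀ l, ∀ a ∈ B \ OB, σ l a ∈ B \ OB := fun l a ha => ⟨hB l a ha.1, fun ⟨m, hm⟩ => ha.2
      ⟨l⁻¹ * m, by
        show σ (l⁻¹ * m) y = a
        rw [map_mul, map_inv, Equiv.Perm.mul_apply, show σ m y = σ l a from hm]
        exact Equiv.symm_apply_apply _ _⟩⟩
    have hlt : (A \ OA).ncard ≤ n := by
      have : (A \ OA).ncard < A.ncard := Set.ncard_lt_ncard
        ⟨Set.sdiff_subset, fun h => (h hx).2 ⟨1, by simp⟩⟩ (Set.toFinite A)
      omega
    obtain ⟨f, hf, hfe⟩ := ih (A \ OA) (B \ OB) hlt hstab' hstab'' fun K => by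
      have hequiv : {a ∈ OA | ∀ k ∈ K, ρ k a = a}.ncard = {b ∈ OB | ∀ k ∈ K, σ k b = b}.ncard := by
        refine Set.BijOn.ncard_eq (f := g) ⟨?_, hgbij.2.1.mono (fun a ha => ha.1), ?_⟩
        · rintro _ ⟨⟨l, rfl⟩, hk⟩
          refine ⟨⟨l, (hg l).symm⟩, fun k hkK => ?_⟩
          rw [hg, ← Equiv.Perm.mul_apply, ← map_mul, ← hcongr, map_mul, Equiv.Perm.mul_apply]
          exact hk k hkK
        · rintro _ ⟨⟨l, rfl⟩, hk⟩
          refine ⟨ρ l x, ⟨⟨l, rfl⟩, fun k hkK => ?_⟩, hg l⟩
          rw [← Equiv.Perm.mul_apply, ← map_mul, hcongr, map_mul, Equiv.Perm.mul_apply]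
          exact hk k hkK
      have e1 : {a ∈ A \ OA | ∀ k ∈ K, ρ k a = a} =
          {a ∈ A | ∀ k ∈ K, ρ k a = a} \ {a ∈ OA | ∀ k ∈ K, ρ k a = a} := by
        ext a; simp only [Set.mem_ofPred_eq, Set.mem_sdiff]; tauto
      have e2 : {a ∈ B \ OB | ∀ k ∈ K, σ k a = a} =
          {a ∈ B | ∀ k ∈ K, σ k a = a} \ {a ∈ OB | ∀ k ∈ K, σ k a = a} := by
        ext a; simp only [Set.mem_ofPred_eq, Set.mem_sdiff]; tauto
      have s1 : {a ∈ OA | ∀ k ∈ K, ρ k a = a} ⊆ {a ∈ A | ∀ k ∈ K, ρ k a = a} := fun a ha => ⟨hOAA ha.1, ha.2⟩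
      have s2 : {a ∈ OB | ∀ k ∈ K, σ k a = a} ⊆ {a ∈ B | ∀ k ∈ K, σ k a = a} := fun a ha => ⟨hOBB ha.1, ha.2⟩
      rw [e1, e2, Set.ncard_sdiff s1, Set.ncard_sdiff s2, hfix, hequiv]
    let F : X → Y := fun z => if z ∈ OA then g z else f z
    refine ⟨F, ?_, fun l a ha => ?_⟩
    · have h1 : Set.BijOn F OA OB := hgbij.congr fun z hz => (if_pos hz).symm
      have h2 : Set.BijOn F (A \ OA) (B \ OB) := hf.congr fun z hz => (if_neg hz.2).symm
      have h := h1.union h2 (Set.InjOn.mono subset_rfl (by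
        rintro a ha b hb h
        rcases ha with ha | ha <;> rcases hb with hb | hb
        · exact h1.2.1 ha hb h
        · exact absurd (h ▸ h1.1 ha) (h2.1 hb).2
        · exact absurd (h.symm ▸ h1.1 hb) (h2.1 ha).2
        · exact h2.2.1 ha hb h))
      rwa [Set.union_sdiff_cancel hOAA, Set.union_sdiff_cancel hOBB] at h
    · by_cases h : a ∈ OA
      · obtain ⟨m, rfl⟩ := h
        have e : ρ l (ρ m x) = ρ (l * m) x := by rw [map_mul, Equiv.Perm.mul_apply]
        show (if ρ l (ρ m x) ∈ OA then g (ρ l (ρ m x)) else f (ρ l (ρ m x))) =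
          σ l (if ρ m x ∈ OA then g (ρ m x) else f (ρ m x))
        rw [e, if_pos ⟨_, rfl⟩, if_pos ⟨_, rfl⟩, hg, hg, map_mul, Equiv.Perm.mul_apply]
      · simp only [F, if_neg h, if_neg (hstab' l a ⟨ha, h⟩).2]
        exact hfe l a ⟨ha, h⟩

/-- Two finite actions with the same numbers of fixed points are isomorphic. -/
theorem exists_equiv_equivariant (ρ : L →* Equiv.Perm X) (σ : L →* Equiv.Perm Y)
    (h : ∀ K : Subgroup L, Nat.card {a : X // ∀ k ∈ K, ρ k a = a} =
      Nat.card {b : Y // ∀ k ∈ K, σ k b = b}) :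
    ∃ f : X ≃ Y, ∀ l a, f (ρ l a) = σ l (f a) := by
  classical
  by_cases hX : Nonempty Y
  · obtain ⟨f, hf, he⟩ := exists_bijOn_equivariant ρ σ _ Set.univ Set.univ le_rfl
      (fun _ _ _ => trivial) (fun _ _ _ => trivial) fun K => by
        rw [show {a : X | a ∈ Set.univ ∧ ∀ k ∈ K, ρ k a = a} = {a | ∀ k ∈ K, ρ k a = a} by simp,
          show {a : Y | a ∈ Set.univ ∧ ∀ k ∈ K, σ k a = a} = {a | ∀ k ∈ K, σ k a = a} by simp,
          ← Nat.card_coe_set_eq, ← Nat.card_coe_set_eq]
        exact h K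
    exact ⟨Equiv.ofBijective f (Set.bijOn_univ.1 hf), fun l a => he l a trivial⟩
  · have hY : IsEmpty Y := not_nonempty_iff.1 hX
    have hX' : IsEmpty X := by
      refine ⟨fun a => ?_⟩
      have h0 := h ⊥
      rw [Nat.card_of_isEmpty (α := {b : Y // _}), Nat.card_eq_zero] at h0
      rcases h0 with h0 | h0
      · exact h0.false ⟨a, fun k hk => by rw [Subgroup.mem_bot.1 hk, map_one]; rfl⟩
      · exact not_finite {a : X // ∀ k ∈ (⊥ : Subgroup L), ρ k a = a}
    exact ⟨Equiv.equivOfIsEmpty X Y, fun l a => isEmptyElim a⟩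

end Marks

section Park

variable {Ω : Type u} [Group Ω] {S : Subgroup Ω} [Finite S] (F : FusionSystem S)

/-- A positive combination of graphs whose marks on graphs depend on the order only. -/
theorem exists_coeff (H₁ : Subgroup (S × S)) (hH₁ : IsGraph F H₁) :
    ∃ c : Subgroup (S × S) → ℤ, (∀ H, 0 ≤ c H) ∧ 0 < c H₁ ∧ (∀ H, c H ≠ 0 → IsGraph F H) ∧
      ∀ H H' : Subgroup (S × S), IsGraph F H → IsGraph F H' → Nat.card H = Nat.card H' →
        mark c H = mark c H' := by
  classical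
  have : Fintype (Subgroup (S × S)) := Fintype.ofFinite _
  suffices hmain : ∀ d : ℕ, ∃ c : Subgroup (S × S) → ℤ, (∀ H, 0 ≤ c H) ∧ 0 < c H₁ ∧
      (∀ H, c H ≠ 0 → IsGraph F H) ∧
      ∀ H H' : Subgroup (S × S), IsGraph F H → IsGraph F H' → Nat.card H = Nat.card H' →
        Nat.card (S × S) < Nat.card H + d → mark c H = mark c H' by
    obtain ⟨c, h1, h2, h3, h4⟩ := hmain (Nat.card (S × S) + 1)
    exact ⟨c, h1, h2, h3, fun A A' a b e => h4 A A' a b e (by omega)⟩
  intro d
  induction d with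
  | zero =>
    refine ⟨fun H => if H = H₁ then 1 else 0, fun H => by dsimp only; split <;> omega, by simp, fun H h => ?_,
      fun A _ _ _ _ h => ?_⟩
    · dsimp only at h
      split at h
      · subst_vars; exact hH₁
      · exact absurd rfl h
    · have := Subgroup.card_le_card_group A
      omega
  | succ d ih =>
    obtain ⟨c, hc0, hc1, hcs, hst⟩ := ih
    set n := Nat.card (S × S) - d with hn
    let lvl := Finset.univ.filter fun H : Subgroup (S × S) => IsGraph F H ∧ Nat.card H = n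
    by_cases hemp : lvl.Nonempty
    swap
    · refine ⟨c, hc0, hc1, hcs, fun A A' a b e h => hst A A' a b e ?_⟩
      by_contra hlt
      exact hemp ⟨A, by simp only [lvl, Finset.mem_filter, Finset.mem_univ, true_and]; exact ⟨a, by omega⟩⟩
    -- the sum of the marks on `H` of the coset sets of the subgroups of order `n`
    let T : Subgroup (S × S) → ℕ := fun H =>
      ∑ H' : Subgroup (S × S), if Nat.card H' = n then fixCount H' H else 0
    have hTpos : ∀ H : Subgroup (S × S), Nat.card H = n → 0 < T H := fun H hH => by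
      refine lt_of_lt_of_le (Nat.pos_of_ne_zero (fixCount_self_ne_zero H)) ?_
      refine le_trans ?_ (Finset.single_le_sum (f := fun H' : Subgroup (S × S) =>
        if Nat.card H' = n then fixCount H' H else 0) (fun _ _ => Nat.zero_le _) (Finset.mem_univ H))
      rw [if_pos hH]
    let D : ℕ := ∏ H ∈ lvl, T H
    have hDpos : 0 < D := Finset.prod_pos fun H hH => hTpos H (Finset.mem_filter.1 hH).2.2
    let M : ℤ := lvl.sup' hemp fun H => mark c H
    let a : Subgroup (S × S) → ℤ := fun H =>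
      if H ∈ lvl then (M - mark c H) * ((D / T H : ℕ) : ℤ) else 0
    have ha0 : ∀ H, 0 ≤ a H := fun H => by
      simp only [a]
      split
      · rename_i h
        exact mul_nonneg (sub_nonneg.2 (Finset.le_sup' (fun H => mark c H) h)) (by positivity)
      · exact le_rfl
    have hmark : ∀ K, mark ((fun H => (D : ℤ) * c H) + a) K = D * mark c K + mark a K := by
      intro K
      rw [mark_add]
      congr 1
      simp only [mark, finsum_eq_sum_of_fintype, Finset.mul_sum, mul_assoc]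
    refine ⟨(fun H => (D : ℤ) * c H) + a, fun H => add_nonneg (mul_nonneg (by positivity) (hc0 H)) (ha0 H),
      add_pos_of_pos_of_nonneg (mul_pos (by exact_mod_cast hDpos) hc1) (ha0 H₁), fun H h => ?_, ?_⟩
    · by_contra hg
      refine h ?_
      have : H ∉ lvl := fun hm => hg (Finset.mem_filter.1 hm).2.1
      have hc : c H = 0 := by by_contra h'; exact hg (hcs H h')
      simp [a, this, hc]
    intro A A' hA hA' e h
    rw [hmark, hmark]
    have key : ∀ K : Subgroup (S × S), IsGraph F K → Nat.card K = n → mark a K = D * (M - mark c K) := by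
      intro K hK hKn
      have hKl : K ∈ lvl := by simp [lvl, hK, hKn]
      have hd : T K ∣ D := Finset.dvd_prod_of_mem _ hKl
      rw [mark, finsum_eq_sum_of_fintype]
      have hterm : ∀ H : Subgroup (S × S), a H * fixCount H K =
          (M - mark c K) * ((D / T K : ℕ) : ℤ) * ((if Nat.card H = n then fixCount H K else 0 : ℕ) : ℤ) := by
        intro H
        by_cases hHn : Nat.card H = n
        · rw [if_pos hHn]
          by_cases h0 : fixCount H K = 0
          · simp [h0]
          · obtain ⟨g, hg⟩ := exists_conj_of_fixCount_ne h0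
            have heq : K.map (MulAut.conj g).toMonoidHom = H := Subgroup.eq_of_le_of_card_ge hg (by
              rw [Subgroup.card_map_of_injective (MulAut.conj g).injective, hKn, hHn])
            have hHl : H ∈ lvl := by
              simp only [lvl, Finset.mem_filter, Finset.mem_univ, true_and]
              exact ⟨heq ▸ hK.conj g, hHn⟩
            have hT : T H = T K := by
              rw [← heq]
              simp only [T, fixCount_conj_right]
            simp only [a, if_pos hHl, hT]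
            rw [← heq, mark_conj]
        · rw [if_neg hHn]
          have : H ∉ lvl := fun hm => hHn (Finset.mem_filter.1 hm).2.2
          simp [a, this]
      rw [Finset.sum_congr rfl fun H _ => hterm H, ← Finset.mul_sum, ← Nat.cast_sum, mul_assoc,
        ← Nat.cast_mul, Nat.div_mul_cancel hd, mul_comm]
    have hbig : ∀ K : Subgroup (S × S), n < Nat.card K → mark a K = 0 := fun K hK =>
      mark_eq_zero fun H hH => by
        by_contra h0
        have hHl : H ∈ lvl := by
          by_contra hh; exact hH (by simp [a, hh])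
        obtain ⟨g, hg⟩ := exists_conj_of_fixCount_ne h0
        have := Subgroup.card_le_of_le hg
        rw [Subgroup.card_map_of_injective (MulAut.conj g).injective, (Finset.mem_filter.1 hHl).2.2] at this
        omega
    have := Subgroup.card_le_card_group A
    have := Subgroup.card_le_card_group A'
    by_cases hA0 : Nat.card (S × S) < Nat.card A + d
    · have hAn : n < Nat.card A := by
        have : 0 < Nat.card A := Nat.card_pos
        omega
      rw [hst A A' hA hA' e hA0, hbig A hAn, hbig A' (e ▸ hAn)]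
    · rw [key A hA (by omega), key A' hA' (by omega)]
      ring

theorem exists_realized : ∃ (G : Type u) (_ : Group G) (_ : Finite G) (ι : S →* G), F.IsRealizedBy ι := by
  classical
  have : Fintype (Subgroup (S × S)) := Fintype.ofFinite _
  have hid : conjHom S (1 : Ω) ∈ F.Hom S := F.conj_mem le_rfl (one_mem S)
  obtain ⟨H₁, hH₁⟩ := exists_isGraphOf hid
  have hH₁' : ∀ w : S × S, w ∈ H₁ ↔ w.1 = w.2 := fun w => by
    rw [hH₁]
    refine ⟨fun ⟨h, e⟩ => Subtype.ext ?_, fun e => ⟨w.2.2, ?_⟩⟩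
    · rw [← e]; show (1 : Ω) * w.2 * 1⁻¹ = w.2; simp
    · show (1 : Ω) * w.2 * 1⁻¹ = w.1; simp [e]
  obtain ⟨c, hc0, hc1, hcs, hst⟩ := exists_coeff F H₁ ⟨_, _, hid, hH₁⟩
  let X : Type u := Σ H : Subgroup (S × S), Fin (c H).toNat × ((S × S) ⧸ H)
  let ρ : S × S →* Equiv.Perm X :=
    { toFun := fun w => Equiv.sigmaCongrRight fun H =>
        Equiv.prodCongr (Equiv.refl _) (MulAction.toPerm w)
      map_one' := Equiv.ext fun q => by
        obtain ⟨H, i, q⟩ := q
        exact congrArg (fun q => (⟨H, i, q⟩ : X)) (one_smul (S × S) q)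
      map_mul' := fun v w => Equiv.ext fun q => by
        obtain ⟨H, i, q⟩ := q
        exact congrArg (fun q => (⟨H, i, q⟩ : X)) (mul_smul v w q) }
  have hρ : ∀ w H i q, ρ w (⟨H, i, q⟩ : X) = ⟨H, i, w • q⟩ := fun _ _ _ _ => rfl
  have hinj : ∀ w H i q, ρ w (⟨H, i, q⟩ : X) = ⟨H, i, q⟩ ↔ w • q = q := fun w H i q => by
    rw [hρ]
    refine ⟨fun h => ?_, fun h => by rw [h]⟩
    exact congrArg Prod.snd (eq_of_heq (Sigma.mk.inj_iff.1 h).2)
  have hfixcard : ∀ K : Subgroup (S × S),
      (Nat.card {x : X // ∀ k ∈ K, ρ k x = x} : ℤ) = mark c K := by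
    intro K
    rw [mark, finsum_eq_sum_of_fintype]
    have e : {x : X // ∀ k ∈ K, ρ k x = x} ≃
        Σ H : Subgroup (S × S), Fin (c H).toNat × {q : (S × S) ⧸ H // ∀ k ∈ K, k • q = q} :=
      { toFun := fun x => ⟨x.1.1, x.1.2.1, x.1.2.2, fun k hk => (hinj _ _ _ _).1 (x.2 k hk)⟩
        invFun := fun x => ⟨⟨x.1, x.2.1, x.2.2.1⟩, fun k hk => (hinj _ _ _ _).2 (x.2.2.2 k hk)⟩
        left_inv := fun x => rfl
        right_inv := fun x => rfl }
    rw [Nat.card_congr e, Nat.card_sigma, Nat.cast_sum]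
    refine Finset.sum_congr rfl fun H _ => ?_
    rw [Nat.card_prod, Nat.card_eq_fintype_card, Fintype.card_fin, Nat.cast_mul,
      Int.toNat_of_nonneg (hc0 H)]
    rfl
  let lft : S →* Equiv.Perm X := ρ.comp (MonoidHom.inl S S)
  let rgt : S →* Equiv.Perm X := ρ.comp (MonoidHom.inr S S)
  let G : Subgroup (Equiv.Perm X) := Subgroup.centralizer (rgt.range : Set (Equiv.Perm X))
  have hlG : ∀ s, lft s ∈ G := fun s => Subgroup.mem_centralizer_iff.2 fun _ ⟨t, ht⟩ => by
    subst ht
    show ρ (1, t) * ρ (s, 1) = ρ (s, 1) * ρ (1, t)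
    rw [← map_mul, ← map_mul]
    simp
  let x₀ : X := ⟨H₁, ⟨0, by omega⟩, ((1 : S × S) : (S × S) ⧸ H₁)⟩
  have hstab₀ : ∀ w : S × S, ρ w x₀ = x₀ ↔ w.1 = w.2 := fun w => by
    rw [hinj, smul_mk_eq_iff, inv_one, one_mul, mul_one, hH₁']
  refine ⟨↥G, inferInstance, inferInstance, lft.codRestrict G hlG, fun s t h => ?_,
    fun P hP φ hφ => ⟨fun hF => ?_, fun ⟨g, hg⟩ => ?_⟩⟩
  · have h1 : ρ (s, 1) = ρ (t, 1) := congrArg Subtype.val h
    have h2 : ρ (t⁻¹ * s, 1) x₀ = x₀ := by
      rw [show ((t⁻¹ * s, 1) : S × S) = (t, 1)⁻¹ * (s, 1) by simp, map_mul, map_inv, h1,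
        inv_mul_cancel, Equiv.Perm.one_apply]
    exact (inv_mul_eq_one.1 ((hstab₀ _).1 h2)).symm
  · -- the two actions of `P × S`
    let φ' : P →* S := φ.codRestrict S hφ
    let e1 : P × S →* S × S := (Subgroup.inclusion hP).prodMap (MonoidHom.id S)
    let e2 : P × S →* S × S := φ'.prodMap (MonoidHom.id S)
    obtain ⟨ψ, hψ, hψ1⟩ := F.inv_mem hF
    have : Finite P := Finite.of_injective _ (Subgroup.inclusion_injective hP)
    have move : ∀ (e e' : P × S →* S × S) (A : Subgroup Ω) (θ : A →* Ω), θ ∈ F.Hom A →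
        (∀ l, (e l).2 = (e' l).2) →
        (∀ l, ∃ h : ((e l).1 : Ω) ∈ A, θ ⟨_, h⟩ = (e' l).1) →
        ∀ K : Subgroup (P × S), IsGraph F (K.map e) →
          IsGraph F (K.map e') ∧ Nat.card (K.map e) = Nat.card (K.map e') := by
      rintro e e' A θ hθ h2 h1 K ⟨T, μ, hμ, hg⟩
      have hμA : ∀ t : T, μ t ∈ A := fun t => by
        obtain ⟨k, -, hk⟩ := (hg (⟨μ t, apply_mem_S hμ t⟩, ⟨t, le_of_mem_hom hμ t.2⟩)).2 ⟨t.2, rfl⟩
        have := (h1 k).1
        rwa [hk] at this
      have hμ' : θ.comp (μ.codRestrict A hμA) ∈ F.Hom T := F.comp_mem hμ hθ hμA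
      have hg' : IsGraphOf (K.map e') T (θ.comp (μ.codRestrict A hμA)) := by
        intro w
        constructor
        · rintro ⟨k, hk, rfl⟩
          obtain ⟨hT, he⟩ := (hg (e k)).1 ⟨k, hk, rfl⟩
          refine ⟨h2 k ▸ hT, ?_⟩
          obtain ⟨hA, hθk⟩ := h1 k
          rw [← hθk]
          exact apply_congr θ ((apply_congr μ (congrArg (fun s : S => (s : Ω)) (h2 k).symm)).trans he)
        · rintro ⟨hT, he⟩
          obtain ⟨k, hk, hke⟩ := (hg (⟨μ ⟨w.2, hT⟩, apply_mem_S hμ _⟩, w.2)).2 ⟨hT, rfl⟩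
          obtain ⟨hA, hθk⟩ := h1 k
          refine ⟨k, hk, Prod.ext (Subtype.ext ?_) ((h2 k).symm.trans (congrArg Prod.snd hke :))⟩
          rw [← hθk, ← he]
          exact apply_congr θ (congrArg (fun v : S × S => (v.1 : Ω)) hke)
      refine ⟨⟨T, _, hμ', hg'⟩, ?_⟩
      rw [hg.card_eq hμ, hg'.card_eq hμ']
    have hfix : ∀ K : Subgroup (P × S), Nat.card {x : X // ∀ k ∈ K, (ρ.comp e1) k x = x} =
        Nat.card {x : X // ∀ k ∈ K, (ρ.comp e2) k x = x} := by
      intro K
      have conv : ∀ e : P × S →* S × S, (Nat.card {x : X // ∀ k ∈ K, (ρ.comp e) k x = x} : ℤ) =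
          mark c (K.map e) := fun e => by
        rw [← hfixcard]
        refine congrArg Nat.cast (Nat.card_congr (Equiv.subtypeEquivRight fun x => ?_))
        exact ⟨fun h _ ⟨k, hk, hke⟩ => hke ▸ h k hk, fun h k hk => h _ ⟨k, hk, rfl⟩⟩
      refine Nat.cast_injective (R := ℤ) ((conv e1).trans (Eq.trans ?_ (conv e2).symm))
      have m1 := move e1 e2 P φ hF (fun _ => rfl) (fun l => ⟨l.1.2, rfl⟩) K
      have m2 := move e2 e1 φ.range ψ hψ (fun _ => rfl) (fun l => ⟨⟨l.1, rfl⟩, hψ1 l.1⟩) K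
      by_cases h1 : IsGraph F (K.map e1)
      · exact hst _ _ h1 (m1 h1).1 (m1 h1).2
      · rw [mark_eq_zero_of_not_graph hcs h1, mark_eq_zero_of_not_graph hcs fun h => h1 (m2 h).1]
    obtain ⟨f, hf⟩ := exists_equiv_equivariant (ρ.comp e1) (ρ.comp e2) hfix
    have hfG : (f : Equiv.Perm X) ∈ G := Subgroup.mem_centralizer_iff.2 fun _ ⟨t, ht⟩ => by
      subst ht
      refine Equiv.ext fun x => ?_
      show ρ (1, t) (f x) = f (ρ (1, t) x)
      have h := hf (1, t) x
      simp only [MonoidHom.comp_apply, e1, e2, MonoidHom.prodMap, MonoidHom.prod_apply, map_one,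
        MonoidHom.coe_comp, Function.comp_apply, MonoidHom.coe_fst, MonoidHom.coe_snd,
        MonoidHom.id_apply] at h
      exact h.symm
    refine ⟨⟨f, hfG⟩, fun x => Subtype.ext (eq_mul_inv_iff_mul_eq.2 (Equiv.ext fun z => ?_))⟩
    exact (hf (x, 1) z).symm
  · -- a conjugation gives a map of the system
    set y := (g : Equiv.Perm X) x₀ with hy
    have hfixy : ∀ r : P, ρ (⟨φ r, hφ r⟩, ⟨r, hP r.2⟩) y = y := by
      intro r
      have h1 : (lft ⟨φ r, hφ r⟩) * (g : Equiv.Perm X) = (g : Equiv.Perm X) * lft ⟨r, hP r.2⟩ :=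
        eq_mul_inv_iff_mul_eq.1 (congrArg Subtype.val (hg r))
      have h2 : rgt ⟨r, hP r.2⟩ * (g : Equiv.Perm X) = (g : Equiv.Perm X) * rgt ⟨r, hP r.2⟩ :=
        Subgroup.mem_centralizer_iff.1 g.2 _ ⟨_, rfl⟩
      have e : ∀ a b : S, ρ (a, b) = lft a * rgt b := fun a b => by
        show ρ (a, b) = ρ (a, 1) * ρ (1, b)
        rw [← map_mul]; simp
      rw [e, hy, ← Equiv.Perm.mul_apply, mul_assoc, h2, ← mul_assoc, h1, mul_assoc, ← e,
        Equiv.Perm.mul_apply, (hstab₀ _).2 rfl]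
    obtain ⟨H, i, q⟩ := y
    obtain ⟨v, rfl⟩ := QuotientGroup.mk_surjective q
    obtain ⟨T, η, hη, hgη⟩ := (hcs H (fun h => by
      have := i.pos
      rw [h] at this
      simp at this)).conj v
    have hmem : ∀ r : P, ∃ h : (r : Ω) ∈ T, η ⟨r, h⟩ = φ r := fun r => by
      refine (hgη (⟨φ r, hφ r⟩, ⟨r, hP r.2⟩)).1 ?_
      have := smul_mk_eq_iff.1 ((hinj _ _ _ _).1 (hfixy r))
      exact ⟨_, this, by simp [mul_assoc]⟩
    have hle : P ≤ T := fun r hr => (hmem ⟨r, hr⟩).1
    have hres := restrict_mem hη hle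
    convert hres using 1
    exact MonoidHom.ext fun r => (hmem r).2.symm

end Park

end CfsgLib.Park
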