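import Cfsg.Agent.Fusion.CubeAut
import Cfsg.Agent.Fusion.NormalCriteria
import Cfsg.Agent.Solvable.RankTwo

/-!
Automizers acting on a plane: shears, extensions of diagonal automorphisms to an overgroup of index
`p`, and elements of order `p` outside the subgroup.
-/

set_option autoImplicit false
set_option linter.unusedSectionVars false
set_option linter.style.haveILetI false

open Cfsg Cfsg.FusionSystem
open scoped commutatorElement

namespace CfsgLib.Fusion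

universe u

/-- A power of an element with `p`-power index and order prime to `p`. -/
theorem exists_primePow_coprime {X : Type*} [Group X] [Finite X] (p : ℕ) [Fact p.Prime] (x : X) :
    ∃ n : ℕ, (orderOf (x ^ p ^ n)).Coprime p := by
  refine ⟨(orderOf x).factorization p, ?_⟩
  rw [orderOf_pow_of_dvd (pow_ne_zero _ (Fact.out : p.Prime).ne_zero) (Nat.ordProj_dvd _ p)]
  exact (Nat.coprime_ordCompl (Fact.out : p.Prime) (orderOf_pos x).ne').symm

theorem pow_primePow_eq {X : Type*} [Monoid X] {p : ℕ} {h : X} (hh : h ^ p = h) (n : ℕ) :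
    h ^ p ^ n = h := by
  induction n with
  | zero => simp
  | succ n ih => rw [pow_succ, pow_mul, ih, hh]

/-- An automorphism fixing the elements of order `p` has `p`-power order. -/
theorem exists_primePow_eq_one {R : Type u} [Group R] [Finite R] {p : ℕ} [Fact p.Prime]
    (hp2 : p ≠ 2) (hR : IsPGroup p R) {α : MulAut R} (h : ∀ x : R, x ^ p = 1 → α x = x) :
    ∃ n : ℕ, α ^ p ^ n = 1 := by
  have : Finite (MulAut R) := Finite.of_injective _ DFunLike.coe_injective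
  obtain ⟨n, hn⟩ := exists_primePow_coprime p α
  refine ⟨n, CfsgLib.PGroupRank.aut_eq_one_of_omega_one hp2 hR _ hn fun x hx => ?_⟩
  exact (MulAction.stabilizer (MulAut R) x).pow_mem (show α ∈ MulAction.stabilizer (MulAut R) x from h x hx) _

variable {Ω : Type u} [Group Ω] {S : Subgroup Ω} [Finite S] {p : ℕ} [hp : Fact p.Prime]
  {F : FusionSystem S}

/-- Conjugation as a map from `N_S(P)` to `Aut_F(P)`. -/
def conjF (F : FusionSystem S) {P : Subgroup Ω} (hP : P ≤ S) :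
    ↥(normalizerIn S P) →* F.autGroup P :=
  (conjAut S P).codRestrict _ fun g =>
    autInducedBy_le_autGroup hP (mem_autInducedBy.2 ⟨g, g.2.1, fun _ => rfl⟩)

omit [Finite S] hp in
theorem coe_conjF {P : Subgroup Ω} (hP : P ≤ S) (g : ↥(normalizerIn S P)) (x : P) :
    ((((conjF F hP g : F.autGroup P) : MulAut P) x : P) : Ω) = g * x * (g : Ω)⁻¹ := rfl

omit [Finite S] hp in
/-- The elements of order `p` of a subgroup of rank at most two, for `p ≥ 5`. -/
theorem omega_bound [hp : Fact p.Prime] [Finite S] (hS : IsPGroup p S) (hp5 : 5 ≤ p)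
    (hrank : ∀ E : Subgroup Ω, E ≤ S → Cfsg.IsElementaryAbelian p E → Nat.card E ≤ p ^ 2)
    (R : Subgroup Ω) (hR : R ≤ S) :
    (∀ x ∈ Subgroup.closure {x : R | x ^ p = 1}, x ^ p = 1) ∧
      Nat.card (Subgroup.closure {x : R | x ^ p = 1}) ≤ p ^ 3 := by
  have := finite_of_le hR
  have hrk : ∀ E : Subgroup R, Cfsg.IsElementaryAbelian p E → Nat.card E ≤ p ^ 2 := by
    intro E hE
    rw [← Subgroup.card_map_of_injective (K := E) R.subtype_injective]
    refine hrank _ ((Subgroup.map_subtype_le E).trans hR) ⟨?_, ?_⟩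
    · haveI := hE.1
      infer_instance
    · rintro _ ⟨a, ha, rfl⟩
      rw [← map_pow, hE.2 a ha, map_one]
  have h1 := CfsgLib.RankTwo.omega_one_exponent (p := p) (by omega) (Nat.card R) (R := R) le_rfl
    (isPGroup_of_le hS hR) hrk
  refine ⟨h1, CfsgLib.RankTwo.card_le_cube_of_exponent (fun a => Subtype.ext (h1 a a.2)) ?_⟩
  intro E hE
  rw [← Subgroup.card_map_of_injective (K := E) (Subgroup.subtype_injective _)]
  refine hrk _ ⟨?_, ?_⟩
  · haveI := hE.1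
    infer_instance
  · rintro _ ⟨a, ha, rfl⟩
    rw [← map_pow, hE.2 a ha, map_one]

section plane

variable {P : Subgroup Ω} (hc : F.IsCentric P) {A : Type u} [CommGroup A] [Finite A]
  (hA : Nat.card A = p ^ 2) (hAexp : ∀ x : A, x ^ p = 1)
  (ρ : F.autGroup P →* MulAut A) (hker : ∀ α, ρ α = 1 → (α : MulAut P) ∈ Inn P)

include hker in
omit [Finite S] hp [Finite A] in
theorem mem_of_conjF_one {u : Ω} (hu : u ∈ normalizerIn S P)
    (h : ρ (conjF F hc.1 ⟨u, hu⟩) = 1) : u ∈ P :=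
  (inn_mem_iff hc hu.1 fun _ => rfl).1 (hker _ h)

include hA hAexp in
/-- The image of `N_S(P)` consists of shears with a common centre. -/
theorem exists_plane_centre (hS : IsPGroup p S) :
    ∃ c : A, c ≠ 1 ∧
      ∀ u : ↥(normalizerIn S P), ρ (conjF F hc.1 u) ∈ TransvectionCentre.shear ρ.range c := by
  have hN : IsPGroup p ↥(normalizerIn S P) := isPGroup_of_le hS (normalizerIn_le_S P)
  have hT : IsPGroup p (ρ.comp (conjF F hc.1)).range :=
    hN.of_surjective _ (ρ.comp (conjF F hc.1)).rangeRestrict_surjective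
  obtain ⟨c, hc1, hfix⟩ := exists_common_centre hA hAexp _ hT
  refine ⟨c, hc1, fun u => ?_⟩
  obtain ⟨k, hk⟩ := hT ⟨_, ⟨u, rfl⟩⟩
  exact shear_of_fix hA hAexp (G := ρ.range) (s := ρ (conjF F hc.1 u)) (MonoidHom.mem_range.2 ⟨_, rfl⟩) (congrArg Subtype.val hk) hc1 (hfix _ ⟨u, rfl⟩)

variable {g : Ω} (hg : g ∈ normalizerIn S P) {c : A} (hc1 : c ≠ 1)
  (hcent : ∀ u : ↥(normalizerIn S P), ρ (conjF F hc.1 u) ∈ TransvectionCentre.shear ρ.range c)

include hker hA hAexp hg hc1 hcent in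
/-- `N_S(P)` is generated by `P` and one element. -/
theorem normalizerIn_le_sup (hgP : g ∉ P) : normalizerIn S P ≤ P ⊔ Subgroup.zpowers g := by
  intro u hu
  have hs1 : ρ (conjF F hc.1 ⟨g, hg⟩) ≠ 1 := fun h => hgP (mem_of_conjF_one hc ρ hker hg h)
  obtain ⟨j, hj⟩ := shear_mem_zpowers hA hAexp hc1 (hcent ⟨g, hg⟩) hs1 (hcent ⟨u, hu⟩)
  have hmem : (g ^ j)⁻¹ * u ∈ normalizerIn S P := mul_mem (inv_mem (zpow_mem hg j)) hu
  have h1 : (g ^ j)⁻¹ * u ∈ P := by
    refine mem_of_conjF_one hc ρ hker hmem ?_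
    rw [show (⟨(g ^ j)⁻¹ * u, hmem⟩ : ↥(normalizerIn S P)) = (⟨g, hg⟩ ^ j)⁻¹ * ⟨u, hu⟩ from
      Subtype.ext (by simp), map_mul, map_mul, map_inv, map_inv, map_zpow, map_zpow, hj,
      inv_mul_cancel]
  rw [← mul_inv_cancel_left (g ^ j) u]
  exact mul_mem (Subgroup.mem_sup_right (Subgroup.zpow_mem_zpowers g j)) (Subgroup.mem_sup_left h1)

include hker hA hAexp hc1 hcent hg in
theorem pow_mem_of_plane : g ^ p ∈ P := by
  refine mem_of_conjF_one hc ρ hker (pow_mem hg p) ?_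
  rw [show (⟨g ^ p, pow_mem hg p⟩ : ↥(normalizerIn S P)) = ⟨g, hg⟩ ^ p from Subtype.ext rfl,
    map_pow, map_pow]
  obtain ⟨d, hd⟩ := exists_not_mem_line hA hAexp c
  obtain ⟨n, hn⟩ := TransvectionCentre.exists_zpow (hcent ⟨g, hg⟩) d
  refine plane_ext hA hAexp hc1 hd (by rw [(pow_mem (hcent ⟨g, hg⟩) p).2.1]; rfl) ?_
  rw [← zpow_natCast, zpow_apply_of_fix _ (by rw [map_zpow, (hcent ⟨g, hg⟩).2.1]) hn, zpow_natCast,
    hAexp, mul_one]
  rfl

include hker hA hAexp hc1 hcent hg in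
/-- An automorphism conjugating the shears to their `m`-th powers extends to `P⟨g⟩`. -/
theorem exists_extension_plane (hS : IsPGroup p S) (hrec : F.IsReceptive P) {h : MulAut A}
    (hh : h ∈ ρ.range) (hhp : h ^ p = h) {m : ℤ}
    (hconj : h * ρ (conjF F hc.1 ⟨g, hg⟩) * h⁻¹ = ρ (conjF F hc.1 ⟨g, hg⟩) ^ m) :
    ∃ ψ ∈ F.autGroup (P ⊔ Subgroup.zpowers g), ∃ α : F.autGroup P,
      (orderOf (α : MulAut P)).Coprime p ∧ ρ α = h ∧
      (∀ x : P, ((ψ (Subgroup.inclusion le_sup_left x) : ↥(P ⊔ Subgroup.zpowers g)) : Ω) =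
        ((α : MulAut P) x : P)) ∧
      (g ^ m)⁻¹ * ((ψ ⟨g, Subgroup.mem_sup_right (Subgroup.mem_zpowers g)⟩ :
        ↥(P ⊔ Subgroup.zpowers g)) : Ω) ∈ P := by
  classical
  have hP := hc.1
  have := finite_of_le hP
  obtain ⟨α₀, rfl⟩ := hh
  set M := P ⊔ Subgroup.zpowers g with hMdef
  have hMN : M ≤ normalizerIn S P := sup_le (le_normalizerIn hP) (Subgroup.zpowers_le.2 hg)
  have hMS : M ≤ S := hMN.trans (normalizerIn_le_S P)
  have := finite_of_le hMS
  have : Finite (MulAut M) := finite_mulAut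
  have : Finite (MulAut P) := finite_mulAut
  set G : ↥(normalizerIn S P) := ⟨g, hg⟩
  have hI : ρ (α₀ * conjF F hP G * α₀⁻¹ * (conjF F hP (G ^ m))⁻¹) = 1 := by
    rw [map_mul, map_mul, map_mul, map_inv, map_inv, hconj, map_zpow, map_zpow, mul_inv_cancel]
  obtain ⟨q, hq⟩ := hker _ hI
  obtain ⟨k, hkdef⟩ : ∃ k : Ω, k = (q : Ω) * g ^ m := ⟨_, rfl⟩
  have hkN : k ∈ normalizerIn S P :=
    hkdef ▸ mul_mem (le_normalizerIn hP q.2) (zpow_mem hg m)
  have hkey : ∀ x : P, (((α₀ : MulAut P) (((conjF F hP G : F.autGroup P) : MulAut P) x) : P) : Ω) =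
      k * (((α₀ : MulAut P) x : P) : Ω) * k⁻¹ := by
    intro x
    have h1 := DFunLike.congr_fun hq (((conjF F hP (G ^ m) : F.autGroup P) : MulAut P)
      ((α₀ : MulAut P) x))
    simp only [Subgroup.coe_mul, InvMemClass.coe_inv, MulAut.mul_apply, MulAut.inv_apply_self] at h1
    rw [← h1, MulAut.conj_apply, Subgroup.coe_mul, Subgroup.coe_mul, coe_conjF, hkdef,
      InvMemClass.coe_inv, SubgroupClass.coe_zpow, mul_inv_rev]
    simp only [mul_assoc]
    rfl
  set φ₀ : P →* Ω := P.subtype.comp (α₀ : MulAut P).toMonoidHom with hφ₀def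
  have hφ₀ : φ₀ ∈ F.Hom P := (autGroup_carrier hP).1 α₀.2
  have hext : g ∈ extender S P φ₀ := by
    refine mem_extender_of hg hkN.1 fun x hx => ?_
    exact (congrArg (fun z : P => (((α₀ : MulAut P) z : P) : Ω)) (Subtype.ext rfl)).trans (hkey x)
  have hMext : M ≤ extender S P φ₀ := sup_le (le_extender hφ₀) (Subgroup.zpowers_le.2 hext)
  obtain ⟨φ, hφ, he⟩ := receptive_extend hrec hφ₀ (range_subtype_comp _) hMext
  have hgM : g ∈ M := Subgroup.mem_sup_right (Subgroup.mem_zpowers g)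
  have hkM : k ∈ M :=
    hkdef ▸ mul_mem (Subgroup.mem_sup_left q.2) (zpow_mem hgM m)
  have heP : ∀ x : P, φ ⟨x, Subgroup.mem_sup_left x.2⟩ = (((α₀ : MulAut P) x : P) : Ω) :=
    fun x => he x x.2 _
  have hφg : k⁻¹ * φ ⟨g, hgM⟩ ∈ P := by
    refine centralizer_mem_of_centric hc
      (mul_mem (inv_mem hkN.1) (apply_mem_S hφ _)) fun y hy => ?_
    obtain ⟨x, hx⟩ := (α₀ : MulAut P).surjective ⟨y, hy⟩
    have hxy : φ ⟨x, Subgroup.mem_sup_left x.2⟩ = y := (heP x).trans (congrArg Subtype.val hx)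
    have h1 := heP (((conjF F hP G : F.autGroup P) : MulAut P) x)
    have h2 : φ ((⟨g, hgM⟩ : M) * ⟨x, Subgroup.mem_sup_left x.2⟩ * (⟨g, hgM⟩ : M)⁻¹) =
        φ ⟨_, Subgroup.mem_sup_left (((conjF F hP G : F.autGroup P) : MulAut P) x).2⟩ :=
      apply_congr φ rfl
    rw [hkey x, ← heP x, ← h2, map_mul, map_mul, map_inv, hxy] at h1
    calc y * (k⁻¹ * φ ⟨g, hgM⟩) = k⁻¹ * (k * y * k⁻¹) * φ ⟨g, hgM⟩ := by group
      _ = k⁻¹ * (φ ⟨g, hgM⟩ * y * (φ ⟨g, hgM⟩)⁻¹) * φ ⟨g, hgM⟩ := by rw [h1]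
      _ = k⁻¹ * φ ⟨g, hgM⟩ * y := by group
  have hrange : φ.range = M := by
    refine eq_of_le_of_card_le hMS ?_ (card_range hφ).ge
    rintro _ ⟨z, rfl⟩
    have hle : M ≤ (M.comap φ).map M.subtype := by
      refine sup_le (fun x hx => ⟨⟨x, Subgroup.mem_sup_left hx⟩, ?_, rfl⟩)
        (Subgroup.zpowers_le.2 ⟨⟨g, hgM⟩, ?_, rfl⟩)
      · show φ ⟨x, Subgroup.mem_sup_left hx⟩ ∈ M
        rw [heP ⟨x, hx⟩]
        exact Subgroup.mem_sup_left (((α₀ : MulAut P) ⟨x, hx⟩).2)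
      · show φ ⟨g, hgM⟩ ∈ M
        rw [← mul_inv_cancel_left k (φ ⟨g, hgM⟩)]
        exact mul_mem hkM (Subgroup.mem_sup_left hφg)
    obtain ⟨z', hz', hzz⟩ := hle z.2
    rw [← Subtype.ext (show (z' : Ω) = z from hzz)]
    exact hz'
  set ψ₀ := autOfRange φ (F.injective_of_mem hφ) hrange with hψ₀def
  have hψ₀ : ψ₀ ∈ F.autGroup M := autOfRange_mem hφ hrange
  obtain ⟨n, hn⟩ := exists_primePow_coprime p ψ₀
  haveI hPn : (P.subgroupOf M).Normal :=
    Subgroup.normal_subgroupOf_of_le_normalizer fun u hu => (hMN hu).2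
  have hres : ∀ (i : ℕ) (x : P), (((ψ₀ ^ i) (Subgroup.inclusion le_sup_left x) : M) : Ω) =
      ((((α₀ : MulAut P) ^ i) x : P) : Ω) := by
    intro i
    induction i with
    | zero => intro x; rfl
    | succ i ih =>
      intro x
      rw [pow_succ, MulAut.mul_apply, pow_succ, MulAut.mul_apply, ← ih]
      congr 2
      exact Subtype.ext (heP x)
  have hgen : ∀ i : ℕ, QuotientGroup.mk' (P.subgroupOf M) ((ψ₀ ^ i) ⟨g, hgM⟩) =
      QuotientGroup.mk' (P.subgroupOf M) ⟨g, hgM⟩ ^ (m ^ i) := by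
    intro i
    induction i with
    | zero => simp
    | succ i ih =>
      have h1 : ψ₀ ⟨g, hgM⟩ = ⟨g, hgM⟩ ^ m * ((⟨g, hgM⟩ : M) ^ m)⁻¹ * ψ₀ ⟨g, hgM⟩ := by group
      obtain ⟨y, hy, hy'⟩ : ∃ y ∈ P.subgroupOf M, ψ₀ ⟨g, hgM⟩ = ⟨g, hgM⟩ ^ m * y := by
        refine ⟨_, ?_, (mul_inv_cancel_left ((⟨g, hgM⟩ : M) ^ m) _).symm⟩
        rw [Subgroup.mem_subgroupOf, Subgroup.coe_mul, InvMemClass.coe_inv, SubgroupClass.coe_zpow]
        show (g ^ m)⁻¹ * φ ⟨g, hgM⟩ ∈ P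
        have e : (g ^ m)⁻¹ * φ ⟨g, hgM⟩ = ((g ^ m)⁻¹ * q * (g ^ m)) * (k⁻¹ * φ ⟨g, hgM⟩) := by
          rw [hkdef]; group
        rw [e]
        exact mul_mem ((Subgroup.mem_normalizer_iff''.1 (zpow_mem hg m).2 _).1 q.2) hφg
      have h2 : (ψ₀ ^ i) y ∈ P.subgroupOf M := by
        rw [Subgroup.mem_subgroupOf,
          show y = Subgroup.inclusion le_sup_left (⟨y, hy⟩ : P) from rfl, hres]
        exact ((((α₀ : MulAut P) ^ i) _)).2
      rw [pow_succ ψ₀, MulAut.mul_apply, hy', map_mul, map_mul, map_zpow, map_zpow, ih,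
        show QuotientGroup.mk' (P.subgroupOf M) ((ψ₀ ^ i) y) = 1 from
          (QuotientGroup.eq_one_iff _).2 h2, mul_one, ← zpow_mul, pow_succ]
  refine ⟨ψ₀ ^ p ^ n, pow_mem hψ₀ _, α₀ ^ p ^ n, ?_, ?_, fun x => ?_, ?_⟩
  · refine Nat.Coprime.coprime_dvd_left (orderOf_dvd_of_pow_eq_one (MulEquiv.ext fun x => ?_)) hn
    refine Subtype.ext ?_
    rw [SubgroupClass.coe_pow, ← pow_mul, ← hres, pow_mul, pow_orderOf_eq_one]
    rfl
  · rw [map_pow]; exact pow_primePow_eq hhp n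
  · rw [hres]; rfl
  · have h1 := hgen (p ^ n)
    have h2 : (QuotientGroup.mk' (P.subgroupOf M) (⟨g, hgM⟩ : M)) ^ p = 1 := by
      rw [← map_pow]
      exact (QuotientGroup.eq_one_iff _).2 (pow_mem_of_plane hc hA hAexp ρ hker hg hc1 hcent)
    rw [zpow_congr h2 (i := m ^ p ^ n) (j := m) ?_, ← map_zpow] at h1
    · exact Subgroup.mem_subgroupOf.1 (QuotientGroup.eq.1 h1.symm)
    · rw [← ZMod.intCast_zmod_eq_zero_iff_dvd]
      push_cast
      rw [ZMod.pow_card_pow, sub_self]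

include hker hA hAexp hc1 hcent hg in
/-- If the multiplier on the top layer is neither trivial nor that of a possible `p`-th power, an
element of order `p` lies outside `P`. -/
theorem exists_order_p_outside (hS : IsPGroup p S) (hrec : F.IsReceptive P) (hp5 : 5 ≤ p)
    (hgP : g ∉ P) (D : Subgroup P) (hDi : ∀ α ∈ F.autGroup P, ∀ x ∈ D, α x ∈ D)
    (hDexp : ∀ x ∈ D, x ^ p = 1) (hDcard : Nat.card D ≤ p ^ 3) {h : MulAut A}
    (hh : h ∈ ρ.range) (hhp : h ^ p = h) {m : ℤ}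
    (hconj : h * ρ (conjF F hc.1 ⟨g, hg⟩) * h⁻¹ = ρ (conjF F hc.1 ⟨g, hg⟩) ^ m)
    (hm : ¬ (p : ℤ) ∣ m - 1)
    (hfix : ∀ α : F.autGroup P, (orderOf (α : MulAut P)).Coprime p → ρ α = h →
      ∀ y : P, y⁻¹ * (α : MulAut P) y ∈ D)
    (hC : ∀ α : F.autGroup P, ρ α = h → ∀ (u : Ω) (hu : u ∈ normalizerIn S P), u ∉ P → ∀ x ∈ D,
      ((conjF F hc.1 ⟨u, hu⟩ : F.autGroup P) : MulAut P) x = x → (α : MulAut P) x = x ^ m → x = 1) :
    ∃ u ∈ P ⊔ Subgroup.zpowers g, u ∉ P ∧ u ^ p = 1 := by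
  classical
  have hP := hc.1
  set M := P ⊔ Subgroup.zpowers g with hMdef
  obtain ⟨ψ, hψA, α, hα, hρα, hres, hψg⟩ :=
    exists_extension_plane hc hA hAexp ρ hker hg hc1 hcent hS hrec hh hhp hconj
  have hMN : M ≤ normalizerIn S P := sup_le (le_normalizerIn hP) (Subgroup.zpowers_le.2 hg)
  have hMS : M ≤ S := hMN.trans (normalizerIn_le_S P)
  have := finite_of_le hMS
  have := finite_of_le hP
  haveI hPn : (P.subgroupOf M).Normal :=
    Subgroup.normal_subgroupOf_of_le_normalizer fun u hu => (hMN hu).2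
  let ι : P →* M := Subgroup.inclusion le_sup_left
  have hιinj : Function.Injective ι := Subgroup.inclusion_injective le_sup_left
  haveI hDn : (D.map ι).Normal := ⟨by
    rintro _ ⟨x, hx, rfl⟩ w
    exact ⟨((conjF F hP ⟨w, hMN w.2⟩ : F.autGroup P) : MulAut P) x,
      hDi _ (conjF F hP ⟨w, hMN w.2⟩).2 x hx, Subtype.ext rfl⟩⟩
  have hDP : D.map ι ≤ P.subgroupOf M := by
    rintro _ ⟨x, -, rfl⟩
    exact Subgroup.mem_subgroupOf.2 x.2
  have hψι : ∀ x : P, ψ (ι x) = ι ((α : MulAut P) x) := fun x => Subtype.ext (hres x)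
  have hMp : IsPGroup p M := isPGroup_of_le hS hMS
  have hDe : ∀ d ∈ D.map ι, d ^ p = 1 := by
    rintro _ ⟨x, hx, rfl⟩
    rw [← map_pow, hDexp x hx, map_one]
  have hcard : Nat.card (D.map ι) ≤ p ^ 3 := by
    rw [Subgroup.card_map_of_injective hιinj]; exact hDcard
  obtain ⟨u, hu, hup⟩ := exists_order_p hMp (P.subgroupOf M) (D.map ι) hDP ψ
    (by
      rintro _ ⟨x, hx, rfl⟩
      exact ⟨_, hDi _ α.2 x hx, (hψι x).symm⟩)
    (fun y hy => ⟨_, hfix α hα hρα ⟨y, hy⟩, by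
      rw [map_mul, map_inv, ← hψι]; rfl⟩)
    (t := ⟨g, Subgroup.mem_sup_right (Subgroup.mem_zpowers g)⟩) hgP
    (Subgroup.mem_subgroupOf.2 (pow_mem_of_plane hc hA hAexp ρ hker hg hc1 hcent)) (m := m)
    hψg hm
    (fun x d hx hd => by
      let K := Subgroup.zpowers x ⊔ D.map ι
      have hK : Nat.card K ≤ p ^ 4 :=
        (CfsgLib.PGroupBasic.card_sup_zpowers_le _ x hx).trans
          ((Nat.mul_le_mul_left p hcard).trans (le_of_eq (by ring)))
      have hyp : CfsgLib.PGroupPower.Hyp p K :=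
        Or.inr ⟨by omega, CfsgLib.RankTwo.class_le_three (hMp.to_subgroup K) hK⟩
      let a : K := ⟨x, Subgroup.mem_sup_left (Subgroup.mem_zpowers x)⟩
      let b : K := ⟨d, Subgroup.mem_sup_right hd⟩
      have h0 : ∀ z : K, (z : M) ∈ D.map ι → z ^ p = 1 := fun z hz => Subtype.ext (hDe _ hz)
      have hcomm : ∀ u w : K, (w : M) ∈ D.map ι → ((⁅u, w⁆ : K) : M) ∈ D.map ι := fun u w hw => by
        rw [commutatorElement_def, Subgroup.coe_mul, Subgroup.coe_mul, Subgroup.coe_mul,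
          InvMemClass.coe_inv, InvMemClass.coe_inv]
        exact mul_mem (hDn.conj_mem _ hw _) (inv_mem hw)
      have hba : ((⁅b, a⁆ : K) : M) ∈ D.map ι := by
        rw [← commutatorElement_inv, InvMemClass.coe_inv]
        exact inv_mem (hcomm a b hd)
      have := congrArg Subtype.val (CfsgLib.PGroupPower.mul_pow_eq_of_pow (h := hyp) (x := a) (y := b)
        (h0 _ hba) (h0 _ (hcomm a _ hba)) (h0 _ (hcomm b _ hba)))
      simp only [Subgroup.coe_mul, SubgroupClass.coe_pow, a, b] at this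
      rw [this, hDe d hd, mul_one])
    (by
      intro x hx hxD he
      obtain ⟨y, hy, e⟩ := hxD
      have hy' : y = 1 := by
        refine hC α hρα x (hMN x.2) hx y hy (Subtype.ext ?_) ?_
        · rw [coe_conjF]
          have e' : (y : Ω) = ((x : M) : Ω) ^ p := by
            rw [← SubgroupClass.coe_pow, ← e]; rfl
          show (x : Ω) * y * (x : Ω)⁻¹ = y
          rw [e', ← conj_pow, mul_inv_cancel_right]
        · refine hιinj ?_
          rw [← hψι, map_zpow, e, he]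
      rw [← e, hy', map_one])
  exact ⟨u, u.2, fun h => hu (Subgroup.mem_subgroupOf.2 h), congrArg Subtype.val hup⟩

end plane

end CfsgLib.Fusion
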