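import Cfsg.Agent.Fusion.SmallEssential
import Mathlib.GroupTheory.QuotientGroup.Basic

/-!
Shears and diagonal automorphisms of a group of order `p²` and exponent `p`, and the eigenvector
argument producing an element of order `p` outside a subgroup of index `p`.
-/

set_option autoImplicit false
set_option linter.unusedSectionVars false

namespace CfsgLib.Fusion

universe u

section basic

variable {M : Type u} [Group M] {p : ℕ} [hp : Fact p.Prime]

theorem zpow_congr {x : M} (hx : x ^ p = 1) {i j : ℤ} (h : (p : ℤ) ∣ i - j) : x ^ i = x ^ j := by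
  obtain ⟨k, hk⟩ := h
  rw [show i = (p : ℤ) * k + j by linarith, zpow_add, zpow_mul, zpow_natCast, hx, one_zpow, one_mul]

theorem dvd_sub_of_zpow_eq {x : M} (hx : x ^ p = 1) (hx1 : x ≠ 1) {i j : ℤ} (h : x ^ i = x ^ j) :
    (p : ℤ) ∣ i - j := by
  rw [← orderOf_eq_prime hx hx1]
  exact orderOf_dvd_iff_zpow_eq_one.2 (by rw [zpow_sub, h, mul_inv_cancel])

theorem exists_inv_mod {n : ℤ} (hn : ¬ (p : ℤ) ∣ n) : ∃ k : ℤ, (p : ℤ) ∣ n * k - 1 := by
  obtain ⟨u, v, huv⟩ := (Int.prime_iff_natAbs_prime.2 (by simpa using hp.out)).coprime_iff_not_dvd.2 hn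
  exact ⟨v, -u, by linarith⟩

/-- In a `p`-group powers prime to `p` can be undone. -/
theorem exists_zpow_undo (hM : IsPGroup p M) (u : M) {n : ℤ} (hn : ¬ (p : ℤ) ∣ n) :
    ∃ k : ℤ, (u ^ n) ^ k = u := by
  obtain ⟨e, he⟩ := hM u
  have hc : IsCoprime ((p : ℤ) ^ e) n :=
    ((Int.prime_iff_natAbs_prime.2 (by simpa using hp.out)).coprime_iff_not_dvd.2 hn).pow_left
  obtain ⟨a, b, hab⟩ := hc
  refine ⟨b, ?_⟩
  conv_rhs => rw [← zpow_one u, ← hab, zpow_add, mul_comm a, zpow_mul]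
  rw [show u ^ ((p : ℤ) ^ e) = 1 by rw [← Nat.cast_pow, zpow_natCast, he], one_zpow, one_mul,
    mul_comm b, zpow_mul]

theorem apply_zpow_fix (f : MulAut M) {z : M} (hz : f z = z) (i : ℤ) : (f ^ i) z = z := by
  induction i with
  | zero => simp
  | succ i ih => rw [zpow_add_one, MulAut.mul_apply, hz, ih]
  | pred i ih =>
    rw [zpow_sub_one, MulAut.mul_apply]
    conv_lhs => rw [← hz, MulAut.inv_apply_self]
    exact ih

theorem zpow_apply_of_fix (f : MulAut M) {x z : M} (hz : f z = z) (hx : f x = x * z) (i : ℤ) :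
    (f ^ i) x = x * z ^ i := by
  induction i with
  | zero => simp
  | succ i ih =>
    rw [zpow_add_one, MulAut.mul_apply, hx, map_mul, ih, apply_zpow_fix f hz, zpow_add_one, mul_assoc]
  | pred i ih =>
    rw [zpow_sub_one, MulAut.mul_apply]
    have hinv : (f⁻¹ : MulAut M) x = x * z⁻¹ := by
      have h1 : f (x * z⁻¹) = x := by rw [map_mul, map_inv, hx, hz, mul_inv_cancel_right]
      conv_lhs => rw [← h1, MulAut.inv_apply_self]
    rw [hinv, map_mul, map_inv, ih, apply_zpow_fix f hz, zpow_sub_one, mul_assoc]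

/-- If `ψ` multiplies the generator `t` of the top layer by `m ≢ 1` and is trivial on the middle
layer `P / D`, some element outside `P` has `p`-th power in `D` on which `ψ` acts as `m`; if that
power must be trivial, there is an element of order `p` outside `P`. -/
theorem exists_order_p [Finite M] (hM : IsPGroup p M) (P D : Subgroup M) [P.Normal] [D.Normal]
    (hDP : D ≤ P) (ψ : MulAut M) (hDi : ∀ x ∈ D, ψ x ∈ D) (hfix : ∀ y ∈ P, y⁻¹ * ψ y ∈ D)
    {t : M} (ht : t ∉ P) (htp : t ^ p ∈ P) {m : ℤ} (hψt : (t ^ m)⁻¹ * ψ t ∈ P)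
    (hm : ¬ (p : ℤ) ∣ m - 1) (hpow : ∀ x d : M, x ^ p ∈ D → d ∈ D → (x * d) ^ p = x ^ p)
    (hC : ∀ x : M, x ∉ P → x ^ p ∈ D → ψ (x ^ p) = (x ^ p) ^ m → x ^ p = 1) :
    ∃ x : M, x ∉ P ∧ x ^ p = 1 := by
  have hPi : ∀ y ∈ P, ψ y ∈ P := fun y hy => by
    simpa using mul_mem hy (hDP (hfix y hy))
  set π := QuotientGroup.mk' D with hπ
  set π₂ := QuotientGroup.mk' P with hπ₂
  have hone₂ : ∀ y ∈ P, π₂ y = 1 := fun y hy => (QuotientGroup.eq_one_iff y).2 hy
  have hmap : D.map ψ.toMonoidHom = D := by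
    refine Subgroup.eq_of_le_of_card_ge (Subgroup.map_le_iff_le_comap.2 hDi) ?_
    rw [Subgroup.card_map_of_injective ψ.injective]
  set f : MulAut (M ⧸ D) := QuotientGroup.congr D D ψ hmap with hf
  have hfπ : ∀ x, f (π x) = π (ψ x) := fun x => rfl
  have hff : ∀ y ∈ P, f (π y) = π y := fun y hy => by
    rw [hfπ]
    exact (QuotientGroup.eq.2 (hfix y hy)).symm
  obtain ⟨w₀, hw₀⟩ : ∃ w₀, w₀ = t⁻¹ * ψ t := ⟨_, rfl⟩
  have hT : π₂ (ψ t) = π₂ t ^ m := by
    rw [← map_zpow]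
    exact (QuotientGroup.eq.2 hψt).symm
  have hTT : π₂ (ψ (ψ t)) = π₂ t ^ (m * m) := by
    obtain ⟨y, hy, e⟩ : ∃ y ∈ P, ψ t = t ^ m * y := ⟨_, hψt, (mul_inv_cancel_left _ _).symm⟩
    rw [e, map_mul, map_mul, map_zpow, hone₂ _ (hPi y hy), mul_one, map_zpow, hT, zpow_mul]
  have hw₂ : π₂ w₀ = π₂ t ^ (m - 1) := by
    rw [hw₀, map_mul, map_inv, hT, ← zpow_neg_one, ← zpow_add, neg_add_eq_sub]
  obtain ⟨u₀, hu₀⟩ : ∃ u₀, u₀ = (w₀ ^ m)⁻¹ * ψ w₀ := ⟨_, rfl⟩
  have hu₀P : u₀ ∈ P := by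
    refine (QuotientGroup.eq_one_iff _).1 ?_
    show π₂ u₀ = 1
    rw [hu₀, map_mul, map_inv, map_zpow, hw₂, hw₀, map_mul, map_inv, map_mul, map_inv, hT, hTT,
      ← zpow_neg, ← zpow_mul, ← zpow_neg, ← zpow_add, ← zpow_add]
    rw [show (m - 1) * -m + (-m + m * m) = 0 by ring, zpow_zero]
  have hcom : ∀ y ∈ P, Commute (π w₀) (π y) := by
    intro y hy
    have h1 := hff (t * y * t⁻¹) (Subgroup.Normal.conj_mem inferInstance y hy t)
    rw [map_mul, map_mul, map_inv, map_mul, map_mul, map_inv, hff y hy, hfπ] at h1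
    show π w₀ * π y = π y * π w₀
    rw [hw₀, map_mul, map_inv]
    generalize π (ψ t) = a at h1
    generalize π t = b at h1
    generalize π y = c at h1
    calc b⁻¹ * a * c = b⁻¹ * (a * c * a⁻¹) * a := by group
      _ = b⁻¹ * (b * c * b⁻¹) * a := by rw [h1]
      _ = c * (b⁻¹ * a) := by group
  obtain ⟨k, hk⟩ := exists_zpow_undo (hM.to_quotient D) (π u₀) hm
  have hv : (π (u₀ ^ k)) ^ (m - 1) = π u₀ := by
    rw [map_zpow, ← zpow_mul, mul_comm, zpow_mul, hk]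
  obtain ⟨x₀, hx₀⟩ : ∃ x₀, x₀ = w₀ * u₀ ^ k := ⟨_, rfl⟩
  have hx₂ : π₂ x₀ = π₂ t ^ (m - 1) := by
    rw [hx₀, map_mul, hone₂ _ (zpow_mem hu₀P k), mul_one, hw₂]
  have hxP : x₀ ∉ P := by
    intro h
    rw [hone₂ _ h] at hx₂
    refine hm ?_
    have h2 : (π₂ t) ^ p = 1 := by rw [← map_pow, hone₂ _ htp]
    have h3 : π₂ t ≠ 1 := fun e => ht ((QuotientGroup.eq_one_iff t).1 e)
    simpa using dvd_sub_of_zpow_eq h2 h3 (i := m - 1) (j := 0) (by rw [← hx₂, zpow_zero])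
  have hxpP : x₀ ^ p ∈ P := by
    refine (QuotientGroup.eq_one_iff _).1 ?_
    show π₂ (x₀ ^ p) = 1
    rw [map_pow, hx₂, ← zpow_natCast, ← zpow_mul, mul_comm, zpow_mul, zpow_natCast, ← map_pow,
      hone₂ _ htp, one_zpow]
  have hfw : f (π w₀) = π w₀ ^ m * π u₀ := by
    rw [hfπ, ← map_zpow, ← map_mul, hu₀, mul_inv_cancel_left]
  have hfx : f (π x₀) = π x₀ ^ m := by
    rw [hx₀, map_mul, map_mul, hfw, hff _ (zpow_mem hu₀P k),
      (hcom _ (zpow_mem hu₀P k)).mul_zpow, mul_assoc]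
    congr 1
    rw [show π (u₀ ^ k) ^ m = π (u₀ ^ k) ^ (m - 1) * π (u₀ ^ k) by
      rw [← zpow_add_one, sub_add_cancel], hv]
  have hxpD : x₀ ^ p ∈ D := by
    refine (QuotientGroup.eq_one_iff _).1 ?_
    show π (x₀ ^ p) = 1
    have h1 := hff _ hxpP
    rw [map_pow, map_pow, hfx, ← zpow_natCast (π x₀ ^ m), ← zpow_mul, mul_comm m, zpow_mul,
      zpow_natCast] at h1
    obtain ⟨j, hj⟩ := exists_zpow_undo (hM.to_quotient D) (π x₀ ^ p) hm
    rw [map_pow, ← hj, zpow_sub_one, h1, mul_inv_cancel, one_zpow]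
  refine ⟨x₀, hxP, hC x₀ hxP hxpD ?_⟩
  have hd : (x₀ ^ m)⁻¹ * ψ x₀ ∈ D := by
    refine (QuotientGroup.eq_one_iff _).1 ?_
    show π ((x₀ ^ m)⁻¹ * ψ x₀) = 1
    rw [map_mul, map_inv, map_zpow, ← hfπ, hfx, inv_mul_cancel]
  have e : (x₀ ^ m) ^ p = (x₀ ^ p) ^ m := by
    rw [← zpow_natCast, ← zpow_mul, mul_comm, zpow_mul, zpow_natCast]
  have h2 := hpow (x₀ ^ m) _ (e ▸ zpow_mem hxpD m) hd
  rw [mul_inv_cancel_left] at h2
  rw [map_pow, h2, e]

end basic

section plane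

variable {A : Type u} [CommGroup A] [Finite A] {p : ℕ} [hp : Fact p.Prime]
  (hA : Nat.card A = p ^ 2) (hexp : ∀ x : A, x ^ p = 1)

include hA hexp

theorem plane_decomp {b d : A} (hb : b ≠ 1) (hd : d ∉ Subgroup.zpowers b) (x : A) :
    ∃ i j : ℤ, b ^ i * d ^ j = x := by
  have hbo : orderOf b = p := orderOf_eq_prime (hexp b) hb
  have htop : Subgroup.zpowers b ⊔ Subgroup.zpowers d = ⊤ := by
    set K := Subgroup.zpowers b ⊔ Subgroup.zpowers d
    have hlt : Subgroup.zpowers b < K :=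
      SetLike.lt_iff_le_and_exists.2 ⟨le_sup_left, d, Subgroup.mem_sup_right (Subgroup.mem_zpowers d), hd⟩
    refine Subgroup.eq_top_of_le_card _ ?_
    obtain ⟨j, hj⟩ := IsPGroup.iff_card.1 ((IsPGroup.of_card hA).to_subgroup K)
    have h1 : Nat.card (Subgroup.zpowers b) < Nat.card K := lt_of_not_ge fun hge =>
      hlt.ne (Subgroup.eq_of_le_of_card_ge hlt.le hge)
    rw [Nat.card_zpowers, hbo, hj] at h1
    rw [hA, hj]
    refine Nat.pow_le_pow_right hp.out.pos ?_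
    by_contra hcon
    have h2 := Nat.pow_le_pow_right hp.out.pos (show j ≤ 1 by omega)
    rw [pow_one] at h2
    omega
  obtain ⟨u, hu, v, hv, rfl⟩ := Subgroup.mem_sup.1 (htop.ge (Subgroup.mem_top x))
  obtain ⟨i, rfl⟩ := Subgroup.mem_zpowers_iff.1 hu
  obtain ⟨j, rfl⟩ := Subgroup.mem_zpowers_iff.1 hv
  exact ⟨i, j, rfl⟩

theorem plane_ext {b d : A} (hb : b ≠ 1) (hd : d ∉ Subgroup.zpowers b) {s t : MulAut A}
    (h1 : s b = t b) (h2 : s d = t d) : s = t := by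
  refine MulEquiv.ext fun x => ?_
  obtain ⟨i, j, rfl⟩ := plane_decomp hA hexp hb hd x
  rw [map_mul, map_mul, map_zpow, map_zpow, map_zpow, map_zpow, h1, h2]

theorem exists_not_mem_line (c : A) : ∃ d : A, d ∉ Subgroup.zpowers c := by
  by_contra h
  push Not at h
  have h1 : Nat.card A ≤ Nat.card (Subgroup.zpowers c) :=
    Nat.card_le_card_of_injective (fun x => (⟨x, h x⟩ : Subgroup.zpowers c))
      fun x y e => congrArg Subtype.val e
  rw [Nat.card_zpowers, hA] at h1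
  have h2 : orderOf c ≤ p := Nat.le_of_dvd hp.out.pos (orderOf_dvd_of_pow_eq_one (hexp c))
  have h3 : p < p ^ 2 := lt_self_pow₀ hp.out.one_lt (by norm_num)
  omega

theorem mem_centre_of_fix {G : Subgroup (MulAut A)} {s : MulAut A} {c : A} (hc : c ≠ 1)
    (hs : s ∈ TransvectionCentre.shear G c) (hs1 : s ≠ 1) {x : A} (hx : s x = x) :
    x ∈ Subgroup.zpowers c := by
  by_contra h
  exact hs1 (plane_ext hA hexp hc h hs.2.1 hx)

theorem shear_of_fix {G : Subgroup (MulAut A)} {s : MulAut A} (hsG : s ∈ G) {k : ℕ}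
    (hsk : s ^ p ^ k = 1) {c : A} (hc : c ≠ 1) (hsc : s c = c) :
    s ∈ TransvectionCentre.shear G c := by
  by_cases hs1 : s = 1
  · subst hs1; exact one_mem _
  obtain ⟨c', hc', hs⟩ := exists_shear G hA hexp hsG hsk
  have hne : c' ≠ 1 := fun h => hp.out.one_lt.ne (by rw [← hc', h, orderOf_one])
  have hmem := mem_centre_of_fix hA hexp hne hs hs1 hsc
  exact ⟨hsG, hsc, fun x => Subgroup.zpowers_le.2
    (TransvectionCentre.mem_zpowers_swap hc' hmem hc) (hs.2.2 x)⟩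

theorem exists_common_centre (T : Subgroup (MulAut A)) (hT : IsPGroup p T) :
    ∃ c : A, c ≠ 1 ∧ ∀ s ∈ T, s c = c := by
  have hdvd : p ∣ Nat.card A := by rw [hA]; exact dvd_pow_self p two_ne_zero
  obtain ⟨c, hc, hc1⟩ := hT.exists_fixed_point_of_prime_dvd_card_of_fixed_point A hdvd
    (a := (1 : A)) (fun g => map_one (g : MulAut A))
  exact ⟨c, hc1.symm, fun s hs => hc ⟨s, hs⟩⟩

theorem exists_shear_shift {G : Subgroup (MulAut A)} {s : MulAut A} {c d : A} (hc : c ≠ 1)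
    (hd : d ∉ Subgroup.zpowers c) (hs : s ∈ TransvectionCentre.shear G c) (hs1 : s ≠ 1) (i : ℤ) :
    ∃ j : ℤ, (s ^ j) d = d * c ^ i := by
  obtain ⟨n, hn⟩ := TransvectionCentre.exists_zpow hs d
  have hn0 : ¬ (p : ℤ) ∣ n := fun h => hd (mem_centre_of_fix hA hexp hc hs hs1 (by
    rw [hn, zpow_congr (hexp c) (j := 0) (by simpa using h), zpow_zero, mul_one]))
  obtain ⟨k, hk⟩ := exists_inv_mod hn0
  refine ⟨k * i, ?_⟩
  rw [zpow_apply_of_fix s (by rw [map_zpow, hs.2.1]) hn, ← zpow_mul]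
  congr 1
  refine zpow_congr (hexp c) ?_
  rw [show n * (k * i) - i = (n * k - 1) * i by ring]
  exact dvd_mul_of_dvd_left hk i

theorem shear_mem_zpowers {G : Subgroup (MulAut A)} {s t : MulAut A} {c : A} (hc : c ≠ 1)
    (ht : t ∈ TransvectionCentre.shear G c) (ht1 : t ≠ 1)
    (hs : s ∈ TransvectionCentre.shear G c) : ∃ j : ℤ, t ^ j = s := by
  obtain ⟨d, hd⟩ := exists_not_mem_line hA hexp c
  obtain ⟨n, hn⟩ := TransvectionCentre.exists_zpow hs d
  obtain ⟨j, hj⟩ := exists_shear_shift hA hexp hc hd ht ht1 n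
  exact ⟨j, plane_ext hA hexp hc hd (by rw [(zpow_mem ht j).2.1, hs.2.1]) (hj.trans hn.symm)⟩

/-- A diagonal automorphism conjugates shears to their powers. -/
theorem diag_conj {G : Subgroup (MulAut A)} {s h : MulAut A} {c d : A} (hc : c ≠ 1)
    (hd : d ∉ Subgroup.zpowers c) (hs : s ∈ TransvectionCentre.shear G c) {a b b' : ℤ}
    (hb : (p : ℤ) ∣ b * b' - 1) (hhc : h c = c ^ a) (hhd : h d = d ^ b) :
    h * s * h⁻¹ = s ^ (a * b') := by
  rw [mul_inv_eq_iff_eq_mul]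
  obtain ⟨n, hn⟩ := TransvectionCentre.exists_zpow hs d
  refine plane_ext hA hexp hc hd ?_ ?_
  · rw [MulAut.mul_apply, hs.2.1, MulAut.mul_apply, hhc, map_zpow, (zpow_mem hs _).2.1]
  · rw [MulAut.mul_apply, hn, map_mul, map_zpow, hhc, hhd, MulAut.mul_apply, hhd, map_zpow,
      zpow_apply_of_fix s (by rw [map_zpow, hs.2.1]) hn, mul_zpow, ← zpow_mul, ← zpow_mul,
      ← zpow_mul]
    congr 1
    refine zpow_congr (hexp c) ?_
    rw [show a * n - n * (a * b' * b) = (b * b' - 1) * (-(a * n)) by ring]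
    exact dvd_mul_of_dvd_left hb _

theorem diag_pow_prime {h : MulAut A} {c d : A} (hc : c ≠ 1) (hd : d ∉ Subgroup.zpowers c)
    {a b : ℤ} (hhc : h c = c ^ a) (hhd : h d = d ^ b) : h ^ p = h := by
  have key : ∀ (x : A) (e : ℤ), h x = x ^ e → ∀ n : ℕ, (h ^ n) x = x ^ e ^ n := by
    intro x e hx n
    induction n with
    | zero => simp
    | succ n ih => rw [pow_succ, MulAut.mul_apply, hx, map_zpow, ih, ← zpow_mul, pow_succ]
  have hfer : ∀ e : ℤ, (p : ℤ) ∣ e ^ p - e := fun e => by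
    rw [← ZMod.intCast_zmod_eq_zero_iff_dvd]
    push_cast
    rw [ZMod.pow_card, sub_self]
  refine plane_ext hA hexp hc hd ?_ ?_
  · rw [key c a hhc p, hhc]; exact zpow_congr (hexp c) (hfer a)
  · rw [key d b hhd p, hhd]; exact zpow_congr (hexp d) (hfer b)

/-- Two shears with independent centres give every diagonal automorphism of determinant one. -/
theorem exists_diag {G : Subgroup (MulAut A)} {t f : MulAut A} {c : A} (hc : c ≠ 1)
    (ht : t ∈ TransvectionCentre.shear G c) (ht1 : t ≠ 1) (hf : f ∈ G)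
    (hfc : f c ∉ Subgroup.zpowers c) {a b : ℤ} (hab : (p : ℤ) ∣ a * b - 1) :
    ∃ h ∈ G, h c = c ^ a ∧ h (f c) = f c ^ b := by
  set d := f c
  have hd1 : d ≠ 1 := fun h => hfc (h ▸ one_mem _)
  have hcd : c ∉ Subgroup.zpowers d := fun h =>
    hfc (TransvectionCentre.mem_zpowers_swap (orderOf_eq_prime (hexp d) hd1) h hc)
  have hu := TransvectionCentre.conj_shear ht hf
  have hu1 : f * t * f⁻¹ ≠ 1 := fun h => ht1 (conj_eq_one_iff.1 h)
  have hU : ∀ i : ℤ, ∃ U ∈ G, U c = c ∧ U d = d * c ^ i := fun i => by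
    obtain ⟨j, hj⟩ := exists_shear_shift hA hexp hc hfc ht ht1 i
    exact ⟨t ^ j, (zpow_mem ht j).1, (zpow_mem ht j).2.1, hj⟩
  have hL : ∀ i : ℤ, ∃ L ∈ G, L d = d ∧ L c = c * d ^ i := fun i => by
    obtain ⟨j, hj⟩ := exists_shear_shift hA hexp hd1 hcd hu hu1 i
    exact ⟨(f * t * f⁻¹) ^ j, (zpow_mem hu j).1, (zpow_mem hu j).2.1, hj⟩
  have hW : ∀ a b : ℤ, (p : ℤ) ∣ a * b - 1 → ∃ W ∈ G, W c = d ^ (-b) ∧ W d = c ^ a := by
    intro a b hab
    obtain ⟨U, hUG, hUc, hUd⟩ := hU a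
    obtain ⟨L, hLG, hLd, hLc⟩ := hL (-b)
    refine ⟨U * L * U, mul_mem (mul_mem hUG hLG) hUG, ?_, ?_⟩
    · rw [MulAut.mul_apply, MulAut.mul_apply, hUc, hLc, map_mul, map_zpow, hUc, hUd, mul_zpow,
        ← zpow_mul, mul_left_comm, ← zpow_one_add, zpow_congr (hexp c) (i := 1 + a * -b) (j := 0) ?_,
        zpow_zero, mul_one]
      rw [show (1 + a * -b - 0 : ℤ) = -(a * b - 1) by ring]
      exact dvd_neg.2 hab
    · rw [MulAut.mul_apply, MulAut.mul_apply, hUd, map_mul, map_zpow, hLd, hLc, mul_zpow,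
        ← zpow_mul, mul_left_comm, ← zpow_one_add, zpow_congr (hexp d) (i := 1 + -b * a) (j := 0) ?_,
        zpow_zero, mul_one, map_zpow, hUc]
      rw [show (1 + -b * a - 0 : ℤ) = -(a * b - 1) by ring]
      exact dvd_neg.2 hab
  obtain ⟨V, hVG, hVc, hVd⟩ := hW a b hab
  obtain ⟨W, hWG, hWc, hWd⟩ := hW (-1) (-1) (by simp)
  refine ⟨V * W, mul_mem hVG hWG, ?_, ?_⟩
  · rw [MulAut.mul_apply, hWc, map_zpow, hVd, ← zpow_mul]; simp
  · rw [MulAut.mul_apply, hWd, map_zpow, hVc, ← zpow_mul]; simp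

end plane

end CfsgLib.Fusion
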