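import Cfsg.Prelude.Def_PLocal
import Cfsg.Agent.Fusion.NormalCriteria
import Cfsg.Agent.CharP.LargestPReduced

/-!
Bounded class: the `p^n`-th powers of the centre form a normal subgroup of a saturated system, and
a bound on the exponent when the largest normal subgroup is trivial.
-/

set_option autoImplicit false

open Cfsg Cfsg.FusionSystem
open scoped commutatorElement

namespace CfsgLib.Fusion.PowerCenter

universe u

/-- `p^n d = 0` when `(1+d)^p = 1` and `d^(n(p-1)+1) = 0`, in a commutative ring. -/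
theorem pow_kill_comm {R : Type*} [CommRing R] {p : ℕ} (hp : p.Prime) (n : ℕ) (d : R)
    (h1 : (1 + d) ^ p = 1) (h2 : d ^ (n * (p - 1) + 1) = 0) : (p : R) ^ n * d = 0 := by
  obtain ⟨r, hr, hr1⟩ : ∃ r r' : R, (1 + d) ^ p = 1 + d ^ p + p * d * r ∧ r = 1 + d * r' := by
    have hsum := add_pow_prime_eq hp d (1 : R)
    simp only [one_pow, mul_one] at hsum
    rw [← Finset.add_sum_erase _ _ (Finset.mem_Ioo.2 ⟨Nat.one_pos, hp.one_lt⟩ :
      1 ∈ Finset.Ioo 0 p)] at hsum
    simp only [Nat.sub_self, pow_zero, one_mul, Nat.choose_one_right,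
      Nat.div_self hp.pos, Nat.cast_one] at hsum
    refine ⟨1 + ∑ k ∈ (Finset.Ioo 0 p).erase 1, d ^ (k - 1) * ((p.choose k / p : ℕ) : R),
      ∑ k ∈ (Finset.Ioo 0 p).erase 1, d ^ (k - 2) * ((p.choose k / p : ℕ) : R),
      by rw [add_comm 1 d, hsum]; ring, ?_⟩
    rw [Finset.mul_sum]
    congr 1
    refine Finset.sum_congr rfl fun k hk => ?_
    obtain ⟨hk1, hk2⟩ := Finset.mem_erase.1 hk
    have := (Finset.mem_Ioo.1 hk2).1
    rw [show k - 1 = (k - 2) + 1 by omega, pow_succ']
    ring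
  obtain ⟨hexp, rfl⟩ := hr1
  have hd : d ^ p = -((p : R) * d * (1 + d * hr)) := by
    rw [hexp] at h1
    linear_combination h1
  have key : ∀ j : ℕ, d ^ (j * (p - 1) + 1) = (-(p : R)) ^ j * (1 + d * hr) ^ j * d := by
    intro j
    induction j with
    | zero => simp
    | succ j ih =>
      have hpp : (p - 1) + 1 = p := Nat.sub_add_cancel hp.one_le
      rw [show (j + 1) * (p - 1) + 1 = (j * (p - 1) + 1) + (p - 1) by ring, pow_add, ih,
        mul_assoc _ d, ← pow_succ', hpp, hd]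
      ring
  have hu : IsUnit (1 + d * hr) := IsNilpotent.isUnit_one_add
    ((Commute.all d hr).isNilpotent_mul_right ⟨_, h2⟩)
  have h3 := key n
  rw [h2, neg_eq_neg_one_mul (p : R), mul_pow] at h3
  have h4 : ((-1 : R) ^ n * (1 + d * hr) ^ n) * ((p : R) ^ n * d) = 0 := by
    linear_combination -h3
  exact ((IsUnit.mul_right_eq_zero ((isUnit_one.neg.pow n).mul (hu.pow n))).1 h4)

/-- The same in any ring. -/
theorem pow_kill {R : Type*} [Ring R] {p : ℕ} (hp : p.Prime) (n : ℕ) (d : R)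
    (h1 : (1 + d) ^ p = 1) (h2 : d ^ (n * (p - 1) + 1) = 0) : (p : R) ^ n * d = 0 := by
  let f : Polynomial ℤ →+* R := (Polynomial.aeval d).toRingHom
  let g := RingHom.kerLift f
  let x : Polynomial ℤ ⧸ RingHom.ker f := Ideal.Quotient.mk _ Polynomial.X
  have hg : g x = d := (RingHom.kerLift_mk f Polynomial.X).trans (Polynomial.aeval_X d)
  have hinj := RingHom.kerLift_injective f
  have h := pow_kill_comm hp n x
    (hinj (by simp only [map_pow, map_add, map_one]; rw [hg]; exact h1))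
    (hinj (by simp only [map_pow, map_zero]; rw [hg]; exact h2))
  have h' := congrArg g h
  simp only [map_mul, map_pow, map_natCast, map_zero] at h'
  rwa [hg] at h'

variable {Ω : Type u} [Group Ω] {S : Subgroup Ω}

/-- An element of `S` normalizing an abelian `V ≤ S` with `p`-th power centralizing it fixes its
`p^n`-th powers. -/
theorem conj_pow_eq {p : ℕ} [Fact p.Prime] {n : ℕ}
    (hcl : Subgroup.lowerCentralSeries S (n * (p - 1) + 1) = ⊥) {V : Subgroup Ω} (hVS : V ≤ S)
    (hV : ∀ a ∈ V, ∀ b ∈ V, a * b = b * a) {g : Ω} (hg : g ∈ S)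
    (hgV : ∀ v ∈ V, g * v * g⁻¹ ∈ V) (hgp : ∀ v ∈ V, g ^ p * v * (g ^ p)⁻¹ = v)
    {v : Ω} (hv : v ∈ V) : g * v ^ p ^ n * g⁻¹ = v ^ p ^ n := by
  letI : CommGroup V := { (inferInstance : Group V) with
    mul_comm := fun a b => Subtype.ext (hV a a.2 b b.2) }
  let τ : AddMonoid.End (Additive V) :=
    MonoidHom.toAdditive (MonoidHom.mk' (fun w : V => (⟨_, hgV w w.2⟩ : V)) fun a b =>
      Subtype.ext (by simp [mul_assoc]))
  let d : AddMonoid.End (Additive V) := τ - 1
  have hτ : ∀ (i : ℕ) (w : V), (((τ ^ i) (Additive.ofMul w)).toMul : Ω) =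
      g ^ i * w * (g ^ i)⁻¹ := by
    intro i
    induction i with
    | zero => intro w; simp
    | succ i ih =>
      intro w
      rw [pow_succ' τ i, AddMonoid.End.coe_mul, Function.comp_apply]
      show g * (((τ ^ i) (Additive.ofMul w)).toMul : Ω) * g⁻¹ = _
      rw [ih, pow_succ']
      group
  have hd : ∀ (i : ℕ) (w : V), (((d ^ i) (Additive.ofMul w)).toMul : Ω) ∈
      Subgroup.lowerCentralSeries S i := by
    intro i
    induction i with
    | zero => intro w; exact hVS w.2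
    | succ i ih =>
      intro w
      rw [pow_succ' d i, AddMonoid.End.coe_mul, Function.comp_apply]
      have h1 := ih w
      generalize (d ^ i) (Additive.ofMul w) = y at h1 ⊢
      show g * (y.toMul : Ω) * g⁻¹ / (y.toMul : Ω) ∈ _
      rw [Subgroup.lowerCentralSeries_succ, div_eq_mul_inv, ← commutatorElement_def,
        Subgroup.commutator_comm]
      exact Subgroup.commutator_mem_commutator hg h1
  have h1 : (1 + d) ^ p = 1 := by
    refine AddMonoidHom.ext fun w => Additive.toMul.injective (Subtype.ext ?_)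
    rw [show (1 : AddMonoid.End (Additive V)) + d = τ from add_sub_cancel 1 τ]
    exact (hτ p w.toMul).trans (hgp _ w.toMul.2)
  have h2 : d ^ (n * (p - 1) + 1) = 0 := by
    refine AddMonoidHom.ext fun w => Additive.toMul.injective (Subtype.ext ?_)
    have := hd (n * (p - 1) + 1) w.toMul
    rw [hcl, Subgroup.mem_bot] at this
    exact this
  have h3 := congrArg (fun e : AddMonoid.End (Additive V) => e (Additive.ofMul ⟨v, hv⟩))
    (pow_kill (Fact.out : p.Prime) n d h1 h2)
  have h4 : ((p ^ n) • d (Additive.ofMul (⟨v, hv⟩ : V))) = 0 := by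
    rw [← Nat.cast_pow] at h3
    exact h3
  have h5 : (g * v * g⁻¹ / v) ^ p ^ n = 1 := congrArg (fun y => ((y.toMul : V) : Ω)) h4
  have hc : Commute (g * v * g⁻¹) v⁻¹ := hV _ (hgV v hv) _ (inv_mem hv)
  rw [div_eq_mul_inv, hc.mul_pow, inv_pow, mul_inv_eq_one, conj_pow] at h5
  exact h5

variable [Finite S] {F : FusionSystem S}

/-- Every map on a centric subgroup preserves the powers of the centre. -/
theorem apply_mem (p : ℕ) [Fact p.Prime] (hS : IsPGroup p S) (hF : F.IsSaturated p) (n : ℕ)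
    (hcl : Subgroup.lowerCentralSeries S (n * (p - 1) + 1) = ⊥) :
    ∀ {P : Subgroup Ω}, F.IsCentric P → ∀ {φ : P →* Ω}, φ ∈ F.Hom P → ∀ x : P,
      (x : Ω) ∈ powerClosure p n (S ⊓ Subgroup.centralizer (S : Set Ω)) →
        φ x ∈ powerClosure p n (S ⊓ Subgroup.centralizer (S : Set Ω)) := by
  intro P hP
  induction hk : Nat.card S - Nat.card P using Nat.strong_induction_on generalizing P with
  | _ k ih =>
  intro φ hφ
  let Z := S ⊓ Subgroup.centralizer (S : Set Ω)
  have hZmem : ∀ {X : Subgroup Ω}, F.IsCentric X → Z ≤ X := fun hX z hz =>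
    centralizer_mem_of_centric hX hz.1 fun y hy =>
      Subgroup.mem_centralizer_iff.1 hz.2 y (hX.1 hy)
  suffices key : ∀ x : P, (∃ z ∈ Z, (x : Ω) = z ^ p ^ n) → φ x ∈ powerClosure p n Z by
    intro x hx
    have hle : powerClosure p n Z ≤ ((powerClosure p n Z).comap φ).map P.subtype := by
      refine (Subgroup.closure_le _).2 ?_
      rintro _ ⟨z, hz, rfl⟩
      exact ⟨⟨z ^ p ^ n, pow_mem (hZmem hP hz) _⟩, key _ ⟨z, hz, rfl⟩, rfl⟩
    obtain ⟨y, hy, hyx⟩ := hle hx
    rwa [show x = y from Subtype.ext hyx.symm]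
  rintro x ⟨z, hz, hx⟩
  by_cases hPS : P = S
  · subst hPS
    rw [show x = (⟨z, hz.1⟩ : P) ^ p ^ n from Subtype.ext (by simpa using hx), map_pow]
    refine Subgroup.subset_closure ⟨_, ⟨apply_mem_S hφ _, ?_⟩, rfl⟩
    refine Subgroup.mem_centralizer_iff.2 fun s hs => ?_
    obtain ⟨y, rfl⟩ := (range_eq_S hφ).ge hs
    rw [← map_mul, ← map_mul]
    exact congrArg φ (Subtype.ext (Subgroup.mem_centralizer_iff.1 hz.2 y y.2))
  -- maps defined on larger subgroups
  have hbig : ∀ {M : Subgroup Ω}, F.IsCentric M → Nat.card P < Nat.card M →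
      ∀ {ψ : M →* Ω}, ψ ∈ F.Hom M → ∀ y : M, (y : Ω) ∈ powerClosure p n Z →
        ψ y ∈ powerClosure p n Z := by
    intro M hM hlt
    have := card_le_of_le le_rfl hM.1
    exact fun {ψ} => ih _ (by omega) hM rfl (φ := ψ)
  obtain ⟨R, hPR, hfn⟩ := exists_fullyNormalized F hP.1
  have hR := isCentric_of_isConj hP hPR
  obtain ⟨hfa, hrec⟩ := good_of_fullyNormalized p hS hF hfn
  have hgrow : ∀ {X : Subgroup Ω}, F.IsConj X R → Nat.card P < Nat.card (normalizerIn S X) := by
    intro X hX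
    have hXS := IsConj.le_left hX
    have hc : Nat.card X = Nat.card P := (IsConj.card_eq hX).symm.trans (IsConj.card_eq hPR)
    have hne : X < S := lt_of_le_of_ne hXS fun he => hPS (eq_of_le_of_card_le le_rfl hP.1
      (by rw [← hc, he]))
    rw [← hc]
    have hlt := lt_normalizerIn p hS le_rfl hne
    exact lt_of_le_of_ne (card_le_of_le (normalizerIn_le_S X) hlt.le) fun he =>
      hlt.ne (eq_of_le_of_card_le (normalizerIn_le_S X) hlt.le he.ge)
  have hPS' := hP.1
  have hRS := hR.1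
  have hrg : F.IsConj φ.range R := isConj_trans (isConj_symm ⟨φ, hφ, rfl⟩) hPR
  obtain ⟨ψ, hψ, -, hψP⟩ := exists_map_normalizer p hS hfa hrec hPR
  obtain ⟨χ, hχ, -, hχP⟩ := exists_map_normalizer p hS hfa hrec hrg
  obtain ⟨ψ', hψ', hψ'r, hψ'1, -⟩ := exists_inv hψ rfl
  obtain ⟨χ', hχ', hχ'r, hχ'1, -⟩ := exists_inv hχ rfl
  have hcN : ∀ {X : Subgroup Ω}, F.IsConj X R → F.IsCentric (normalizerIn S X) := fun hX =>
    isCentric_mono (isCentric_of_isConj hR (isConj_symm hX)) (le_normalizerIn (IsConj.le_left hX))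
      (normalizerIn_le_S _)
  -- the automorphism of `R`
  have hm1 : ∀ y : R, (y : Ω) ∈ ψ.range := fun y =>
    (Subgroup.map_le_range _ _) (hψP.ge y.2)
  have hm2 : ∀ y : R, ψ' ⟨y, hm1 y⟩ ∈ P := fun y => by
    obtain ⟨w, hw, hwP, e⟩ := mem_map_subgroupOf.1 (hψP.ge y.2)
    rw [show ψ' ⟨y, hm1 y⟩ = w from (apply_congr ψ' e.symm).trans (hψ'1 ⟨w, hw⟩ ⟨_, rfl⟩)]
    exact hwP
  let a₀ : R →* Ω := χ.comp (((φ.comp (((ψ'.comp (Subgroup.inclusion
    (show R ≤ ψ.range from fun y hy => hm1 ⟨y, hy⟩)))).codRestrict P hm2))).codRestrict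
      (normalizerIn S φ.range) fun y => le_normalizerIn (range_le_S hφ) ⟨_, rfl⟩)
  have ha₀ : a₀ ∈ F.Hom R :=
    F.comp_mem (F.comp_mem (restrict_mem hψ' (fun y hy => hm1 ⟨y, hy⟩)) hφ hm2) hχ _
  have ha₀r : ∀ y, a₀ y ∈ R := fun y => hχP.le
    (mem_map_subgroupOf.2 ⟨_, le_normalizerIn (range_le_S hφ) ⟨_, rfl⟩, ⟨_, rfl⟩, rfl⟩)
  have ha₀R : a₀.range = R := by
    have := finite_of_le hRS
    refine eq_of_le_of_card_le hRS ?_ (card_range ha₀).ge
    rintro _ ⟨y, rfl⟩
    exact ha₀r y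
  -- `ψ` carries `x` into the powers of the centre
  have hxN : (x : Ω) ∈ normalizerIn S P := le_normalizerIn hP.1 x.2
  have hx₁ : ψ ⟨x, hxN⟩ ∈ powerClosure p n Z :=
    hbig (hcN hPR) (hgrow hPR) hψ ⟨x, hxN⟩ (Subgroup.subset_closure ⟨z, hz, hx⟩)
  have hx₁R : ψ ⟨x, hxN⟩ ∈ R := hψP.le (mem_map_subgroupOf.2 ⟨x, hxN, x.2, rfl⟩)
  suffices haut : ∀ a ∈ F.autGroup R, ∀ y : R, (y : Ω) ∈ powerClosure p n Z →
      ((a y : R) : Ω) ∈ powerClosure p n Z by
    have h1 := haut _ (autOfRange_mem ha₀ ha₀R) ⟨_, hx₁R⟩ hx₁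
    have hφx : φ x ∈ normalizerIn S φ.range := le_normalizerIn (range_le_S hφ) ⟨x, rfl⟩
    have e1 : ((autOfRange a₀ (F.injective_of_mem ha₀) ha₀R ⟨_, hx₁R⟩ : R) : Ω) =
        χ ⟨φ x, hφx⟩ := by
      rw [coe_autOfRange]
      refine apply_congr χ (apply_congr φ ?_)
      exact hψ'1 ⟨x, hxN⟩ ⟨_, rfl⟩
    rw [e1] at h1
    have h2 := hbig (M := χ.range)
      (isCentric_of_isConj (hcN hrg) ⟨χ, hχ, rfl⟩)
      (by rw [card_range hχ]; exact hgrow hrg) hχ' ⟨_, ⟨⟨φ x, hφx⟩, rfl⟩⟩ h1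
    rwa [hχ'1 ⟨φ x, hφx⟩ ⟨_, rfl⟩] at h2
  intro a ha
  let V := R ⊓ Subgroup.centralizer (R : Set Ω)
  have hVab : ∀ u ∈ V, ∀ w ∈ V, u * w = w * u := fun u hu w hw =>
    Subgroup.mem_centralizer_iff.1 hw.2 u hu.1
  have hautV : ∀ b : MulAut R, ∀ v : R, (v : Ω) ∈ V → ((b v : R) : Ω) ∈ V := by
    intro b v hv
    refine ⟨(b v).2, Subgroup.mem_centralizer_iff.2 fun w hw => ?_⟩
    have := congrArg (fun t : R => ((b t : R) : Ω)) (Subtype.ext (a1 := v * b⁻¹ ⟨w, hw⟩)
      (a2 := b⁻¹ ⟨w, hw⟩ * v) (Subgroup.mem_centralizer_iff.1 hv.2 _ (b⁻¹ ⟨w, hw⟩).2).symm)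
    simp only [map_mul, MulAut.apply_inv_self, Subgroup.coe_mul] at this
    exact this.symm
  -- the fixers of the powers of `V`
  let K : Subgroup (F.autGroup R) :=
    { carrier := {b | ∀ v : R, (v : Ω) ∈ V → (b : MulAut R) (v ^ p ^ n) = v ^ p ^ n}
      one_mem' := fun v _ => rfl
      mul_mem' := fun {b c} hb hc v hv => by
        show (b : MulAut R) ((c : MulAut R) _) = _
        rw [hc v hv, hb v hv]
      inv_mem' := fun {b} hb v hv => by
        show (b : MulAut R)⁻¹ _ = _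
        conv_lhs => rw [← hb v hv]
        exact MulAut.inv_apply_self R b _ }
  have hKn : K.Normal := ⟨fun b hb c v hv => by
    show (c : MulAut R) ((b : MulAut R) ((c : MulAut R)⁻¹ _)) = _
    rw [map_pow, hb _ (hautV _ v hv), ← map_pow, MulAut.apply_inv_self]⟩
  -- the Sylow subgroup meets `K` outside the inner automorphisms
  obtain ⟨g, hgN, hgR, hgp⟩ : ∃ g ∈ normalizerIn S R, g ∉ R ∧
      ∀ v ∈ V, g ^ p * v * (g ^ p)⁻¹ = v := by
    obtain ⟨g, hgN, hgR⟩ := SetLike.exists_of_lt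
      (lt_normalizerIn p hS le_rfl (lt_of_le_of_ne hRS fun he => hPS
        (eq_of_le_of_card_le le_rfl hP.1 (by rw [← IsConj.card_eq hPR, he]))) : R < normalizerIn S R)
    obtain ⟨e, he⟩ := hS ⟨g, normalizerIn_le_S R hgN⟩
    have hex : ∃ j, ∀ v ∈ V, g ^ p ^ j * v * (g ^ p ^ j)⁻¹ = v := ⟨e, fun v _ => by
      rw [show g ^ p ^ e = 1 from congrArg Subtype.val he]; simp⟩
    classical
    rcases hj : Nat.find hex with _ | j
    · refine ⟨g, hgN, hgR, fun v hv => ?_⟩
      have h0 := Nat.find_spec hex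
      rw [hj, pow_zero, pow_one] at h0
      have hc : Commute g v := (mul_inv_eq_iff_eq_mul.1 (h0 v hv))
      rw [(hc.pow_left p).eq, mul_inv_cancel_right]
    · refine ⟨g ^ p ^ j, pow_mem hgN _, fun hR' => ?_, fun v hv => ?_⟩
      · refine Nat.find_min hex (m := j) (by omega) fun v hv => ?_
        rw [Subgroup.mem_centralizer_iff.1 hv.2 _ hR', mul_inv_cancel_right]
      · have h0 := Nat.find_spec hex
        rw [hj, pow_succ, pow_mul] at h0
        exact h0 v hv
  have := finite_of_le hRS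
  have : Finite (MulAut R) := finite_mulAut
  obtain ⟨T, hT⟩ := hfa.2
  let U : Subgroup (F.autGroup R) := (T : Subgroup (F.autGroup R)) ⊓ K
  let cj : ↥(S ⊓ Subgroup.normalizer (R : Set Ω)) → F.autGroup R := fun s =>
    ⟨conjAut S R s, autInducedBy_le_autGroup hRS (mem_autInducedBy.2 ⟨s, s.2.1, fun _ => rfl⟩)⟩
  have hcjT : ∀ s, cj s ∈ (T : Subgroup (F.autGroup R)) := fun s => by
    rw [hT]
    exact mem_autInducedBy.2 ⟨s, s.2.1, fun _ => rfl⟩
  let W : Subgroup Ω := Subgroup.map (Subgroup.subtype _)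
    { carrier := {s : ↥(S ⊓ Subgroup.normalizer (R : Set Ω)) | cj s ∈ K}
      one_mem' := by
        show cj 1 ∈ K
        rw [show cj 1 = 1 from Subtype.ext (map_one _)]
        exact one_mem K
      mul_mem' := fun {s t} hs ht => by
        show cj (s * t) ∈ K
        rw [show cj (s * t) = cj s * cj t from Subtype.ext (map_mul _ _ _)]
        exact mul_mem hs ht
      inv_mem' := fun {s} hs => by
        show cj s⁻¹ ∈ K
        rw [show cj s⁻¹ = (cj s)⁻¹ from Subtype.ext (map_inv _ _)]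
        exact inv_mem hs }
  have hRW : R ≤ W := fun r hr => by
    refine ⟨⟨r, hRS hr, Subgroup.le_normalizer hr⟩, fun v hv => Subtype.ext ?_, rfl⟩
    show r * ((v ^ p ^ n : R) : Ω) * r⁻¹ = _
    rw [Subgroup.coe_pow,
      Subgroup.mem_centralizer_iff.1 (pow_mem hv (p ^ n) : (v : Ω) ^ p ^ n ∈ V).2 r hr,
      mul_inv_cancel_right]
  have hgW : g ∈ W := by
    refine ⟨⟨g, hgN⟩, fun v hv => Subtype.ext ?_, rfl⟩
    show g * ((v ^ p ^ n : R) : Ω) * g⁻¹ = _
    rw [Subgroup.coe_pow]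
    refine conj_pow_eq hcl (inf_le_left.trans hRS) hVab (normalizerIn_le_S R hgN) ?_ hgp hv
    intro w hw
    exact hautV (conjAut S R ⟨g, hgN⟩) ⟨w, hw.1⟩ hw
  have hWS : W ≤ S := fun w ⟨s, _, e⟩ => e ▸ s.2.1
  have hRW' : Nat.card R < Nat.card W :=
    lt_of_le_of_ne (card_le_of_le hWS hRW) fun he =>
      hgR ((eq_of_le_of_card_le hWS hRW he.ge).ge hgW)
  -- the Frattini decomposition
  have hsup : Subgroup.normalizer (U : Set (F.autGroup R)) ⊔ K = ⊤ :=
    CfsgLib.CharP.normalizer_inf_sup T K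
  obtain ⟨k, hk, b, hb, hkb⟩ := (Subgroup.mem_sup_of_normal_left (s := K)
    (t := Subgroup.normalizer (U : Set (F.autGroup R))) (x := (⟨a, ha⟩ : F.autGroup R))).1
      (by rw [sup_comm, hsup]; trivial)
  intro y hy
  have hbe : ∃ ψ₁ ∈ F.Hom W, ∀ (w : R) (hw : (w : Ω) ∈ W),
      ψ₁ ⟨w, hw⟩ = (((b : MulAut R) w : R) : Ω) := by
    have hb' := (autGroup_carrier hRS).1 b.2
    have hr := range_subtype_comp (b : MulAut R)
    obtain ⟨ψ₁, hψ₁, he⟩ := hrec.2 R _ hb' hr
    have hWe : W ≤ extender S R (R.subtype.comp (b : MulAut R).toMonoidHom) := by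
      rintro _ ⟨s, hs, rfl⟩
      have hU : cj s ∈ U := ⟨hcjT s, hs⟩
      obtain ⟨hT', -⟩ := (Subgroup.mem_normalizer_iff.1 hb _).1 hU
      rw [hT] at hT'
      obtain ⟨t, ht, hte⟩ := mem_autInducedBy.1 hT'
      refine mem_extender_of s.2 ht fun w hw => ?_
      have := hte ((b : MulAut R) w)
      simp only [Subgroup.coe_mul, Subgroup.coe_inv, Subgroup.coe_subtype, MulAut.mul_apply,
        MulAut.inv_apply_self] at this
      exact this
    exact ⟨ψ₁.comp (Subgroup.inclusion hWe), restrict_mem hψ₁ hWe,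
      fun w hw => he w w.2 (hWe hw)⟩
  obtain ⟨ψ₁, hψ₁, hψ₁e⟩ := hbe
  have hby : (((b : MulAut R) y : R) : Ω) ∈ powerClosure p n Z := by
    rw [← hψ₁e y (hRW y.2)]
    refine hbig (isCentric_mono hR hRW hWS) ?_ hψ₁ ⟨y, hRW y.2⟩ hy
    rwa [← IsConj.card_eq hPR]
  have hfix : powerClosure p n Z ≤ ({ carrier := {w | ∃ hw : w ∈ R,
      ((k : MulAut R) ⟨w, hw⟩ : R) = ⟨w, hw⟩}
                                      one_mem' := ⟨one_mem _, map_one _⟩
                                      mul_mem' := by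
                                        rintro u w ⟨hu, hu'⟩ ⟨hw, hw'⟩
                                        refine ⟨mul_mem hu hw, ?_⟩
                                        rw [show (⟨u * w, mul_mem hu hw⟩ : R) = ⟨u, hu⟩ * ⟨w, hw⟩
                                          from rfl, map_mul, hu', hw']
                                      inv_mem' := by
                                        rintro u ⟨hu, hu'⟩
                                        refine ⟨inv_mem hu, ?_⟩
                                        rw [show (⟨u⁻¹, inv_mem hu⟩ : R) = ⟨u, hu⟩⁻¹ from rfl,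
                                          map_inv, hu'] } : Subgroup Ω) := by
    refine (Subgroup.closure_le _).2 ?_
    rintro _ ⟨w, hw, rfl⟩
    have hwV : w ∈ V := ⟨hZmem hR hw, Subgroup.mem_centralizer_iff.2 fun r hr =>
      Subgroup.mem_centralizer_iff.1 hw.2 r (hRS hr)⟩
    exact ⟨pow_mem hwV.1 _, hk ⟨w, hwV.1⟩ hwV⟩
  obtain ⟨h1, h2⟩ := hfix hby
  rw [show a = (k : MulAut R) * (b : MulAut R) from (congrArg Subtype.val hkb).symm,
    MulAut.mul_apply, show ((k : MulAut R) ((b : MulAut R) y)) = (b : MulAut R) y from h2]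
  exact hby

/-- The powers of the centre form a normal subgroup. -/
theorem isNormal (p : ℕ) [Fact p.Prime] (hS : IsPGroup p S) (hF : F.IsSaturated p) (n : ℕ)
    (hcl : Subgroup.lowerCentralSeries S (n * (p - 1) + 1) = ⊥) :
    F.IsNormal (powerClosure p n (S ⊓ Subgroup.centralizer (S : Set Ω))) := by
  have hc : ∀ {P : Subgroup Ω}, P = S ∨ F.IsEssential p P → F.IsCentric P := by
    rintro P (rfl | hP)
    exacts [isCentric_S, hP.1]
  refine isNormal_of_essential p hS hF (fun P hP => ?_) fun P hP α hα x hx => ?_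
  · refine (Subgroup.closure_le _).2 ?_
    rintro _ ⟨z, hz, rfl⟩
    exact pow_mem (centralizer_mem_of_centric (hc hP) hz.1 fun y hy =>
      Subgroup.mem_centralizer_iff.1 hz.2 y ((hc hP).1 hy)) _
  · exact apply_mem p hS hF n hcl (hc hP) ((autGroup_carrier (hc hP).1).1 hα) x hx

/-- The exponent bound for a trivial largest normal subgroup. -/
theorem exponent_dvd (p : ℕ) [Fact p.Prime] (hS : IsPGroup p S) (hF : F.IsSaturated p) (n : ℕ)
    (hcl : Subgroup.lowerCentralSeries S (n * (p - 1) + 1) = ⊥) (hcore : F.core = ⊥) :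
    Monoid.exponent S ∣ p ^ (n ^ 2 * (p - 1) + n) := by
  have hnil := hS.isNilpotent
  have hZ : ∀ x : S, x ∈ Subgroup.center S → x ^ p ^ n = 1 := by
    intro x hx
    refine Subtype.ext (Subgroup.mem_bot.1 (hcore ▸ le_core (isNormal p hS hF n hcl) ?_))
    refine Subgroup.subset_closure ⟨x, ⟨x.2, ?_⟩, rfl⟩
    exact Subgroup.mem_centralizer_iff.2 fun s hs =>
      congrArg Subtype.val (Subgroup.mem_center_iff.1 hx ⟨s, hs⟩)
  have hstep : ∀ i, ∀ x ∈ Subgroup.upperCentralSeries S (i + 1),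
      x ^ p ^ n ∈ Subgroup.upperCentralSeries S i := by
    intro i
    induction i with
    | zero =>
      intro x hx
      rw [Subgroup.upperCentralSeries_one] at hx
      rw [Subgroup.upperCentralSeries_zero, Subgroup.mem_bot]
      exact hZ x hx
    | succ i ih =>
      intro x hx
      rw [Subgroup.mem_upperCentralSeries_succ_iff] at hx ⊢
      intro y
      have hu := hx y
      let π := QuotientGroup.mk' (Subgroup.upperCentralSeries S i)
      have hcen : ∀ w, π w * π ⁅x, y⁆ = π ⁅x, y⁆ * π w := by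
        intro w
        refine (commutatorElement_eq_one_iff_mul_comm.1 ?_).symm
        rw [← map_commutatorElement]
        rw [Subgroup.mem_upperCentralSeries_succ_iff] at hu
        exact (QuotientGroup.eq_one_iff _).2 (hu w)
      have hc1 : π y * π x * (π y)⁻¹ = (π ⁅x, y⁆)⁻¹ * π x := by
        simp [commutatorElement_def, mul_assoc]
      have hc2 : π y * π (x ^ p ^ n) * (π y)⁻¹ = (π (⁅x, y⁆ ^ p ^ n))⁻¹ * π (x ^ p ^ n) := by
        rw [map_pow, map_pow, ← conj_pow, hc1, Commute.mul_pow (Commute.inv_left (hcen x).symm), inv_pow]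
      have h0 : π (⁅x, y⁆ ^ p ^ n) = 1 := (QuotientGroup.eq_one_iff _).2 (ih _ hu)
      rw [h0, inv_one, one_mul] at hc2
      refine (QuotientGroup.eq_one_iff _).1 ?_
      show π ⁅x ^ p ^ n, y⁆ = 1
      rw [map_commutatorElement, commutatorElement_eq_one_iff_mul_comm]
      exact (mul_inv_eq_iff_eq_mul.1 hc2).symm
  have hall : ∀ i, ∀ x ∈ Subgroup.upperCentralSeries S i, x ^ (p ^ n) ^ i = 1 := by
    intro i
    induction i with
    | zero => intro x hx; simpa using hx
    | succ i ih =>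
      intro x hx
      rw [pow_succ', pow_mul]
      exact ih _ (hstep i x hx)
  have htop : Subgroup.upperCentralSeries S (n * (p - 1) + 1) = ⊤ := by
    apply Subgroup.upperCentralSeries_eq_top_iff_nilpotencyClass_le.2
    refine Subgroup.lowerCentralSeries_eq_bot_iff_nilpotencyClass_le.1 ?_
    exact (Subgroup.map_injective S.subtype_injective) (by
      rw [Subgroup.map_bot, Subgroup.top_subtype_lowerCentralSeries, hcl])
  refine Monoid.exponent_dvd_of_forall_pow_eq_one fun x => ?_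
  have := hall _ x (htop ▸ Subgroup.mem_top x)
  rwa [← pow_mul, show n * (n * (p - 1) + 1) = n ^ 2 * (p - 1) + n by ring] at this

end CfsgLib.Fusion.PowerCenter
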