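import Cfsg.Agent.Fusion.PrimeValuation
import Cfsg.Agent.Fusion.LocalSaturation
import Cfsg.Agent.Fusion.LocalModels

/-!
A valuation on centric subgroups, spread to all maps along composites: the values of the loops at a
fully centralized subgroup `Q` are exactly the values of the maps fixing `Q` on `Q C_S(Q)`.
-/

set_option autoImplicit false

open Cfsg Cfsg.FusionSystem

namespace CfsgLib.Fusion

variable {Ω : Type*} [Group Ω] {S : Subgroup Ω}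

/-! ### Maps acting on `Q` like elements of `M` -/

/-- The maps between subgroups of `M` extending to `Q` as conjugation by an element of `M`. -/
def actSystem (G : FusionSystem S) (Q M : Subgroup Ω) (hQS : Q ≤ S) (hMS : M ≤ S)
    (hn : M ≤ Subgroup.normalizer (Q : Set Ω)) : FusionSystem M where
  Hom P := {φ | P ≤ M ∧ (∀ x, φ x ∈ M) ∧ ∃ ψ ∈ G.Hom (P ⊔ Q),
    (∀ x : P, ψ (Subgroup.inclusion le_sup_left x) = φ x) ∧
      ∃ m ∈ M, ∀ q : Q, ψ (Subgroup.inclusion le_sup_right q) = m * q * m⁻¹}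
  le_of_mem h := ⟨h.1, h.2.1⟩
  injective_of_mem := by
    rintro P φ ⟨-, -, ψ, hψ, he, -⟩ a b hab
    rw [← he a, ← he b] at hab
    exact Subgroup.inclusion_injective _ (G.injective_of_mem hψ hab)
  conj_mem := by
    intro P g hP hg
    exact ⟨hP, fun x => mul_mem (mul_mem hg (hP x.2)) (inv_mem hg), conjHom (P ⊔ Q) g,
      G.conj_mem (sup_le (hP.trans hMS) hQS) (hMS hg), fun x => rfl, g, hg, fun q => rfl⟩
  comp_mem := by
    rintro P P' φ φ' ⟨hP, hφM, ψ, hψ, he, s, hs, hq⟩ ⟨-, hφ'M, ψ', hψ', he', s', hs', hq'⟩ h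
    have hmem : ∀ x, ψ x ∈ P' ⊔ Q := by
      intro x
      have hx : ψ x ∈ ψ.range := ⟨x, rfl⟩
      rw [range_eq_sup] at hx
      refine (sup_le ?_ ?_ : _ ≤ P' ⊔ Q) hx
      · intro y hy
        obtain ⟨z, hzm, hzP, rfl⟩ := mem_map_subgroupOf.1 hy
        exact Set.mem_of_eq_of_mem (he ⟨z, hzP⟩) (Subgroup.mem_sup_left (h ⟨z, hzP⟩))
      · intro y hy
        obtain ⟨z, hzm, hzQ, rfl⟩ := mem_map_subgroupOf.1 hy
        exact Set.mem_of_eq_of_mem (hq ⟨z, hzQ⟩)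
          (Subgroup.mem_sup_right ((Subgroup.mem_normalizer_iff.1 (hn hs) z).1 hzQ))
    refine ⟨hP, fun x => hφ'M _, ψ'.comp (ψ.codRestrict _ hmem), G.comp_mem hψ hψ' hmem,
      fun x => ?_, s' * s, mul_mem hs' hs, fun q => ?_⟩
    · show ψ' ⟨_, _⟩ = φ' ⟨φ x, h x⟩
      exact (apply_congr ψ' (he x)).trans (he' ⟨φ x, h x⟩)
    · show ψ' ⟨_, _⟩ = _
      have hsq : s * q * s⁻¹ ∈ Q := (Subgroup.mem_normalizer_iff.1 (hn hs) q).1 q.2
      refine ((apply_congr ψ' (hq q)).trans (hq' ⟨_, hsq⟩)).trans ?_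
      show s' * (s * q * s⁻¹) * s'⁻¹ = s' * s * q * (s' * s)⁻¹
      group
  inv_mem := by
    rintro P φ ⟨hP, hφM, ψ, hψ, he, s, hs, hq⟩
    have hsn := Subgroup.mem_normalizer_iff.1 (hn hs)
    have hr : ψ.range = φ.range ⊔ Q := by
      rw [range_eq_sup]
      congr 1
      · exact (map_subgroupOf_congr le_sup_left le_rfl fun x hx => he ⟨x, hx⟩).trans
          (map_subgroupOf_self φ)
      · ext y
        rw [mem_map_subgroupOf]
        constructor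
        · rintro ⟨x, -, hxQ, rfl⟩
          exact Set.mem_of_eq_of_mem (hq ⟨x, hxQ⟩) ((hsn x).1 hxQ)
        · intro hy
          have hy' : s⁻¹ * y * s ∈ Q := (hsn _).2 (by simpa [mul_assoc] using hy)
          refine ⟨_, Subgroup.mem_sup_right hy', hy', (hq ⟨_, hy'⟩).trans ?_⟩
          show s * (s⁻¹ * y * s) * s⁻¹ = y
          group
    obtain ⟨χ, hχ, -, h1, -⟩ := exists_inv hψ hr
    have key : ∀ (x : P) (hx : φ x ∈ φ.range ⊔ Q), χ ⟨φ x, hx⟩ = x := fun x hx =>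
      (apply_congr χ (he x).symm).trans
        (h1 (Subgroup.inclusion le_sup_left x) ((he x).symm ▸ hx))
    refine ⟨χ.comp (Subgroup.inclusion le_sup_left),
      ⟨by rintro _ ⟨x, rfl⟩; exact hφM x, ?_, χ, hχ, fun x => rfl, s⁻¹, inv_mem hs,
        fun q => ?_⟩, fun x => key x _⟩
    · rintro ⟨_, x, rfl⟩
      exact Set.mem_of_eq_of_mem (key x _) (hP x.2)
    have hy : s⁻¹ * (q : Ω) * s ∈ Q := (hsn _).2 (by simpa [mul_assoc] using q.2)
    have e : ψ (Subgroup.inclusion le_sup_right ⟨_, hy⟩) = q := by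
      rw [hq]
      show s * (s⁻¹ * q * s) * s⁻¹ = q
      group
    refine ((apply_congr χ e.symm).trans
      (h1 _ (e.symm ▸ Subgroup.mem_sup_right (S := φ.range) q.2))).trans ?_
    show s⁻¹ * (q : Ω) * s = s⁻¹ * q * s⁻¹⁻¹
    group

variable [Finite S] (p : ℕ) [Fact p.Prime] (hS : IsPGroup p S) {F : FusionSystem S}
  (hF : F.IsSaturated p)

include hS hF in
/-- For `Q` fully centralized and `Q C_S(Q) ≤ M ≤ N_S(Q)` the maps acting on `Q` like elements of `M`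
form a saturated system. -/
theorem actSystem_saturated {Q M : Subgroup Ω} (hQ : F.IsFullyCentralized Q) (hMS : M ≤ S)
    (hn : M ≤ Subgroup.normalizer (Q : Set Ω)) (hCM : centralizerIn S Q ≤ M) :
    (actSystem F Q M hQ.1 hMS hn).IsSaturated p := by
  have hk : IsKNorm F Q (autInducedBy M Q) (actSystem F Q M hQ.1 hMS hn) := by
    refine ⟨hQ.1, fun g => ⟨fun hg => ⟨hMS hg, conjAut M Q ⟨g, hg, hn hg⟩,
      mem_autInducedBy.2 ⟨g, hg, fun _ => rfl⟩, fun q => rfl⟩, ?_⟩, fun P φ => ?_⟩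
    · rintro ⟨hgS, k, hk, hkg⟩
      obtain ⟨m, hm, hkm⟩ := mem_autInducedBy.1 hk
      have h1 : m⁻¹ * g ∈ M := hCM (mem_centralizerIn.2 ⟨mul_mem (inv_mem (hMS hm)) hgS,
        fun x hx => by
          have h2 : g * x * g⁻¹ = m * x * m⁻¹ := (hkg ⟨x, hx⟩).symm.trans (hkm ⟨x, hx⟩)
          calc x * (m⁻¹ * g) = m⁻¹ * (m * x * m⁻¹) * g := by group
            _ = m⁻¹ * (g * x * g⁻¹) * g := by rw [h2]
            _ = m⁻¹ * g * x := by group⟩)
      have h2 := mul_mem hm h1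
      rwa [mul_inv_cancel_left] at h2
    constructor
    · rintro ⟨hP, hφM, ψ, hψ, he, m, hm, hq⟩
      exact ⟨restrict_mem_of_eq hψ le_sup_left fun x => (he x).symm, hP, hφM, ψ, hψ, he,
        conjAut M Q ⟨m, hm, hn hm⟩, mem_autInducedBy.2 ⟨m, hm, fun _ => rfl⟩, hq⟩
    · rintro ⟨-, hP, hφM, ψ, hψ, he, k, hk, hq⟩
      obtain ⟨m, hm, hkm⟩ := mem_autInducedBy.1 hk
      exact ⟨hP, hφM, ψ, hψ, he, m, hm, fun q => (hq q).trans (hkm q)⟩
  have hKS : autInducedBy M Q ≤ autInducedBy S Q := autInducedBy_mono hMS Q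
  refine hk.isSaturated p hS hF (receptive_of_fullyCentralized p hS hF hQ) ?_
  rw [inf_eq_right.2 hKS, inf_eq_right.2 (hKS.trans (autInducedBy_le_autGroup hQ.1))]
  refine ⟨le_rfl, ?_⟩
  have := finite_of_le hQ.1
  have : Finite (MulAut Q) := finite_mulAut
  obtain ⟨R, hR⟩ := (((isPGroup_autInducedBy hS Q).to_le hKS).to_subgroup ⊤).exists_le_sylow
  exact ⟨R, by rw [Subgroup.subgroupOf_self]; exact top_le_iff.1 hR⟩

/-! ### Values along composites -/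

variable {Δ : Type*} [Group Δ] {v : ∀ P : Subgroup Ω, (P →* Ω) → Δ}

/-- `φ` is a composite of restrictions of maps on centric subgroups with product of values `t`. -/
inductive ValRel (F : FusionSystem S) (v : ∀ P : Subgroup Ω, (P →* Ω) → Δ) :
    ∀ P : Subgroup Ω, (P →* Ω) → Δ → Prop
  | base {P U : Subgroup Ω} {φ : P →* Ω} {f : U →* Ω} (hPU : P ≤ U) : F.IsCentric U →
      f ∈ F.Hom U → (∀ x : P, φ x = f ⟨x, hPU x.2⟩) → ValRel F v P φ (v U f)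
  | comp {P Q : Subgroup Ω} {φ : P →* Ω} {ψ : Q →* Ω} {χ : P →* Ω} {s t : Δ}
      (h : ∀ x, φ x ∈ Q) : ValRel F v P φ t → ValRel F v Q ψ s →
      (∀ x, χ x = ψ ⟨φ x, h x⟩) → ValRel F v P χ (s * t)

omit [Finite S] in
theorem ValRel.mem {P : Subgroup Ω} {φ : P →* Ω} {t : Δ} (h : ValRel F v P φ t) :
    φ ∈ F.Hom P := by
  induction h with
  | base hPU _ hf he => exact restrict_mem_of_eq hf hPU he
  | comp h _ _ hχ ihφ ihψ => exact comp_mem_of_eq ihφ ihψ h hχ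

omit [Finite S] in
theorem ValRel.restrict {P : Subgroup Ω} {φ : P →* Ω} {t : Δ} (h : ValRel F v P φ t) :
    ∀ {R : Subgroup Ω} (hR : R ≤ P) {χ : R →* Ω}, (∀ x : R, χ x = φ ⟨x, hR x.2⟩) →
      ValRel F v R χ t := by
  induction h with
  | base hPU hU hf he =>
    intro R hR χ hχ
    exact .base (hR.trans hPU) hU hf fun x => (hχ x).trans (he _)
  | @comp P Q φ ψ χ₀ s t h _ hψ hχ₀ ihφ _ =>
    intro R hR χ hχ
    exact .comp (φ := φ.comp (Subgroup.inclusion hR)) (fun x => h _) (ihφ hR fun x => rfl) hψ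
      fun x => (hχ x).trans (hχ₀ _)

omit [Finite S] in
theorem ValRel.congr {P : Subgroup Ω} {φ χ : P →* Ω} {t : Δ} (h : ValRel F v P φ t)
    (e : ∀ x, χ x = φ x) : ValRel F v P χ t :=
  h.restrict le_rfl fun x => e x

theorem valRel_conj (hv : IsVal F F.IsCentric v) {P : Subgroup Ω} (hP : P ≤ S) {s : Ω}
    (hs : s ∈ S) {χ : P →* Ω} (hχ : ∀ x : P, χ x = s * (x : Ω) * s⁻¹) : ValRel F v P χ 1 := by
  rw [← hv.inner hs]
  exact .base hP isCentric_S (F.conj_mem le_rfl hs) hχ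

theorem valRel_id (hv : IsVal F F.IsCentric v) {P : Subgroup Ω} (hP : P ≤ S) :
    ValRel F v P P.subtype 1 :=
  valRel_conj hv hP (one_mem S) fun x => by simp

theorem ValRel.inverse (hv : IsVal F F.IsCentric v) {P : Subgroup Ω} {φ : P →* Ω} {t : Δ}
    (h : ValRel F v P φ t) : ∀ {Q : Subgroup Ω}, φ.range = Q → ∀ {ψ : Q →* Ω},
      (∀ (x : P) (hx : φ x ∈ Q), ψ ⟨φ x, hx⟩ = x) → ValRel F v Q ψ t⁻¹ := by
  induction h with
  | @base P U φ f hPU hU hf he =>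
    intro Q hQ ψ hψ
    obtain ⟨g, hg, -, hg1, -⟩ := exists_inv hf rfl
    rw [← hv.inv hU hf hg (fun x => ⟨x, rfl⟩) fun x => hg1 x _]
    refine .base (U := f.range) ?_ (isCentric_of_isConj hU ⟨f, hf, rfl⟩) hg ?_
    · rw [← hQ]
      rintro _ ⟨x, rfl⟩
      exact ⟨_, (he x).symm⟩
    · rintro ⟨y, hy⟩
      obtain ⟨x, rfl⟩ := hQ.ge hy
      exact (hψ x hy).trans ((hg1 ⟨x, hPU x.2⟩ ⟨_, rfl⟩).symm.trans (apply_congr g (he x).symm))
  | @comp P R φ ψ₀ χ s t h hφ hψ₀ hχ ihφ ihψ =>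
    intro Q hQ ψ hψ
    obtain ⟨a, -, -, ha1, -⟩ := exists_inv hφ.mem rfl
    obtain ⟨b, -, hbr, hb1, -⟩ := exists_inv hψ₀.mem rfl
    have hQb : Q ≤ ψ₀.range := by
      intro y hy
      obtain ⟨x, rfl⟩ := hQ.ge hy
      exact ⟨_, (hχ x).symm⟩
    have hB := (ihψ rfl (ψ := b) fun x hx => hb1 x hx).restrict hQb
      (χ := b.comp (Subgroup.inclusion hQb)) fun x => rfl
    have hA := ihφ rfl (ψ := a) fun x hx => ha1 x hx
    have hb : ∀ (x : P) (hx : χ x ∈ Q), b.comp (Subgroup.inclusion hQb) ⟨χ x, hx⟩ = φ x :=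
      fun x hx => (apply_congr b (hχ x)).trans (hb1 ⟨φ x, h x⟩ ⟨_, rfl⟩)
    rw [mul_inv_rev]
    refine .comp (fun y => ?_) hB hA fun y => ?_
    · obtain ⟨y, hy⟩ := y
      obtain ⟨x, rfl⟩ := hQ.ge hy
      exact ⟨x, (hb x hy).symm⟩
    · obtain ⟨y, hy⟩ := y
      obtain ⟨x, rfl⟩ := hQ.ge hy
      exact ((apply_congr a (hb x hy)).trans (ha1 x ⟨x, rfl⟩)).trans (hψ x hy).symm |>.symm

/-- On a centric subgroup the only value is the valuation. -/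
theorem ValRel.eq_of_centric (hv : IsVal F F.IsCentric v) {P : Subgroup Ω} {φ : P →* Ω} {t : Δ}
    (h : ValRel F v P φ t) : F.IsCentric P → t = v P φ := by
  induction h with
  | base hPU hU hf he => exact fun hP => (hv.restrict hP hPU hf he).symm
  | @comp P Q φ ψ χ s t h hφ hψ hχ ihφ ihψ =>
    intro hP
    have hQ : F.IsCentric Q := hv.upward (hv.conj hP ⟨φ, hφ.mem, rfl⟩)
      (by rintro _ ⟨x, rfl⟩; exact h x) (le_of_mem_hom hψ.mem)
    rw [hv.mul hP hφ.mem hψ.mem h hχ, ihψ hQ, ihφ hP]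

include hS hF in
/-- Every map has a value. -/
theorem exists_valRel (hv : IsVal F F.IsCentric v) {P : Subgroup Ω} {φ : P →* Ω}
    (hφ : φ ∈ F.Hom P) : ∃ t, ValRel F v P φ t := by
  let E : FusionSystem S :=
    { Hom := fun P => {φ | ∃ t, ValRel F v P φ t}
      le_of_mem := fun h => F.le_of_mem h.choose_spec.mem
      injective_of_mem := fun h => F.injective_of_mem h.choose_spec.mem
      conj_mem := fun hP hg => ⟨1, valRel_conj hv hP hg fun _ => rfl⟩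
      comp_mem := fun ⟨_, hφ⟩ ⟨_, hψ⟩ h => ⟨_, .comp h hφ hψ fun _ => rfl⟩
      inv_mem := fun {P φ} ⟨t, ht⟩ => by
        obtain ⟨ψ, -, h⟩ := F.inv_mem ht.mem
        exact ⟨ψ, ⟨t⁻¹, ht.inverse hv rfl fun x _ => h x⟩, h⟩ }
  refine alperin_saturated p hS hF E (fun P hP α hα => ?_) P hφ
  have hc : F.IsCentric P := by
    rcases hP with rfl | hP
    exacts [isCentric_S, hP.1]
  exact (autGroup_carrier hc.1).2
    ⟨_, .base le_rfl hc ((autGroup_carrier hc.1).1 hα) fun x => rfl⟩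

include hF in
/-- A `p`-automorphism has value `1`. -/
theorem valRel_pElement (hv : IsVal F F.IsCentric v) (hS' : IsPGroup p S) {P : Subgroup Ω}
    (hP : P ≤ S) {α : MulAut P} (hα : α ∈ F.autGroup P) (hp : ∃ k : ℕ, α ^ p ^ k = 1) :
    ValRel F v P (P.subtype.comp α.toMonoidHom) 1 := by
  obtain ⟨P', hc, hgood, -⟩ := hF P hP
  obtain ⟨φ, s, hφ, hr, hs, hse⟩ := exists_conj_of_pElement p hgood hc hα hp
  obtain ⟨t, ht⟩ := exists_valRel p hS' hF hv hφ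
  obtain ⟨ψ, hψ, -, h1, -⟩ := exists_inv hφ hr
  have hψt := ht.inverse hv hr h1
  have h2 : ValRel F v P ((conjHom P' s).comp (φ.codRestrict P' fun x => hr.le ⟨x, rfl⟩))
      (1 * t) :=
    .comp (fun x => hr.le ⟨x, rfl⟩) ht (valRel_conj hv (IsConj.le_right hc) hs.1 (χ := conjHom P' s) fun _ => rfl)
      fun x => rfl
  have h3 : ∀ x : P, (conjHom P' s).comp (φ.codRestrict P' fun x => hr.le ⟨x, rfl⟩) x ∈ P' :=
    fun x => (Subgroup.mem_normalizer_iff.1 hs.2 _).1 (hr.le ⟨x, rfl⟩)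
  have h4 : ValRel F v P (P.subtype.comp α.toMonoidHom) (t⁻¹ * (1 * t)) := by
    refine .comp h3 h2 hψt fun x => ?_
    refine ((h1 (α x) (hr.le ⟨_, rfl⟩)).symm).trans (apply_congr ψ ?_)
    exact hse x
  rwa [one_mul, inv_mul_cancel] at h4

/-- The maps of value `1`. -/
def valKernel (hv : IsVal F F.IsCentric v) : FusionSystem S where
  Hom P := {φ | ValRel F v P φ 1}
  le_of_mem h := F.le_of_mem h.mem
  injective_of_mem h := F.injective_of_mem h.mem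
  conj_mem hP hg := valRel_conj hv hP hg fun _ => rfl
  comp_mem {P Q φ ψ} hφ hψ h := by
    have := ValRel.comp h hφ hψ (χ := ψ.comp (φ.codRestrict Q h)) fun _ => rfl
    rwa [mul_one] at this
  inv_mem {P φ} hφ := by
    obtain ⟨ψ, -, h⟩ := F.inv_mem hφ.mem
    have := hφ.inverse hv rfl (ψ := ψ) fun x _ => h x
    rw [inv_one] at this
    exact ⟨ψ, this, h⟩

include hS hF in
/-- A map fixing `Q` and moving a subgroup of `M ≥ Q C_S(Q)` inside `M` is an automorphism of `M`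
fixing `Q` after a map of value `1`. -/
theorem exists_factor_fix (hv : IsVal F F.IsCentric v) {Q M : Subgroup Ω}
    (hQ : F.IsFullyCentralized Q) (hMS : M ≤ S) (hn : M ≤ Subgroup.normalizer (Q : Set Ω))
    (hCM : centralizerIn S Q ≤ M) (hQM : Q ≤ M) {D : Subgroup Ω} {δ : D →* Ω}
    (hδ : δ ∈ F.Hom D) (hQD : Q ≤ D) (hDM : D ≤ M) (hδM : ∀ x, δ x ∈ M)
    (hfix : ∀ q : Q, δ ⟨q, hQD q.2⟩ = q) :
    ∃ α ∈ F.Hom M, α.range = M ∧ (∀ q : Q, α ⟨q, hQM q.2⟩ = q) ∧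
      ∃ δ₀ : D →* Ω, ValRel F v D δ₀ 1 ∧ ∃ h : ∀ x, δ₀ x ∈ M, ∀ x, δ x = α ⟨δ₀ x, h x⟩ := by
  have hsat := actSystem_saturated p hS hF hQ hMS hn hCM
  set E := actSystem F Q M hQ.1 hMS hn
  set E₀ := actSystem (valKernel hv) Q M hQ.1 hMS hn
  have := finite_of_le hMS
  have hsub : E₀.IsSubsystemOf E := fun P φ ⟨h1, h2, ψ, hψ, h3⟩ => ⟨h1, h2, ψ, hψ.mem, h3⟩
  have hp : ∀ P : Subgroup Ω, E.IsCentric P → (Subgroup.closure {α : ↥(E.autGroup P) |
      ∃ k : ℕ, orderOf α = p ^ k}).map (E.autGroup P).subtype ≤ E₀.autGroup P := by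
    intro P hP
    rw [MonoidHom.map_closure, Subgroup.closure_le]
    rintro _ ⟨⟨a, ha⟩, ⟨k, hk⟩, rfl⟩
    have hak : a ^ p ^ k = 1 :=
      congrArg Subtype.val (orderOf_dvd_iff_pow_eq_one.1 hk.dvd)
    obtain ⟨-, haM, ψ, hψ, he, m, hm, hq⟩ := (autGroup_carrier hP.1).1 ha
    have hmn := Subgroup.mem_normalizer_iff.1 (hn hm)
    have hr : ψ.range = P ⊔ Q := by
      refine eq_of_le_of_card_le (sup_le (hP.1.trans hMS) hQ.1) ?_ (card_range hψ).ge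
      rw [range_eq_sup]
      refine sup_le ?_ ?_
      · intro y hy
        obtain ⟨z, -, hz, rfl⟩ := mem_map_subgroupOf.1 hy
        exact Set.mem_of_eq_of_mem (he ⟨z, hz⟩) (Subgroup.mem_sup_left (a ⟨z, hz⟩).2)
      · intro y hy
        obtain ⟨z, -, hz, rfl⟩ := mem_map_subgroupOf.1 hy
        exact Set.mem_of_eq_of_mem (hq ⟨z, hz⟩) (Subgroup.mem_sup_right ((hmn z).1 hz))
    let b := autOfRange ψ (F.injective_of_mem hψ) hr
    have hbP : ∀ (i : ℕ) (x : P), ((b ^ i) (Subgroup.inclusion le_sup_left x) : Ω) =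
        ((a ^ i) x : P) := by
      intro i
      induction i with
      | zero => intro x; rfl
      | succ i ih =>
        intro x
        rw [pow_succ', pow_succ', MulAut.mul_apply, MulAut.mul_apply]
        exact (apply_congr ψ (y := Subgroup.inclusion le_sup_left ((a ^ i) x)) (ih x)).trans
          (he _)
    have hbQ : ∀ (i : ℕ) (q : Q), ((b ^ i) (Subgroup.inclusion le_sup_right q) : Ω) =
        m ^ i * q * (m ^ i)⁻¹ := by
      intro i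
      induction i with
      | zero => intro q; simp
      | succ i ih =>
        intro q
        rw [pow_succ', MulAut.mul_apply]
        have hmem : m ^ i * (q : Ω) * (m ^ i)⁻¹ ∈ Q :=
          (Subgroup.mem_normalizer_iff.1 (pow_mem (hn hm) i) q).1 q.2
        refine ((apply_congr ψ (y := Subgroup.inclusion le_sup_right ⟨_, hmem⟩) (ih q)).trans
          (hq _)).trans ?_
        rw [pow_succ']
        group
    obtain ⟨j, hj⟩ := hS ⟨m, hMS hm⟩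
    have hmj : m ^ p ^ j = 1 := congrArg Subtype.val hj
    have hb1 : b ^ p ^ (k + j) = 1 := by
      refine MulEquiv.ext fun z => Subtype.ext ?_
      have hle : P ⊔ Q ≤ (MonoidHom.eqLocus ((P ⊔ Q).subtype.comp (b ^ p ^ (k + j)).toMonoidHom)
          (P ⊔ Q).subtype).map (P ⊔ Q).subtype := by
        refine sup_le (fun x hx => ⟨⟨x, Subgroup.mem_sup_left hx⟩, ?_, rfl⟩)
          fun x hx => ⟨⟨x, Subgroup.mem_sup_right hx⟩, ?_, rfl⟩
        · refine (hbP _ ⟨x, hx⟩).trans ?_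
          rw [pow_add, pow_mul, hak, one_pow]
          rfl
        · refine (hbQ _ ⟨x, hx⟩).trans ?_
          rw [pow_add, mul_comm, pow_mul, hmj, one_pow]
          simp
      obtain ⟨z', hz', hzz⟩ := hle z.2
      rw [← show z' = z from Subtype.ext hzz]
      exact hz'
    have hv1 : ValRel F v (P ⊔ Q) ψ 1 :=
      (valRel_pElement p hF hv hS (sup_le (hP.1.trans hMS) hQ.1) (autOfRange_mem hψ hr)
        ⟨_, hb1⟩).congr fun x => rfl
    exact (autGroup_carrier hP.1).2 ⟨hP.1, haM, ψ, hv1, he, m, hm, hq⟩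
  have hsup : D ⊔ Q ≤ D := sup_le le_rfl hQD
  have hδE : δ ∈ E.Hom D := ⟨hDM, hδM, δ.comp (Subgroup.inclusion hsup), restrict_mem hδ hsup,
    fun x => rfl, 1, one_mem M, fun q => (hfix q).trans (by simp)⟩
  obtain ⟨-, hfr, -⟩ := primeToP_of_centric p (hS.to_le hMS) hsat hsub hp
  obtain ⟨a, ha, δ₀, ⟨-, hδ₀M, ψ₀, hψ₀, he₀, -⟩, heq⟩ := hfr D δ hδE
  obtain ⟨-, -, ψ, hψ, he, m, hm, hq⟩ := (autGroup_carrier (le_refl M)).1 ha
  have haF : M.subtype.comp a.toMonoidHom ∈ F.Hom M :=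
    restrict_mem_of_eq hψ le_sup_left fun x => (he x).symm
  let c : MulAut M := MulAut.conj ⟨m, hm⟩
  let α : M →* Ω := M.subtype.comp (a * c⁻¹).toMonoidHom
  have hα : α ∈ F.Hom M := by
    refine comp_mem_of_eq (φ := conjHom M m⁻¹) (F.conj_mem hMS (hMS (inv_mem hm))) haF
      (fun x => mul_mem (mul_mem (inv_mem hm) x.2) (inv_mem (inv_mem hm))) fun x => ?_
    exact congrArg (fun z : M => ((a z : M) : Ω)) (Subtype.ext (by simp [c]))
  have hδ₁M : ∀ x, (c ⟨δ₀ x, hδ₀M x⟩ : Ω) ∈ M := fun x => (c _).2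
  refine ⟨α, hα, range_subtype_comp _, fun q => ?_,
    (M.subtype.comp c.toMonoidHom).comp (δ₀.codRestrict M hδ₀M), ?_, fun x => (c _).2, fun x => ?_⟩
  · have hq' : m⁻¹ * (q : Ω) * m ∈ Q := by
      simpa using (Subgroup.mem_normalizer_iff.1 (hn (inv_mem hm)) q).1 q.2
    refine Eq.trans ?_ (((he ⟨_, hQM hq'⟩).symm.trans ((apply_congr ψ rfl).trans
      (hq ⟨_, hq'⟩))).trans (show m * (m⁻¹ * (q : Ω) * m) * m⁻¹ = q by group))
    exact congrArg (fun z : M => ((a z : M) : Ω)) (Subtype.ext (by simp [c]))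
  · have h1 : ValRel F v D δ₀ 1 := ValRel.restrict hψ₀ le_sup_left fun x => (he₀ x).symm
    have h2 := ValRel.comp (χ := (M.subtype.comp c.toMonoidHom).comp (δ₀.codRestrict M hδ₀M))
      hδ₀M h1 (valRel_conj hv hMS (hMS hm) (χ := conjHom M m) fun _ => rfl) fun x => rfl
    rwa [mul_one] at h2
  · refine (heq x (hδ₀M x)).trans ?_
    show ((a ⟨δ₀ x, hδ₀M x⟩ : M) : Ω) = ((a * c⁻¹) (c ⟨δ₀ x, hδ₀M x⟩) : M)
    rw [MulAut.mul_apply, MulAut.inv_apply_self]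

/-! ### Values of loops -/

/-- `x` is the value of a map on `Q C_S(Q)` fixing `Q`. -/
def FixVal (F : FusionSystem S) (v : ∀ P : Subgroup Ω, (P →* Ω) → Δ) (Q : Subgroup Ω)
    (x : Δ) : Prop :=
  ∃ f ∈ F.Hom (Q ⊔ centralizerIn S Q),
    (∀ q : Q, f (Subgroup.inclusion le_sup_left q) = q) ∧ v (Q ⊔ centralizerIn S Q) f = x

omit [Finite S] in
theorem map_sup_centralizer_mem {Q Q' : Subgroup Ω} {A : Subgroup Ω} {f : A →* Ω}
    (hf : f ∈ F.Hom A) (hQA : Q ≤ A) (hQ' : (Q.subgroupOf A).map f = Q') {x : A}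
    (hx : (x : Ω) ∈ Q ⊔ centralizerIn S Q) (hCA : centralizerIn S Q ≤ A) :
    f x ∈ Q' ⊔ centralizerIn S Q' := by
  have hle : Q ⊔ centralizerIn S Q ≤ ((Q' ⊔ centralizerIn S Q').comap f).map A.subtype := by
    refine sup_le (fun y hy => ⟨⟨y, hQA hy⟩, ?_, rfl⟩) fun y hy => ⟨⟨y, hCA hy⟩, ?_, rfl⟩
    · exact Subgroup.mem_sup_left (hQ'.le (apply_mem_map_subgroupOf f (x := ⟨y, hQA hy⟩) hy))
    · have := map_mem_centralizerIn hf hQA hy (hCA hy)
      rw [hQ'] at this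
      exact Subgroup.mem_sup_right this
  obtain ⟨z, hz, hzx⟩ := hle hx
  rw [← show z = x from Subtype.ext hzx]
  exact hz

omit [Finite S] in
theorem congr_normalizer {w : ∀ P : Subgroup Ω, ↥(normalizerIn S P) →* Ω} {A B : Subgroup Ω}
    (h : B = A) {a b : Ω} (hab : a = b) (ha : a ∈ normalizerIn S A) (hb : b ∈ normalizerIn S B) :
    w A ⟨a, ha⟩ = w B ⟨b, hb⟩ := by
  subst h; subst hab; rfl

include hS hF in
/-- Loops at a subgroup of `N_S(Q₀)` above `Q₀` have values of maps fixing `Q₀`. -/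
theorem loop_larger (hv : IsVal F F.IsCentric v) (k : ℕ)
    (IH : ∀ m < k, ∀ (Q : Subgroup Ω), F.IsFullyCentralized Q →
      Nat.card S - Nat.card Q = m → ∀ x : Δ, ValRel F v Q Q.subtype x → FixVal F v Q x)
    {Q₀ : Subgroup Ω} (hQ₀c : F.IsFullyCentralized Q₀) (hk : Nat.card S - Nat.card Q₀ = k)
    {D : Subgroup Ω} (hQ₀D : Q₀ ≤ D) (hDN : D ≤ normalizerIn S Q₀) (hne : Q₀ ≠ D)
    {x : Δ} (hx : ValRel F v D D.subtype x) : FixVal F v Q₀ x := by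
  set C := centralizerIn S Q₀ with hCd
  have hA : F.IsCentric (Q₀ ⊔ C) := isCentric_sup_centralizer hQ₀c
  have hDS := hDN.trans (normalizerIn_le_S Q₀)
  obtain ⟨D₀, ⟨om, hom, homr⟩, hD₀c⟩ := exists_fullyCentralized F hDS
  have hD₀S := hD₀c.1
  have hlt : Nat.card Q₀ < Nat.card D :=
    lt_of_not_ge fun h => hne (eq_of_le_of_card_le hDS hQ₀D h)
  have hcard : Nat.card D₀ = Nat.card D := IsConj.card_eq ⟨om, hom, homr⟩
  have hDc := card_le_of_le le_rfl hDS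
  -- move `D` by a map extending back onto `N_S(Q₀)`
  obtain ⟨Q₁, hQ₁d⟩ : ∃ Q₁ : Subgroup Ω, Q₁ = (Q₀.subgroupOf D).map om := ⟨_, rfl⟩
  have hQ₁ : F.IsConj Q₀ Q₁ := hQ₁d ▸ isConj_map hom hQ₀D
  have hQ₁D₀ : Q₁ ≤ D₀ := by rw [hQ₁d, ← homr]; exact Subgroup.map_le_range _ _
  obtain ⟨ρ, hρ, hρr, hρ1, hρ2⟩ := exists_inv hom homr
  let μ₀ : Q₁ →* Ω := ρ.comp (Subgroup.inclusion hQ₁D₀)
  have hμ₀ : μ₀ ∈ F.Hom Q₁ := restrict_mem hρ hQ₁D₀
  have hμ₀r : μ₀.range = Q₀ := by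
    ext z
    constructor
    · rintro ⟨⟨y, hy⟩, rfl⟩
      obtain ⟨q, hq, hqQ, rfl⟩ := mem_map_subgroupOf.1 (hQ₁d.le hy)
      exact Set.mem_of_eq_of_mem (hρ1 ⟨q, hq⟩ (hQ₁D₀ hy)) hqQ
    · intro hz
      have hy : om ⟨z, hQ₀D hz⟩ ∈ Q₁ :=
        hQ₁d.ge (apply_mem_map_subgroupOf om (x := ⟨z, hQ₀D hz⟩) hz)
      exact ⟨⟨_, hy⟩, hρ1 _ _⟩
  have hρD : ∀ y, ρ y ∈ D := fun y => hρr.le ⟨y, rfl⟩
  have hD₀N : D₀ ≤ normalizerIn S Q₁ := by
    rw [← homr]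
    rintro _ ⟨d, rfl⟩
    rw [hQ₁d]
    exact map_mem_normalizerIn hom hQ₀D (hDN d.2) d.2
  have hX : D₀ ⊔ centralizerIn S Q₁ ≤ extender S Q₁ μ₀ := by
    refine sup_le (fun d hd => ?_) (centralizerIn_le_extender Q₁ μ₀)
    refine mem_extender_of (hD₀N hd) (hDS (hρD ⟨d, hd⟩)) fun z hz => ?_
    show ρ _ = _ * ρ _ * _
    rw [← map_inv, ← map_mul, ← map_mul]
    exact apply_congr ρ rfl
  obtain ⟨μ, hμ, hμe⟩ := receptive_extend (receptive_of_fullyCentralized p hS hF hQ₀c) hμ₀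
    hμ₀r hX
  have hCD : centralizerIn S D₀ ≤ centralizerIn S Q₁ := fun z hz =>
    mem_centralizerIn.2 ⟨hz.1, fun y hy => hz.2 y (hQ₁D₀ hy)⟩
  have hB : D₀ ⊔ centralizerIn S D₀ ≤ D₀ ⊔ centralizerIn S Q₁ := sup_le_sup_left hCD _
  have hD₀A := isCentric_sup_centralizer hD₀c
  have hXc : F.IsCentric (D₀ ⊔ centralizerIn S Q₁) :=
    isCentric_mono hD₀A hB (sup_le hD₀S (centralizerIn_le_S Q₁))
  have hμN : ∀ y, μ y ∈ normalizerIn S Q₀ := by
    intro y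
    have h1 := map_mem_normalizerIn hμ (hQ₁D₀.trans le_sup_left)
      (extender_le_normalizerIn Q₁ μ₀ (hX y.2)) y.2
    rwa [map_eq_range_of_eq (hQ₁D₀.trans le_sup_left) fun z hz hzX => hμe z hz hzX, hμ₀r]
      at h1
  -- `δ = μ ∘ om` fixes `Q₀`
  have homX : ∀ d, om d ∈ D₀ ⊔ centralizerIn S Q₁ := fun d =>
    Subgroup.mem_sup_left (homr.le ⟨d, rfl⟩)
  let δ : D →* Ω := μ.comp (om.codRestrict _ homX)
  have hδ : δ ∈ F.Hom D := F.comp_mem hom hμ homX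
  have hδfix : ∀ z : Q₀, δ ⟨z, hQ₀D z.2⟩ = z := by
    intro z
    have hy : om ⟨z, hQ₀D z.2⟩ ∈ Q₁ :=
      hQ₁d.ge (apply_mem_map_subgroupOf om (x := ⟨z, hQ₀D z.2⟩) z.2)
    exact (hμe _ hy (homX _)).trans (hρ1 ⟨z, hQ₀D z.2⟩ (hQ₁D₀ hy))
  let M := D ⊔ δ.range ⊔ C
  have hδN : δ.range ≤ normalizerIn S Q₀ := by rintro _ ⟨z, rfl⟩; exact hμN _
  have hMN : M ≤ normalizerIn S Q₀ :=
    sup_le (sup_le hDN hδN) (centralizerIn_le_normalizerIn Q₀)
  obtain ⟨α, hα, hαr, hαfix, δ₀, hδ₀, hδ₀M, hδe⟩ := exists_factor_fix p hS hF hv hQ₀c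
    (hMN.trans (normalizerIn_le_S Q₀)) (hMN.trans inf_le_right) le_sup_right
    (hQ₀D.trans (le_sup_left.trans le_sup_left)) hδ hQ₀D (le_sup_left.trans le_sup_left)
    (fun z => Subgroup.mem_sup_left (Subgroup.mem_sup_right ⟨z, rfl⟩)) hδfix
  have hAM : Q₀ ⊔ C ≤ M :=
    sup_le (hQ₀D.trans (le_sup_left.trans le_sup_left)) le_sup_right
  have hMc : F.IsCentric M := isCentric_mono hA hAM (le_of_mem_hom hα)
  have hδv : ValRel F v D δ (v M α) := by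
    have := ValRel.comp hδ₀M hδ₀ (.base le_rfl hMc hα fun _ => rfl : ValRel F v M α _) hδe
    rwa [mul_one] at this
  -- the value of `om`
  obtain ⟨m', hm', hm'r, hm'1, -⟩ := exists_inv hμ rfl
  have homv : ValRel F v D om ((v _ μ)⁻¹ * v M α) := by
    refine .comp (fun z => ?_) hδv
      ((ValRel.base le_rfl hXc hμ fun _ => rfl : ValRel F v _ μ (v _ μ)).inverse hv rfl hm'1) ?_
    · exact ⟨_, rfl⟩
    · exact fun z => (hm'1 ⟨om z, homX z⟩ _).symm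
  set cD := (v _ μ)⁻¹ * v M α
  have hid : ValRel F v D₀ D₀.subtype (cD * x * cD⁻¹) := by
    have h1 := homv.inverse hv homr hρ1
    have h2 := ValRel.comp (χ := ρ) hρD h1 hx fun y => rfl
    rw [mul_assoc]
    exact .comp hρD h2 homv fun y => (hρ2 y _).symm
  obtain ⟨g, hg, hgfix, hgv⟩ := IH (Nat.card S - Nat.card D₀) (by omega) D₀ hD₀c rfl _ hid
  -- transport `g` by `μ`
  let b := μ.comp (Subgroup.inclusion hB)
  have hb : b ∈ F.Hom (D₀ ⊔ centralizerIn S D₀) := restrict_mem hμ hB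
  have hgB : ∀ y, g y ∈ D₀ ⊔ centralizerIn S D₀ := fun y =>
    map_sup_centralizer_mem hg le_sup_left (by
      ext z
      rw [mem_map_subgroupOf]
      exact ⟨fun ⟨q, _, hqQ, hqe⟩ => hqe ▸ Set.mem_of_eq_of_mem (hgfix ⟨q, hqQ⟩) hqQ,
        fun hz => ⟨z, le_sup_left (b := centralizerIn S D₀) hz, hz, hgfix ⟨z, hz⟩⟩⟩)
      y.2 le_sup_right
  obtain ⟨B, hBd⟩ : ∃ B : Subgroup Ω, B = b.range := ⟨_, rfl⟩
  obtain ⟨b', hb', hb'r, hb'1, -⟩ := exists_inv hb hBd.symm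
  have hb'B : ∀ y, b' y ∈ D₀ ⊔ centralizerIn S D₀ := fun y => hb'r.le ⟨y, rfl⟩
  let h : B →* Ω := b.comp ((g.comp (b'.codRestrict _ hb'B)).codRestrict _ fun y => hgB _)
  have hh : h ∈ F.Hom B := F.comp_mem (F.comp_mem hb' hg hb'B) hb fun y => hgB _
  have hBc : F.IsCentric B := isCentric_of_isConj hD₀A ⟨b, hb, hBd.symm⟩
  have hbv : v (D₀ ⊔ centralizerIn S D₀) b = v _ μ :=
    hv.restrict hD₀A hB hμ fun _ => rfl
  have hhv : v B h = v _ μ * (cD * x * cD⁻¹) * (v _ μ)⁻¹ := by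
    rw [hv.mul hBc (F.comp_mem hb' hg hb'B) hb (fun y => hgB _) (χ := h) fun y => rfl,
      hv.mul hBc hb' hg hb'B (χ := g.comp (b'.codRestrict _ hb'B)) fun y => rfl,
      hv.inv hD₀A hb hb' (fun y => hBd.ge ⟨y, rfl⟩) fun y => hb'1 y _, hgv, hbv]
    group
  have hBN : B ≤ normalizerIn S Q₀ := by rw [hBd]; rintro _ ⟨y, rfl⟩; exact hμN _
  have hQ₀B : Q₀ ≤ B := by
    intro z hz
    obtain ⟨u, rfl⟩ := hμ₀r.ge hz
    exact hBd.ge ⟨⟨u, Subgroup.mem_sup_left (hQ₁D₀ u.2)⟩, hμe u u.2 _⟩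
  have hhfix : ∀ z : Q₀, h ⟨z, hQ₀B z.2⟩ = z := by
    rintro ⟨z, hz⟩
    obtain ⟨u, rfl⟩ := hμ₀r.ge hz
    have hu : (u : Ω) ∈ D₀ := hQ₁D₀ u.2
    have e : b (Subgroup.inclusion le_sup_left ⟨u, hu⟩) = μ₀ u := hμe u u.2 _
    refine Eq.trans ?_ e
    refine apply_congr b ?_
    show g ⟨b' ⟨μ₀ u, _⟩, _⟩ = (u : Ω)
    refine (apply_congr g (y := Subgroup.inclusion le_sup_left ⟨u, hu⟩) ?_).trans
      (hgfix ⟨u, hu⟩)
    exact (apply_congr b' e.symm).trans (hb'1 _ (hBd.ge ⟨_, rfl⟩))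
  have hhB : ∀ y, h y ∈ B := fun y => hBd.ge ⟨_, rfl⟩
  let M₂ := B ⊔ C
  have hM₂N : M₂ ≤ normalizerIn S Q₀ := sup_le hBN (centralizerIn_le_normalizerIn Q₀)
  obtain ⟨β, hβ, hβr, hβfix, h₀, hh₀, hh₀M, hhe⟩ := exists_factor_fix p hS hF hv hQ₀c
    (hM₂N.trans (normalizerIn_le_S Q₀)) (hM₂N.trans inf_le_right) le_sup_right
    (hQ₀B.trans le_sup_left) hh hQ₀B le_sup_left
    (fun z => Subgroup.mem_sup_left (hhB z)) hhfix
  have hAM₂ : Q₀ ⊔ C ≤ M₂ := sup_le (hQ₀B.trans le_sup_left) le_sup_right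
  have hM₂c : F.IsCentric M₂ := isCentric_mono hA hAM₂ (le_of_mem_hom hβ)
  have hβv : v M₂ β = v B h := by
    have := ValRel.comp hh₀M hh₀ (.base le_rfl hM₂c hβ fun _ => rfl : ValRel F v M₂ β _) hhe
    rw [mul_one] at this
    exact ValRel.eq_of_centric hv this hBc
  -- the three maps on `Q₀ C_S(Q₀)`
  have hfixA : ∀ {f : ↥(Q₀ ⊔ C) →* Ω}, f ∈ F.Hom (Q₀ ⊔ C) →
      (∀ q : Q₀, f (Subgroup.inclusion le_sup_left q) = q) → ∀ y, f y ∈ Q₀ ⊔ C :=
    fun {f} hf hfix y => map_sup_centralizer_mem hf le_sup_left (by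
      ext z
      rw [mem_map_subgroupOf]
      exact ⟨fun ⟨q, _, hqQ, hqe⟩ => hqe ▸ Set.mem_of_eq_of_mem (hfix ⟨q, hqQ⟩) hqQ,
        fun hz => ⟨z, le_sup_left (b := C) hz, hz, hfix ⟨z, hz⟩⟩⟩) y.2 le_sup_right
  let a := α.comp (Subgroup.inclusion hAM)
  have ha : a ∈ F.Hom (Q₀ ⊔ C) := restrict_mem hα hAM
  have hafix : ∀ q : Q₀, a (Subgroup.inclusion le_sup_left q) = q := fun q => hαfix q
  let b₂ := β.comp (Subgroup.inclusion hAM₂)
  have hb₂ : b₂ ∈ F.Hom (Q₀ ⊔ C) := restrict_mem hβ hAM₂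
  have har : a.range = Q₀ ⊔ C :=
    eq_of_le_of_card_le hA.1 (by rintro _ ⟨y, rfl⟩; exact hfixA ha hafix y) (card_range ha).ge
  obtain ⟨a', ha', ha'r, ha'1, -⟩ := exists_inv ha har
  have hb₂A := hfixA hb₂ fun q => hβfix q
  have haA := hfixA ha hafix
  have hba : ∀ y, (b₂.comp (a.codRestrict _ haA)) y ∈ Q₀ ⊔ C := fun y => hb₂A _
  refine ⟨a'.comp ((b₂.comp (a.codRestrict _ haA)).codRestrict _ hba),
    F.comp_mem (F.comp_mem ha hb₂ haA) ha' hba, fun q => ?_, ?_⟩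
  · refine (apply_congr a' (y := ⟨a (Subgroup.inclusion le_sup_left q), haA _⟩) ?_).trans
      (ha'1 _ _)
    show b₂ ⟨a _, _⟩ = a _
    exact ((apply_congr b₂ (y := Subgroup.inclusion le_sup_left q) (hafix q)).trans
      (hβfix q)).trans (hafix q).symm
  · rw [hv.mul hA (F.comp_mem ha hb₂ haA) ha' hba (χ := a'.comp
        ((b₂.comp (a.codRestrict _ haA)).codRestrict _ hba)) fun y => rfl,
      hv.mul hA ha hb₂ haA (χ := b₂.comp (a.codRestrict _ haA)) fun y => rfl,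
      hv.inv hA ha ha' haA fun y => ha'1 y _,
      hv.restrict hA hAM hα (χ := a) fun y => rfl,
      hv.restrict hA hAM₂ hβ (χ := b₂) fun y => rfl, hβv, hhv]
    simp only [cD]
    group

include hS hF in
/-- The induction step at a map on a centric subgroup. -/
theorem loop_base (hv : IsVal F F.IsCentric v) (k : ℕ)
    (IH : ∀ m < k, ∀ (Q : Subgroup Ω), F.IsFullyCentralized Q →
      Nat.card S - Nat.card Q = m → ∀ x : Δ, ValRel F v Q Q.subtype x → FixVal F v Q x)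
    {Q₀ : Subgroup Ω} (hQ₀c : F.IsFullyCentralized Q₀) (hQ₀r : F.IsReceptive Q₀)
    (hk : Nat.card S - Nat.card Q₀ = k)
    (w : ∀ P : Subgroup Ω, ↥(normalizerIn S P) →* Ω) (c : Subgroup Ω → Δ)
    (hw : ∀ P : Subgroup Ω, F.IsConj P Q₀ →
      w P ∈ F.Hom (normalizerIn S P) ∧ (∀ y, w P y ∈ normalizerIn S Q₀) ∧
        (P.subgroupOf (normalizerIn S P)).map (w P) = Q₀ ∧
          ValRel F v (normalizerIn S P) (w P) (c P))
    {R U : Subgroup Ω} {f : U →* Ω} (hRU : R ≤ U) (hU : F.IsCentric U) (hf : f ∈ F.Hom U)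
    (hRc : F.IsConj R Q₀) {χ : R →* Ω} (hχ : ∀ y : R, χ y = f ⟨y, hRU y.2⟩) :
    ∃ g ∈ F.Hom (Q₀ ⊔ centralizerIn S Q₀),
      (∀ (y : R) (h1 : (y : Ω) ∈ normalizerIn S R)
        (h2 : w R ⟨y, h1⟩ ∈ Q₀ ⊔ centralizerIn S Q₀) (h3 : χ y ∈ normalizerIn S χ.range),
        g ⟨w R ⟨y, h1⟩, h2⟩ = w χ.range ⟨χ y, h3⟩) ∧
      v (Q₀ ⊔ centralizerIn S Q₀) g = c χ.range * v U f * (c R)⁻¹ := by
  set C := centralizerIn S Q₀ with hCd
  have hA : F.IsCentric (Q₀ ⊔ C) := isCentric_sup_centralizer hQ₀c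
  have hQ₀S := hQ₀c.1
  have hCN : C ≤ normalizerIn S Q₀ := centralizerIn_le_normalizerIn Q₀
  have hQ₀N := le_normalizerIn (S := S) hQ₀S
  obtain ⟨hwR, hwRN, hwRm, hwRc⟩ := hw R hRc
  have hχm : χ ∈ F.Hom R := restrict_mem_of_eq hf hRU hχ
  have hR' : F.IsConj χ.range Q₀ := isConj_trans (isConj_symm ⟨χ, hχm, rfl⟩) hRc
  obtain ⟨hwR', hwR'N, hwR'm, hwR'c⟩ := hw _ hR'
  -- the transported map on `Y`
  let N := normalizerIn U R
  have hNN : N ≤ normalizerIn S R := inf_le_inf_right _ hU.1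
  have hNU : N ≤ U := normalizerIn_le_S R
  have hRN : R ≤ N := le_normalizerIn hRU
  have hw₀ := restrict_mem hwR hNN
  obtain ⟨Y, hYd⟩ : ∃ Y : Subgroup Ω, Y = ((w R).comp (Subgroup.inclusion hNN)).range :=
    ⟨_, rfl⟩
  obtain ⟨ρ, hρ, hρr, hρ1, -⟩ := exists_inv hw₀ hYd.symm
  have hmemY : ∀ y, (w R).comp (Subgroup.inclusion hNN) y ∈ Y := fun y => hYd.ge ⟨y, rfl⟩
  have hρU : ∀ y, ρ y ∈ U := fun y => hNU (hρr.le ⟨y, rfl⟩)
  have hfR : ∀ (z : Ω) (hz : z ∈ R) (hzU : z ∈ U), f ⟨z, hzU⟩ = χ ⟨z, hz⟩ :=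
    fun z hz hzU => (apply_congr f rfl).trans (hχ ⟨z, hz⟩).symm
  have hfN : ∀ y : Y, f ⟨ρ y, hρU y⟩ ∈ normalizerIn S χ.range := by
    intro y
    have h1 := map_mem_normalizerIn hf hRU (hNN (hρr.le ⟨y, rfl⟩)) (hρU y)
    rwa [map_eq_range_of_eq hRU hfR] at h1
  let η : Y →* Ω := (w χ.range).comp ((f.comp (ρ.codRestrict U hρU)).codRestrict _ hfN)
  have hη : η ∈ F.Hom Y := F.comp_mem (F.comp_mem hρ hf hρU) hwR' hfN
  have hYN : Y ≤ normalizerIn S Q₀ := by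
    rw [hYd]; rintro _ ⟨y, rfl⟩; exact hwRN _
  have hQ₀Y : Q₀ ≤ Y := by
    intro z hz
    obtain ⟨r, hr, hrR, rfl⟩ := mem_map_subgroupOf.1 (hwRm.ge hz)
    exact hmemY ⟨r, hRN hrR⟩
  have hηQ : ∀ (r : R) (hr : (r : Ω) ∈ normalizerIn S R) (hrY : w R ⟨r, hr⟩ ∈ Y)
      (h3 : χ r ∈ normalizerIn S χ.range), η ⟨w R ⟨r, hr⟩, hrY⟩ = w χ.range ⟨χ r, h3⟩ := by
    intro r hr hrY h3
    refine apply_congr (w χ.range) ?_
    show f ⟨ρ ⟨_, _⟩, _⟩ = χ r
    rw [hχ]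
    exact apply_congr f (hρ1 ⟨r, hRN r.2⟩ hrY)
  have hηN : ∀ y, η y ∈ normalizerIn S Q₀ := fun y => hwR'N _
  have hηv : ValRel F v Y η (c χ.range * v U f * (c R)⁻¹) := by
    have h1 : ValRel F v Y ρ (c R)⁻¹ :=
      ((hwRc.restrict hNN (χ := (w R).comp (Subgroup.inclusion hNN)) fun _ => rfl).inverse hv
        hYd.symm hρ1)
    have h2 : ValRel F v U f (v U f) := .base le_rfl hU hf fun _ => rfl
    have h3 := ValRel.comp (χ := f.comp (ρ.codRestrict U hρU)) hρU h1 h2 fun _ => rfl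
    rw [mul_assoc]
    exact .comp hfN h3 hwR'c fun _ => rfl
  rcases hRU.eq_or_lt with hEq | hlt
  · -- `R` is centric
    have hRcent : F.IsCentric R := hEq ▸ hU
    have hQ₀cent := isCentric_of_isConj hRcent hRc
    have hAY : Q₀ ⊔ C ≤ Y :=
      sup_le hQ₀Y ((centralizerIn_le_self hQ₀cent).trans hQ₀Y)
    refine ⟨η.comp (Subgroup.inclusion hAY), restrict_mem hη hAY,
      fun r hr h2 h3 => hηQ r hr _ h3, ?_⟩
    exact (ValRel.eq_of_centric hv (hηv.restrict hAY fun _ => rfl) hA).symm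
  -- `R < U`: split off an extension to a centric subgroup
  let γ : Q₀ →* Ω := η.comp (Subgroup.inclusion hQ₀Y)
  have hγ : γ ∈ F.Hom Q₀ := restrict_mem hη hQ₀Y
  have hγr : γ.range = Q₀ := by
    refine eq_of_le_of_card_le hQ₀S ?_ (card_range hγ).ge
    rintro _ ⟨⟨z, hz⟩, rfl⟩
    obtain ⟨r, hr, hrR, rfl⟩ := mem_map_subgroupOf.1 (hwRm.ge hz)
    have h3 : χ ⟨r, hrR⟩ ∈ χ.range := ⟨_, rfl⟩
    refine Set.mem_of_eq_of_mem ((apply_congr η rfl).trans (hηQ ⟨r, hrR⟩ hr (hQ₀Y hz)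
      (le_normalizerIn (range_le_S hχm) h3))) ?_
    exact hwR'm.le (apply_mem_map_subgroupOf _ h3)
  have hX : Y ⊔ C ≤ extender S Q₀ γ := by
    refine sup_le (fun g hg => ?_) (centralizerIn_le_extender Q₀ γ)
    refine mem_extender_of (hYN hg) (apply_mem_S hη ⟨g, hg⟩) fun z hz => ?_
    show η _ = _ * η _ * _
    rw [← map_inv, ← map_mul, ← map_mul]
    exact apply_congr η rfl
  obtain ⟨ψ, hψ, hψe⟩ := receptive_extend hQ₀r hγ hγr hX
  have hXc : F.IsCentric (Y ⊔ C) := isCentric_mono hA (sup_le (hQ₀Y.trans le_sup_left)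
    le_sup_right) (sup_le (le_of_mem_hom hη) (centralizerIn_le_S Q₀))
  have hψN : ∀ y, ψ y ∈ normalizerIn S Q₀ := by
    intro y
    have h1 := map_mem_normalizerIn hψ (hQ₀Y.trans le_sup_left)
      (extender_le_normalizerIn Q₀ γ (hX y.2)) y.2
    rwa [map_eq_range_of_eq (hQ₀Y.trans le_sup_left) fun z hz hzX => hψe z hz hzX, hγr] at h1
  let ψY := ψ.comp (Subgroup.inclusion (le_sup_left : Y ≤ Y ⊔ C))
  have hψY : ψY ∈ F.Hom Y := restrict_mem hψ le_sup_left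
  obtain ⟨D, hDd⟩ : ∃ D : Subgroup Ω, D = ψY.range := ⟨_, rfl⟩
  obtain ⟨σ, hσ, hσr, hσ1, -⟩ := exists_inv hψY hDd.symm
  have hψv : ValRel F v Y ψY (v _ ψ) := .base le_sup_left hXc hψ fun _ => rfl
  have hσY : ∀ z, σ z ∈ Y := fun z => hσr.le ⟨z, rfl⟩
  let δ : D →* Ω := η.comp (σ.codRestrict Y hσY)
  have hδ : δ ∈ F.Hom D := F.comp_mem hσ hη hσY
  have hδv : ValRel F v D δ (c χ.range * v U f * (c R)⁻¹ * (v _ ψ)⁻¹) :=
    .comp hσY (hψv.inverse hv hDd.symm hσ1) hηv fun _ => rfl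
  have hDN : D ≤ normalizerIn S Q₀ := by rw [hDd]; rintro _ ⟨y, rfl⟩; exact hψN _
  have hQ₀D : Q₀ ≤ D := by
    intro z hz
    obtain ⟨u, rfl⟩ := hγr.ge hz
    exact hDd.ge ⟨⟨u, hQ₀Y u.2⟩, hψe u u.2 _⟩
  have hδfix : ∀ z : Q₀, δ ⟨z, hQ₀D z.2⟩ = z := by
    rintro ⟨z, hz⟩
    obtain ⟨u, rfl⟩ := hγr.ge hz
    have e : ψY ⟨u, hQ₀Y u.2⟩ = γ u := hψe u u.2 _
    show η ⟨σ ⟨γ u, _⟩, _⟩ = γ u
    refine (apply_congr η ?_).trans (show η ⟨u, hQ₀Y u.2⟩ = γ u from rfl)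
    show σ ⟨γ u, _⟩ = u
    exact (apply_congr σ e.symm).trans (hσ1 ⟨u, hQ₀Y u.2⟩ (hDd.ge ⟨_, rfl⟩))
  -- split `δ`
  let M := D ⊔ δ.range ⊔ C
  have hδN : δ.range ≤ normalizerIn S Q₀ := by rintro _ ⟨z, rfl⟩; exact hηN _
  have hMN : M ≤ normalizerIn S Q₀ := sup_le (sup_le hDN hδN) hCN
  obtain ⟨α, hα, hαr, hαfix, δ₀, hδ₀, hδ₀M, hδe⟩ := exists_factor_fix p hS hF hv hQ₀c
    (hMN.trans (normalizerIn_le_S Q₀)) (hMN.trans inf_le_right) le_sup_right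
    (hQ₀D.trans (le_sup_left.trans le_sup_left)) hδ hQ₀D (le_sup_left.trans le_sup_left)
    (fun z => Subgroup.mem_sup_left (Subgroup.mem_sup_right ⟨z, rfl⟩)) hδfix
  have hAM : Q₀ ⊔ C ≤ M :=
    sup_le (hQ₀D.trans (le_sup_left.trans le_sup_left)) le_sup_right
  have hMc : F.IsCentric M := isCentric_mono hA hAM (le_of_mem_hom hα)
  obtain ⟨α', hα', hα'r, hα'1, -⟩ := exists_inv hα hαr
  have hδM : ∀ z, δ z ∈ M := fun z => Subgroup.mem_sup_left (Subgroup.mem_sup_right ⟨z, rfl⟩)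
  let x := (v M α)⁻¹ * (c χ.range * v U f * (c R)⁻¹ * (v _ ψ)⁻¹)
  have hid : ValRel F v D D.subtype x := by
    have h1 : ValRel F v D δ₀ x := by
      have h0 := ValRel.comp (χ := δ₀) hδM hδv
        (.base le_rfl hMc hα' fun _ => rfl : ValRel F v M α' (v M α')) fun z =>
          ((apply_congr α' (hδe z)).trans (hα'1 ⟨δ₀ z, hδ₀M z⟩ (hαr.le ⟨_, rfl⟩))).symm
      rwa [hv.inv hMc hα hα' (fun y => hαr.le ⟨y, rfl⟩) fun y => hα'1 y _] at h0
    obtain ⟨τ, hτ, -, hτ1, -⟩ := exists_inv hδ₀.mem rfl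
    have h2 := ValRel.comp (χ := D.subtype) (Q := δ₀.range) (fun z => ⟨z, rfl⟩) h1
      (hδ₀.inverse hv rfl hτ1) fun z => (hτ1 z ⟨z, rfl⟩).symm
    rwa [inv_one, one_mul] at h2
  obtain ⟨u, hu, hufix, huv⟩ := loop_larger p hS hF hv k IH hQ₀c hk hQ₀D hDN
    (fun he => by
      have hN : R < N := lt_normalizerIn p hS hU.1 hlt
      refine hN.ne (eq_of_le_of_card_le (hNU.trans hU.1) hN.le ?_)
      rw [← card_range hw₀, ← hYd, ← card_range hψY, ← hDd, ← he, IsConj.card_eq hRc]) hid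
  -- assemble
  have hψA : ∀ y : ↥(Q₀ ⊔ C), ψ ⟨y, sup_le (hQ₀Y.trans le_sup_left) le_sup_right y.2⟩ ∈
      Q₀ ⊔ C := fun y => map_sup_centralizer_mem hψ (hQ₀Y.trans le_sup_left)
        ((map_eq_range_of_eq (hQ₀Y.trans le_sup_left) fun z hz hzX => hψe z hz hzX).trans hγr)
        y.2 le_sup_right
  have huA : ∀ y, u y ∈ Q₀ ⊔ C := fun y => map_sup_centralizer_mem hu le_sup_left (by
    ext z
    rw [mem_map_subgroupOf]
    exact ⟨fun ⟨q, _, hqQ, hqe⟩ => hqe ▸ Set.mem_of_eq_of_mem (hufix ⟨q, hqQ⟩) hqQ,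
      fun hz => ⟨z, le_sup_left (b := C) hz, hz, hufix ⟨z, hz⟩⟩⟩) y.2 le_sup_right
  have hle : Q₀ ⊔ C ≤ Y ⊔ C := sup_le (hQ₀Y.trans le_sup_left) le_sup_right
  let g := (α.comp (Subgroup.inclusion hAM)).comp
    ((u.comp ((ψ.comp (Subgroup.inclusion hle)).codRestrict _ hψA)).codRestrict _
      fun y => huA _)
  have hg : g ∈ F.Hom (Q₀ ⊔ C) :=
    F.comp_mem (F.comp_mem (restrict_mem hψ hle) hu hψA) (restrict_mem hα hAM) fun y => huA _
  refine ⟨g, hg, fun r hr h2 h3 => ?_, ?_⟩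
  · have hq : w R ⟨r, hr⟩ ∈ Q₀ := hwRm.le (apply_mem_map_subgroupOf (w R) r.2)
    have e0 : ψ ⟨w R ⟨r, hr⟩, hle h2⟩ = γ ⟨_, hq⟩ := hψe _ hq _
    have e1 : γ ⟨_, hq⟩ = w χ.range ⟨χ r, h3⟩ := hηQ r hr _ h3
    have hmem : γ ⟨_, hq⟩ ∈ Q₀ := hγr.le ⟨_, rfl⟩
    refine Eq.trans ?_ e1
    refine (apply_congr (α.comp (Subgroup.inclusion hAM))
      (y := Subgroup.inclusion le_sup_left ⟨_, hmem⟩) ?_).trans (hαfix ⟨_, hmem⟩)
    exact (apply_congr u (y := Subgroup.inclusion le_sup_left ⟨_, hmem⟩) e0).trans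
      (hufix ⟨_, hmem⟩)
  · rw [hv.mul hA (F.comp_mem (restrict_mem hψ hle) hu hψA) (restrict_mem hα hAM)
        (fun y => huA _) (χ := g) fun y => rfl,
      hv.mul hA (restrict_mem hψ hle) hu hψA (χ := u.comp (((ψ.comp
        (Subgroup.inclusion hle))).codRestrict _ hψA)) fun y => rfl,
      hv.restrict hA hle hψ (χ := ψ.comp (Subgroup.inclusion hle)) fun y => rfl,
      hv.restrict hA hAM hα (χ := α.comp (Subgroup.inclusion hAM)) fun y => rfl, huv]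
    simp only [x]
    group
include hS hF in
/-- **The loops at a fully centralized subgroup.** -/
theorem fixVal_of_valRel (hv : IsVal F F.IsCentric v) :
    ∀ (k : ℕ) {Q : Subgroup Ω}, F.IsFullyCentralized Q → Nat.card S - Nat.card Q = k → ∀ {x : Δ},
      ValRel F v Q Q.subtype x → FixVal F v Q x := by
  intro k
  induction k using Nat.strong_induction_on with
  | _ k IH =>
  intro Q hQ hk x hx
  -- the representative of the class and the chosen maps onto it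
  obtain ⟨Q₀, hQQ₀, hQ₀n⟩ := exists_fullyNormalized F hQ.1
  obtain ⟨hQ₀a, hQ₀r⟩ := good_of_fullyNormalized p hS hF hQ₀n
  have hQ₀c := fullyCentralized_of_fullyNormalized p hS hF hQ₀n
  set C := centralizerIn S Q₀ with hCd
  have hA : F.IsCentric (Q₀ ⊔ C) := isCentric_sup_centralizer hQ₀c
  have hW : ∀ P : Subgroup Ω, ∃ (w : ↥(normalizerIn S P) →* Ω) (c : Δ), F.IsConj P Q₀ →
      w ∈ F.Hom (normalizerIn S P) ∧ (∀ y, w y ∈ normalizerIn S Q₀) ∧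
        (P.subgroupOf (normalizerIn S P)).map w = Q₀ ∧ ValRel F v (normalizerIn S P) w c :=
    fun P => by
      by_cases hP : F.IsConj P Q₀
      · obtain ⟨w, hw, h1, h2⟩ := exists_map_normalizer p hS hQ₀a hQ₀r hP
        obtain ⟨c, hc⟩ := exists_valRel p hS hF hv hw
        exact ⟨w, c, fun _ => ⟨hw, h1, h2, hc⟩⟩
      · exact ⟨1, 1, fun h => absurd h hP⟩
  choose w c hw using hW
  -- what has to be shown for every composite
  let Inv : ∀ P : Subgroup Ω, (P →* Ω) → Δ → Prop := fun P φ t =>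
    ∃ f ∈ F.Hom (Q₀ ⊔ C),
      (∀ (y : P) (h1 : (y : Ω) ∈ normalizerIn S P) (h2 : w P ⟨y, h1⟩ ∈ Q₀ ⊔ C)
        (h3 : φ y ∈ normalizerIn S φ.range), f ⟨w P ⟨y, h1⟩, h2⟩ = w φ.range ⟨φ y, h3⟩) ∧
      v (Q₀ ⊔ C) f = c φ.range * t * (c P)⁻¹
  suffices key : ∀ {P : Subgroup Ω} {φ : P →* Ω} {t : Δ}, ValRel F v P φ t →
      ∀ {R : Subgroup Ω} (hR : R ≤ P), F.IsConj R Q₀ → ∀ {χ : R →* Ω},
        (∀ y : R, χ y = φ ⟨y, hR y.2⟩) → Inv R χ t by
    obtain ⟨f, hf, hfe, hfv⟩ := key hx le_rfl hQQ₀ (χ := Q.subtype) fun _ => rfl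
    rw [Q.range_subtype] at hfv
    obtain ⟨hwH, -, hwm, hwc⟩ := hw Q hQQ₀
    have hQN := le_normalizerIn (S := S) hQ.1
    have hAN : Q ⊔ centralizerIn S Q ≤ normalizerIn S Q :=
      sup_le hQN (centralizerIn_le_normalizerIn Q)
    have hwA : ∀ y : ↥(Q ⊔ centralizerIn S Q), w Q ⟨y, hAN y.2⟩ ∈ Q₀ ⊔ C := fun y =>
      map_sup_centralizer_mem hwH hQN hwm y.2 (centralizerIn_le_normalizerIn Q)
    let a := (w Q).comp (Subgroup.inclusion hAN)
    have ha : a ∈ F.Hom (Q ⊔ centralizerIn S Q) := restrict_mem hwH hAN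
    have hAQ : F.IsCentric (Q ⊔ centralizerIn S Q) := isCentric_sup_centralizer hQ
    have har : a.range = Q₀ ⊔ C := by
      refine eq_of_le_of_card_le hA.1 (by rintro _ ⟨y, rfl⟩; exact hwA y) ?_
      rw [card_range ha]
      obtain ⟨ρ, hρ, hρr⟩ := isConj_symm hQQ₀
      obtain ⟨ρ', hρ', hρe⟩ := receptive_extend (receptive_of_fullyCentralized p hS hF hQ) hρ hρr
        (N := Q₀ ⊔ C) (sup_le (le_extender hρ) (centralizerIn_le_extender Q₀ ρ))
      refine (card_le_card_map hAQ.1 (F.injective_of_mem hρ') le_rfl fun y hy => ?_).1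
      exact map_sup_centralizer_mem hρ' le_sup_left
        ((map_eq_range_of_eq le_sup_left hρe).trans hρr) hy le_sup_right
    obtain ⟨b, hb, hbr, hb1, -⟩ := exists_inv ha har
    have hfe' : ∀ (q : Q) (h1 : (q : Ω) ∈ normalizerIn S Q) (h2 : w Q ⟨q, h1⟩ ∈ Q₀ ⊔ C),
        f ⟨w Q ⟨q, h1⟩, h2⟩ = w Q ⟨q, h1⟩ := fun q h1 h2 =>
      (hfe q h1 h2 (le_normalizerIn (range_le_S (subtype_mem (F := F) hQ.1)) ⟨q, rfl⟩)).trans
        (congr_normalizer Q.range_subtype.symm rfl _ _)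
    have hfA : ∀ y, f y ∈ Q₀ ⊔ C := by
      intro y
      refine map_sup_centralizer_mem hf le_sup_left ?_ y.2 le_sup_right
      refine eq_of_le_of_card_le hQ₀c.1 ?_
        (card_map_subgroupOf (F.injective_of_mem hf) le_sup_left).ge
      intro z hz
      obtain ⟨u, hu, huQ, rfl⟩ := mem_map_subgroupOf.1 hz
      obtain ⟨q, hq, hqQ, rfl⟩ := mem_map_subgroupOf.1 (hwm.ge huQ)
      exact Set.mem_of_eq_of_mem (hfe' ⟨q, hqQ⟩ hq hu) huQ
    let g := b.comp ((f.comp (a.codRestrict _ hwA)).codRestrict _ fun y => hfA _)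
    have hg : g ∈ F.Hom (Q ⊔ centralizerIn S Q) :=
      F.comp_mem (F.comp_mem ha hf hwA) hb fun y => hfA _
    refine ⟨g, hg, fun q => ?_, ?_⟩
    · have hq : (q : Ω) ∈ normalizerIn S Q := hQN q.2
      refine Eq.trans ?_ (hb1 (Subgroup.inclusion le_sup_left q) (hwA _))
      exact apply_congr b ((apply_congr f rfl).trans
        (hfe' q hq (hwA (Subgroup.inclusion le_sup_left q))))
    · have hca : v _ a = c Q := by
        refine (ValRel.eq_of_centric hv ?_ hAQ).symm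
        exact hwc.restrict hAN fun y => rfl
      rw [hv.mul hAQ (F.comp_mem ha hf hwA) hb (fun y => hfA _) (χ := g) fun y => rfl,
        hv.mul hAQ ha hf hwA (χ := f.comp (a.codRestrict _ hwA)) fun y => rfl,
        hv.inv hAQ ha hb hwA fun y => hb1 y _, hca, hfv]
      group
  intro P φ t h
  induction h with
  | @comp P P₁ φ ψ χ₀ s t h hφ hψ hχ₀ ihφ ihψ =>
    intro R hR hRc χ hχ
    let φ₁ := φ.comp (Subgroup.inclusion hR)
    have hφ₁ : φ₁ ∈ F.Hom R := restrict_mem hφ.mem hR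
    have hR' : F.IsConj φ₁.range Q₀ := isConj_trans (isConj_symm ⟨φ₁, hφ₁, rfl⟩) hRc
    have hle : φ₁.range ≤ P₁ := by rintro _ ⟨y, rfl⟩; exact h _
    let ψ₁ := ψ.comp (Subgroup.inclusion hle)
    obtain ⟨f, hf, hfe, hfv⟩ := ihφ hR hRc (χ := φ₁) fun y => rfl
    obtain ⟨g, hg, hge, hgv⟩ := ihψ hle hR' (χ := ψ₁) fun y => rfl
    have hr : χ.range = ψ₁.range := by
      ext z
      constructor
      · rintro ⟨y, rfl⟩
        exact ⟨⟨φ₁ y, y, rfl⟩, ((hχ y).trans (hχ₀ _)).symm⟩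
      · rintro ⟨⟨_, y, rfl⟩, rfl⟩
        exact ⟨y, (hχ y).trans (hχ₀ _)⟩
    have hfA : ∀ y, f y ∈ Q₀ ⊔ C := by
      intro y
      refine map_sup_centralizer_mem hf le_sup_left ?_ y.2 le_sup_right
      refine eq_of_le_of_card_le hQ₀c.1 ?_
        (card_map_subgroupOf (F.injective_of_mem hf) le_sup_left).ge
      intro z hz
      obtain ⟨u, hu, huQ, rfl⟩ := mem_map_subgroupOf.1 hz
      obtain ⟨q, hq, hqR, rfl⟩ := mem_map_subgroupOf.1 ((hw R hRc).2.2.1.ge huQ)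
      have hq' : φ₁ ⟨q, hqR⟩ ∈ φ₁.range := ⟨_, rfl⟩
      rw [hfe ⟨q, hqR⟩ hq hu (le_normalizerIn (IsConj.le_left hR') hq')]
      exact (hw _ hR').2.2.1.le (apply_mem_map_subgroupOf _ hq')
    refine ⟨g.comp (f.codRestrict _ hfA), F.comp_mem hf hg hfA, fun y h1 h2 h3 => ?_, ?_⟩
    · have h4 : φ₁ y ∈ normalizerIn S φ₁.range := le_normalizerIn (IsConj.le_left hR') ⟨y, rfl⟩
      have e₁ := hfe y h1 h2 h4
      have h5 : ψ₁ ⟨φ₁ y, y, rfl⟩ ∈ normalizerIn S ψ₁.range :=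
        le_normalizerIn (range_le_S (restrict_mem hψ.mem hle)) ⟨_, rfl⟩
      have e₂ := hge ⟨φ₁ y, y, rfl⟩ h4 (Set.mem_of_eq_of_mem e₁.symm (hfA _)) h5
      refine ((apply_congr g e₁).trans e₂).trans ?_
      exact congr_normalizer hr ((hχ y).trans (hχ₀ _)).symm h5 h3
    · rw [hv.mul hA hf hg hfA (χ := g.comp (f.codRestrict _ hfA)) fun y => rfl, hgv, hfv,
        congrArg c hr]
      group
  | @base P U φ f hPU hU hf he =>
    intro R hR hRc χ hχ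
    exact loop_base p hS hF hv k (fun m hm Q hQ hk x hx => IH m hm hQ hk hx) hQ₀c hQ₀r
      (by rw [← hk, IsConj.card_eq hQQ₀]) w c hw (hR.trans hPU) hU hf hRc
      fun y => (hχ y).trans (he _)

include hS hF in
/-- The value of a loop at a fully centralized subgroup is the value of a map fixing it. -/
theorem fixVal_loop (hv : IsVal F F.IsCentric v) {Q : Subgroup Ω}
    (hQ : F.IsFullyCentralized Q) {x : Δ} (hx : ValRel F v Q Q.subtype x) : FixVal F v Q x :=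
  fixVal_of_valRel p hS hF hv _ hQ rfl hx

end CfsgLib.Fusion
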