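import Cfsg.Agent.Fusion.Quotient
import Cfsg.Agent.Fusion.GroupSystem
import Cfsg.Agent.ZJ.Involve
import Cfsg.Agent.ZJ.PStable
import Cfsg.Agent.Functor.Relative

/-!
A group involving Qd(p) has a centric `p`-local subgroup involving it; local models of the fusion
system of a group are images of normalizers.
-/

set_option autoImplicit false
set_option linter.style.haveILetI false

open Cfsg Cfsg.FusionSystem CfsgLib.ZJ

namespace CfsgLib.Fusion

universe u

/-! ### The translations of `Qd(p)` -/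

section Translations

variable (p : ℕ) [Fact p.Prime]

/-- The translation by `(c, d)`. -/
def transl (c d : ZMod p) : Cfsg.qd p := ⟨affMat c d 1, affMat_mem_qd c d 1⟩

theorem transl_mul (c d c' d' : ZMod p) :
    transl p c d * transl p c' d' = transl p (c + c') (d + d') := by
  refine Subtype.ext ?_
  show affMat c d 1 * affMat c' d' 1 = affMat (c + c') (d + d') 1
  rw [affMat_mul, one_mul]
  congr 1 <;> simp

theorem transl_zero : transl p 0 0 = 1 := Subtype.ext affMat_one

/-- The subgroup of translations. -/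
def translations : Subgroup (Cfsg.qd p) where
  carrier := {x | ∃ c d, x = transl p c d}
  one_mem' := ⟨0, 0, (transl_zero p).symm⟩
  mul_mem' := by
    rintro _ _ ⟨c, d, rfl⟩ ⟨c', d', rfl⟩
    exact ⟨_, _, transl_mul p c d c' d'⟩
  inv_mem' := by
    rintro _ ⟨c, d, rfl⟩
    exact ⟨-c, -d, inv_eq_of_mul_eq_one_left (by rw [transl_mul, neg_add_cancel, neg_add_cancel, transl_zero])⟩

theorem transl_pow (c d : ZMod p) (j : ℕ) : transl p c d ^ j = transl p (j * c) (j * d) := by
  induction j with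
  | zero => simp [transl_zero]
  | succ j ih => rw [pow_succ, ih, transl_mul]; congr 1 <;> push_cast <;> ring

theorem isPGroup_translations : IsPGroup p (translations p) := by
  rintro ⟨_, c, d, rfl⟩
  exact ⟨1, Subtype.ext (by simp [transl_pow, transl_zero])⟩

theorem exists_aff (x : Cfsg.qd p) : ∃ c d A, x = ⟨affMat c d A, affMat_mem_qd c d A⟩ := by
  obtain ⟨c, d, A, h⟩ := exists_affMat_of_mem_qd x.2
  exact ⟨c, d, A, Subtype.ext h⟩

theorem conj_transl (c d : ZMod p) (A : SL2 (ZMod p)) (c' d' : ZMod p) :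
    (⟨affMat c d A, affMat_mem_qd c d A⟩ : Cfsg.qd p) * transl p c' d' *
      (⟨affMat c d A, affMat_mem_qd c d A⟩ : Cfsg.qd p)⁻¹ =
      transl p (A 0 0 * c' + A 0 1 * d') (A 1 0 * c' + A 1 1 * d') := by
  rw [mul_inv_eq_iff_eq_mul]
  refine Subtype.ext ?_
  show affMat c d A * affMat c' d' 1 = affMat _ _ 1 * affMat c d A
  rw [affMat_mul, affMat_mul, mul_one, one_mul]
  congr 1 <;> simp <;> ring

theorem translations_normal : (translations p).Normal := by
  refine ⟨?_⟩
  rintro _ ⟨c', d', rfl⟩ x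
  obtain ⟨c, d, A, rfl⟩ := exists_aff p x
  exact ⟨_, _, conj_transl p c d A c' d'⟩

theorem transl_inj {c d c' d' : ZMod p} (h : transl p c d = transl p c' d') : c = c' ∧ d = d' :=
  let h' := affMat_inj (congrArg Subtype.val h)
  ⟨h'.1, h'.2.1⟩

theorem centralizer_translations :
    Subgroup.centralizer (translations p : Set (Cfsg.qd p)) ≤ translations p := by
  intro x hx
  obtain ⟨c, d, A, rfl⟩ := exists_aff p x
  have h1 := conj_transl p c d A 1 0
  have h2 := conj_transl p c d A 0 1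
  rw [← hx _ ⟨1, 0, rfl⟩, mul_inv_cancel_right] at h1
  rw [← hx _ ⟨0, 1, rfl⟩, mul_inv_cancel_right] at h2
  obtain ⟨a, b⟩ := transl_inj p h1
  obtain ⟨a', b'⟩ := transl_inj p h2
  refine ⟨c, d, ?_⟩
  have hA : A = 1 := by
    refine sl2_ext ?_ ?_ ?_ ?_
    · simpa using a.symm
    · simpa using a'.symm
    · simpa using b.symm
    · simpa using b'.symm
  subst hA
  rfl

/-- A normal subgroup of order prime to `p` is trivial. -/
theorem eq_bot_of_coprime {N : Subgroup (Cfsg.qd p)} [N.Normal] (hN : (Nat.card N).Coprime p) :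
    N = ⊥ := by
  have h := isPGroup_inf_coprime (isPGroup_translations p) hN
  haveI := translations_normal p
  have hc : N ≤ Subgroup.centralizer (translations p : Set (Cfsg.qd p)) := fun x hx t ht =>
    (Subgroup.commute_of_normal_of_disjoint (translations p) N inferInstance inferInstance
      (disjoint_iff.2 h) t x ht hx).eq
  rw [← le_bot_iff, ← h]
  exact le_inf (hc.trans (centralizer_translations p)) le_rfl

end Translations

/-! ### The centric local subgroup -/

variable {G : Type u} [Group G] [Finite G] {p : ℕ} [Fact p.Prime]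

/-- Involvement of Qd(p) gives a subgroup `R` with an action on it. -/
theorem exists_local_plane (f₀ : Cfsg.Involves ↥(Cfsg.qd p) G) :
    ∃ (K R : Subgroup G) (f : K →* Cfsg.qd p), Function.Surjective f ∧ IsPGroup p R ∧ R ≤ K ∧
      K ≤ Subgroup.normalizer (R : Set G) ∧ (R.subgroupOf K).map f = translations p := by
  obtain ⟨K, f, hf⟩ := exists_surjective_of_involves f₀
  haveI := translations_normal p
  set M : Subgroup K := (translations p).comap f with hM
  obtain ⟨R⟩ := (inferInstance : Nonempty (Sylow p M))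
  set R' : Subgroup K := (R : Subgroup M).map M.subtype
  have hR'M : R' ≤ M := Subgroup.map_subtype_le _
  have hR'f : R'.map f = translations p := by
    refine le_antisymm (Subgroup.map_le_iff_le_comap.2 hR'M) ?_
    set g : M →* translations p := f.subgroupComap (translations p)
    have hg : Function.Surjective g := f.subgroupComap_surjective_of_surjective _ hf
    have htop : ((R.mapSurjective hg : Sylow p (translations p)) : Subgroup (translations p)) = ⊤ :=
      ((R.mapSurjective hg).3 ((isPGroup_translations p).to_subgroup ⊤) le_top).symm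
    intro x hx
    obtain ⟨m, hm, hmx⟩ := (htop ▸ Subgroup.mem_top _ : (⟨x, hx⟩ : translations p) ∈
      ((R.mapSurjective hg : Sylow p (translations p)) : Subgroup (translations p)))
    exact ⟨m, ⟨m, hm, rfl⟩, congrArg Subtype.val hmx⟩
  have hfr : Subgroup.normalizer (R' : Set K) ⊔ M = ⊤ := Sylow.normalizer_sup_eq_top R
  set K1 : Subgroup K := Subgroup.normalizer (R' : Set K)
  have hK1 : K1.map f = ⊤ := by
    rw [← Subgroup.map_top_of_surjective f hf, ← hfr, Subgroup.map_sup]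
    refine (sup_eq_left.2 ?_).symm
    refine (Subgroup.map_le_iff_le_comap.2 le_rfl).trans ?_
    rw [← hR'f]
    exact Subgroup.map_mono Subgroup.le_normalizer
  refine ⟨K1.map K.subtype, R'.map K.subtype,
    (f.comp K1.subtype).comp (K1.equivMapOfInjective K.subtype K.subtype_injective).symm.toMonoidHom,
    ?_, ((R.2.map _).map _), Subgroup.map_mono Subgroup.le_normalizer,
    Subgroup.le_normalizer_map K.subtype, ?_⟩
  · intro y
    obtain ⟨x, hx, hxy⟩ := (hK1.ge (Subgroup.mem_top y))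
    exact ⟨K1.equivMapOfInjective K.subtype K.subtype_injective ⟨x, hx⟩, by simp [hxy]⟩
  · rw [← hR'f]
    ext y
    simp only [Subgroup.mem_map, Subgroup.mem_subgroupOf]
    constructor
    · rintro ⟨a, ⟨b, hb, hba⟩, rfl⟩
      refine ⟨b, hb, ?_⟩
      have : (K1.equivMapOfInjective K.subtype K.subtype_injective).symm a = ⟨b, Subgroup.le_normalizer hb⟩ := by
        rw [MulEquiv.symm_apply_eq]
        exact Subtype.ext (by simpa using hba.symm)
      show f b = _
      simp [this]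
    · rintro ⟨b, hb, rfl⟩
      exact ⟨K1.equivMapOfInjective K.subtype K.subtype_injective ⟨b, Subgroup.le_normalizer hb⟩,
        ⟨b, hb, rfl⟩, by simp⟩

/-- **A group involving Qd(p) has a centric local subgroup involving it.** -/
theorem exists_centric_local (hp : p ≠ 2) (hinv : Cfsg.Involves ↥(Cfsg.qd p) G) :
    ∃ Q : Subgroup G, IsPGroup p Q ∧
      (∀ x ∈ Subgroup.centralizer (Q : Set G), (∃ j : ℕ, x ^ p ^ j = 1) → x ∈ Q) ∧
      Cfsg.Involves ↥(Cfsg.qd p) ↥(Subgroup.normalizer (Q : Set G)) := by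
  obtain ⟨K, R, f, hf, hRp, hRK, hKR, hRf⟩ := exists_local_plane hinv
  set C := Subgroup.centralizer (R : Set G) with hC
  obtain ⟨D⟩ := (inferInstance : Nonempty (Sylow p C))
  set D' : Subgroup G := (D : Subgroup C).map C.subtype with hD'
  have hD'C : D' ≤ C := Subgroup.map_subtype_le _
  have hD'p : IsPGroup p D' := D.2.map _
  have hRD : R ≤ Subgroup.normalizer (D' : Set G) :=
    (Subgroup.le_centralizer_iff.1 hD'C).trans (Subgroup.centralizer_le_normalizer _)
  set Q := R ⊔ D' with hQ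
  have hQp : IsPGroup p Q := hRp.to_sup_of_normal_right' hD'p hRD
  refine ⟨Q, hQp, fun x hx hxp => ?_, ?_⟩
  · obtain ⟨j, hj⟩ := hxp
    have hxC : x ∈ C := Subgroup.centralizer_le (SetLike.coe_subset_coe.2 le_sup_left) hx
    have hxD : x ∈ Subgroup.centralizer (D' : Set G) :=
      Subgroup.centralizer_le (SetLike.coe_subset_coe.2 le_sup_right) hx
    have hzp : IsPGroup p (Subgroup.zpowers x) := by
      rintro ⟨_, i, rfl⟩
      refine ⟨j, Subtype.ext ?_⟩
      show (x ^ i) ^ p ^ j = 1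
      rw [← zpow_natCast, ← zpow_mul, mul_comm, zpow_mul, zpow_natCast, hj, one_zpow]
    have hU : IsPGroup p ↥(Subgroup.zpowers x ⊔ D') := hzp.to_sup_of_normal_right' hD'p
      (Subgroup.zpowers_le.2 (Subgroup.centralizer_le_normalizer _ hxD))
    have hUC : Subgroup.zpowers x ⊔ D' ≤ C := sup_le (Subgroup.zpowers_le.2 hxC) hD'C
    have h1 : (D : Subgroup C) = (Subgroup.zpowers x ⊔ D').subgroupOf C := by
      refine (D.3 (hU.comap_of_injective _ C.subtype_injective) fun y hy => ?_).symm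
      exact Subgroup.mem_sup_right ⟨y, hy, rfl⟩
    refine Subgroup.mem_sup_right ⟨⟨x, hxC⟩, ?_, rfl⟩
    rw [h1]
    exact Subgroup.mem_sup_left (Subgroup.mem_zpowers x)
  -- the Frattini argument
  set H := Subgroup.normalizer (R : Set G) with hH
  have hfr : ∀ k ∈ K, ∃ n ∈ H ⊓ Subgroup.normalizer (D' : Set G), k⁻¹ * n ∈ C := by
    intro k hk
    have hCH : C ≤ H := Subgroup.centralizer_le_normalizer _
    have hn : H ≤ Subgroup.normalizer (C : Set G) := fun g hg => by
      rw [hC, ← CfsgLib.Functor.mem_normalizer_iff_cj.1 hg, ← CfsgLib.Functor.cj_centralizer]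
      exact CfsgLib.Functor.mem_normalizer_iff_cj.2 (by
        rw [CfsgLib.Functor.cj_centralizer, CfsgLib.Functor.cj_centralizer,
          CfsgLib.Functor.mem_normalizer_iff_cj.1 hg, CfsgLib.Functor.mem_normalizer_iff_cj.1 hg])
    haveI : (C.subgroupOf H).Normal := CfsgLib.Functor.normal_subgroupOf_of_le hn
    have hD : CfsgLib.Functor.IsSylowIn p D' C := CfsgLib.Functor.isSylowIn_map_subtype D
    obtain ⟨TH, hTH, hD'T⟩ := CfsgLib.Functor.exists_sylowIn_ge hD'p (hD'C.trans hCH)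
    have hTC : D' = TH ⊓ C :=
      hD.eq_of_le (hTH.2.1.to_le inf_le_left) inf_le_right (le_inf hD'T hD'C)
    obtain ⟨c, hc, n, hn', hcn⟩ := hTH.frattini hCH hn (hKR hk)
    refine ⟨n, ⟨?_, hTC ▸ hn'.2⟩, ?_⟩
    · exact hn'.1
    · rw [hcn]
      simpa [mul_assoc] using (hn'.1 |> fun h => show n⁻¹ * c⁻¹ * n ∈ C from by
        have := (Subgroup.mem_normalizer_iff''.1 (hn h) c⁻¹).1 (inv_mem hc)
        simpa using this)
  -- the section
  set A : Subgroup G := (f.ker.map K.subtype) ⊓ R with hA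
  set N := Subgroup.normalizer (Q : Set G) ⊓ Subgroup.normalizer (A : Set G) ⊓ H with hN
  have hAR : A ≤ R := inf_le_right
  have hRN : R ≤ N := by
    refine le_inf (le_inf (le_sup_left.trans Subgroup.le_normalizer) ?_) Subgroup.le_normalizer
    intro r hr
    refine CfsgLib.Functor.mem_normalizer_iff_cj.2 ?_
    rw [hA, CfsgLib.Functor.cj_inf, CfsgLib.Functor.cj_eq_self_of_mem hr,
      CfsgLib.Functor.mem_normalizer_iff_cj.1
        (CfsgLib.Functor.le_normalizer_map_of_normal f.ker (hRK hr))]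
  -- each element of `K` acts on `R` like one of `N`
  have hlift : ∀ k : K, ∃ n : N, ∀ r ∈ R, (n : G) * r * (n : G)⁻¹ = (k : G) * r * (k : G)⁻¹ := by
    intro k
    obtain ⟨n, ⟨hnH, hnD⟩, hc⟩ := hfr k k.2
    have hact : ∀ r ∈ R, n * r * n⁻¹ = (k : G) * r * (k : G)⁻¹ := fun r hr => by
      have h1 : ((k : G)⁻¹ * n) * r * ((k : G)⁻¹ * n)⁻¹ = r := by
        rw [← Subgroup.mem_centralizer_iff.1 hc r hr, mul_inv_cancel_right]
      calc n * r * n⁻¹ = (k : G) * (((k : G)⁻¹ * n) * r * ((k : G)⁻¹ * n)⁻¹) * (k : G)⁻¹ := by group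
        _ = _ := by rw [h1]
    refine ⟨⟨n, ⟨⟨?_, ?_⟩, hnH⟩⟩, hact⟩
    · refine CfsgLib.Functor.mem_normalizer_iff_cj.2 ?_
      rw [hQ, Subgroup.map_sup, CfsgLib.Functor.mem_normalizer_iff_cj.1 hnH,
        CfsgLib.Functor.mem_normalizer_iff_cj.1 hnD]
    · refine CfsgLib.Functor.mem_normalizer_iff_cj.2
        (CfsgLib.Functor.eq_of_le_of_card_le' ?_ (CfsgLib.Functor.card_cj n A).ge)
      rintro _ ⟨r, hr, rfl⟩
      refine (show n * r * n⁻¹ ∈ A from ?_)
      rw [hact r hr.2]
      exact ⟨(CfsgLib.Functor.le_normalizer_map_of_normal f.ker k.2 |>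
        fun h => (Subgroup.mem_normalizer_iff.1 h r).1 hr.1),
        (Subgroup.mem_normalizer_iff.1 (hKR k.2) r).1 hr.2⟩
  have hAN : N ≤ Subgroup.normalizer (A : Set G) := inf_le_left.trans inf_le_right
  haveI : (A.subgroupOf N).Normal := CfsgLib.Functor.normal_subgroupOf_of_le hAN
  let π := QuotientGroup.mk' (A.subgroupOf N)
  set V : Subgroup (N ⧸ A.subgroupOf N) := (R.subgroupOf N).map π with hV
  have hkerf : ∀ (r : G) (hr : r ∈ R), π ⟨r, hRN hr⟩ = 1 ↔ f ⟨r, hRK hr⟩ = 1 := by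
    intro r hr
    show (QuotientGroup.mk' (A.subgroupOf N) _ = 1) ↔ _
    rw [QuotientGroup.mk'_apply, QuotientGroup.eq_one_iff, Subgroup.mem_subgroupOf]
    constructor
    · rintro ⟨⟨k, hk, hkr⟩, -⟩
      exact (congrArg f (Subtype.ext hkr)).symm.trans hk
    · intro h
      exact ⟨⟨⟨r, hRK hr⟩, h, rfl⟩, hr⟩
  have hfR : ∀ (r : G) (hr : r ∈ R), f ⟨r, hRK hr⟩ ∈ translations p := fun r hr =>
    hRf.le ⟨⟨r, hRK hr⟩, hr, rfl⟩
  have hVel : Cfsg.IsElementaryAbelian p V := by
    refine ⟨⟨⟨?_⟩⟩, ?_⟩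
    · rintro ⟨_, ⟨a, haN⟩, ha, rfl⟩ ⟨_, ⟨b, hbN⟩, hb, rfl⟩
      refine Subtype.ext ?_
      show π _ * π _ = π _ * π _
      rw [← map_mul, ← map_mul, ← mul_inv_eq_one, ← map_inv, ← map_mul]
      refine (hkerf (a * b * (b * a)⁻¹) (mul_mem (mul_mem ha hb) (inv_mem (mul_mem hb ha)))).2 ?_
      obtain ⟨c, d, hcd⟩ := hfR a ha
      obtain ⟨c', d', hcd'⟩ := hfR b hb
      show f (⟨a, hRK ha⟩ * ⟨b, hRK hb⟩ * (⟨b, hRK hb⟩ * ⟨a, hRK ha⟩)⁻¹) = 1
      rw [map_mul, map_mul, map_inv, map_mul, hcd, hcd', transl_mul, transl_mul, add_comm c,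
        add_comm d, mul_inv_cancel]
    · rintro _ ⟨⟨a, haN⟩, ha, rfl⟩
      rw [← map_pow]
      refine (hkerf (a ^ p) (pow_mem ha p)).2 ?_
      obtain ⟨c, d, hcd⟩ := hfR a ha
      show f (⟨a, hRK ha⟩ ^ p) = 1
      rw [map_pow, hcd, transl_pow]
      simp [transl_zero]
  -- the matrices of the two transvections
  have hvec : ∀ c d : ZMod p, ∃ v : V, ∀ (r : G) (hr : r ∈ R), f ⟨r, hRK hr⟩ = transl p c d →
      π ⟨r, hRN hr⟩ = v := by
    intro c d
    obtain ⟨⟨r₀, hr₀K⟩, hr₀, hfr₀⟩ := hRf.ge ⟨c, d, rfl⟩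
    refine ⟨⟨_, ⟨r₀, hRN hr₀⟩, hr₀, rfl⟩, fun r hr hrf => ?_⟩
    show π ⟨r, hRN hr⟩ = π ⟨r₀, hRN hr₀⟩
    rw [← mul_inv_eq_one, ← map_inv, ← map_mul]
    refine (hkerf (r * r₀⁻¹) (mul_mem hr (inv_mem hr₀))).2 ?_
    show f (⟨r, hRK hr⟩ * (⟨r₀, hr₀K⟩ : K)⁻¹) = 1
    rw [map_mul, map_inv, hrf, hfr₀, mul_inv_cancel]
  choose vec hvec using hvec
  have hex : ∀ c d : ZMod p, ∃ (r : G) (hr : r ∈ R), f ⟨r, hRK hr⟩ = transl p c d := by
    intro c d
    obtain ⟨⟨r₀, hr₀K⟩, hr₀, hfr₀⟩ := hRf.ge ⟨c, d, rfl⟩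
    exact ⟨r₀, hr₀, hfr₀⟩
  have hvadd : ∀ c d c' d' : ZMod p, vec c d * vec c' d' = vec (c + c') (d + d') := by
    intro c d c' d'
    obtain ⟨r, hr, hrf⟩ := hex c d
    obtain ⟨r', hr', hrf'⟩ := hex c' d'
    refine Subtype.ext ?_
    rw [Subgroup.coe_mul, ← hvec c d r hr hrf, ← hvec c' d' r' hr' hrf', ← map_mul]
    refine hvec _ _ (r * r') (mul_mem hr hr') ?_
    show f (⟨r, hRK hr⟩ * ⟨r', hRK hr'⟩) = _
    rw [map_mul, hrf, hrf', transl_mul]
  have hvinj : ∀ c d : ZMod p, vec c d = 1 → c = 0 ∧ d = 0 := by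
    intro c d h
    obtain ⟨r, hr, hrf⟩ := hex c d
    have h1 := (hkerf r hr).1 ((hvec c d r hr hrf).trans (congrArg Subtype.val h))
    rw [hrf, ← transl_zero p] at h1
    exact transl_inj p h1
  haveI : (R.subgroupOf N).Normal := CfsgLib.Functor.normal_subgroupOf_of_le inf_le_right
  have hnor : ∀ n : N, π n ∈ Subgroup.normalizer (V : Set (N ⧸ A.subgroupOf N)) := fun n => by
    refine Subgroup.le_normalizer_map π ⟨n, ?_, rfl⟩
    rw [Subgroup.normalizer_eq_top (H := R.subgroupOf N)]; exact Subgroup.mem_top n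
  have hlin : ∀ A' : SL2 (ZMod p), ∃ n : Subgroup.normalizer (V : Set (N ⧸ A.subgroupOf N)),
      ∀ c d : ZMod p, (n : N ⧸ A.subgroupOf N) * (vec c d : N ⧸ A.subgroupOf N) * (n : N ⧸ A.subgroupOf N)⁻¹
        = vec (A' 0 0 * c + A' 0 1 * d) (A' 1 0 * c + A' 1 1 * d) := by
    intro A'
    obtain ⟨k, hk⟩ := hf ⟨affMat 0 0 A', affMat_mem_qd 0 0 A'⟩
    obtain ⟨n, hn⟩ := hlift k
    refine ⟨⟨π n, hnor n⟩, fun c d => ?_⟩
    obtain ⟨r, hr, hrf⟩ := hex c d
    have hr' : (n : G) * r * (n : G)⁻¹ ∈ R := (Subgroup.mem_normalizer_iff.1 n.2.2 r).1 hr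
    show π n * (vec c d : N ⧸ A.subgroupOf N) * (π n)⁻¹ = _
    rw [← hvec c d r hr hrf, ← map_inv, ← map_mul, ← map_mul]
    refine hvec _ _ _ hr' ?_
    rw [show (⟨(n : G) * r * (n : G)⁻¹, hRK hr'⟩ : K) = k * ⟨r, hRK hr⟩ * k⁻¹ from
      Subtype.ext (hn r hr), map_mul, map_mul, map_inv, hk, hrf, conj_transl]
  obtain ⟨n₁, hn₁⟩ := hlin (upper 1)
  obtain ⟨n₂, hn₂⟩ := hlin (lower (-1))
  set e₁ : ElabMod V hVel := toVec hVel (vec 1 0)
  set e₂ : ElabMod V hVel := toVec hVel (vec 0 1)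
  have hsm : ∀ c d : ZMod p, c • e₁ + d • e₂ = toVec hVel (vec c d) := by
    have hn : ∀ (i j : ℕ), (i : ℕ) • e₁ + j • e₂ = toVec hVel (vec i j) := by
      intro i j
      induction i with
      | zero =>
        rw [zero_smul, zero_add]
        induction j with
        | zero =>
          rw [zero_smul]
          have h0 : vec (0 : ZMod p) 0 = 1 := by
            have := hvadd 0 0 0 0
            rw [add_zero] at this
            exact mul_eq_left.1 this
          exact ofVec_injective hVel (by simp [ofVec_zero, h0])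
        | succ j ih =>
          rw [succ_nsmul, ih]
          refine ofVec_injective hVel ?_
          rw [ofVec_add, ofVec_toVec, ofVec_toVec, ofVec_toVec, hvadd]
          simp
      | succ i ih =>
        rw [succ_nsmul, add_right_comm, ih]
        refine ofVec_injective hVel ?_
        rw [ofVec_add, ofVec_toVec, ofVec_toVec, ofVec_toVec, hvadd]
        simp
    intro c d
    rw [← ZMod.natCast_zmod_val c, ← ZMod.natCast_zmod_val d, Nat.cast_smul_eq_nsmul,
      Nat.cast_smul_eq_nsmul, hn]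
  have happ : ∀ (n : Subgroup.normalizer (V : Set (N ⧸ A.subgroupOf N))) (c d c' d' : ZMod p),
      (n : N ⧸ A.subgroupOf N) * (vec c d : N ⧸ A.subgroupOf N) * (n : N ⧸ A.subgroupOf N)⁻¹ = vec c' d' →
      conjEnd hVel n (toVec hVel (vec c d)) = toVec hVel (vec c' d') := by
    intro n c d c' d' h
    refine ofVec_injective hVel (Subtype.ext ?_)
    rw [ofVec_conjEnd]
    exact h
  have hplane : NaturalPlane (conjEnd hVel n₁) (conjEnd hVel n₂) e₁ e₂ := by
    refine ⟨fun s t hst => ?_, ?_, ?_, ?_, ?_⟩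
    · rw [hsm] at hst
      refine hvinj s t ?_
      have := congrArg (ofVec hVel) hst
      rwa [ofVec_toVec, ofVec_zero] at this
    · refine (happ _ 1 0 1 0 ?_)
      rw [hn₁]; simp
    · rw [show e₂ + e₁ = (1 : ZMod p) • e₁ + (1 : ZMod p) • e₂ by rw [one_smul, one_smul, add_comm], hsm]
      refine happ _ 0 1 1 1 ?_
      rw [hn₁]; simp
    · rw [show e₁ - e₂ = (1 : ZMod p) • e₁ + (-1 : ZMod p) • e₂ by rw [one_smul, neg_one_smul, sub_eq_add_neg], hsm]
      refine happ _ 1 0 1 (-1) ?_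
      rw [hn₂]; simp
    · refine happ _ 0 1 0 1 ?_
      rw [hn₂]; simp
  obtain ⟨-, D₂, -, g, hg⟩ := sections_of_plane hVel hp n₁ n₂ hplane
  have h1 : Cfsg.Involves ↥(Cfsg.qd p) N :=
    involves_of_quotient _ (involves_of_surjective D₂ g hg)
  have hNQ : N ≤ Subgroup.normalizer (Q : Set G) := inf_le_left.trans inf_le_left
  exact involves_of_hom (N.subgroupOf (Subgroup.normalizer (Q : Set G)))
    (Subgroup.subgroupOfEquivOfLe hNQ).toMonoidHom (MulEquiv.surjective _) h1

/-! ### Local models are images of normalizers -/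

omit [Fact p.Prime] in
/-- The normalizer system of a fully normalized subgroup is realized by the normalizer. -/
theorem realized_normalizer (P : Sylow p G) {Q : Subgroup G} (hQ : Q ≤ P)
    {N : FusionSystem (normalizerIn (P : Subgroup G) Q)}
    (hN : (groupFusionSystem (P : Subgroup G)).IsNormalizerSystem Q N) :
    N.IsRealizedBy (Subgroup.inclusion
      (inf_le_right : normalizerIn (P : Subgroup G) Q ≤ Subgroup.normalizer (Q : Set G))) := by
  refine ⟨Subgroup.inclusion_injective _, fun P' hP' φ hφ => ⟨fun h => ?_, ?_⟩⟩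
  · rw [hN] at h
    obtain ⟨-, -, -, ψ, ⟨-, -, g, hg⟩, he, hm⟩ := h
    refine ⟨⟨g, CfsgLib.Functor.mem_normalizer_iff_cj.2 ?_⟩, fun x => Subtype.ext ?_⟩
    · refine CfsgLib.Functor.eq_of_le_of_card_le' ?_ (CfsgLib.Functor.card_cj g Q).ge
      rintro _ ⟨q, hq, rfl⟩
      exact Set.mem_of_eq_of_mem (hg ⟨q, Subgroup.mem_sup_right hq⟩).symm
        (hm.le (apply_mem_map_subgroupOf ψ (x := ⟨q, Subgroup.mem_sup_right hq⟩) hq))
    · show φ x = g * (x : G) * g⁻¹
      rw [← he x, hg]
      rfl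
  · rintro ⟨g, hg⟩
    rw [hN]
    have hgx : ∀ x : P', φ x = (g : G) * x * (g : G)⁻¹ := fun x => congrArg Subtype.val (hg x)
    have hPQ : P' ⊔ Q ≤ (P : Subgroup G) := sup_le (hP'.trans (normalizerIn_le_S Q)) hQ
    have hmem : ∀ x : ↥(P' ⊔ Q), (g : G) * x * (g : G)⁻¹ ∈ (P : Subgroup G) := fun x => by
      have : P' ⊔ Q ≤ (P : Subgroup G).comap (MulAut.conj (g : G)).toMonoidHom := by
        refine sup_le (fun y hy => ?_) fun y hy => hQ ((Subgroup.mem_normalizer_iff.1 g.2 y).1 hy)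
        show (g : G) * y * (g : G)⁻¹ ∈ (P : Subgroup G)
        exact Set.mem_of_eq_of_mem (hgx ⟨y, hy⟩).symm ((hφ ⟨y, hy⟩).1)
      exact this x.2
    refine ⟨⟨hP'.trans (normalizerIn_le_S Q), fun x => (hφ x).1, g, hgx⟩, hP', hφ,
      conjHom (P' ⊔ Q) g, ⟨hPQ, hmem, g, fun _ => rfl⟩, fun x => (hgx x).symm, ?_⟩
    ext y
    rw [mem_map_subgroupOf]
    constructor
    · rintro ⟨w, -, hwQ, rfl⟩
      exact (Subgroup.mem_normalizer_iff.1 g.2 w).1 hwQ
    · intro hy
      have h1 : (g : G)⁻¹ * y * (g : G) ∈ Q := (Subgroup.mem_normalizer_iff''.1 g.2 y).1 hy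
      exact ⟨_, Subgroup.mem_sup_right h1, h1, by
        show (g : G) * ((g : G)⁻¹ * y * g) * (g : G)⁻¹ = y
        group⟩

/-- A local model of the fusion system of a group is an image of a normalizer, with a kernel of
order prime to `p`. -/
theorem exists_hom_normalizer_model (P : Sylow p G) {Q : Subgroup G}
    (hfn : (groupFusionSystem (P : Subgroup G)).IsFullyNormalized Q)
    (hQc : (groupFusionSystem (P : Subgroup G)).IsCentric Q)
    {N : FusionSystem (normalizerIn (P : Subgroup G) Q)}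
    (hN : (groupFusionSystem (P : Subgroup G)).IsNormalizerSystem Q N) {L : Type u} [Group L]
    {ι : ↥(normalizerIn (P : Subgroup G) Q) →* L} (hm : N.IsModel p L ι) :
    ∃ f : ↥(Subgroup.normalizer (Q : Set G)) →* L, Function.Surjective f ∧
      (Nat.card f.ker).Coprime p := by
  have := hm.1
  let ι₀ : ↥(normalizerIn (P : Subgroup G) Q) →* ↥(Subgroup.normalizer (Q : Set G)) := Subgroup.inclusion
    (inf_le_right : normalizerIn (P : Subgroup G) Q ≤ Subgroup.normalizer (Q : Set G))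
  have hU := P.2.to_le (normalizerIn_le_S (S := (P : Subgroup G)) Q)
  obtain ⟨-, T, hT⟩ := (fullyNormalized_iff_sylowIn P hfn.1).1 hfn
  have hT' : (T : Subgroup ↥(Subgroup.normalizer (Q : Set G))) = ι₀.range := by
    rw [hT]; exact (Subgroup.inclusion_range _).symm
  obtain ⟨f, hf⟩ := exists_hom_onto_model p hU (realized_normalizer P hfn.1 hN) T hT'
    (isNormal_normalizerSystem hfn.1 hN) (isCentric_normalizerSystem hQc hN) (by
      have : img ι₀ Q = Q.subgroupOf (Subgroup.normalizer (Q : Set G)) := by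
        ext y
        constructor
        · rintro ⟨x, hx, rfl⟩; exact hx
        · intro hy
          exact ⟨⟨y, ⟨hfn.1 hy, y.2⟩⟩, hy, rfl⟩
      exact this.symm ▸ inferInstance) hm
  refine ⟨f, hf, ?_⟩
  have hcard : Nat.card L * Nat.card f.ker = Nat.card ↥(Subgroup.normalizer (Q : Set G)) := by
    rw [← Nat.card_congr (QuotientGroup.quotientKerEquivOfSurjective f hf).toEquiv,
      ← Subgroup.card_eq_card_quotient_mul_card_subgroup]
  obtain ⟨T', hT''⟩ := hm.2.2.1
  have hsame : Nat.card T = Nat.card T' := by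
    show Nat.card ↥(T : Subgroup ↥(Subgroup.normalizer (Q : Set G))) = Nat.card ↥(T' : Subgroup L)
    rw [hT', hT'', ← Nat.card_congr (MonoidHom.ofInjective (f := ι₀) (Subgroup.inclusion_injective _)).toEquiv,
      ← Nat.card_congr (MonoidHom.ofInjective hm.2.1.1).toEquiv]
  rw [T.card_eq_multiplicity, T'.card_eq_multiplicity, ← hcard,
    Nat.factorization_mul Nat.card_pos.ne' Nat.card_pos.ne'] at hsame
  have hp := (Fact.out : p.Prime)
  have := Nat.pow_right_injective hp.two_le hsame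
  simp only [Finsupp.add_apply, add_eq_left] at this
  refine Nat.Coprime.symm (hp.coprime_iff_not_dvd.2 fun hd => ?_)
  exact (hp.factorization_pos_of_dvd Nat.card_pos.ne' hd).ne' this

omit [Finite G] in
/-- Involvement of `Qd(p)` survives quotients by subgroups of order prime to `p`. -/
theorem involves_qd_image {L : Type*} [Group L] (f : G →* L) (hker : (Nat.card f.ker).Coprime p)
    (h : Cfsg.Involves ↥(Cfsg.qd p) G) : Cfsg.Involves ↥(Cfsg.qd p) L := by
  obtain ⟨K, g, hg⟩ := exists_surjective_of_involves h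
  set k := f.subgroupMap K
  have hk : Function.Surjective k := f.subgroupMap_surjective K
  haveI : (k.ker.map g).Normal := (inferInstance : k.ker.Normal).map g hg
  have hle : k.ker ≤ g.ker := by
    have hdvd : Nat.card (k.ker.map g) ∣ Nat.card f.ker := by
      refine (Subgroup.card_map_dvd _ _).trans ?_
      rw [Nat.card_congr (k.ker.equivMapOfInjective K.subtype K.subtype_injective).toEquiv]
      refine Subgroup.card_dvd_of_le ?_
      rintro _ ⟨x, hx, rfl⟩
      exact congrArg Subtype.val hx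
    intro x hx
    have h0 : k.ker.map g = ⊥ := eq_bot_of_coprime p (hker.coprime_dvd_left hdvd)
    exact Subgroup.mem_bot.1 (h0 ▸ Subgroup.mem_map_of_mem g hx)
  exact involves_of_surjective (K.map f) (k.liftOfSurjective hk ⟨g, hle⟩) fun y => by
    obtain ⟨x, rfl⟩ := hg y
    exact ⟨k x, MonoidHom.liftOfRightInverse_comp_apply _ _ _ _ x⟩

end CfsgLib.Fusion
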