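import Cfsg.Agent.Fusion.NormalCriteria

/-!
Two conjugate groups of shears of an abelian group over hyperplanes, and invariant complements by
averaging.
-/

set_option autoImplicit false

open Cfsg

namespace CfsgLib.Fusion.ShearPair

variable {P : Type*} [Group P]

/-- The automorphisms in `H` fixing `W` pointwise and acting trivially modulo `W`. -/
def stab (hc : ∀ x y : P, x * y = y * x) (H : Subgroup (MulAut P)) (W : Subgroup P) :
    Subgroup (MulAut P) where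
  carrier := {α | α ∈ H ∧ (∀ w ∈ W, α w = w) ∧ ∀ x, x⁻¹ * α x ∈ W}
  one_mem' := ⟨one_mem _, fun _ _ => rfl, fun x => by simp⟩
  mul_mem' := by
    rintro α β ⟨ha, ha1, ha2⟩ ⟨hb, hb1, hb2⟩
    refine ⟨mul_mem ha hb, fun w hw => by rw [MulAut.mul_apply, hb1 w hw, ha1 w hw], fun x => ?_⟩
    have := mul_mem (hb2 x) (ha2 (β x))
    simpa [mul_assoc] using this
  inv_mem' := by
    rintro α ⟨ha, ha1, ha2⟩
    refine ⟨inv_mem ha, fun w hw => ?_, fun x => ?_⟩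
    · conv_lhs => rw [← ha1 w hw]
      exact MulAut.inv_apply_self P α w
    · have h := inv_mem (ha2 (α⁻¹ x))
      rw [MulAut.apply_inv_self, mul_inv_rev, inv_inv, hc] at h
      rwa [hc] at h

theorem mem_stab (hc : ∀ x y : P, x * y = y * x) {H : Subgroup (MulAut P)} {W : Subgroup P}
    {α : MulAut P} :
    α ∈ stab hc H W ↔ α ∈ H ∧ (∀ w ∈ W, α w = w) ∧ ∀ x, x⁻¹ * α x ∈ W := Iff.rfl

variable (hc : ∀ x y : P, x * y = y * x) {H : Subgroup (MulAut P)}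

theorem stab_isPGroup [Finite P] (p : ℕ) [Fact p.Prime] (hP : IsPGroup p P) (W : Subgroup P) :
    IsPGroup p (stab hc H W) := by
  rintro ⟨α, ha, ha1, ha2⟩
  obtain ⟨k, hk⟩ := IsPGroup.iff_card.1 (hP.to_subgroup W)
  refine ⟨k, Subtype.ext (MulEquiv.ext fun x => ?_)⟩
  have h := pow_mul_fix α (B := ⊤) (C := W) (fun u _ => ha2 u)
    (fun u hu => by rw [ha1 u hu]; exact hu) (fun u hu => by rw [pow_one]; exact ha1 u hu) x trivial
  rw [one_mul, hk] at h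
  simpa using h

theorem stab_conj {g α : MulAut P} (hg : g ∈ H) {W : Subgroup P} (ha : α ∈ stab hc H W) :
    g * α * g⁻¹ ∈ stab hc H (W.map g.toMonoidHom) := by
  obtain ⟨ha, ha1, ha2⟩ := ha
  refine ⟨mul_mem (mul_mem hg ha) (inv_mem hg), ?_, fun x => ⟨_, ha2 (g⁻¹ x), ?_⟩⟩
  · rintro _ ⟨w, hw, rfl⟩
    simp only [MulEquiv.coe_toMonoidHom, MulAut.mul_apply, MulAut.inv_apply_self, ha1 w hw]
  · simp only [MulEquiv.coe_toMonoidHom, MulAut.mul_apply, map_mul, map_inv, MulAut.apply_inv_self]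

/-- The displacement of an automorphism of an abelian group. -/
def disp (α : MulAut P) : P →* P :=
  MonoidHom.mk' (fun x => x⁻¹ * α x) fun x y => by
    rw [map_mul, mul_inv_rev, mul_assoc, hc y⁻¹ (x⁻¹ * (α x * α y))]
    simp only [mul_assoc]
    rw [hc (α y) y⁻¹]

theorem sup_zpowers_eq_of_prime [Finite P] {p : ℕ} (hp : p.Prime) {W Z : Subgroup P} (hWZ : W ≤ Z)
    (hidx : W.relIndex Z = p) {c : P} (hcZ : c ∈ Z) (hcW : c ∉ W) :
    W ⊔ Subgroup.zpowers c = Z := by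
  have hle : W ⊔ Subgroup.zpowers c ≤ Z := sup_le hWZ (Subgroup.zpowers_le.2 hcZ)
  refine le_antisymm hle ?_
  have h := Subgroup.relIndex_mul_relIndex W (W ⊔ Subgroup.zpowers c) Z le_sup_left hle
  rw [hidx] at h
  rcases (Nat.dvd_prime hp).1 (Dvd.intro _ h) with h1 | h1
  · exact absurd (Subgroup.relIndex_eq_one.1 h1 (Subgroup.mem_sup_right (Subgroup.mem_zpowers c))) hcW
  · rw [h1] at h
    exact Subgroup.relIndex_eq_one.1 ((mul_eq_left₀ hp.ne_zero).1 h)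

include hc in
/-- What a group `T` of shears and a conjugate over another hyperplane produce. -/
theorem shear_pair [Finite P] (p : ℕ) [Fact p.Prime] (hP : IsPGroup p P)
    (T : Subgroup (MulAut P)) (hTH : T ≤ H) (hTp : IsPGroup p T)
    (hTmax : ∀ U : Subgroup (MulAut P), U ≤ H → IsPGroup p U → T ≤ U → U = T) (hT1 : T ≠ ⊥)
    (Z₀ : Subgroup P) (hidx : Z₀.index = p) (hfix : ∀ t ∈ T, ∀ z ∈ Z₀, t z = z)
    (hdisp : ∀ t ∈ T, ∀ x, x⁻¹ * t x ∈ Z₀)
    {g : MulAut P} (hg : g ∈ H) (hgZ : Z₀.map g.toMonoidHom ≠ Z₀) :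
    Nat.card (Z₀ ⊓ Z₀.map g.toMonoidHom : Subgroup P) * p = Nat.card Z₀ ∧
      Nat.card T = p ∧
      (∀ t ∈ T, t ≠ 1 → ∀ x ∉ Z₀, x⁻¹ * t x ∉ Z₀ ⊓ Z₀.map g.toMonoidHom) ∧
      ∃ h ∈ H, (∀ t ∈ T, h * t = t * h) ∧ (∀ w ∈ Z₀ ⊓ Z₀.map g.toMonoidHom, h w = w) ∧
        ∀ x, x * h x ∈ Z₀ ⊓ Z₀.map g.toMonoidHom := by
  classical
  have hp := (Fact.out : p.Prime)
  have hnorm : ∀ K : Subgroup P, K.Normal := fun K =>
    ⟨fun n hn y => by rwa [hc y n, mul_inv_cancel_right]⟩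
  have hTeq : T = stab hc H Z₀ := (hTmax _ (fun α h => ((mem_stab hc).1 h).1) (stab_isPGroup hc p hP Z₀)
    fun t ht => ⟨hTH ht, hfix t ht, hdisp t ht⟩).symm
  have hsmall : ∀ V : Subgroup P, V ≤ Z₀ → stab hc H V ≤ T := by
    intro V hV
    have hn : T ≤ Subgroup.normalizer (stab hc H V : Set (MulAut P)) := by
      intro t ht
      have key : ∀ u ∈ T, ∀ α ∈ stab hc H V, u * α * u⁻¹ ∈ stab hc H V := by
        intro u hu α hα
        have h1 := stab_conj hc (hTH hu) hα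
        rwa [show V.map u.toMonoidHom = V by
          ext v
          constructor
          · rintro ⟨w, hw, rfl⟩
            rw [MulEquiv.coe_toMonoidHom, hfix u hu w (hV hw)]; exact hw
          · intro hv
            exact ⟨v, hv, hfix u hu v (hV hv)⟩] at h1
      rw [Subgroup.mem_normalizer_iff]
      intro α
      refine ⟨key t ht α, fun h1 => ?_⟩
      simpa [mul_assoc] using key t⁻¹ (inv_mem ht) _ h1
    have hpU : IsPGroup p (T ⊔ stab hc H V : Subgroup (MulAut P)) :=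
      hTp.to_sup_of_normal_right' (stab_isPGroup hc p hP V) hn
    rw [← hTmax _ (sup_le hTH fun α h => ((mem_stab hc).1 h).1) hpU le_sup_left]
    exact le_sup_right
  set Z₁ := Z₀.map g.toMonoidHom with hZ₁
  set W := Z₀ ⊓ Z₁ with hW
  have hidx₁ : Z₁.index = p := by
    rw [hZ₁, Subgroup.index_map_of_bijective g.bijective, hidx]
  have hnle : ¬ Z₁ ≤ Z₀ := fun h => by
    refine hgZ (Subgroup.eq_of_le_of_card_ge h ?_)
    rw [hZ₁, Subgroup.card_map_of_injective g.injective]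
  have hsup : ∀ {y : P}, y ∉ Z₀ → Z₀ ⊔ Subgroup.zpowers y = ⊤ := fun {y} hy =>
    sup_zpowers_eq_of_prime hp le_top (by rw [Subgroup.relIndex_top_right, hidx]) (Subgroup.mem_top _) hy
  have htop : Z₀ ⊔ Z₁ = ⊤ := by
    obtain ⟨y, hy1, hy⟩ := SetLike.not_le_iff_exists.1 hnle
    refine top_le_iff.1 ((hsup hy).ge.trans (sup_le_sup_left ?_ _))
    exact Subgroup.zpowers_le.2 hy1
  have hWidx : W.relIndex Z₀ = p := by
    have := hnorm Z₁
    rw [hW, inf_comm, Subgroup.inf_relIndex_right, ← Subgroup.relIndex_sup_left, sup_comm, htop,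
      Subgroup.relIndex_top_right, hidx₁]
  have hcardW : Nat.card W * p = Nat.card Z₀ := by
    have h1 := Subgroup.relIndex_mul_relIndex ⊥ W Z₀ bot_le inf_le_left
    rwa [Subgroup.relIndex_bot_left, Subgroup.relIndex_bot_left, hWidx] at h1
  have hK0 : ∀ α ∈ stab hc H W, α = 1 := by
    intro α hα
    have h0 : ∀ z ∈ Z₀, α z = z := hfix α (hsmall W inf_le_left hα)
    have h1 : ∀ z ∈ Z₁, α z = z := by
      have hg' : g⁻¹ * α * g⁻¹⁻¹ ∈ T := by
        refine hsmall _ ?_ (stab_conj hc (inv_mem hg) hα)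
        rintro _ ⟨w, ⟨-, z, hz, rfl⟩, rfl⟩
        simpa using hz
      rintro _ ⟨z, hz, rfl⟩
      have e := congrArg g (hfix _ hg' z hz)
      simpa [MulAut.mul_apply] using e
    refine MulEquiv.ext fun x => ?_
    have hle : Z₀ ⊔ Z₁ ≤ MonoidHom.eqLocus α.toMonoidHom (MonoidHom.id P) :=
      sup_le (fun z hz => h0 z hz) fun z hz => h1 z hz
    exact hle (htop.ge (Subgroup.mem_top x))
  -- `disp` on `W`
  have hdW : ∀ {V : Subgroup P} {α : MulAut P}, α ∈ H → (∀ z ∈ V, α z = z) → W ≤ V → ∀ y : P,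
      V ⊔ Subgroup.zpowers y = ⊤ → y⁻¹ * α y ∈ W → α = 1 := by
    intro V α hαH hV hWV y hy hyW
    refine hK0 α ⟨hαH, fun w hw => hV w (hWV hw), fun x => ?_⟩
    have hle : V ⊔ Subgroup.zpowers y ≤ W.comap (disp hc α) :=
      sup_le (fun v hv => by
        show v⁻¹ * α v ∈ W
        rw [hV v hv, inv_mul_cancel]; exact one_mem _) (Subgroup.zpowers_le.2 hyW)
    exact hle (hy.ge (Subgroup.mem_top x))
  have hnW : ∀ t ∈ T, t ≠ 1 → ∀ x ∉ Z₀, x⁻¹ * t x ∉ W := fun t ht ht1 x hx h =>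
    ht1 (hdW (hTH ht) (hfix t ht) inf_le_left x (hsup hx) h)
  -- the order of `T`
  obtain ⟨x₀, hx₀⟩ : ∃ x, x ∉ Z₀ := by
    by_contra! h
    refine hp.ne_one ?_
    rw [← hidx, Subgroup.index_eq_one]
    exact (Subgroup.eq_top_iff' _).2 h
  obtain ⟨t₁, ht₁T, ht₁⟩ := (Subgroup.bot_or_exists_ne_one T).resolve_left hT1
  -- powers
  have hpow : ∀ (t : MulAut P), t ∈ T → ∀ (x : P) (l : ℤ), x⁻¹ * (t ^ l) x = (x⁻¹ * t x) ^ l := by
    intro t ht x l
    let f : T →* P := MonoidHom.mk' (fun u => x⁻¹ * (u : MulAut P) x) fun u v => by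
      show x⁻¹ * (u : MulAut P) ((v : MulAut P) x) = _
      have hv : (v : MulAut P) x = x * (x⁻¹ * (v : MulAut P) x) := (mul_inv_cancel_left _ _).symm
      rw [hv, map_mul, hfix _ u.2 _ (hdisp _ v.2 x), ← mul_assoc]
      simp
    exact map_zpow f ⟨t, ht⟩ l
  have hgen : ∀ {c : P}, c ∈ Z₀ → c ∉ W → ∀ z ∈ Z₀, ∃ l : ℤ, (c ^ l)⁻¹ * z ∈ W := by
    intro c hcZ hcW z hz
    have hz' : z ∈ (W ⊔ Subgroup.zpowers c : Subgroup P) := by
      rw [sup_zpowers_eq_of_prime hp inf_le_left hWidx hcZ hcW]; exact hz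
    have := hnorm W
    rw [← SetLike.mem_coe, Subgroup.normal_mul] at hz'
    obtain ⟨w, hw, _, ⟨l, rfl⟩, rfl⟩ := hz'
    refine ⟨l, ?_⟩
    show (c ^ l)⁻¹ * (w * c ^ l) ∈ W
    rw [hc w]
    simpa using hw
  have hTcard : Nat.card T = p := by
    have h1 : T = Subgroup.zpowers t₁ := by
      refine le_antisymm (fun t ht => ?_) (Subgroup.zpowers_le.2 ht₁T)
      obtain ⟨l, hl⟩ := hgen (hdisp t₁ ht₁T x₀) (hnW t₁ ht₁T ht₁ x₀ hx₀) _ (hdisp t ht x₀)
      have hmem : t₁ ^ (-l) * t ∈ T := mul_mem (zpow_mem ht₁T _) ht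
      by_contra hne
      refine hnW _ hmem (fun h => hne ?_) x₀ hx₀ ?_
      · rw [zpow_neg, inv_mul_eq_one] at h
        exact ⟨l, h⟩
      · have e : x₀⁻¹ * (t₁ ^ (-l) * t) x₀ = x₀⁻¹ * (t₁ ^ (-l)) x₀ * (x₀⁻¹ * t x₀) := by
          rw [MulAut.mul_apply]
          conv_lhs => rw [← mul_inv_cancel_left x₀ (t x₀), map_mul,
            hfix _ (zpow_mem ht₁T _) _ (hdisp t ht x₀)]
          rw [mul_assoc]
        rw [e, hpow t₁ ht₁T x₀, zpow_neg]
        exact hl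
    have h2 : t₁ ^ p = 1 := by
      by_contra hne
      refine hnW _ (pow_mem ht₁T p) hne x₀ hx₀ ?_
      have hq := hpow t₁ ht₁T x₀ (p : ℤ)
      rw [zpow_natCast, zpow_natCast] at hq
      rw [hq]
      have := hnorm W
      have h3 : (⟨_, hdisp t₁ ht₁T x₀⟩ : Z₀) ^ p ∈ W.subgroupOf Z₀ := by
        have h4 : (W.subgroupOf Z₀).index = p := hWidx
        rw [← h4]
        exact Subgroup.pow_index_mem _ _
      simpa [Subgroup.mem_subgroupOf] using h3
    rw [h1, Nat.card_zpowers, orderOf_eq_prime h2 ht₁]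
  -- the involution
  obtain ⟨c, hcZ, hcW⟩ : ∃ c ∈ Z₀, c ∉ W := by
    by_contra! h
    have h1 : W.relIndex Z₀ = 1 := Subgroup.relIndex_eq_one.2 h
    exact hp.ne_one (hWidx.symm.trans h1)
  have hc1 : c ∉ Z₁ := fun h => hcW ⟨hcZ, h⟩
  set u := g * t₁ * g⁻¹ with hu
  have huS : u ∈ stab hc H Z₁ := stab_conj hc hg (hTeq ▸ ht₁T)
  have hu1 : u ≠ 1 := fun h => ht₁ (by rwa [hu, conj_eq_one_iff] at h)
  have hsup₁ : Z₁ ⊔ Subgroup.zpowers c = ⊤ :=
    sup_zpowers_eq_of_prime hp le_top (by rw [Subgroup.relIndex_top_right, hidx₁])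
      (Subgroup.mem_top _) hc1
  obtain ⟨a, ha⟩ : ∃ a, a = (c⁻¹ * u c)⁻¹ := ⟨_, rfl⟩
  have haZ₁ : a ∈ Z₁ := ha ▸ inv_mem (huS.2.2 c)
  have haW : a ∉ W := fun h =>
    hu1 (hdW huS.1 huS.2.1 inf_le_right c hsup₁ (by simpa [ha] using inv_mem h))
  have haZ₀ : a ∉ Z₀ := fun h => haW ⟨h, haZ₁⟩
  have hua : u a = a := huS.2.1 a haZ₁
  have huc : u c = c * a⁻¹ := by rw [ha, inv_inv, mul_inv_cancel_left]
  obtain ⟨l, hl⟩ := hgen (hdisp t₁ ht₁T a) (hnW t₁ ht₁T ht₁ a haZ₀) c hcZ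
  set t := t₁ ^ l with ht
  have htT : t ∈ T := zpow_mem ht₁T l
  obtain ⟨w₀, hw₀, hta⟩ : ∃ w₀ ∈ W, t a = a * c * w₀ := by
    refine ⟨((a⁻¹ * t₁ a) ^ l)⁻¹⁻¹ * c⁻¹, ?_, ?_⟩
    · have := inv_mem hl
      rw [mul_inv_rev, inv_inv, hc] at this
      simpa using this
    · rw [inv_inv, ← hpow t₁ ht₁T a l, ← ht, hc _ c⁻¹, mul_assoc a c, mul_inv_cancel_left,
        mul_inv_cancel_left]
  have htc : t c = c := hfix t htT c hcZ
  have htw : t w₀ = w₀ := hfix t htT w₀ hw₀.1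
  have huw : u w₀ = w₀ := huS.2.1 w₀ hw₀.2
  set s := t * u * t with hs
  have hsc : s c = a⁻¹ * w₀⁻¹ := by
    simp only [hs, MulAut.mul_apply, htc, huc, map_mul, map_inv, hta]
    simp only [mul_inv_rev]
    rw [hc c, hc w₀⁻¹, mul_assoc, mul_assoc, hc w₀⁻¹ c, ← mul_assoc c⁻¹, ← mul_assoc]
    rw [mul_assoc, mul_assoc, ← mul_assoc (a⁻¹) , hc (a⁻¹) , mul_assoc]
    simp
  have hsa : s a = c * w₀ := by
    simp only [hs, MulAut.mul_apply, hta, map_mul, hua, huc, huw]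
    simp only [map_inv, hta, htc, htw]
    rw [hc (a * c * w₀) (c * (a * c * w₀)⁻¹), mul_assoc c, inv_mul_cancel, mul_one]
  set h := s * s with hh
  have hhW : ∀ w ∈ W, h w = w := by
    intro w hw
    have h1 : s w = w := by
      simp only [hs, MulAut.mul_apply, hfix t htT w hw.1, huS.2.1 w hw.2]
    simp only [hh, MulAut.mul_apply, h1]
  have hsw : s w₀ = w₀ := by simp only [hs, MulAut.mul_apply, htw, huw]
  have hha : h a = a⁻¹ := by
    rw [hh, MulAut.mul_apply, hsa, map_mul, hsc, hsw, inv_mul_cancel_right]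
  have hneg : ∀ x, x * h x ∈ W := by
    let d : P →* P := MonoidHom.mk' (fun x => x * h x) fun x y => by
      rw [map_mul, mul_assoc x, ← mul_assoc y, hc y (h x), mul_assoc (h x), ← mul_assoc x]
    have hdc : c * h c ∈ W := by
      rw [hh, MulAut.mul_apply, hsc, map_mul, map_inv, map_inv, hsa, hsw]
      rw [mul_inv_rev, hc w₀⁻¹ c⁻¹, mul_assoc, ← mul_assoc, mul_inv_cancel, one_mul]
      exact mul_mem (inv_mem hw₀) (inv_mem hw₀)
    have hW' : W ≤ W.comap d := fun w hw => by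
      show w * h w ∈ W
      rw [hhW w hw]; exact mul_mem hw hw
    have hZ0 : Z₀ ≤ W.comap d := by
      rw [← sup_zpowers_eq_of_prime hp inf_le_left hWidx hcZ hcW]
      exact sup_le hW' (Subgroup.zpowers_le.2 hdc)
    have htot : (⊤ : Subgroup P) ≤ W.comap d := by
      rw [← hsup haZ₀]
      refine sup_le hZ0 (Subgroup.zpowers_le.2 ?_)
      show a * h a ∈ W
      rw [hha, mul_inv_cancel]; exact one_mem _
    exact fun x => htot (Subgroup.mem_top x)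
  have hhH : h ∈ H :=
    mul_mem (mul_mem (mul_mem (hTH htT) huS.1) (hTH htT))
      (mul_mem (mul_mem (hTH htT) huS.1) (hTH htT))
  refine ⟨hcardW, hTcard, hnW, h, hhH, fun t' ht' => ?_, hhW, hneg⟩
  refine mul_inv_eq_one.1 (hK0 _ ⟨mul_mem (mul_mem hhH (hTH ht')) (inv_mem (mul_mem (hTH ht') hhH)),
    fun w hw => ?_, fun x => ?_⟩)
  · have e : (t' * h) w = w := by rw [MulAut.mul_apply, hhW w hw, hfix t' ht' w hw.1]
    have e' : (t' * h)⁻¹ w = w := by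
      conv_lhs => rw [← e]
      exact MulAut.inv_apply_self P _ w
    rw [MulAut.mul_apply, e', MulAut.mul_apply, hfix t' ht' w hw.1, hhW w hw]
  · obtain ⟨y, rfl⟩ := (t' * h).surjective x
    show ((t' * h) y)⁻¹ * (h * t') ((t' * h)⁻¹ ((t' * h) y)) ∈ W
    rw [MulAut.inv_apply_self]
    show (t' (h y))⁻¹ * h (t' y) ∈ W
    obtain ⟨z, hz, hzy⟩ : ∃ z ∈ Z₀, t' y = y * z :=
      ⟨_, hdisp t' ht' y, (mul_inv_cancel_left _ _).symm⟩
    obtain ⟨w, hw, hwy⟩ : ∃ w ∈ W, h y = y⁻¹ * w := ⟨_, hneg y, (inv_mul_cancel_left _ _).symm⟩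
    obtain ⟨v, hv, hvz⟩ : ∃ v ∈ W, h z = z⁻¹ * v := ⟨_, hneg z, (inv_mul_cancel_left _ _).symm⟩
    rw [hwy, map_mul, map_inv, hfix t' ht' w hw.1, hzy, map_mul, hwy, hvz, mul_inv_rev, mul_inv_rev]
    have e : w⁻¹ * (y * z) * (y⁻¹ * w * (z⁻¹ * v)) = v := by
      calc w⁻¹ * (y * z) * (y⁻¹ * w * (z⁻¹ * v)) = w⁻¹ * (y * z) * ((y⁻¹ * z⁻¹) * w * v) := by
            rw [mul_assoc y⁻¹ z⁻¹, hc z⁻¹ w]; simp [mul_assoc]
        _ = w⁻¹ * (y * z) * ((y * z)⁻¹ * w * v) := by rw [mul_inv_rev, hc y⁻¹ z⁻¹]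
        _ = v := by simp [mul_assoc]
    simpa [e] using hv

/-- An invariant complement by averaging a projection. -/
theorem exists_invariant_compl {A : Type*} [CommGroup A] [Finite A] (Δ : Subgroup (MulAut A))
    (hco : (Nat.card A).Coprime (Nat.card Δ)) (Z₁ W : Subgroup A)
    (hinv : ∀ δ ∈ Δ, ∀ z ∈ Z₁, δ z ∈ Z₁) (hd : Z₁ ⊓ W = ⊥)
    (hcard : Nat.card Z₁ * Nat.card W = Nat.card A) :
    ∃ M : Subgroup A, (∀ δ ∈ Δ, ∀ m ∈ M, δ m ∈ M) ∧ Z₁ ⊓ M = ⊥ ∧
      Nat.card M * Nat.card Z₁ = Nat.card A := by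
  classical
  have : Finite (MulAut A) := Finite.of_injective _ DFunLike.coe_injective
  let i : Z₁ →* A ⧸ W := (QuotientGroup.mk' W).comp Z₁.subtype
  have hi : Function.Injective i := (injective_iff_map_eq_one i).2 fun z hz => by
    have h : (z : A) ∈ W := (QuotientGroup.eq_one_iff _).1 hz
    exact Subtype.ext (Subgroup.mem_bot.1 (hd.le ⟨z.2, h⟩))
  have hib : Function.Bijective i := by
    refine (Nat.bijective_iff_injective_and_card i).2 ⟨hi, ?_⟩
    have h := Subgroup.card_eq_card_quotient_mul_card_subgroup W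
    rw [← hcard] at h
    exact Nat.eq_of_mul_eq_mul_right Nat.card_pos h
  let r : A →* A :=
    Z₁.subtype.comp ((MulEquiv.ofBijective i hib).symm.toMonoidHom.comp (QuotientGroup.mk' W))
  have hr : ∀ z ∈ Z₁, r z = z := fun z hz =>
    congrArg Subtype.val ((MulEquiv.ofBijective i hib).symm_apply_apply (⟨z, hz⟩ : Z₁))
  have hrmem : ∀ z, r z ∈ Z₁ := fun z => SetLike.coe_mem _
  have : Fintype Δ := Fintype.ofFinite _
  let e : A →* A := MonoidHom.mk' (fun z => ∏ δ : Δ, (δ : MulAut A) (r ((δ : MulAut A)⁻¹ z)))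
    fun x y => by simp only [map_mul, Finset.prod_mul_distrib]
  have hemem : ∀ z, e z ∈ Z₁ := fun z =>
    Z₁.prod_mem fun δ _ => hinv δ δ.2 _ (hrmem _)
  have he1 : ∀ z ∈ Z₁, e z = z ^ Nat.card Δ := fun z hz => by
    show ∏ δ : Δ, (δ : MulAut A) (r ((δ : MulAut A)⁻¹ z)) = _
    refine (Finset.prod_congr rfl (g := fun _ => z) fun δ _ => ?_).trans ?_
    · rw [hr _ (hinv _ (inv_mem δ.2) z hz), MulAut.apply_inv_self]
    · rw [Finset.prod_const, Finset.card_univ, Nat.card_eq_fintype_card]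
  have hdis : ∀ z ∈ Z₁, e z = 1 → z = 1 := fun z hz hez => by
    rw [he1 z hz] at hez
    exact (powCoprime hco).injective (hez.trans (one_pow _).symm)
  refine ⟨e.ker, fun δ hδ m hm => ?_, eq_bot_iff.2 fun z hz => hdis z hz.1 hz.2, ?_⟩
  · have h1 : e (δ m) = δ (e m) := by
      show ∏ δ' : Δ, (δ' : MulAut A) (r ((δ' : MulAut A)⁻¹ (δ m))) = δ (∏ δ' : Δ, _)
      rw [map_prod]
      refine (Fintype.prod_equiv (Equiv.mulLeft (⟨δ, hδ⟩ : Δ)) _ _ fun δ' => ?_).symm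
      simp [MulAut.mul_apply]
    rw [MonoidHom.mem_ker] at hm ⊢
    rw [h1, hm, map_one]
  · have hrange : e.range = Z₁ := by
      refine le_antisymm (by rintro _ ⟨z, rfl⟩; exact hemem z) fun z hz => ?_
      let f : Z₁ →* Z₁ := (e.comp Z₁.subtype).codRestrict Z₁ fun y => hemem y
      have hf : Function.Injective f := (injective_iff_map_eq_one f).2 fun y hy =>
        Subtype.ext (hdis y y.2 (congrArg Subtype.val hy))
      obtain ⟨y, hy⟩ := (Finite.injective_iff_surjective.1 hf) ⟨z, hz⟩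
      exact ⟨y, congrArg Subtype.val hy⟩
    rw [← hrange, ← Subgroup.card_mul_index e.ker, Subgroup.index_ker]

/-- The averaging lemma for a group that is merely known to be commutative. -/
theorem exists_invariant_compl' {A : Type*} [Group A] [Finite A] (hc : ∀ x y : A, x * y = y * x)
    (Δ : Subgroup (MulAut A))
    (hco : (Nat.card A).Coprime (Nat.card Δ)) (Z₁ W : Subgroup A)
    (hinv : ∀ δ ∈ Δ, ∀ z ∈ Z₁, δ z ∈ Z₁) (hd : Z₁ ⊓ W = ⊥)
    (hcard : Nat.card Z₁ * Nat.card W = Nat.card A) :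
    ∃ M : Subgroup A, (∀ δ ∈ Δ, ∀ m ∈ M, δ m ∈ M) ∧ Z₁ ⊓ M = ⊥ ∧
      Nat.card M * Nat.card Z₁ = Nat.card A := by
  letI : CommGroup A := { (inferInstance : Group A) with mul_comm := hc }
  exact exists_invariant_compl Δ hco Z₁ W hinv hd hcard

end CfsgLib.Fusion.ShearPair
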