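import Cfsg.Agent.Invol.FusionSystemSimple
import Cfsg.Agent.Fusion.FocalProper
import Cfsg.Agent.Solvable.PGroupBasic

/-!
A group-theoretic criterion for the simplicity of a 2-fusion system: a Sylow subgroup `P` whose
centre is `{1, z}`, which lies in every subgroup containing `z` closed under the conjugations into
`P`, and whose normalizer has no prime-power element of odd order acting nontrivially on it.
-/

set_option autoImplicit false

namespace CfsgLib.Fusion

open Cfsg Cfsg.FusionSystem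

universe u

variable {G : Type u} [Group G] [Finite G]

/-- If each nontrivial central element generates `P` by conjugation, no proper subgroup is
strongly closed. -/
theorem stronglyClosed_trivial_of_central_gen (P : Sylow 2 G)
    (hgen : ∀ x ∈ (P : Subgroup G), (∀ y ∈ (P : Subgroup G), x * y = y * x) → x ≠ 1 →
      ∀ T : Subgroup G, x ∈ T →
        (∀ t ∈ T, ∀ g : G, g * t * g⁻¹ ∈ (P : Subgroup G) → g * t * g⁻¹ ∈ T) →
        (P : Subgroup G) ≤ T)
    (S : Sylow 2 G) {T : Subgroup G}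
    (hT : (groupFusionSystem (S : Subgroup G)).StronglyClosed T) :
    T = ⊥ ∨ T = (S : Subgroup G) := by
  haveI : Fact (Nat.Prime 2) := ⟨Nat.prime_two⟩
  rcases eq_or_ne T ⊥ with h | hne
  · exact Or.inl h
  refine Or.inr (le_antisymm hT.1 ?_)
  obtain ⟨c, hc⟩ := MulAction.exists_smul_eq G P S
  have hmem : ∀ x : G, x ∈ (S : Subgroup G) ↔ c⁻¹ * x * c ∈ (P : Subgroup G) := by
    intro x
    rw [← hc, Sylow.coe_subgroup_smul, Subgroup.mem_pointwise_smul_iff_inv_smul_mem]
    simp
  have hn : (T.subgroupOf (S : Subgroup G)).Normal := ⟨fun x hx g =>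
    (Subgroup.mem_normalizer_iff.1 (stronglyClosed_normal_in_S hT g.2) x).1 hx⟩
  have hne' : T.subgroupOf (S : Subgroup G) ≠ ⊥ := fun h => hne (by
    rw [← Subgroup.map_subgroupOf_eq_of_le hT.1, h, Subgroup.map_bot])
  obtain ⟨⟨x, hxT, hxc⟩, hx1⟩ := (Subgroup.ne_bot_iff_exists_ne_one).1
    (@CfsgLib.PGroupBasic.inf_center_ne_bot _ _ S.2.isNilpotent _ hn hne')
  have hx0 : c⁻¹ * (x : G) * c ≠ 1 := fun h => hx1 (Subtype.ext (Subtype.ext (by
    show (x : G) = 1
    calc (x : G) = c * (c⁻¹ * (x : G) * c) * c⁻¹ := by group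
      _ = 1 := by rw [h, mul_one, mul_inv_cancel])))
  have hcx : ∀ y ∈ (P : Subgroup G), c⁻¹ * (x : G) * c * y = y * (c⁻¹ * (x : G) * c) :=
    fun y hy => by
      have h1 := congrArg Subtype.val (Subgroup.mem_center_iff.1 hxc
        ⟨c * y * c⁻¹, (hmem _).2 (by simpa [mul_assoc] using hy)⟩)
      simp only [Subgroup.coe_mul] at h1
      have h2 := congrArg (fun u => c⁻¹ * u * c) h1
      simp only [mul_assoc, inv_mul_cancel_left, inv_mul_cancel, mul_one] at h2
      simp only [mul_assoc]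
      exact h2.symm
  have hle := hgen _ ((hmem _).1 x.2) hcx hx0 (T.comap (MulAut.conj c).toMonoidHom) (by
      show c * (c⁻¹ * (x : G) * c) * c⁻¹ ∈ T
      simpa [mul_assoc, Subgroup.mem_subgroupOf] using hxT) fun y hy g hg => by
    show c * (g * y * g⁻¹) * c⁻¹ ∈ T
    have h1 : c * (g * y * g⁻¹) * c⁻¹ ∈ (S : Subgroup G) :=
      (hmem _).2 (by simpa [mul_assoc] using hg)
    have h2 := CfsgLib.InvolPattern.conj_mem_of_stronglyClosed hT (hy : c * y * c⁻¹ ∈ T)
      (g := c * g * c⁻¹) (by simpa [mul_assoc] using h1)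
    simpa [mul_assoc] using h2
  intro s hs
  have h1 : c * (c⁻¹ * s * c) * c⁻¹ ∈ T := hle ((hmem s).1 hs)
  simpa [mul_assoc] using h1

/-- The conjugation-closure and centre conditions give no proper strongly closed subgroup. -/
theorem stronglyClosed_trivial_of_central (P : Sylow 2 G) {z : G}
    (hcent : ∀ x ∈ (P : Subgroup G), (∀ y ∈ (P : Subgroup G), x * y = y * x) → x = 1 ∨ x = z)
    (hgen : ∀ T : Subgroup G, z ∈ T →
      (∀ x ∈ T, ∀ g : G, g * x * g⁻¹ ∈ (P : Subgroup G) → g * x * g⁻¹ ∈ T) →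
      (P : Subgroup G) ≤ T)
    (S : Sylow 2 G) {T : Subgroup G}
    (hT : (groupFusionSystem (S : Subgroup G)).StronglyClosed T) :
    T = ⊥ ∨ T = (S : Subgroup G) :=
  stronglyClosed_trivial_of_central_gen P (fun x hx hxc hx1 => by
    obtain rfl := (hcent x hx hxc).resolve_left hx1
    exact hgen) S hT

/-- The criterion, each nontrivial central element generating by conjugation. -/
theorem isSimple_groupFusion_of_central_gen (P : Sylow 2 G) (hne : (P : Subgroup G) ≠ ⊥)
    (hgen : ∀ x ∈ (P : Subgroup G), (∀ y ∈ (P : Subgroup G), x * y = y * x) → x ≠ 1 →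
      ∀ T : Subgroup G, x ∈ T →
        (∀ t ∈ T, ∀ g : G, g * t * g⁻¹ ∈ (P : Subgroup G) → g * t * g⁻¹ ∈ T) →
        (P : Subgroup G) ≤ T)
    (S : Sylow 2 G) (hAut : (groupFusionSystem (S : Subgroup G)).autGroup (S : Subgroup G) =
      Inn ↥(S : Subgroup G)) :
    (groupFusionSystem (S : Subgroup G)).IsSimple 2 := by
  haveI : Fact (Nat.Prime 2) := ⟨Nat.prime_two⟩
  refine isSimple_of_inn 2 (groupFusion_saturated S) (fun h => hne ?_)
    (fun T hT => stronglyClosed_trivial_of_central_gen P hgen S hT) hAut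
  refine Subgroup.card_eq_one.1 ?_
  rw [Nat.card_congr (P.equiv S).toEquiv, h, Subgroup.card_bot]

/-- Prime-power elements of odd order centralizing `P` make `Aut(S)` inner. -/
theorem autGroup_eq_inn_of_prime_powers (P : Sylow 2 G)
    (hN : ∀ n ∈ Subgroup.normalizer ((P : Subgroup G) : Set G), ∀ q k : ℕ, q.Prime → q ≠ 2 →
      orderOf n = q ^ k → ∀ y ∈ (P : Subgroup G), n * y * n⁻¹ = y)
    (S : Sylow 2 G) :
    (groupFusionSystem (S : Subgroup G)).autGroup (S : Subgroup G) = Inn ↥(S : Subgroup G) := by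
  haveI : Fact (Nat.Prime 2) := ⟨Nat.prime_two⟩
  set F := groupFusionSystem (S : Subgroup G) with hF
  obtain ⟨c, hc⟩ := MulAction.exists_smul_eq G P S
  have hmem : ∀ x : G, x ∈ (S : Subgroup G) ↔ c⁻¹ * x * c ∈ (P : Subgroup G) := by
    intro x
    rw [← hc, Sylow.coe_subgroup_smul, Subgroup.mem_pointwise_smul_iff_inv_smul_mem]
    simp
  have hp : IsPGroup 2 (F.autGroup (S : Subgroup G)) := by
    rintro ⟨α, hα⟩
    obtain ⟨g, -, hg⟩ := mem_autInducedBy.1
      (autGroup_groupFusion (le_refl (S : Subgroup G)) ▸ hα : α ∈ autInducedBy ⊤ (S : Subgroup G))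
    have hgN : g ∈ Subgroup.normalizer ((S : Subgroup G) : Set G) := mem_normalizer_of_aut hg
    have hpow : ∀ (j : ℕ) (x : (S : Subgroup G)),
        (((α ^ j) x : (S : Subgroup G)) : G) = g ^ j * x * (g ^ j)⁻¹ := by
      intro j
      induction j with
      | zero => intro x; simp
      | succ j ih =>
        intro x
        rw [pow_succ', MulAut.mul_apply, hg, ih, pow_succ']
        group
    haveI : Finite (MulAut (S : Subgroup G)) := finite_mulAut
    by_contra hnot
    obtain ⟨q, hq, hqdvd, hq2⟩ : ∃ q, q.Prime ∧ q ∣ orderOf α ∧ q ≠ 2 := by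
      by_contra hcon
      push Not at hcon
      refine hnot ⟨(orderOf α).primeFactorsList.length, Subtype.ext ?_⟩
      show α ^ 2 ^ (orderOf α).primeFactorsList.length = 1
      refine orderOf_dvd_iff_pow_eq_one.1 (dvd_of_eq ?_)
      exact Nat.eq_prime_pow_of_unique_prime_dvd (orderOf_pos α).ne' fun {d} hd hdd =>
        hcon d hd hdd
    obtain ⟨k, m, hm, hkm⟩ := Nat.exists_eq_pow_mul_and_not_dvd (orderOf_pos g).ne' q hq.ne_one
    have hm0 : m ≠ 0 := fun h => hm (h ▸ dvd_zero q)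
    have hord : orderOf (c⁻¹ * g ^ m * c) = q ^ k := by
      rw [show c⁻¹ * g ^ m * c = MulAut.conj c⁻¹ (g ^ m) by simp, MulEquiv.orderOf_eq,
        orderOf_pow' g hm0, hkm, Nat.gcd_mul_left_left, Nat.mul_div_cancel _ (Nat.pos_of_ne_zero hm0)]
    have hnorm : c⁻¹ * g ^ m * c ∈ Subgroup.normalizer ((P : Subgroup G) : Set G) := by
      rw [Subgroup.mem_normalizer_iff]
      intro x
      have h1 := (Subgroup.mem_normalizer_iff.1 (pow_mem hgN m) (c * x * c⁻¹))
      simp only [hmem] at h1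
      simpa [mul_assoc] using h1
    have hfix := hN _ hnorm q k hq hq2 hord
    have hαm : α ^ m = 1 := by
      refine MulEquiv.ext fun x => Subtype.ext ?_
      rw [hpow]
      have h1 := congrArg (fun u => c * u * c⁻¹) (hfix _ ((hmem _).1 x.2))
      simpa [mul_assoc] using h1
    exact hm (hqdvd.trans (orderOf_dvd_of_pow_eq_one hαm))
  rw [autGroup_S_eq_of_isPGroup S.2 (groupFusion_saturated S) hp, inn_eq_autInducedBy]

/-- **The criterion.** -/
theorem isSimple_groupFusion_of_central (P : Sylow 2 G) {z : G} (hz : z ∈ (P : Subgroup G))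
    (hz1 : z ≠ 1)
    (hcent : ∀ x ∈ (P : Subgroup G), (∀ y ∈ (P : Subgroup G), x * y = y * x) → x = 1 ∨ x = z)
    (hgen : ∀ T : Subgroup G, z ∈ T →
      (∀ x ∈ T, ∀ g : G, g * x * g⁻¹ ∈ (P : Subgroup G) → g * x * g⁻¹ ∈ T) →
      (P : Subgroup G) ≤ T)
    (hN : ∀ n ∈ Subgroup.normalizer ((P : Subgroup G) : Set G), ∀ q k : ℕ, q.Prime → q ≠ 2 →
      orderOf n = q ^ k → ∀ y ∈ (P : Subgroup G), n * y * n⁻¹ = y)
    (S : Sylow 2 G) : (groupFusionSystem (S : Subgroup G)).IsSimple 2 := by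
  haveI : Fact (Nat.Prime 2) := ⟨Nat.prime_two⟩
  refine isSimple_of_inn 2 (groupFusion_saturated S) (fun h => ?_)
    (fun T hT => stronglyClosed_trivial_of_central P hcent hgen S hT)
    (autGroup_eq_inn_of_prime_powers P hN S)
  have h1 : Nat.card (P : Subgroup G) = 1 := by
    rw [Nat.card_congr (P.equiv S).toEquiv, h, Subgroup.card_bot]
  exact hz1 (Subgroup.mem_bot.1 ((Subgroup.card_eq_one.1 h1).le hz))

end CfsgLib.Fusion
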