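import Mathlib

/-!
Automorphism groups of a finite abelian group whose Sylow `p`-subgroups are generated by a
transvection and are not normal.
-/

set_option autoImplicit false

open Subgroup

namespace CfsgLib.Fusion.Transvection

variable {A : Type*} [CommGroup A] [Finite A] {p : ℕ} [Fact p.Prime]

/-- The data: a group of automorphisms with a Sylow subgroup of order `p` generated by a
transvection with fixed subgroup `Z` and centre `⟨c⟩`, not normal. -/
structure Setting (p : ℕ) [Fact p.Prime] (G : Subgroup (MulAut A)) (t : G) (Z : Subgroup A) (c : A) :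
    Prop where
  ord : orderOf t = p
  sylow : ∀ Q : Subgroup G, IsPGroup p Q → zpowers t ≤ Q → Q = zpowers t
  fix : ∀ x : A, (t : MulAut A) x = x ↔ x ∈ Z
  disp : ∀ x : A, x⁻¹ * (t : MulAut A) x ∈ zpowers c
  centre : c ∈ Z
  ordc : orderOf c = p
  index : Z.index = p
  notNormal : ¬ (zpowers t).Normal

variable {G : Subgroup (MulAut A)} {t : G} {Z : Subgroup A} {c : A}

/-- The subgroup of automorphisms trivial on `W` moving every element inside its coset of `A₀`. -/
def stab (G : Subgroup (MulAut A)) (W A₀ : Subgroup A) : Subgroup G where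
  carrier := {α | (∀ w ∈ W, (α : MulAut A) w = w) ∧ ∀ x, x⁻¹ * (α : MulAut A) x ∈ A₀}
  one_mem' := ⟨fun _ _ => rfl, fun x => by simp⟩
  mul_mem' := fun {a b} ha hb => ⟨fun w hw => by
      show (a : MulAut A) ((b : MulAut A) w) = w
      rw [hb.1 w hw, ha.1 w hw], fun x => by
      have := mul_mem (hb.2 x) (ha.2 ((b : MulAut A) x))
      simpa [mul_assoc] using this⟩
  inv_mem' := fun {a} ha => ⟨fun w hw => by
      show (a : MulAut A)⁻¹ w = w
      conv_lhs => rw [← ha.1 w hw]
      exact MulAut.inv_apply_self A _ w, fun x => by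
      have := inv_mem (ha.2 ((a : MulAut A)⁻¹ x))
      simpa [mul_comm] using this⟩

variable (h : Setting p G t Z c)
include h

theorem t_disp_eq (x : A) : ∃ n : ℤ, (t : MulAut A) x = x * c ^ n := by
  obtain ⟨n, hn⟩ := h.disp x
  exact ⟨n, by simp only at hn; rw [hn]; simp⟩

theorem mem_zpowers_of_conj_self {v : G} {k : ℕ} (hv : orderOf v = p ^ k)
    (hn : v * t * v⁻¹ ∈ zpowers t) : v ∈ zpowers t := by
  have : Finite (MulAut A) := Finite.of_injective (fun e : MulAut A => (e : A → A)) DFunLike.coe_injective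
  have hvn : v ∈ normalizer (zpowers t : Set G) := by
    have hle : (zpowers t).map (MulAut.conj v).toMonoidHom ≤ zpowers t := by
      rw [MonoidHom.map_zpowers, zpowers_le]
      exact hn
    refine mem_normalizer_iff.2 fun x => ?_
    have he : (zpowers t).map (MulAut.conj v).toMonoidHom = zpowers t :=
      eq_of_le_of_card_ge hle (by rw [card_map_of_injective (MulAut.conj v).injective])
    constructor
    · exact fun hx => he.le ⟨x, hx, rfl⟩
    · intro hx
      obtain ⟨y, hy, e⟩ := he.ge hx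
      rwa [← show y = x from (MulAut.conj v).injective e]
  have hp : IsPGroup p ↥(zpowers v ⊔ zpowers t) := by
    refine IsPGroup.to_sup_of_normal_right' (IsPGroup.of_card (n := k) (by
      rw [Nat.card_zpowers, hv])) (IsPGroup.of_card (n := 1) (by
      rw [Nat.card_zpowers, h.ord, pow_one])) (zpowers_le.2 hvn)
  exact (h.sylow _ hp le_sup_right).le (mem_sup_left (mem_zpowers v))

/-- If `t` fixes the centre of a conjugate, the conjugate lies in `⟨t⟩`. -/
theorem conj_mem_of_fix {g : G} (hg : (g : MulAut A) c ∈ Z) : g * t * g⁻¹ ∈ zpowers t := by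
  -- `q`, the conjugate of `u` by `t`, commutes with `u`
  set u := g * t * g⁻¹ with hu
  have huc : ∀ x, ∃ n : ℤ, (u : MulAut A) x = x * (g : MulAut A) c ^ n := by
    intro x
    obtain ⟨n, hn⟩ := t_disp_eq h ((g : MulAut A)⁻¹ x)
    refine ⟨n, ?_⟩
    rw [hu]
    simp only [Subgroup.coe_mul, Subgroup.coe_inv, MulAut.mul_apply, hn, map_mul, map_zpow,
      MulAut.apply_inv_self]
  have hufix : (u : MulAut A) ((g : MulAut A) c) = (g : MulAut A) c := by
    rw [hu]
    simp only [Subgroup.coe_mul, Subgroup.coe_inv, MulAut.mul_apply, MulAut.inv_apply_self,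
      (h.fix c).2 h.centre]
  have htfix := (h.fix _).2 hg
  set q := t * u * t⁻¹ with hq
  have hqc : ∀ x, ∃ n : ℤ, (q : MulAut A) x = x * (g : MulAut A) c ^ n := by
    intro x
    obtain ⟨n, hn⟩ := huc ((t : MulAut A)⁻¹ x)
    refine ⟨n, ?_⟩
    rw [hq]
    simp only [Subgroup.coe_mul, Subgroup.coe_inv, MulAut.mul_apply, hn, map_mul, map_zpow,
      MulAut.apply_inv_self, htfix]
  have hqfix : (q : MulAut A) ((g : MulAut A) c) = (g : MulAut A) c := by
    rw [hq]
    simp only [Subgroup.coe_mul, Subgroup.coe_inv, MulAut.mul_apply]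
    rw [show (t : MulAut A)⁻¹ ((g : MulAut A) c) = (g : MulAut A) c by
      conv_lhs => rw [← htfix]
      exact MulAut.inv_apply_self A _ _, hufix, htfix]
  have hcomm : Commute u q := by
    refine Subtype.ext (MulEquiv.ext fun x => ?_)
    obtain ⟨m, hm⟩ := huc x
    obtain ⟨n, hn⟩ := hqc x
    show (u : MulAut A) ((q : MulAut A) x) = (q : MulAut A) ((u : MulAut A) x)
    rw [hn, hm, map_mul, map_mul, map_zpow, map_zpow, hufix, hqfix, hn, hm]
    rw [mul_assoc, mul_assoc, mul_comm ((g : MulAut A) c ^ m)]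
  -- pull back by `g`
  have hq' : g⁻¹ * q * g ∈ zpowers t := by
    refine mem_zpowers_of_conj_self h (k := 1) ?_ ?_
    · rw [pow_one, show g⁻¹ * q * g = (g⁻¹ * t) * u * (g⁻¹ * t)⁻¹ by rw [hq]; group]
      rw [← MulAut.conj_apply (g⁻¹ * t) u, MulEquiv.orderOf_eq, hu, ← MulAut.conj_apply g t,
        MulEquiv.orderOf_eq, h.ord]
    · have hct : Commute (g⁻¹ * q * g) t := by
        show g⁻¹ * q * g * t = t * (g⁻¹ * q * g)
        calc g⁻¹ * q * g * t = g⁻¹ * (q * u) * g := by rw [hu]; group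
          _ = g⁻¹ * (u * q) * g := by rw [hcomm.eq]
          _ = t * (g⁻¹ * q * g) := by rw [hu]; group
      rw [hct.eq, mul_inv_cancel_right]
      exact mem_zpowers t
  -- so `g⁻¹ t g` normalizes `⟨t⟩`
  have h1 : g⁻¹ * t * g ∈ zpowers t := by
    refine mem_zpowers_of_conj_self h (k := 1) ?_ ?_
    · rw [pow_one, show g⁻¹ * t * g = g⁻¹ * t * (g⁻¹)⁻¹ by group, ← MulAut.conj_apply g⁻¹ t,
        MulEquiv.orderOf_eq, h.ord]
    · have : g⁻¹ * t * g * t * (g⁻¹ * t * g)⁻¹ = g⁻¹ * q * g := by rw [hq, hu]; group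
      rw [this]
      exact hq'
  obtain ⟨i, hi⟩ := h1
  refine mem_zpowers_of_conj_self h (k := 1) ?_ ?_
  · rw [pow_one, hu, ← MulAut.conj_apply g t, MulEquiv.orderOf_eq, h.ord]
  · have hti : t = g * t ^ i * g⁻¹ := by simp only at hi; rw [hi]; group
    have hut : Commute u t := by
      rw [hti, hu, ← MulAut.conj_apply g t, ← MulAut.conj_apply g (t ^ i)]
      exact (Commute.self_zpow t i).map _
    rw [hut.eq, mul_inv_cancel_right]
    exact mem_zpowers t

theorem not_fix_of_not_mem {g : G} (hg : g * t * g⁻¹ ∉ zpowers t) : (g : MulAut A) c ∉ Z :=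
  fun hc => hg (conj_mem_of_fix h hc)

omit h in
theorem zpowers_eq_of_mem_prime {B : Type*} [Group B] {x y : B} (hx : orderOf x = p)
    (hy : y ∈ zpowers x) (h1 : y ≠ 1) : x ∈ zpowers y := by
  obtain ⟨k, rfl⟩ := mem_zpowers_iff.1 hy
  have hk : ¬ (p : ℤ) ∣ k := fun hd => h1 (by
    rw [← orderOf_dvd_iff_zpow_eq_one, hx]; exact hd)
  obtain ⟨a, b, hab⟩ := ((Int.prime_iff_natAbs_prime.2 (by
    simpa using (Fact.out : p.Prime))).coprime_iff_not_dvd.2 hk)
  refine ⟨b, ?_⟩
  show (x ^ k) ^ b = x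
  have hxp : x ^ (p : ℤ) = 1 := by rw [zpow_natCast, ← hx, pow_orderOf_eq_one]
  calc (x ^ k) ^ b = (x ^ (p : ℤ)) ^ a * x ^ (b * k) := by rw [hxp, one_zpow, one_mul, ← zpow_mul,
        mul_comm]
    _ = x := by rw [← zpow_mul, ← zpow_add, mul_comm (p : ℤ) a, hab, zpow_one]

/-- Powers of `t` reach every displacement in `⟨c⟩` of an element outside `Z`. -/
theorem exists_zpow_apply {x : A} (hx : x ∉ Z) (n : ℤ) :
    ∃ i : ℤ, ((t ^ i : G) : MulAut A) x = x * c ^ n := by
  have hne : x⁻¹ * (t : MulAut A) x ≠ 1 := fun he => hx ((h.fix x).1 (inv_mul_eq_one.1 he).symm)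
  have hc := zpowers_eq_of_mem_prime (p := p) h.ordc (h.disp x) hne
  obtain ⟨i, hi⟩ := zpow_mem hc n
  refine ⟨i, ?_⟩
  obtain ⟨m, hm⟩ := t_disp_eq h x
  have key : ∀ i : ℤ, ((t ^ i : G) : MulAut A) x = x * (x⁻¹ * (t : MulAut A) x) ^ i := by
    intro i
    have hdfix : (t : MulAut A) (x⁻¹ * (t : MulAut A) x) = x⁻¹ * (t : MulAut A) x := by
      rw [hm, inv_mul_cancel_left, map_zpow, (h.fix c).2 h.centre]
    have hinv : (t : MulAut A)⁻¹ (x⁻¹ * (t : MulAut A) x) = x⁻¹ * (t : MulAut A) x := by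
      conv_lhs => rw [← hdfix]
      exact MulAut.inv_apply_self A _ _
    induction i using Int.induction_on with
    | zero => simp
    | succ k ih =>
      rw [zpow_add_one, zpow_add_one, Subgroup.coe_mul, MulAut.mul_apply]
      rw [show (t : MulAut A) x = x * (x⁻¹ * (t : MulAut A) x) by simp, map_mul, ih]
      have hk : ∀ k : ℕ, ((t ^ (k : ℤ) : G) : MulAut A) (x⁻¹ * (t : MulAut A) x) =
          x⁻¹ * (t : MulAut A) x := by
        intro k
        induction k with
        | zero => rfl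
        | succ k ihk => rw [Nat.cast_succ, zpow_add_one, Subgroup.coe_mul, MulAut.mul_apply, hdfix,
            ihk]
      rw [hk k]
      simp [mul_assoc]
    | pred k ih =>
      rw [zpow_sub_one, zpow_sub_one, Subgroup.coe_mul, MulAut.mul_apply, Subgroup.coe_inv]
      have hx' : (t : MulAut A)⁻¹ x = x * (x⁻¹ * (t : MulAut A) x)⁻¹ := by
        refine (t : MulAut A).injective ?_
        rw [MulAut.apply_inv_self, map_mul, map_inv, hdfix]
        simp
      have hk : ∀ k : ℕ, ((t ^ (-(k : ℤ)) : G) : MulAut A) (x⁻¹ * (t : MulAut A) x) =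
          x⁻¹ * (t : MulAut A) x := by
        intro k
        induction k with
        | zero => rfl
        | succ k ihk => rw [Nat.cast_succ, neg_add, ← sub_eq_add_neg, zpow_sub_one,
            Subgroup.coe_mul, MulAut.mul_apply, Subgroup.coe_inv, hinv, ihk]
      rw [hx', map_mul, map_inv, ih, hk k]
      simp [mul_assoc]
  rw [key i]
  exact congrArg (x * ·) hi

/-- The conclusion: an invariant complement `W` to the centre, with everything moving inside
`A₀ = ⟨c, a⟩`. -/
theorem structure_thm : ∃ (W : Subgroup A) (a : A), W ≤ Z ∧ W ⊓ zpowers c = ⊥ ∧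
    W ⊔ zpowers c = Z ∧ (∀ α : G, ∀ w ∈ W, (α : MulAut A) w ∈ W) ∧ a ∉ Z ∧ a ^ p = 1 ∧
    (∃ α : G, a = (α : MulAut A) c) ∧ Z ⊔ zpowers a = ⊤ ∧
    (∀ α : G, ∃ k n : G, α = k * n ∧ k ∈ stab G W (zpowers c ⊔ zpowers a) ∧
      n ∈ normalizer (zpowers t : Set G)) ∧
    ∃ η : G, Commute η t ∧ (∀ w ∈ W, (η : MulAut A) w = w) ∧ (η : MulAut A) c = c⁻¹ := by
  have : Finite (MulAut A) := Finite.of_injective (fun e : MulAut A => (e : A → A)) DFunLike.coe_injective
  obtain ⟨g, hg⟩ : ∃ g : G, g * t * g⁻¹ ∉ zpowers t := by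
    by_contra hcon
    push Not at hcon
    refine h.notNormal ⟨fun x hx g => ?_⟩
    obtain ⟨i, rfl⟩ := hx
    rw [← conj_zpow]
    exact zpow_mem (hcon g) i
  set a := (g : MulAut A) c with ha
  set u := g * t * g⁻¹ with hu
  have haZ : a ∉ Z := not_fix_of_not_mem h hg
  have hfix : ∀ x, (u : MulAut A) x = x ↔ (g : MulAut A)⁻¹ x ∈ Z := fun x => by
    rw [← h.fix, hu]
    simp only [Subgroup.coe_mul, Subgroup.coe_inv, MulAut.mul_apply]
    constructor
    · intro hx
      conv_rhs => rw [← hx]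
      rw [MulAut.inv_apply_self]
    · intro hx
      rw [hx, MulAut.apply_inv_self]
  have huc : ∀ x, x⁻¹ * (u : MulAut A) x ∈ zpowers a := by
    intro x
    obtain ⟨n, hn⟩ := t_disp_eq h ((g : MulAut A)⁻¹ x)
    refine ⟨n, ?_⟩
    rw [hu]
    simp only [Subgroup.coe_mul, Subgroup.coe_inv, MulAut.mul_apply, hn, map_mul, map_zpow,
      MulAut.apply_inv_self, inv_mul_cancel_left]
    rfl
  have hcu : (g : MulAut A)⁻¹ c ∉ Z := by
    intro hc
    have h1 : g⁻¹ * t * g⁻¹⁻¹ ∈ zpowers t := conj_mem_of_fix h (g := g⁻¹) hc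
    have h2 : g⁻¹⁻¹ * t * g⁻¹⁻¹⁻¹ ∈ zpowers t := by
      obtain ⟨i, hi⟩ := zpowers_eq_of_mem_prime (p := p) h.ord h1 (fun he => by
        have := h.ord
        rw [show t = 1 from by
          have h3 := congrArg (fun y => g * y * g⁻¹) he
          simpa [mul_assoc] using h3, orderOf_one] at this
        exact (Fact.out : p.Prime).ne_one this.symm)
      refine ⟨i, ?_⟩
      simp only at hi ⊢
      rw [conj_zpow] at hi
      conv_rhs => rw [← hi]
      group
    exact hg (by simpa using h2)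
  let W : Subgroup A :=
    { carrier := {x | (t : MulAut A) x = x ∧ (u : MulAut A) x = x}
      one_mem' := ⟨map_one _, map_one _⟩
      mul_mem' := fun {x y} hx hy => ⟨by rw [map_mul, hx.1, hy.1], by rw [map_mul, hx.2, hy.2]⟩
      inv_mem' := fun {x} hx => ⟨by rw [map_inv, hx.1], by rw [map_inv, hx.2]⟩ }
  -- transporting `exists_zpow_apply` to `u`
  have huz : ∀ x, (g : MulAut A)⁻¹ x ∉ Z → ∀ n : ℤ, ∃ i : ℤ,
      ((u ^ i : G) : MulAut A) x = x * a ^ n := by
    intro x hx n
    obtain ⟨i, hi⟩ := exists_zpow_apply h hx n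
    refine ⟨i, ?_⟩
    rw [hu, conj_zpow]
    simp only [Subgroup.coe_mul, Subgroup.coe_inv, MulAut.mul_apply, hi, map_mul, map_zpow,
      MulAut.apply_inv_self]
    rfl
  have hWZ : W ≤ Z := fun x hx => (h.fix x).1 hx.1
  have hWc : W ⊓ zpowers c = ⊥ := by
    refine eq_bot_iff.2 fun x hx => mem_bot.2 (by_contra fun hx1 => hcu ?_)
    obtain ⟨i, hi⟩ := zpowers_eq_of_mem_prime (p := p) h.ordc hx.2 hx1
    refine (hfix c).1 ?_
    have := congrArg (fun y => y) hx.1.2
    rw [← hi]
    simp only [map_zpow]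
    rw [this]
  have hWcZ : W ⊔ zpowers c = Z := by
    refine le_antisymm (sup_le hWZ (zpowers_le.2 h.centre)) fun z hz => ?_
    obtain ⟨n, hn⟩ := huc z
    have hne : c⁻¹ * (u : MulAut A) c ≠ 1 := fun he => hcu ((hfix c).1 (inv_mul_eq_one.1 he).symm)
    have hca : orderOf a = p := by rw [ha, MulEquiv.orderOf_eq, h.ordc]
    obtain ⟨j, hj⟩ := zpow_mem (zpowers_eq_of_mem_prime (p := p) hca (huc c) hne) n
    simp only at hn hj
    have hw : z * (c ^ j)⁻¹ ∈ W := by
      refine ⟨by rw [map_mul, map_inv, map_zpow, (h.fix z).2 hz, (h.fix c).2 h.centre], ?_⟩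
      rw [map_mul, map_inv, map_zpow,
        show (u : MulAut A) z = z * a ^ n by rw [hn, mul_inv_cancel_left],
        show (u : MulAut A) c = c * (c⁻¹ * (u : MulAut A) c) by rw [mul_inv_cancel_left],
        mul_zpow, hj, mul_inv_rev]
      simp [mul_comm, mul_left_comm]
    rw [show z = z * (c ^ j)⁻¹ * c ^ j by simp]
    exact mul_mem (mem_sup_left hw) (mem_sup_right (zpow_mem (mem_zpowers c) j))
  have htop : Z ⊔ zpowers a = ⊤ := by
    have hp := (Fact.out : p.Prime)
    have h1 : (Z ⊔ zpowers a).index ∣ p := h.index ▸ index_dvd_of_le le_sup_left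
    rcases (Nat.dvd_prime hp).1 h1 with h2 | h2
    · exact index_eq_one.1 h2
    · exfalso
      have h3 := Subgroup.relIndex_mul_index (le_sup_left : Z ≤ Z ⊔ zpowers a)
      rw [h2, h.index] at h3
      have : Z.relIndex (Z ⊔ zpowers a) = 1 := Nat.eq_of_mul_eq_mul_right hp.pos (by simpa using h3)
      exact haZ (Subgroup.relIndex_eq_one.1 this (mem_sup_right (mem_zpowers a)))
  set K := stab G W (zpowers c ⊔ zpowers a) with hK
  have htK : t ∈ K := ⟨fun w hw => hw.1, fun x => mem_sup_left (h.disp x)⟩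
  have huK : u ∈ K := ⟨fun w hw => hw.2, fun x => mem_sup_right (huc x)⟩
  -- every conjugate of `t` lies in `K`
  have hall : ∀ k : G, k * t * k⁻¹ ∈ K := by
    intro k
    set v := k * t * k⁻¹ with hv
    by_cases hvt : v ∈ zpowers t
    · obtain ⟨i, hi⟩ := hvt
      exact hi ▸ zpow_mem htK i
    by_cases hb : (g : MulAut A)⁻¹ ((k : MulAut A) c) ∈ Z
    · obtain ⟨i, hi⟩ := conj_mem_of_fix h (g := g⁻¹ * k) hb
      simp only at hi
      have : v = u ^ i := by
        rw [hu, conj_zpow, hi, hv]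
        group
      exact this ▸ zpow_mem huK i
    have hbZ : (k : MulAut A) c ∉ Z := not_fix_of_not_mem h hvt
    set b := (k : MulAut A) c with hbdef
    -- choose `n` with `t` fixing `b aⁿ`
    obtain ⟨n, hn⟩ : ∃ n : ℤ, b * a ^ n ∈ Z := by
      have hb' : b ∈ Z ⊔ zpowers a := htop ▸ mem_top _
      obtain ⟨z, hz, y, hy, hzy⟩ := mem_sup.1 hb'
      obtain ⟨m, rfl⟩ := hy
      refine ⟨-m, ?_⟩
      rw [← hzy]
      simpa [mul_assoc] using hz
    obtain ⟨i, hi⟩ := huz b hb n
    have h1 := conj_mem_of_fix h (g := u ^ i * k) (by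
      show ((u ^ i : G) : MulAut A) b ∈ Z
      rw [hi]; exact hn)
    obtain ⟨l, hl⟩ := h1
    simp only at hl
    have : v = (u ^ i)⁻¹ * t ^ l * u ^ i := by rw [hl, hv]; group
    exact this ▸ mul_mem (mul_mem (inv_mem (zpow_mem huK i)) (zpow_mem htK l)) (zpow_mem huK i)
  have hWinv : ∀ α : G, ∀ w ∈ W, (α : MulAut A) w ∈ W := by
    intro α w hw
    constructor
    · have := (hall α⁻¹).1 w hw
      simp only [Subgroup.coe_mul, Subgroup.coe_inv, inv_inv, MulAut.mul_apply] at this
      conv_rhs => rw [← this]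
      rw [MulAut.apply_inv_self]
    · have := (hall (α⁻¹ * g)).1 w hw
      have e : (α⁻¹ * g) * t * (α⁻¹ * g)⁻¹ = α⁻¹ * u * α := by rw [hu]; group
      rw [e] at this
      simp only [Subgroup.coe_mul, Subgroup.coe_inv, MulAut.mul_apply] at this
      conv_rhs => rw [← this]
      rw [MulAut.apply_inv_self]
  refine ⟨W, a, hWZ, hWc, hWcZ, hWinv, haZ, by rw [ha, ← map_pow, ← h.ordc, pow_orderOf_eq_one,
    map_one], ⟨g, ha⟩, htop, ?_, ?_⟩
  · intro α
    let L : Subgroup G := normalClosure {t}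
    have hLK : L ≤ K := by
      refine closure_le _ |>.2 ?_
      intro x hx
      obtain ⟨s, hs, hconj⟩ := Group.mem_conjugatesOfSet_iff.1 hx
      obtain ⟨k, hk⟩ := isConj_iff.1 hconj
      rw [Set.mem_singleton_iff.1 hs] at hk
      exact hk ▸ hall k
    have htP : IsPGroup p (zpowers t) := IsPGroup.of_card (n := 1) (by
      rw [Nat.card_zpowers, h.ord, pow_one])
    let T : Sylow p G := ⟨zpowers t, htP, fun hQ hle => h.sylow _ hQ hle⟩
    have hTL : (T : Subgroup G) ≤ L :=
      zpowers_le.2 (subset_normalClosure (Set.mem_singleton t))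
    have hsup := Sylow.normalizer_sup_eq_top' T hTL
    obtain ⟨k, hk, n, hn, he⟩ := (mem_sup_of_normal_left (s := L)
      (t := normalizer (zpowers t : Set G)) (x := α)).1 (by
        rw [sup_comm]; exact hsup.ge trivial)
    exact ⟨k, n, he.symm, hLK hk, hn⟩
  · -- the involution, or the identity
    obtain ⟨i, hi⟩ := exists_zpow_apply h haZ 1
    obtain ⟨j, hj⟩ := huz c hcu (-1)
    rw [zpow_one] at hi
    rw [zpow_neg_one] at hj
    set t₁ := t ^ i with ht₁
    set u₁ := u ^ j with hu₁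
    have ht₁c : (t₁ : MulAut A) c = c := by
      have : t₁ ∈ zpowers t := zpow_mem (mem_zpowers t) i
      obtain ⟨n, hn⟩ := this
      simp only at hn
      rw [← hn]
      clear hn
      have h0 := (h.fix c).2 h.centre
      have hinv : (t : MulAut A)⁻¹ c = c := by
        conv_lhs => rw [← h0]
        exact MulAut.inv_apply_self A _ _
      induction n using Int.induction_on with
      | zero => rfl
      | succ k ih => rw [zpow_add_one, Subgroup.coe_mul, MulAut.mul_apply, h0, ih]
      | pred k ih => rw [zpow_sub_one, Subgroup.coe_mul, MulAut.mul_apply, Subgroup.coe_inv, hinv,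
          ih]
    have hufix_a : (u : MulAut A) a = a := (hfix a).2 (by rw [ha, MulAut.inv_apply_self]; exact h.centre)
    have hu₁a : (u₁ : MulAut A) a = a := by
      have hinv : (u : MulAut A)⁻¹ a = a := by
        conv_lhs => rw [← hufix_a]
        exact MulAut.inv_apply_self A _ _
      rw [hu₁]
      clear hj hu₁
      induction j using Int.induction_on with
      | zero => rfl
      | succ k ih => rw [zpow_add_one, Subgroup.coe_mul, MulAut.mul_apply, hufix_a, ih]
      | pred k ih => rw [zpow_sub_one, Subgroup.coe_mul, MulAut.mul_apply, Subgroup.coe_inv, hinv,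
          ih]
    set w₀ := t₁ * u₁ * t₁ with hw₀
    have hw₀c : (w₀ : MulAut A) c = a⁻¹ := by
      rw [hw₀]
      simp only [Subgroup.coe_mul, MulAut.mul_apply, ht₁c, hj, map_mul, map_inv, hi, mul_inv_rev]
      simp [mul_comm]
    have hw₀a : (w₀ : MulAut A) a = c := by
      rw [hw₀]
      simp only [Subgroup.coe_mul, MulAut.mul_apply, hi, map_mul, hu₁a, hj, map_inv, ht₁c]
      simp [mul_comm, mul_left_comm]
    have hw₀K : ∀ x ∈ W, (w₀ : MulAut A) x = x :=
      (mul_mem (mul_mem (zpow_mem htK i) (zpow_mem huK j)) (zpow_mem htK i) : w₀ ∈ K).1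
    have hηc : ((w₀ * w₀ : G) : MulAut A) c = c⁻¹ := by
      simp [Subgroup.coe_mul, MulAut.mul_apply, hw₀c, hw₀a]
    have hηa : ((w₀ * w₀ : G) : MulAut A) a = a⁻¹ := by
      simp [Subgroup.coe_mul, MulAut.mul_apply, hw₀c, hw₀a]
    have hηW : ∀ x ∈ W, ((w₀ * w₀ : G) : MulAut A) x = x := fun x hx => by
      simp [Subgroup.coe_mul, MulAut.mul_apply, hw₀K x hx]
    refine ⟨w₀ * w₀, ?_, hηW, hηc⟩
    refine Subtype.ext (MulEquiv.ext fun x => ?_)
    have hx : x ∈ (W ⊔ zpowers c) ⊔ zpowers a := by rw [hWcZ, htop]; trivial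
    have hle : (W ⊔ zpowers c) ⊔ zpowers a ≤
        MonoidHom.eqLocus ((((w₀ * w₀ : G) : MulAut A) * (t : MulAut A)).toMonoidHom)
          ((((t : MulAut A) * ((w₀ * w₀ : G) : MulAut A))).toMonoidHom) := by
      refine sup_le (sup_le (fun y hy => ?_) (zpowers_le.2 ?_)) (zpowers_le.2 ?_)
      · show ((w₀ * w₀ : G) : MulAut A) ((t : MulAut A) y) = _
        rw [hy.1, hηW y hy]
        show y = (t : MulAut A) (((w₀ * w₀ : G) : MulAut A) y)
        rw [hηW y hy, hy.1]
      · show ((w₀ * w₀ : G) : MulAut A) ((t : MulAut A) c) =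
          (t : MulAut A) (((w₀ * w₀ : G) : MulAut A) c)
        rw [(h.fix c).2 h.centre, hηc, map_inv, (h.fix c).2 h.centre]
      · obtain ⟨m, hm⟩ := t_disp_eq h a
        show ((w₀ * w₀ : G) : MulAut A) ((t : MulAut A) a) =
          (t : MulAut A) (((w₀ * w₀ : G) : MulAut A) a)
        rw [hm, map_mul, map_zpow, hηc, hηa, map_inv, hm]
        simp [mul_comm]
    exact hle hx

end CfsgLib.Fusion.Transvection
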