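import Cfsg.Prelude.Def_Transfer
import Cfsg.Agent.Fusion.Transvection
import Cfsg.Agent.Fusion.FocalClosure
import Cfsg.Agent.Fusion.NormalCriteria
import Cfsg.Agent.Fusion.InnerCriterion
import Cfsg.Agent.Fusion.SmallControlApps
import Cfsg.Agent.S0206

/-!
Saturated systems with trivial largest normal subgroup over a group whose centre has index `p²`.
-/

set_option autoImplicit false

open Cfsg Cfsg.FusionSystem
open scoped commutatorElement

namespace CfsgLib.Fusion.SmallCentre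

universe u

variable {Ω : Type u} [Group Ω] {S : Subgroup Ω}

/-- The centre of `S`, in the ambient group. -/
def zc (S : Subgroup Ω) : Subgroup Ω := S ⊓ Subgroup.centralizer (S : Set Ω)

theorem mem_zc {x : Ω} : x ∈ zc S ↔ x ∈ S ∧ ∀ y ∈ S, y * x = x * y :=
  ⟨fun h => ⟨h.1, Subgroup.mem_centralizer_iff.1 h.2⟩,
    fun h => ⟨h.1, Subgroup.mem_centralizer_iff.2 h.2⟩⟩

theorem zc_subgroupOf : (zc S).subgroupOf S = Subgroup.center S := by
  ext x
  rw [Subgroup.mem_subgroupOf, mem_zc, Subgroup.mem_center_iff]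
  exact ⟨fun h y => Subtype.ext (h.2 y y.2),
    fun h => ⟨x.2, fun y hy => congrArg Subtype.val (h ⟨y, hy⟩)⟩⟩

/-- An automorphism of `S` preserves the centre. -/
theorem aut_mem_zc (γ : MulAut S) {x : S} (h : (x : Ω) ∈ zc S) : ((γ x : S) : Ω) ∈ zc S := by
  have hx : x ∈ Subgroup.center S := by rw [← zc_subgroupOf]; exact h
  have : γ x ∈ Subgroup.center S := Subgroup.mem_center_iff.2 fun y => by
    obtain ⟨y', rfl⟩ := γ.surjective y
    rw [← map_mul, ← map_mul, Subgroup.mem_center_iff.1 hx y']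
  rw [← zc_subgroupOf] at this
  exact this

/-- An automorphism of `S` preserves the derived subgroup. -/
theorem aut_mem_comm (γ : MulAut S) {x : S} (h : (x : Ω) ∈ ⁅S, S⁆) :
    ((γ x : S) : Ω) ∈ ⁅S, S⁆ := by
  have e : ⁅S, S⁆ = Subgroup.map S.subtype (⁅(⊤ : Subgroup S), ⊤⁆ : Subgroup S) := by
    rw [Subgroup.map_commutator, ← MonoidHom.range_eq_map, Subgroup.range_subtype]
  rw [e] at h ⊢
  obtain ⟨y, hy, hyx⟩ := h
  obtain rfl : y = x := Subtype.ext hyx
  refine ⟨γ y, ?_, rfl⟩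
  have hle : Subgroup.map γ.toMonoidHom (⁅(⊤ : Subgroup S), ⊤⁆ : Subgroup S) ≤
      ⁅(⊤ : Subgroup S), ⊤⁆ := by
    rw [Subgroup.map_commutator]
    exact Subgroup.commutator_mono le_top le_top
  exact hle ⟨y, hy, rfl⟩

theorem mul_mem_of_pow {N : Subgroup Ω} {a : Ω} {p : ℕ} [Fact p.Prime] (hp : a ^ p ∈ N) {i : ℤ}
    (hi : a ^ i ∈ N) (ha : a ∉ N) : (p : ℤ) ∣ i := by
  by_contra hd
  obtain ⟨x, y, hxy⟩ := ((Int.prime_iff_natAbs_prime.2 (by
    simpa using (Fact.out : p.Prime))).coprime_iff_not_dvd.2 hd)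
  refine ha ?_
  rw [show a = (a ^ (p : ℤ)) ^ x * (a ^ i) ^ y by
    rw [← zpow_mul, ← zpow_mul, ← zpow_add, show (p : ℤ) * x + i * y = x * p + y * i by ring, hxy,
      zpow_one]]
  exact mul_mem (zpow_mem (by rwa [zpow_natCast]) x) (zpow_mem hi y)

/-- `P` lies strictly between the centre and `S` and its automizer moves that of `S`. -/
structure IsGood (F : FusionSystem S) (P : Subgroup Ω) : Prop where
  zle : zc S ≤ P
  leS : P ≤ S
  neS : P ≠ S
  neZ : P ≠ zc S
  moves : ¬ ∀ α ∈ F.autGroup P, ∀ τ ∈ autInducedBy S P, α * τ * α⁻¹ ∈ autInducedBy S P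

/-- The elements of `P` whose `Aut_F(P)`-orbit lies in the centre of `S`. -/
def orb (F : FusionSystem S) (P : Subgroup Ω) : Subgroup Ω :=
  (⨅ α : F.autGroup P, ((zc S).subgroupOf P).comap (α : MulAut P).toMonoidHom).map P.subtype

variable {F : FusionSystem S}

theorem mem_orb {P : Subgroup Ω} {x : Ω} :
    x ∈ orb F P ↔ ∃ hx : x ∈ P, ∀ α ∈ F.autGroup P, ((α ⟨x, hx⟩ : P) : Ω) ∈ zc S := by
  constructor
  · rintro ⟨y, hy, rfl⟩
    exact ⟨y.2, fun α hα => Subgroup.mem_iInf.1 hy ⟨α, hα⟩⟩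
  · rintro ⟨hx, h⟩
    exact ⟨⟨x, hx⟩, Subgroup.mem_iInf.2 fun α => h α α.2, rfl⟩

theorem orb_le_zc {P : Subgroup Ω} : orb F P ≤ zc S := fun _ hx => by
  obtain ⟨_, h⟩ := mem_orb.1 hx
  exact h 1 (one_mem _)

theorem orb_invariant {P : Subgroup Ω} {α : MulAut P} (hα : α ∈ F.autGroup P) {x : P}
    (hx : (x : Ω) ∈ orb F P) : ((α x : P) : Ω) ∈ orb F P := by
  obtain ⟨_, h⟩ := mem_orb.1 hx
  exact mem_orb.2 ⟨(α x).2, fun β hβ => h (β * α) (mul_mem hβ hα)⟩

variable [Finite S] {p : ℕ} [hp : Fact p.Prime]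

section index

variable (hidx : (Subgroup.center S).index = p ^ 2) (hna : ¬ IsMulCommutative S)

include hidx hna in
theorem pow_mem_zc {x : Ω} (hx : x ∈ S) : x ^ p ∈ zc S := by
  let π := QuotientGroup.mk' (Subgroup.center S)
  by_contra hne
  have hcard : Nat.card (S ⧸ Subgroup.center S) = p ^ 2 := by
    rw [← Subgroup.index_eq_card]; exact hidx
  have hd := orderOf_dvd_natCard (π ⟨x, hx⟩)
  rw [hcard] at hd
  obtain ⟨k, hk, hk'⟩ := (Nat.dvd_prime_pow hp.out).1 hd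
  have hk2 : k = 2 := by
    by_contra h2
    refine hne ?_
    have h1 : π ⟨x, hx⟩ ^ p = 1 := orderOf_dvd_iff_pow_eq_one.1 (by
      rw [hk']
      exact (pow_dvd_pow p (by omega : k ≤ 1)).trans (pow_one p).dvd)
    rw [← map_pow] at h1
    have h2 := (QuotientGroup.eq_one_iff _).1 h1
    rw [← zc_subgroupOf] at h2
    exact h2
  have : IsCyclic (S ⧸ Subgroup.center S) := by
    refine isCyclic_of_orderOf_eq_card (π ⟨x, hx⟩) ?_
    rw [hk', hk2, hcard]
  exact hna (π.isMulCommutative_of_isCyclic_of_ker_le_center (by rw [QuotientGroup.ker_mk']))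

theorem relIndex_zc_eq : (zc S).relIndex S = (Subgroup.center S).index := by
  rw [Subgroup.relIndex, zc_subgroupOf]

include hidx in
/-- A good subgroup has index `p` in `S` and contains the centre with index `p`. -/
theorem IsGood.index_eq {P : Subgroup Ω} (h : IsGood F P) :
    (zc S).relIndex P = p ∧ P.relIndex S = p := by
  have hm := Subgroup.relIndex_mul_relIndex (zc S) P S h.zle h.leS
  rw [relIndex_zc_eq, hidx] at hm
  have h1 : (zc S).relIndex P ≠ 1 := fun e =>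
    h.neZ (le_antisymm (Subgroup.relIndex_eq_one.1 e) h.zle)
  have h2 : P.relIndex S ≠ 1 := fun e =>
    h.neS (le_antisymm h.leS (Subgroup.relIndex_eq_one.1 e))
  obtain ⟨i, hi, e1⟩ := (Nat.dvd_prime_pow hp.out).1 (Dvd.intro _ hm)
  obtain ⟨j, hj, e2⟩ := (Nat.dvd_prime_pow hp.out).1 (Dvd.intro_left _ hm)
  rw [e1, e2, ← pow_add] at hm
  have hij := Nat.pow_right_injective hp.out.two_le hm
  have hi0 : i ≠ 0 := fun h0 => h1 (by rw [e1, h0, pow_zero])
  have hj0 : j ≠ 0 := fun h0 => h2 (by rw [e2, h0, pow_zero])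
  rw [e1, e2, show i = 1 by omega, show j = 1 by omega, pow_one]
  exact ⟨rfl, rfl⟩

include hidx in
theorem IsGood.eq_sup {P : Subgroup Ω} (h : IsGood F P) {a : Ω} (haP : a ∈ P) (ha : a ∉ zc S) :
    P = zc S ⊔ Subgroup.zpowers a := by
  have hle : zc S ⊔ Subgroup.zpowers a ≤ P := sup_le h.zle (Subgroup.zpowers_le.2 haP)
  have hm := Subgroup.relIndex_mul_relIndex (zc S) (zc S ⊔ Subgroup.zpowers a) P le_sup_left hle
  rw [(h.index_eq hidx).1] at hm
  rcases (Nat.dvd_prime hp.out).1 (Dvd.intro _ hm) with e | e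
  · exact absurd (Subgroup.relIndex_eq_one.1 e (Subgroup.mem_sup_right (Subgroup.mem_zpowers a))) ha
  · rw [e] at hm
    exact le_antisymm (Subgroup.relIndex_eq_one.1
      (Nat.eq_of_mul_eq_mul_left hp.out.pos (by rw [hm, mul_one]))) hle

include hidx in
theorem IsGood.sup_eq_S {P : Subgroup Ω} (h : IsGood F P) {g : Ω} (hgS : g ∈ S) (hg : g ∉ P) :
    P ⊔ Subgroup.zpowers g = S := by
  have hle : P ⊔ Subgroup.zpowers g ≤ S := sup_le h.leS (Subgroup.zpowers_le.2 hgS)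
  have hm := Subgroup.relIndex_mul_relIndex P (P ⊔ Subgroup.zpowers g) S le_sup_left hle
  rw [(h.index_eq hidx).2] at hm
  rcases (Nat.dvd_prime hp.out).1 (Dvd.intro _ hm) with e | e
  · exact absurd (Subgroup.relIndex_eq_one.1 e (Subgroup.mem_sup_right (Subgroup.mem_zpowers g))) hg
  · rw [e] at hm
    exact le_antisymm hle (Subgroup.relIndex_eq_one.1
      (Nat.eq_of_mul_eq_mul_left hp.out.pos (by rw [hm, mul_one])))

include hidx in
theorem IsGood.comm {P : Subgroup Ω} (h : IsGood F P) : ∀ x ∈ P, ∀ y ∈ P, x * y = y * x := by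
  obtain ⟨a, haP, ha⟩ := SetLike.exists_of_lt (lt_of_le_of_ne h.zle (Ne.symm h.neZ))
  intro x hx y hy
  have hle : P ≤ Subgroup.centralizer (P : Set Ω) := by
    conv_lhs => rw [h.eq_sup hidx haP ha]
    refine sup_le (fun z hz => Subgroup.mem_centralizer_iff.2 fun w hw =>
      (mem_zc.1 hz).2 w (h.leS hw)) (Subgroup.zpowers_le.2 (Subgroup.mem_centralizer_iff.2 ?_))
    intro w hw
    have hw' : w ∈ zc S ⊔ Subgroup.zpowers a := (h.eq_sup hidx haP ha).le hw
    have hle' : zc S ⊔ Subgroup.zpowers a ≤ Subgroup.centralizer ({a} : Set Ω) := by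
      refine sup_le (fun z hz => Subgroup.mem_centralizer_iff.2 ?_) (Subgroup.zpowers_le.2 ?_)
      · rintro _ rfl
        exact (mem_zc.1 hz).2 _ (h.leS haP)
      · exact Subgroup.mem_centralizer_iff.2 fun _ e => by rw [Set.mem_singleton_iff.1 e]
    exact (Subgroup.mem_centralizer_iff.1 (hle' hw') a rfl).symm
  exact Subgroup.mem_centralizer_iff.1 (hle hy) x hx

include hidx hna in
theorem comm_le_zc : ⁅S, S⁆ ≤ zc S := by
  rw [Subgroup.commutator_le]
  intro x hx y hy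
  have h2 : IsMulCommutative (S ⧸ Subgroup.center S) :=
    IsPGroup.isMulCommutative_of_card_eq_prime_sq (p := p)
      (by rw [← Subgroup.index_eq_card]; exact hidx)
  have : (⁅(⟨x, hx⟩ : S), ⟨y, hy⟩⁆ : S) ∈ Subgroup.center S := by
    refine (QuotientGroup.eq_one_iff _).1 ?_
    show QuotientGroup.mk' (Subgroup.center S) ⁅(⟨x, hx⟩ : S), ⟨y, hy⟩⁆ = 1
    rw [map_commutatorElement]
    exact commutatorElement_eq_one_iff_mul_comm.2 (h2.is_comm.comm _ _)
  rw [← zc_subgroupOf] at this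
  exact this

include hidx hna in
theorem IsGood.le_normalizer {P : Subgroup Ω} (h : IsGood F P) :
    S ≤ Subgroup.normalizer (P : Set Ω) := fun g hg => by
  refine mem_normalizer_of_conj_mem h.leS fun x hx => ?_
  have := mul_mem (h.zle (comm_le_zc hidx hna (Subgroup.commutator_mem_commutator hg (h.leS hx)))) hx
  simpa [commutatorElement_def] using this

include hidx hna in
/-- The derived subgroup is generated by one commutator, of order `p`. -/
theorem IsGood.comm_eq {P : Subgroup Ω} (h : IsGood F P) {a g : Ω} (haP : a ∈ P) (ha : a ∉ zc S)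
    (hgS : g ∈ S) (hg : g ∉ P) :
    ⁅S, S⁆ = Subgroup.zpowers ⁅g, a⁆ ∧ orderOf ⁅g, a⁆ = p := by
  have haS := h.leS haP
  have hc := comm_le_zc hidx hna (Subgroup.commutator_mem_commutator hgS haS)
  set c := ⁅g, a⁆ with hcdef
  have hgen : ∀ x ∈ S, x ∈ zc S ⊔ Subgroup.zpowers a ⊔ Subgroup.zpowers g := fun x hx => by
    rwa [← h.eq_sup hidx haP ha, h.sup_eq_S hidx hgS hg]
  have hc1 : c ≠ 1 := by
    intro h1
    refine ha (mem_zc.2 ⟨haS, fun y hy => ?_⟩)
    have hle : zc S ⊔ Subgroup.zpowers a ⊔ Subgroup.zpowers g ≤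
        Subgroup.centralizer ({a} : Set Ω) := by
      refine sup_le (sup_le (fun z hz => Subgroup.mem_centralizer_iff.2 ?_)
        (Subgroup.zpowers_le.2 ?_)) (Subgroup.zpowers_le.2 ?_)
      · rintro _ rfl; exact (mem_zc.1 hz).2 _ haS
      · exact Subgroup.mem_centralizer_iff.2 fun _ e => by rw [Set.mem_singleton_iff.1 e]
      · refine Subgroup.mem_centralizer_iff.2 fun _ e => ?_
        rw [Set.mem_singleton_iff.1 e]
        exact (commutatorElement_eq_one_iff_mul_comm.1 h1).symm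
    exact (Subgroup.mem_centralizer_iff.1 (hle (hgen y hy)) a rfl).symm
  have hga : g * a * g⁻¹ = c * a := by rw [hcdef, commutatorElement_def]; group
  have hcp : c ^ p = 1 := by
    have h1 : g * a ^ p * g⁻¹ = c ^ p * a ^ p := by
      rw [← conj_pow, hga, Commute.mul_pow ((mem_zc.1 hc).2 a haS).symm]
    rw [(mem_zc.1 (pow_mem_zc hidx hna haS)).2 g hgS, mul_inv_cancel_right] at h1
    exact mul_eq_right.1 h1.symm
  refine ⟨le_antisymm ?_ (Subgroup.zpowers_le.2 (Subgroup.commutator_mem_commutator hgS haS)),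
    orderOf_eq_prime hcp hc1⟩
  let N : Subgroup S := (Subgroup.zpowers c).subgroupOf S
  have hN : N.Normal := ⟨fun n hn x => by
    have hn' : (n : Ω) ∈ zc S := (Subgroup.zpowers_le.2 hc) (Subgroup.mem_subgroupOf.1 hn)
    rw [Subgroup.mem_subgroupOf] at hn ⊢
    simpa [(mem_zc.1 hn').2 (x : Ω) x.2] using hn⟩
  let π := QuotientGroup.mk' N
  have hcz : ∀ z : S, (z : Ω) ∈ zc S → ∀ y : S, Commute (π z) (π y) := fun z hz y =>
    (Commute.map (show Commute z y from Subtype.ext ((mem_zc.1 hz).2 y y.2).symm) π)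
  have hag : Commute (π ⟨g, hgS⟩) (π ⟨a, haS⟩) := by
    refine commutatorElement_eq_one_iff_mul_comm.1 ?_
    rw [← map_commutatorElement]
    exact (QuotientGroup.eq_one_iff _).2 (Subgroup.mem_subgroupOf.2 (Subgroup.mem_zpowers c))
  have hcent : ∀ (s : S), Commute (π s) (π ⟨g, hgS⟩) ∧ Commute (π s) (π ⟨a, haS⟩) := by
    intro s
    have hle : zc S ⊔ Subgroup.zpowers a ⊔ Subgroup.zpowers g ≤
        ((Subgroup.centralizer ({π ⟨g, hgS⟩, π ⟨a, haS⟩} : Set _)).comap π).map S.subtype := by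
      refine sup_le (sup_le (fun z hz => ⟨⟨z, hz.1⟩, ?_, rfl⟩)
        (Subgroup.zpowers_le.2 ⟨⟨a, haS⟩, ?_, rfl⟩)) (Subgroup.zpowers_le.2 ⟨⟨g, hgS⟩, ?_, rfl⟩)
      · exact Subgroup.mem_centralizer_iff.2 fun y hy => by
          rcases hy with rfl | rfl <;> exact (hcz ⟨z, hz.1⟩ hz _).eq.symm
      · exact Subgroup.mem_centralizer_iff.2 fun y hy => by
          rcases hy with rfl | rfl
          exacts [hag.eq, rfl]
      · exact Subgroup.mem_centralizer_iff.2 fun y hy => by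
          rcases hy with rfl | rfl
          exacts [rfl, hag.eq.symm]
    obtain ⟨w, hw, hws⟩ := hle (hgen s s.2)
    obtain rfl : w = s := Subtype.ext hws
    exact ⟨(Subgroup.mem_centralizer_iff.1 hw _ (Or.inl rfl)).symm,
      (Subgroup.mem_centralizer_iff.1 hw _ (Or.inr rfl)).symm⟩
  rw [Subgroup.commutator_le]
  intro x hx y hy
  have hall : ∀ u v : S, Commute (π u) (π v) := by
    intro u v
    have hle : zc S ⊔ Subgroup.zpowers a ⊔ Subgroup.zpowers g ≤
        ((Subgroup.centralizer ({π u} : Set _)).comap π).map S.subtype := by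
      refine sup_le (sup_le (fun z hz => ⟨⟨z, hz.1⟩, ?_, rfl⟩)
        (Subgroup.zpowers_le.2 ⟨⟨a, haS⟩, ?_, rfl⟩)) (Subgroup.zpowers_le.2 ⟨⟨g, hgS⟩, ?_, rfl⟩)
      · exact Subgroup.mem_centralizer_iff.2 fun w hw => by
          rw [Set.mem_singleton_iff.1 hw]; exact (hcz ⟨z, hz.1⟩ hz u).eq.symm
      · exact Subgroup.mem_centralizer_iff.2 fun w hw => by
          rw [Set.mem_singleton_iff.1 hw]; exact (hcent u).2.eq
      · exact Subgroup.mem_centralizer_iff.2 fun w hw => by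
          rw [Set.mem_singleton_iff.1 hw]; exact (hcent u).1.eq
    obtain ⟨w, hw, hws⟩ := hle (hgen v v.2)
    obtain rfl : w = v := Subtype.ext hws
    exact Subgroup.mem_centralizer_iff.1 hw _ rfl
  have h1 : π ⁅(⟨x, hx⟩ : S), ⟨y, hy⟩⁆ = 1 := by
    rw [map_commutatorElement]
    exact commutatorElement_eq_one_iff_mul_comm.2 (hall _ _)
  have := (QuotientGroup.eq_one_iff _).1 h1
  rwa [Subgroup.mem_subgroupOf] at this

include hidx hna in
/-- Everything needed about a good subgroup. -/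
theorem IsGood.data (hS : IsPGroup p S) (hF : F.IsSaturated p) {P : Subgroup Ω} (h : IsGood F P) :
    orb F P ⊓ ⁅S, S⁆ = ⊥ ∧ orb F P ⊔ ⁅S, S⁆ = zc S ∧ Nat.card ↥⁅S, S⁆ = p ∧
    (∃ a ∈ P, a ∉ zc S ∧ a ^ p = 1 ∧
      (∃ (α : MulAut P) (x : P), α ∈ F.autGroup P ∧ (x : Ω) ∈ ⁅S, S⁆ ∧ a = (α x : P)) ∧
      ∀ α ∈ F.autGroup P, ∃ β ∈ F.autGroup S, ∀ x : P,
        ((β ⟨x, h.leS x.2⟩ : S) : Ω)⁻¹ * ((α x : P) : Ω) ∈ ⁅S, S⁆ ⊔ Subgroup.zpowers a) ∧
    ∃ β ∈ F.autGroup S, (∀ w : S, (w : Ω) ∈ orb F P → β w = w) ∧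
      ∀ x : S, (x : Ω) ∈ ⁅S, S⁆ → β x = x⁻¹ := by
  classical
  have hPS := h.leS
  have := finite_of_le hPS
  have hPn := h.le_normalizer hidx hna
  have hNS : normalizerIn S P = S :=
    le_antisymm (normalizerIn_le_S P) fun x hx => ⟨hx, hPn hx⟩
  have hfn : F.IsFullyNormalized P := ⟨hPS, fun R _ => by
    rw [hNS]; exact card_le_of_le le_rfl (normalizerIn_le_S R)⟩
  obtain ⟨hfa, hrec⟩ := good_of_fullyNormalized p hS hF hfn
  obtain ⟨a₀, ha₀P, ha₀⟩ := SetLike.exists_of_lt (lt_of_le_of_ne h.zle (Ne.symm h.neZ))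
  obtain ⟨g, hgS, hg⟩ := SetLike.exists_of_lt (lt_of_le_of_ne hPS h.neS)
  obtain ⟨hcomm, hcord⟩ := h.comm_eq hidx hna ha₀P ha₀ hgS hg
  set c := ⁅g, a₀⁆ with hcdef
  have hcS' : c ∈ ⁅S, S⁆ := hcomm ▸ Subgroup.mem_zpowers c
  have hcP : c ∈ P := h.zle (comm_le_zc hidx hna hcS')
  letI : CommGroup P := { (inferInstance : Group P) with
    mul_comm := fun x y => Subtype.ext (h.comm hidx x x.2 y y.2) }
  have hconjg : ∀ x : P, ∃ n : ℤ, g * (x : Ω) * g⁻¹ = (x : Ω) * c ^ n := by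
    intro x
    have hle : zc S ⊔ Subgroup.zpowers a₀ ≤
        (({ carrier := {y : P | ∃ n : ℤ, g * (y : Ω) * g⁻¹ = (y : Ω) * c ^ n}
            one_mem' := ⟨0, by simp⟩
            mul_mem' := by
              rintro u v ⟨m, hm⟩ ⟨n, hn⟩
              refine ⟨m + n, ?_⟩
              rw [Subgroup.coe_mul, show g * ((u : Ω) * v) * g⁻¹ = g * u * g⁻¹ * (g * v * g⁻¹) by
                group, hm, hn, mul_assoc (u : Ω), ← mul_assoc (c ^ m),
                h.comm hidx _ (zpow_mem hcP m) _ v.2, zpow_add]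
              group
            inv_mem' := by
              rintro u ⟨m, hm⟩
              refine ⟨-m, ?_⟩
              rw [Subgroup.coe_inv, show g * (u : Ω)⁻¹ * g⁻¹ = (g * u * g⁻¹)⁻¹ by group, hm,
                h.comm hidx _ u.2 _ (zpow_mem hcP m), mul_inv_rev, zpow_neg] } :
          Subgroup P).map P.subtype) := by
      refine sup_le (fun z hz => ⟨⟨z, h.zle hz⟩, ⟨0, ?_⟩, rfl⟩)
        (Subgroup.zpowers_le.2 ⟨⟨a₀, ha₀P⟩, ⟨1, ?_⟩, rfl⟩)
      · rw [zpow_zero, mul_one, (mem_zc.1 hz).2 g hgS, mul_inv_cancel_right]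
      · rw [zpow_one, h.comm hidx _ ha₀P _ hcP, hcdef, commutatorElement_def]
        group
    obtain ⟨y, hy, e⟩ := hle ((h.eq_sup hidx ha₀P ha₀).le x.2)
    obtain rfl : y = x := Subtype.ext e
    exact hy
  let tg : ↥(S ⊓ Subgroup.normalizer (P : Set Ω)) := ⟨g, hgS, hPn hgS⟩
  let t : F.autGroup P := ⟨conjAut S P tg, autInducedBy_le_autGroup hPS
    (mem_autInducedBy.2 ⟨g, hgS, fun _ => rfl⟩)⟩
  have hfix : ∀ x : P, (t : MulAut P) x = x ↔ x ∈ (zc S).subgroupOf P := by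
    intro x
    rw [Subgroup.mem_subgroupOf]
    constructor
    · intro hx
      have h1 : g * (x : Ω) * g⁻¹ = x := congrArg Subtype.val hx
      refine mem_zc.2 ⟨hPS x.2, fun y hy => ?_⟩
      have hle : P ⊔ Subgroup.zpowers g ≤ Subgroup.centralizer ({(x : Ω)} : Set Ω) := by
        refine sup_le (fun w hw => Subgroup.mem_centralizer_iff.2 ?_) (Subgroup.zpowers_le.2 ?_)
        · rintro _ rfl; exact h.comm hidx _ x.2 _ hw
        · refine Subgroup.mem_centralizer_iff.2 fun _ e => ?_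
          rw [Set.mem_singleton_iff.1 e]
          exact (mul_inv_eq_iff_eq_mul.1 h1).symm
      exact (Subgroup.mem_centralizer_iff.1
        (hle ((h.sup_eq_S hidx hgS hg).ge hy)) _ rfl).symm
    · intro hx
      refine Subtype.ext ?_
      show g * (x : Ω) * g⁻¹ = x
      rw [(mem_zc.1 hx).2 g hgS, mul_inv_cancel_right]
  have hT : (autInducedBy S P).subgroupOf (F.autGroup P) = Subgroup.zpowers t := by
    refine le_antisymm ?_ (Subgroup.zpowers_le.2 (Subgroup.mem_subgroupOf.2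
      (mem_autInducedBy.2 ⟨g, hgS, fun _ => rfl⟩)))
    intro τ hτ
    obtain ⟨s, hs, hse⟩ := mem_autInducedBy.1 (Subgroup.mem_subgroupOf.1 hτ)
    let cj : ↥(S ⊓ Subgroup.normalizer (P : Set Ω)) →* MulAut P := conjAut S P
    have hle : P ⊔ Subgroup.zpowers g ≤
        (((Subgroup.zpowers (t : MulAut P)).comap cj)).map (Subgroup.subtype _) := by
      refine sup_le (fun w hw => ⟨⟨w, hPS hw, hPn (hPS hw)⟩, ?_, rfl⟩)
        (Subgroup.zpowers_le.2 ⟨tg, Subgroup.mem_zpowers _, rfl⟩)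
      show cj _ ∈ Subgroup.zpowers (t : MulAut P)
      rw [show cj ⟨w, hPS hw, hPn (hPS hw)⟩ = 1 from MulEquiv.ext fun x => Subtype.ext (by
        show w * (x : Ω) * w⁻¹ = x
        rw [h.comm hidx _ hw _ x.2, mul_inv_cancel_right])]
      exact one_mem _
    obtain ⟨⟨s', hs'⟩, hmem, e⟩ := hle ((h.sup_eq_S hidx hgS hg).ge hs)
    obtain rfl : s' = s := e
    obtain ⟨i, hi⟩ := hmem
    refine ⟨i, Subtype.ext (MulEquiv.ext fun x => Subtype.ext ?_)⟩
    show ((((t ^ i : F.autGroup P) : MulAut P) x : P) : Ω) = _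
    rw [Subgroup.coe_zpow, show (t : MulAut P) ^ i = cj ⟨s', hs'⟩ from hi, hse x]
    rfl
  have htp : t ^ p = 1 := by
    refine Subtype.ext (MulEquiv.ext fun x => Subtype.ext ?_)
    rw [Subgroup.coe_pow]
    show ((((conjAut S P tg) ^ p) x : P) : Ω) = x
    rw [← map_pow]
    show g ^ p * (x : Ω) * (g ^ p)⁻¹ = x
    rw [← (mem_zc.1 (pow_mem_zc hidx hna hgS)).2 _ (hPS x.2), mul_inv_cancel_right]
  have ht1 : t ≠ 1 := by
    intro e
    have := (hfix ⟨a₀, ha₀P⟩).1 (by rw [e]; rfl)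
    exact ha₀ (Subgroup.mem_subgroupOf.1 this)
  obtain ⟨-, R, hR⟩ := hfa
  rw [hT] at hR
  let cP : P := ⟨c, hcP⟩
  have hset : Transvection.Setting p (F.autGroup P) t ((zc S).subgroupOf P) cP := by
    refine ⟨orderOf_eq_prime htp ht1, fun Q hQ hle => (R.3 hQ (hR.le.trans hle)).trans hR, hfix,
      fun x => ?_, Subgroup.mem_subgroupOf.2 (comm_le_zc hidx hna hcS'), ?_, ?_, fun hn => ?_⟩
    · obtain ⟨n, hn⟩ := hconjg x
      refine ⟨n, Subtype.ext ?_⟩
      show ((cP ^ n : P) : Ω) = (x : Ω)⁻¹ * (g * x * g⁻¹)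
      rw [hn, Subgroup.coe_zpow, show (cP : Ω) = c from rfl]
      group
    · rw [← Subgroup.orderOf_coe cP]
      exact hcord
    · exact (h.index_eq hidx).1
    · refine h.moves fun α hα τ hτ => ?_
      have hτ' : (⟨τ, autInducedBy_le_autGroup hPS hτ⟩ : F.autGroup P) ∈ Subgroup.zpowers t := by
        rw [← hT]; exact Subgroup.mem_subgroupOf.2 hτ
      have := hn.conj_mem _ hτ' ⟨α, hα⟩
      rw [← hT] at this
      exact Subgroup.mem_subgroupOf.1 this
  obtain ⟨W, a, hWZ, hWc, hWcZ, hWinv, haZ, hap, ⟨αa, hαa⟩, -, hdec, η, hηt, hηW, hηc⟩ :=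
    Transvection.structure_thm hset
  have hzp : Subgroup.zpowers c = (Subgroup.zpowers cP).map P.subtype := by
    rw [MonoidHom.map_zpowers]; rfl
  have horb : orb F P = W.map P.subtype := by
    apply le_antisymm
    · intro x hx
      obtain ⟨hxP, hx'⟩ := mem_orb.1 hx
      have hxZ : (⟨x, hxP⟩ : P) ∈ W ⊔ Subgroup.zpowers cP := by
        rw [hWcZ]; exact Subgroup.mem_subgroupOf.2 (hx' 1 (one_mem _))
      obtain ⟨w, hw, y, ⟨i, rfl⟩, hwy⟩ := Subgroup.mem_sup.1 hxZ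
      have h1 := hx' _ αa.2
      rw [← hwy, map_mul, map_zpow, ← hαa, Subgroup.coe_mul, Subgroup.coe_zpow] at h1
      have hwz : (((αa : MulAut P) w : P) : Ω) ∈ zc S :=
        Subgroup.mem_subgroupOf.1 (hWZ (hWinv αa w hw))
      have h2 := mul_mem (inv_mem hwz) h1
      rw [inv_mul_cancel_left] at h2
      obtain ⟨k, rfl⟩ := mul_mem_of_pow (pow_mem_zc hidx hna (hPS a.2)) h2
        (fun h0 => haZ (Subgroup.mem_subgroupOf.2 h0))
      refine ⟨w, hw, ?_⟩
      have : (cP : P) ^ ((p : ℤ) * k) = 1 := by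
        rw [zpow_mul, zpow_natCast, (orderOf_eq_prime_iff.1 hset.ordc).1, one_zpow]
      change w * cP ^ ((p : ℤ) * k) = _ at hwy
      rw [this, mul_one] at hwy
      exact congrArg Subtype.val hwy
    · rintro _ ⟨w, hw, rfl⟩
      exact mem_orb.2 ⟨w.2, fun α hα => Subgroup.mem_subgroupOf.1 (hWZ (hWinv ⟨α, hα⟩ w hw))⟩
  have hext : ∀ n : F.autGroup P, n ∈ Subgroup.normalizer (Subgroup.zpowers t : Set (F.autGroup P)) →
      ∃ β ∈ F.autGroup S, ∀ x : P,
        ((β ⟨x, hPS x.2⟩ : S) : Ω) = (((n : MulAut P) x : P) : Ω) := by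
    intro n hn
    have hn' := (autGroup_carrier hPS).1 n.2
    have hle : S ≤ extender S P (P.subtype.comp (n : MulAut P).toMonoidHom) := by
      intro s hs
      let τ : F.autGroup P := ⟨conjAut S P ⟨s, hs, hPn hs⟩, autInducedBy_le_autGroup hPS
        (mem_autInducedBy.2 ⟨s, hs, fun _ => rfl⟩)⟩
      have hτ : τ ∈ Subgroup.zpowers t := by
        rw [← hT]; exact Subgroup.mem_subgroupOf.2 (mem_autInducedBy.2 ⟨s, hs, fun _ => rfl⟩)
      have h2 := (Subgroup.mem_normalizer_iff.1 hn _).1 hτ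
      rw [← hT, Subgroup.mem_subgroupOf] at h2
      obtain ⟨k, hk, hke⟩ := mem_autInducedBy.1 h2
      refine mem_extender_of ⟨hs, hPn hs⟩ hk fun x hx => ?_
      have := hke ((n : MulAut P) x)
      simp only [Subgroup.coe_mul, Subgroup.coe_inv, MulAut.mul_apply,
        MulAut.inv_apply_self] at this
      exact this
    obtain ⟨ψ, hψ, he⟩ := receptive_extend hrec hn' (range_subtype_comp _) hle
    exact ⟨_, autOfRange_mem hψ (range_eq_S hψ), fun x => he x x.2 (hPS x.2)⟩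
  have horbc : orb F P ⊓ ⁅S, S⁆ = ⊥ := by
    rw [horb, hcomm, hzp, ← Subgroup.map_inf W _ _ P.subtype_injective, hWc, Subgroup.map_bot]
  refine ⟨horbc, ?_, ?_, ⟨a, a.2, fun h0 => haZ (Subgroup.mem_subgroupOf.2 h0), ?_,
    ⟨αa, cP, αa.2, hcS', congrArg Subtype.val hαa⟩, ?_⟩, ?_⟩
  · rw [horb, hcomm, hzp, ← Subgroup.map_sup, hWcZ, Subgroup.subgroupOf_map_subtype,
      inf_eq_left.2 h.zle]
  · rw [hcomm, Nat.card_zpowers, hcord]
  · rw [← Subgroup.coe_pow, hap]; rfl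
  · intro α hα
    obtain ⟨k, n, hkn, hk, hn⟩ := hdec ⟨α, hα⟩
    obtain ⟨β, hβ, hβe⟩ := hext n hn
    refine ⟨β, hβ, fun x => ?_⟩
    rw [hβe x, show α = (k : MulAut P) * (n : MulAut P) from congrArg Subtype.val hkn,
      MulAut.mul_apply, hcomm, hzp, show Subgroup.zpowers (a : Ω) =
        (Subgroup.zpowers a).map P.subtype by rw [MonoidHom.map_zpowers]; rfl, ← Subgroup.map_sup]
    exact ⟨_, hk.2 ((n : MulAut P) x), rfl⟩
  · have hηn : η ∈ Subgroup.normalizer (Subgroup.zpowers t : Set (F.autGroup P)) :=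
      Subgroup.centralizer_le_normalizer _ (Subgroup.mem_centralizer_iff.2 fun y hy => by
        obtain ⟨i, rfl⟩ := hy
        exact (hηt.zpow_right i).eq.symm)
    obtain ⟨β, hβ, hβe⟩ := hext η hηn
    refine ⟨β, hβ, fun w hw => ?_, fun x hx => ?_⟩
    · rw [horb] at hw
      obtain ⟨w', hw', e⟩ := hw
      have := hβe w'
      rw [hηW w' hw'] at this
      exact Subtype.ext ((congrArg (fun z : S => ((β z : S) : Ω)) (Subtype.ext e.symm)).trans
        (this.trans e))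
    · rw [hcomm] at hx
      obtain ⟨i, hi⟩ := hx
      obtain rfl : x = ⟨(cP : Ω), hPS hcP⟩ ^ i := Subtype.ext (by rw [Subgroup.coe_zpow]; exact hi.symm)
      rw [map_zpow, ← inv_zpow]
      refine congrArg (· ^ i) (Subtype.ext ?_)
      rw [hβe cP, hηc]
      rfl

end index

end CfsgLib.Fusion.SmallCentre
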