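import Cfsg.Agent.Fusion.SmallControl
import Cfsg.Agent.Fusion.PrimeLoop
import Cfsg.Agent.Fusion.Tate
import Cfsg.Agent.Fusion.Invariant
import Cfsg.Agent.Solvable.PGroupBasic

/-!
A saturated subsystem that agrees on abelian subgroups of small exponent (of the hyperfocal
subgroup) is everything.
-/

set_option autoImplicit false

open Cfsg Cfsg.FusionSystem

namespace CfsgLib.Fusion

universe u

variable {Ω : Type u} [Group Ω] {S : Subgroup Ω}

/-- Abelian of exponent dividing `p`, or dividing `4` when `p = 2`. -/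
def SmallAb (p : ℕ) (A : Subgroup Ω) : Prop :=
  (∀ a ∈ A, ∀ b ∈ A, a * b = b * a) ∧ ∀ a ∈ A, a ^ CfsgLib.OrderPFix.small p = 1

theorem smallAb_map {p : ℕ} {A : Subgroup Ω} (hA : SmallAb p A) (φ : A →* Ω) :
    SmallAb p φ.range := by
  refine ⟨?_, ?_⟩
  · rintro _ ⟨a, rfl⟩ _ ⟨b, rfl⟩
    rw [← map_mul, ← map_mul, show a * b = b * a from Subtype.ext (hA.1 a a.2 b b.2)]
  · rintro _ ⟨a, rfl⟩
    rw [← map_pow, show a ^ CfsgLib.OrderPFix.small p = 1 from Subtype.ext (hA.2 a a.2), map_one]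

/-- An abelian subgroup of small exponent, normal in `P`, detecting the automorphisms of order
prime to `p`. -/
theorem exists_test [Finite S] (p : ℕ) [Fact p.Prime] (hS : IsPGroup p S) (F : FusionSystem S)
    {P H : Subgroup Ω} (hPS : P ≤ S) (hH : ∀ g ∈ S, ∀ x ∈ H, g * x * g⁻¹ ∈ H)
    (hcop : ∀ α ∈ F.autGroup P, (orderOf α).Coprime p →
      ∀ x : P, (x : Ω)⁻¹ * ((α x : P) : Ω) ∈ H) :
    ∃ A : Subgroup Ω, A ≤ P ∧ A ≤ H ∧ SmallAb p A ∧ (∀ g ∈ P, ∀ a ∈ A, g * a * g⁻¹ ∈ A) ∧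
      ∀ α ∈ F.autGroup P, (orderOf α).Coprime p → (∀ x : P, (x : Ω) ∈ A → α x = x) → α = 1 := by
  have := finite_of_le hPS
  have hP : IsPGroup p P := isPGroup_of_le hS hPS
  let Q := P ⊓ H
  have hQS : Q ≤ S := inf_le_left.trans hPS
  have := finite_of_le hQS
  have hQp : IsPGroup p Q := isPGroup_of_le hS hQS
  obtain ⟨D, hDexp, hDinv, hDdet⟩ := exists_small_char hQp
  let D' := D.map Q.subtype
  have hD'P : D' ≤ P := (Subgroup.map_subtype_le D).trans inf_le_left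
  have hD'S : D' ≤ S := hD'P.trans hPS
  have := finite_of_le hD'S
  have hQn : ∀ g ∈ P, g ∈ Subgroup.normalizer (Q : Set Ω) := fun g hg =>
    mem_normalizer_of_conj_mem hQS fun x hx =>
      ⟨P.mul_mem (P.mul_mem hg hx.1) (P.inv_mem hg), hH g (hPS hg) x hx.2⟩
  have hD'n : ∀ g ∈ P, ∀ x ∈ D', g * x * g⁻¹ ∈ D' := by
    rintro g hg _ ⟨x, hx, rfl⟩
    exact ⟨_, hDinv (conjAut P Q ⟨g, hg, hQn g hg⟩) x hx, rfl⟩
  -- choose `A`
  let C₀ : Set (Subgroup D') := {K | SmallAb p (K.map D'.subtype) ∧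
    ∀ g ∈ P, ∀ a ∈ K.map D'.subtype, g * a * g⁻¹ ∈ K.map D'.subtype}
  have hC₀ : (⊥ : Subgroup D') ∈ C₀ := by
    refine ⟨⟨?_, ?_⟩, ?_⟩ <;> simp
  obtain ⟨K, hK⟩ := (Set.toFinite C₀).exists_maximal ⟨⊥, hC₀⟩
  obtain ⟨⟨hKa, hKn⟩, hKmax⟩ := hK
  let A := K.map D'.subtype
  have hAD : A ≤ D' := Subgroup.map_subtype_le K
  refine ⟨A, hAD.trans hD'P, hAD.trans ((Subgroup.map_subtype_le D).trans inf_le_right), hKa,
    hKn, ?_⟩
  -- `A` is its own centralizer in `D'`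
  have hself : ∀ x ∈ D', (∀ a ∈ A, a * x = x * a) → x ∈ A := by
    by_contra hne
    simp only [not_forall] at hne
    obtain ⟨x₀, hx₀, hx₀c, hx₀A⟩ := hne
    let C : Subgroup Ω := D' ⊓ Subgroup.centralizer (A : Set Ω)
    have hAC : A < C := by
      refine lt_of_le_of_ne (le_inf hAD fun a ha => Subgroup.mem_centralizer_iff.2 fun b hb =>
        hKa.1 b hb a ha) fun he => hx₀A ?_
      rw [he]
      exact ⟨hx₀, Subgroup.mem_centralizer_iff.2 hx₀c⟩
    have hCn : ∀ g ∈ P, ∀ x ∈ C, g * x * g⁻¹ ∈ C := by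
      intro g hg x hx
      refine ⟨hD'n g hg x hx.1, Subgroup.mem_centralizer_iff.2 fun a ha => ?_⟩
      have h1 : g⁻¹ * a * g ∈ A := by
        have h := hKn g⁻¹ (P.inv_mem hg) a ha
        rwa [inv_inv] at h
      have h2 := Subgroup.mem_centralizer_iff.1 hx.2 _ h1
      calc a * (g * x * g⁻¹) = g * (g⁻¹ * a * g * x) * g⁻¹ := by group
        _ = g * (x * (g⁻¹ * a * g)) * g⁻¹ := by rw [h2]
        _ = g * x * g⁻¹ * a := by group
    have := hP.isNilpotent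
    have hN : (A.subgroupOf P).Normal := ⟨fun a ha g => hKn g g.2 a ha⟩
    have hC : (C.subgroupOf P).Normal := ⟨fun a ha g => hCn g g.2 a ha⟩
    have hlt : A.subgroupOf P < C.subgroupOf P := by
      refine lt_of_le_of_ne (Subgroup.comap_mono hAC.le) fun he => hAC.ne ?_
      rw [Subgroup.subgroupOf_inj, inf_eq_left.2 (hAD.trans hD'P),
        inf_eq_left.2 ((inf_le_left : C ≤ D').trans hD'P)] at he
      exact he
    obtain ⟨x, hxC, hxA, hx⟩ := CfsgLib.PGroupBasic.exists_central_mod _ _ hlt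
    replace hxC : (x : Ω) ∈ C := hxC
    replace hxA : (x : Ω) ∉ A := hxA
    replace hx : ∀ g ∈ P, (x : Ω) * g * (x : Ω)⁻¹ * g⁻¹ ∈ A := fun g hg => hx ⟨g, hg⟩
    let A' := A ⊔ Subgroup.zpowers (x : Ω)
    have hA'D : A' ≤ D' := sup_le hAD (Subgroup.zpowers_le.2 hxC.1)
    have hcl : A' = Subgroup.closure ((A : Set Ω) ∪ {(x : Ω)}) := by
      rw [Subgroup.closure_union, Subgroup.closure_eq, ← Subgroup.zpowers_eq_closure]
    have hab : ∀ a ∈ A', ∀ b ∈ A', a * b = b * a := by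
      have hxc : (A : Set Ω) ∪ {(x : Ω)} ⊆ Subgroup.centralizer ((A : Set Ω) ∪ {(x : Ω)}) := by
        rintro a ha
        refine Subgroup.mem_centralizer_iff.2 fun b hb => ?_
        rcases ha with ha | rfl <;> rcases hb with hb | rfl
        · exact hKa.1 b hb a ha
        · exact (Subgroup.mem_centralizer_iff.1 hxC.2 a ha).symm
        · exact Subgroup.mem_centralizer_iff.1 hxC.2 b hb
        · rfl
      intro a ha b hb
      rw [hcl] at ha hb
      have h1 : Subgroup.closure ((A : Set Ω) ∪ {(x : Ω)}) ≤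
          Subgroup.centralizer ((A : Set Ω) ∪ {(x : Ω)}) := (Subgroup.closure_le _).2 hxc
      have h2 : Subgroup.closure ((A : Set Ω) ∪ {(x : Ω)}) ≤ Subgroup.centralizer
          (Subgroup.closure ((A : Set Ω) ∪ {(x : Ω)}) : Set Ω) := by
        rw [Subgroup.le_centralizer_iff]
        exact (Subgroup.closure_le _).2 fun y hy => Subgroup.mem_centralizer_iff.2 fun z hz =>
          (Subgroup.mem_centralizer_iff.1 (h1 hz) y hy).symm
      exact (Subgroup.mem_centralizer_iff.1 (h2 ha) b hb).symm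
    have hsm : ∀ a ∈ A', a ^ CfsgLib.OrderPFix.small p = 1 := by
      intro a ha
      obtain ⟨y, hy, rfl⟩ := hA'D ha
      exact congrArg Subtype.val (hDexp y hy)
    have hinv : ∀ g ∈ P, ∀ a ∈ A', g * a * g⁻¹ ∈ A' := by
      intro g hg a ha
      have hle : A' ≤ A'.comap (MulAut.conj g).toMonoidHom := by
        refine sup_le (fun b hb => Subgroup.mem_sup_left (hKn g hg b hb))
          (Subgroup.zpowers_le.2 ?_)
        show g * (x : Ω) * g⁻¹ ∈ A'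
        have h1 : ((x : Ω) * g * (x : Ω)⁻¹ * g⁻¹)⁻¹ * (x : Ω) = g * (x : Ω) * g⁻¹ := by group
        rw [← h1]
        exact mul_mem (Subgroup.mem_sup_left (A.inv_mem (hx g hg)))
          (Subgroup.mem_sup_right (Subgroup.mem_zpowers _))
      exact hle ha
    have he : (A'.subgroupOf D').map D'.subtype = A' := Subgroup.map_subgroupOf_eq_of_le hA'D
    have hKA' : K ≤ A'.subgroupOf D' := fun k hk => Subgroup.mem_sup_left ⟨k, hk, rfl⟩
    have hle := hKmax (y := A'.subgroupOf D') (by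
      show SmallAb p _ ∧ _
      rw [he]
      exact ⟨⟨hab, hsm⟩, hinv⟩) hKA'
    exact hxA ⟨⟨x, hxC.1⟩, hle (Subgroup.mem_sup_right (Subgroup.mem_zpowers _)), rfl⟩
  intro α hαG hco hfix
  have hαQ : ∀ y : P, (y : Ω) ∈ Q → ((α y : P) : Ω) ∈ Q := fun y hy => ⟨(α y).2, by
    simpa using H.mul_mem hy.2 (hcop α hαG hco y)⟩
  -- `α` on `Q`
  let f : Q →* Q := MonoidHom.mk'
    (fun y => ⟨(α (⟨y, y.2.1⟩ : P) : P), hαQ ⟨y, y.2.1⟩ y.2⟩) fun a b => Subtype.ext (by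
      show ((α (⟨(a * b : Q), (a * b).2.1⟩ : P) : P) : Ω) = _
      exact congrArg Subtype.val (map_mul α ⟨a, a.2.1⟩ ⟨b, b.2.1⟩))
  have hf : Function.Bijective f := Finite.injective_iff_bijective.1 fun a b hab => by
    have h1 : ((α ⟨a, a.2.1⟩ : P) : Ω) = α ⟨b, b.2.1⟩ := congrArg (fun z : Q => (z : Ω)) hab
    exact Subtype.ext (congrArg (fun z : P => (z : Ω)) (α.injective (Subtype.ext h1)))
  let δ : MulAut Q := MulEquiv.ofBijective f hf
  have hδpow : ∀ (i : ℕ) (y : Q), (((δ ^ i) y : Q) : Ω) = ((α ^ i) ⟨y, y.2.1⟩ : P) := by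
    intro i
    induction i with
    | zero => intro y; rfl
    | succ i ih =>
      intro y
      rw [pow_succ', pow_succ', MulAut.mul_apply, MulAut.mul_apply]
      exact congrArg (fun z : P => ((α z : P) : Ω)) (Subtype.ext (ih y))
  have hδn : δ ^ orderOf α = 1 := MulEquiv.ext fun y => Subtype.ext (by
    rw [hδpow, pow_orderOf_eq_one]; rfl)
  have hδco : (orderOf δ).Coprime p :=
    Nat.Coprime.coprime_dvd_left (orderOf_dvd_of_pow_eq_one hδn) hco
  have hδA : ∀ y : Q, (y : Ω) ∈ A → δ y = y := fun y hy => Subtype.ext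
    (show ((α ⟨y, y.2.1⟩ : P) : Ω) = y by rw [hfix ⟨y, y.2.1⟩ hy])
  -- the fixed points in `D` are everything
  let B : Subgroup D :=
    { carrier := {y | δ y = y}
      one_mem' := map_one δ
      mul_mem' := fun {a b} ha hb => by
        show δ ((a : Q) * b) = (a : Q) * b
        rw [map_mul, show δ (a : Q) = a from ha, show δ (b : Q) = b from hb]
      inv_mem' := fun {a} ha => by
        show δ ((a : Q)⁻¹) = (a : Q)⁻¹
        rw [map_inv, show δ (a : Q) = a from ha] }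
  have hB : B = ⊤ := by
    by_contra hne
    have := (hQp.to_subgroup D).isNilpotent
    have hN := Group.normalizerCondition_of_isNilpotent (G := D) B (lt_top_iff_ne_top.2 hne)
    obtain ⟨y, hy, hyB⟩ := SetLike.exists_of_lt hN
    apply hyB
    show δ (y : Q) = y
    refine aut_eq_one_of_displacement hQp hδco ?_
    set z : Q := (y : Q)⁻¹ * δ y with hz
    have hzD : z ∈ D := D.mul_mem (D.inv_mem y.2) (hDinv δ y y.2)
    have hzA : ((z : Q) : Ω) ∈ A := by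
      refine hself _ ⟨z, hzD, rfl⟩ fun a ha => ?_
      obtain ⟨a₀, ha₀, rfl⟩ := hAD ha
      have hb : (⟨a₀, ha₀⟩ : D) ∈ B := hδA a₀ ha
      have hb' : y * ⟨a₀, ha₀⟩ * y⁻¹ ∈ B := (Subgroup.mem_normalizer_iff.1 hy _).1 hb
      have h1 : δ ((y : Q) * a₀ * (y : Q)⁻¹) = (y : Q) * a₀ * (y : Q)⁻¹ := hb'
      rw [map_mul, map_mul, map_inv, hδA a₀ ha] at h1
      have h2 : δ y * a₀ = (y : Q) * a₀ * (y : Q)⁻¹ * δ y := by rw [← h1]; group
      have h3 : a₀ * z = z * a₀ := by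
        rw [hz, mul_assoc (y : Q)⁻¹, h2]; group
      exact congrArg Subtype.val h3
    exact hδA z hzA
  have hδ1 : δ = 1 := hDdet δ hδco fun y hy => by
    have : (⟨y, hy⟩ : D) ∈ B := hB ▸ Subgroup.mem_top _
    exact this
  ext y
  have hy : ((y⁻¹ * α y : P) : Ω) ∈ Q := ⟨(y⁻¹ * α y : P).2, hcop α hαG hco y⟩
  have hd : α (y⁻¹ * α y) = y⁻¹ * α y := Subtype.ext (by
    have h1 := DFunLike.congr_fun hδ1 (⟨_, hy⟩ : Q)
    exact congrArg (fun z : Q => (z : Ω)) h1)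
  exact congrArg (fun z : P => (z : Ω)) (aut_eq_one_of_displacement hP hco hd)

variable {E F : FusionSystem S}

/-- A saturated subsystem with all maps of `F` on the small abelian subgroups of a strongly closed
subgroup containing all displacements of automorphisms of order prime to `p` is `F`. -/
theorem hom_subset_of_smallAb [Finite S] (p : ℕ) [Fact p.Prime] (hS : IsPGroup p S)
    (hE : E.IsSaturated p) (hF : F.IsSaturated p) (hEF : ∀ P, E.Hom P ⊆ F.Hom P)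
    {H : Subgroup Ω} (hH : F.StronglyClosed H)
    (hcop : ∀ P, P ≤ S → ∀ α ∈ F.autGroup P, (orderOf α).Coprime p →
      ∀ x : P, (x : Ω)⁻¹ * ((α x : P) : Ω) ∈ H)
    (hA : ∀ A : Subgroup Ω, A ≤ H → SmallAb p A → F.Hom A ⊆ E.Hom A) :
    ∀ P : Subgroup Ω, F.Hom P ⊆ E.Hom P := by
  intro P
  induction hn : Nat.card S - Nat.card P using Nat.strong_induction_on generalizing P with
  | _ n IH =>
  intro g hg
  have hPS := le_of_mem_hom hg
  have := finite_of_le hPS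
  have hHn : ∀ s ∈ S, ∀ x ∈ H, s * x * s⁻¹ ∈ H := fun s hs x hx =>
    map_mem_of_stronglyClosed hH (F.conj_mem hH.1 hs) (x := ⟨x, hx⟩) hx
  obtain ⟨A, hAP, hAH, hAs, hAn, hdet⟩ := exists_test p hS F hPS hHn (hcop P hPS)
  -- the image of `A`
  let gA : A →* Ω := g.comp (Subgroup.inclusion hAP)
  have hgA : gA ∈ F.Hom A := restrict_mem hg hAP
  let B := gA.range
  have hBH : B ≤ H := by
    rintro _ ⟨a, rfl⟩
    exact map_mem_of_stronglyClosed hH hg (x := Subgroup.inclusion hAP a) (hAH a.2)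
  have hBs : SmallAb p B := smallAb_map hAs gA
  have hBS : B ≤ S := hBH.trans hH.1
  obtain ⟨A₀, ⟨w, hw, hwr⟩, hA₀n⟩ := exists_fullyNormalized F hBS
  have hA₀H : A₀ ≤ H := by
    rw [← hwr]
    rintro _ ⟨b, rfl⟩
    exact map_mem_of_stronglyClosed hH hw (x := b) (hBH b.2)
  have hA₀S := hA₀H.trans hH.1
  have hA₀nE : E.IsFullyNormalized A₀ := ⟨hA₀S, fun R hR => by
    obtain ⟨r, hr, hrr⟩ := hR
    exact hA₀n.2 R ⟨r, hEF _ hr, hrr⟩⟩
  obtain ⟨hE1, hE2⟩ := good_of_fullyNormalized p hS hE hA₀nE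
  obtain ⟨φ, hφ, hφmem, hφmap⟩ :=
    exists_map_normalizer p hS hE1 hE2 ⟨w, hA B hBH hBs hw, hwr⟩
  have hgN : ∀ x : P, g x ∈ normalizerIn S B := fun x => ⟨apply_mem_S hg x,
    mem_normalizer_of_conj_mem hBS (by
      rintro _ ⟨a, rfl⟩
      refine ⟨⟨(x : Ω) * a * (x : Ω)⁻¹, hAn x x.2 a a.2⟩, ?_⟩
      show g ⟨(x : Ω) * a * (x : Ω)⁻¹, _⟩ = g x * g (Subgroup.inclusion hAP a) * (g x)⁻¹
      rw [← map_inv, ← map_mul, ← map_mul]
      exact apply_congr g rfl)⟩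
  let f : P →* Ω := φ.comp (g.codRestrict _ hgN)
  have hf : f ∈ F.Hom P := F.comp_mem hg (hEF _ hφ) hgN
  suffices hfE : f ∈ E.Hom P by
    let φ' : g.range →* Ω := φ.comp (Subgroup.inclusion (by
      rintro _ ⟨x, rfl⟩
      exact hgN x : g.range ≤ normalizerIn S B))
    have hφ' : φ' ∈ E.Hom g.range := restrict_mem hφ _
    obtain ⟨ψ, hψ, -, hψ1, -⟩ := exists_inv hφ' rfl
    exact comp_mem_of_eq hfE hψ (fun x => ⟨⟨g x, x, rfl⟩, rfl⟩)
      fun x => ((hψ1 ⟨g x, x, rfl⟩ ⟨_, rfl⟩).symm.trans (apply_congr ψ rfl))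
  have hfM : ∀ x, f x ∈ normalizerIn S A₀ := fun x => hφmem _
  have hfA : (A.subgroupOf P).map f = A₀ := by
    rw [← hφmap]
    ext y
    simp only [mem_map_subgroupOf]
    constructor
    · rintro ⟨x, hxP, hxA, rfl⟩
      exact ⟨g ⟨x, hxP⟩, hgN _, ⟨⟨x, hxA⟩, apply_congr g rfl⟩, rfl⟩
    · rintro ⟨z, hzN, ⟨a, ha⟩, rfl⟩
      exact ⟨a, hAP a.2, a.2, apply_congr φ ha⟩
  -- the map on `A`, extended in `E`
  let u : A →* Ω := f.comp (Subgroup.inclusion hAP)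
  have hur : u.range = A₀ := (range_restrict f hAP).trans hfA
  have huE : u ∈ E.Hom A := hA A hAH hAs (restrict_mem hf hAP)
  have hAS := hAP.trans hPS
  have hext : P ≤ extender S A u := fun x hx => Subgroup.subset_closure
    ⟨hPS hx, mem_normalizer_of_conj_mem hAS fun a ha => hAn x hx a ha,
      f ⟨x, hx⟩, apply_mem_S hf _, fun a h => by
        show f _ = f ⟨x, hx⟩ * f (Subgroup.inclusion hAP a) * (f ⟨x, hx⟩)⁻¹
        rw [← map_inv, ← map_mul, ← map_mul]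
        exact apply_congr f rfl⟩
  obtain ⟨v, hv, hvu⟩ := receptive_extend hE2 huE hur hext
  have hvA : (A.subgroupOf P).map v = A₀ := (map_eq_range_of_eq hAP hvu).trans hur
  let P₀ := v.range
  have hP₀S : P₀ ≤ S := by rintro _ ⟨x, rfl⟩; exact apply_mem_S hv x
  have hA₀P₀ : A₀ ≤ P₀ := by
    rw [← hvA]
    rintro _ ⟨x, -, rfl⟩
    exact ⟨x, rfl⟩
  let M := normalizerIn S A₀
  have hMS : M ≤ S := normalizerIn_le_S A₀
  have hP₀M : P₀ ≤ M := by
    rintro _ ⟨x, rfl⟩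
    refine ⟨apply_mem_S hv x, mem_normalizer_of_conj_mem hA₀S ?_⟩
    rw [← hvA]
    rintro _ ⟨a, ha, rfl⟩
    exact ⟨x * a * x⁻¹, hAn x x.2 _ ha, by rw [map_mul, map_mul, map_inv]⟩
  obtain ⟨v', hv', hv'r, hv'1, hv'2⟩ := exists_inv hv (rfl : v.range = P₀)
  have hv'P : ∀ y, v' y ∈ P := fun y => hv'r.le ⟨y, rfl⟩
  let k : P₀ →* Ω := f.comp (v'.codRestrict P hv'P)
  have hk : k ∈ F.Hom P₀ := F.comp_mem (hEF _ hv') hf hv'P
  have hkfix : ∀ y : P₀, (y : Ω) ∈ A₀ → k y = y := by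
    intro y hy
    rw [← hvA] at hy
    obtain ⟨a, ha, hay⟩ := hy
    have h1 : v' y = a := (apply_congr v' hay.symm).trans (hv'1 a ⟨a, rfl⟩)
    show f ⟨v' y, _⟩ = y
    rw [← hay]
    exact (apply_congr f h1).trans (hvu a ha a.2).symm
  suffices hkE : k ∈ E.Hom P₀ from comp_mem_of_eq hv hkE (fun x => ⟨x, rfl⟩) fun x =>
    (apply_congr f (hv'1 x ⟨x, rfl⟩)).symm
  -- the system of the maps acting on `A₀` like elements of `M`
  have hA₀c := fullyCentralized_of_fullyNormalized p hS hF hA₀n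
  have hnM : M ≤ Subgroup.normalizer (A₀ : Set Ω) := inf_le_right
  let L := actSystem F A₀ M hA₀c.1 hMS hnM
  have hL : L.IsSaturated p := actSystem_saturated p hS hF hA₀c hMS hnM
    (inf_le_inf_left S (centralizer_le_normalizer' A₀))
  have hMp : IsPGroup p M := isPGroup_of_le hS hMS
  have := finite_of_le hMS
  have hLF : ∀ R, L.Hom R ⊆ F.Hom R := by
    rintro R θ ⟨-, -, ψ, hψ, he, -⟩
    exact restrict_mem_of_eq hψ le_sup_left fun x => (he x).symm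
  have hLA : ∀ R, A₀ ≤ R → ∀ θ ∈ L.Hom R, ∃ m ∈ M, ∀ (q : R), (q : Ω) ∈ A₀ →
      θ q = m * q * m⁻¹ := by
    rintro R hR θ ⟨-, -, ψ, -, he, m, hm, hq⟩
    exact ⟨m, hm, fun q hqA => ((he q).symm.trans (apply_congr ψ rfl)).trans (hq ⟨q, hqA⟩)⟩
  have hkM : ∀ y, k y ∈ M := fun y => hfM _
  have hkL : k ∈ L.Hom P₀ := by
    refine ⟨hP₀M, hkM, k.comp (Subgroup.inclusion (sup_le le_rfl hA₀P₀)), restrict_mem hk _,
      fun x => rfl, 1, one_mem _, fun q => ?_⟩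
    show k _ = _
    rw [hkfix _ q.2]
    simp
  have hP₁M : k.range ≤ M := by rintro _ ⟨y, rfl⟩; exact hkM y
  have hcard : Nat.card P = Nat.card P₀ := (card_range hv).symm
  -- both ends go to one subgroup by maps of `E`
  obtain ⟨R₀, hR₀, hR₀n, hmaps⟩ : ∃ R₀, L.IsConj P₀ R₀ ∧ L.IsFullyNormalized R₀ ∧
      ∀ R, L.IsConj R R₀ → Nat.card R = Nat.card P₀ →
        ∃ ψ ∈ L.Hom R, ψ ∈ E.Hom R ∧ ψ.range = R₀ := by
    by_cases hPM : P₀ = M
    · obtain ⟨R₀, h1, h2⟩ := exists_fullyNormalized L hP₀M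
      refine ⟨R₀, h1, h2, fun R hR hRc => ?_⟩
      have e1 : R₀ = M := eq_of_le_of_card_le le_rfl (IsConj.le_right h1)
        (by have := IsConj.card_eq h1; rw [hPM] at this; omega)
      have e2 : R = M := eq_of_le_of_card_le le_rfl (IsConj.le_left hR)
        (by rw [hRc, hPM])
      refine ⟨conjHom R 1, L.conj_mem e2.le (one_mem _),
        E.conj_mem (e2.le.trans hMS) (one_mem _), ?_⟩
      rw [e1, ← e2]
      ext y
      constructor
      · rintro ⟨x, rfl⟩; simpa [conjHom] using x.2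
      · intro hy; exact ⟨⟨y, hy⟩, by simp [conjHom]⟩
    obtain ⟨R₀, h1, h2⟩ := exists_fullyNormalized L hP₀M
    obtain ⟨a1, a2⟩ := good_of_fullyNormalized p hMp hL h2
    refine ⟨R₀, h1, h2, fun R hR hRc => ?_⟩
    obtain ⟨ψ, hψ, -, hψmap⟩ := exists_map_normalizer p hMp a1 a2 hR
    have hRM : R ≤ M := IsConj.le_left hR
    have hRlt : R < M := lt_of_le_of_ne hRM fun he => hPM
      (eq_of_le_of_card_le le_rfl hP₀M (by rw [← hRc, he]))
    have hRN := lt_normalizerIn p hMp le_rfl hRlt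
    have hc1 : Nat.card R < Nat.card (normalizerIn M R) := lt_of_not_ge fun hge =>
      hRN.ne (eq_of_le_of_card_le (normalizerIn_le_S R) hRN.le hge)
    have hc2 : Nat.card (normalizerIn M R) ≤ Nat.card S :=
      card_le_of_le le_rfl ((normalizerIn_le_S R).trans hMS)
    have hψE := IH (Nat.card S - Nat.card (normalizerIn M R)) (by omega) _ rfl (hLF _ hψ)
    exact ⟨ψ.comp (Subgroup.inclusion hRN.le), restrict_mem hψ _, restrict_mem hψE _,
      (range_restrict ψ hRN.le).trans hψmap⟩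
  obtain ⟨ψ₀, hψ₀L, hψ₀E, hψ₀r⟩ := hmaps P₀ hR₀ rfl
  obtain ⟨ψ₁, hψ₁L, hψ₁E, hψ₁r⟩ := hmaps k.range
    (isConj_trans (isConj_symm ⟨k, hkL, rfl⟩) hR₀) (card_range hk)
  obtain ⟨m₀, hm₀, hψ₀A⟩ := hLA P₀ hA₀P₀ ψ₀ hψ₀L
  have hA₀R₀ : A₀ ≤ R₀ := by
    intro y hy
    have hy' : m₀⁻¹ * y * m₀ ∈ A₀ := by
      simpa using (Subgroup.mem_normalizer_iff.1 (inv_mem (hnM hm₀)) y).1 hy
    rw [← hψ₀r]
    exact ⟨⟨_, hA₀P₀ hy'⟩, (hψ₀A ⟨_, hA₀P₀ hy'⟩ hy').trans (by group)⟩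
  have hR₀M : R₀ ≤ M := hR₀n.1
  have hR₀S := hR₀M.trans hMS
  -- `R₀` has only `p`-automorphisms
  have hpG : IsPGroup p (L.autGroup R₀) := by
    have := finite_of_le hR₀S
    have : Finite (MulAut R₀) := finite_mulAut
    let χ : P →* Ω := ψ₀.comp (v.codRestrict P₀ fun x => ⟨x, rfl⟩)
    have hχ : χ ∈ F.Hom P := F.comp_mem (hEF _ hv) (hLF _ hψ₀L) _
    have hχr : χ.range = R₀ := by
      rw [← hψ₀r]
      ext y
      constructor
      · rintro ⟨x, rfl⟩; exact ⟨_, rfl⟩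
      · rintro ⟨⟨_, x, rfl⟩, rfl⟩; exact ⟨x, rfl⟩
    let e := isoRange χ (F.injective_of_mem hχ) hχr
    have he := map_autGroup_iso hPS hχ e fun _ => rfl
    intro a
    obtain ⟨N, b, hb, hab⟩ := Nat.exists_eq_pow_mul_and_not_dvd (orderOf_pos a).ne' p
      (Fact.out : p.Prime).ne_one
    obtain ⟨m, hm, hma⟩ := hLA R₀ hA₀R₀ _ ((autGroup_carrier hR₀M).1 a.2)
    obtain ⟨i, hi⟩ := hMp ⟨m, hm⟩
    have hi' : m ^ p ^ i = 1 := congrArg Subtype.val hi
    have hpw : ∀ (j : ℕ) (q : R₀), (q : Ω) ∈ A₀ →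
        ((((a : MulAut R₀) ^ j) q : R₀) : Ω) = m ^ j * q * (m ^ j)⁻¹ := by
      intro j
      induction j with
      | zero => intro q _; simp
      | succ j ih =>
        intro q hq
        rw [pow_succ', MulAut.mul_apply]
        have hmem : ((((a : MulAut R₀) ^ j) q : R₀) : Ω) ∈ A₀ := by
          rw [ih q hq]
          exact (Subgroup.mem_normalizer_iff.1 (pow_mem (hnM hm) j) q).1 hq
        refine (hma _ hmem).trans ?_
        rw [ih q hq, pow_succ']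
        group
    let c : L.autGroup R₀ := a ^ p ^ (N + i)
    have hc1 : c ^ b = 1 := by
      rw [← pow_mul, pow_add, mul_comm (p ^ N) (p ^ i), mul_assoc, ← hab, pow_mul',
        pow_orderOf_eq_one, one_pow]
    have hcF : (c : MulAut R₀) ∈ F.autGroup R₀ :=
      (autGroup_carrier hR₀S).2 (hLF _ ((autGroup_carrier hR₀M).1 c.2))
    obtain ⟨c', hc', hce⟩ : ∃ c' ∈ F.autGroup P, MulAut.congr e c' = c := by
      have h := hcF
      rw [← he] at h
      exact h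
    have hc'b : c' ^ b = 1 := (MulAut.congr e).injective (by
      rw [map_pow, hce, map_one]
      exact congrArg Subtype.val hc1)
    have hc'1 : c' = 1 := by
      refine hdet c' hc' (Nat.Coprime.coprime_dvd_left (orderOf_dvd_of_pow_eq_one hc'b)
        ((Fact.out : p.Prime).coprime_iff_not_dvd.2 hb).symm) fun x hx => ?_
      have hex : ((e x : R₀) : Ω) ∈ A₀ := by
        show ψ₀ ⟨v x, _⟩ ∈ A₀
        have hvx : v x ∈ A₀ := by rw [← hvA]; exact ⟨x, hx, rfl⟩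
        rw [hψ₀A ⟨v x, ⟨x, rfl⟩⟩ hvx]
        exact (Subgroup.mem_normalizer_iff.1 (hnM hm₀) _).1 hvx
      apply e.injective
      have h1 : e (c' x) = (c : MulAut R₀) (e x) := by
        rw [← hce]
        simp [MulAut.congr]
      refine h1.trans (Subtype.ext ?_)
      show ((((a : MulAut R₀) ^ p ^ (N + i)) (e x) : R₀) : Ω) = _
      rw [hpw _ _ hex, pow_add p, mul_comm (p ^ N), pow_mul, hi', one_pow]
      simp
    refine ⟨N + i, Subtype.ext ?_⟩
    show (c : MulAut R₀) = 1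
    rw [← hce, hc'1, map_one]
  -- hence only inner ones
  obtain ⟨hauto, -⟩ := good_of_fullyNormalized p hMp hL hR₀n
  have hinn : L.autGroup R₀ ≤ autInducedBy M R₀ := by
    obtain ⟨-, R, hR⟩ := hauto
    intro a ha
    have h1 : (R : Subgroup (L.autGroup R₀)) = ⊤ :=
      (R.is_maximal' (hpG.to_subgroup ⊤) le_top).symm
    have h2 : (⟨a, ha⟩ : L.autGroup R₀) ∈ (autInducedBy M R₀).subgroupOf (L.autGroup R₀) := by
      rw [← hR, h1]; exact Subgroup.mem_top _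
    exact h2
  obtain ⟨ψ₀', hψ₀', hψ₀'r, hψ₀'1, hψ₀'2⟩ := exists_inv hψ₀L hψ₀r
  have hψ₀'P : ∀ z, ψ₀' z ∈ P₀ := fun z => hψ₀'r.le ⟨z, rfl⟩
  let β : R₀ →* Ω := ψ₁.comp ((k.comp (ψ₀'.codRestrict P₀ hψ₀'P)).codRestrict k.range
    fun z => ⟨_, rfl⟩)
  have hβ : β ∈ L.Hom R₀ := L.comp_mem (L.comp_mem hψ₀' hkL hψ₀'P) hψ₁L _
  have hβr : β.range = R₀ := eq_of_le_of_card_le hR₀M
    (by rintro _ ⟨z, rfl⟩; exact hψ₁r.le ⟨_, rfl⟩) (card_range hβ).ge
  obtain ⟨m, hm, hmβ⟩ := mem_autInducedBy.1 (hinn (autOfRange_mem hβ hβr))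
  have hβE : β ∈ E.Hom R₀ := by
    have e : β = conjHom R₀ m := MonoidHom.ext fun z => hmβ z
    rw [e]
    exact E.conj_mem hR₀S (hMS hm)
  obtain ⟨ψ₁', hψ₁'E, -, hψ₁'1, -⟩ := exists_inv hψ₁E hψ₁r
  have hψ₀R : ∀ y, ψ₀ y ∈ R₀ := fun y => hψ₀r.le ⟨y, rfl⟩
  have hβk : ∀ y : P₀, β ⟨ψ₀ y, hψ₀R y⟩ = ψ₁ ⟨k y, ⟨y, rfl⟩⟩ := fun y =>
    apply_congr ψ₁ (apply_congr k (hψ₀'1 y (hψ₀R y)))
  refine comp_mem_of_eq (E.comp_mem hψ₀E hβE hψ₀R) hψ₁'E (fun y => hβr.le ⟨_, rfl⟩) fun y => ?_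
  exact (hψ₁'1 ⟨k y, ⟨y, rfl⟩⟩ (hψ₁r.le ⟨_, rfl⟩)).symm.trans (apply_congr ψ₁' (hβk y).symm)

/-- The statement with Hom-sets between small abelian subgroups. -/
theorem hom_eq_of_homSet [Finite S] (p : ℕ) [Fact p.Prime] (hS : IsPGroup p S)
    (hE : E.IsSaturated p) (hF : F.IsSaturated p) (hEF : ∀ P, E.Hom P ⊆ F.Hom P)
    {H : Subgroup Ω} (hH : F.StronglyClosed H)
    (hcop : ∀ P, P ≤ S → ∀ α ∈ F.autGroup P, (orderOf α).Coprime p →
      ∀ x : P, (x : Ω)⁻¹ * ((α x : P) : Ω) ∈ H)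
    (hodd : p ≠ 2 → ∀ A B : Subgroup Ω, A ≤ H → B ≤ H →
      Cfsg.IsElementaryAbelian p A → Cfsg.IsElementaryAbelian p B → E.homSet A B = F.homSet A B)
    (htwo : p = 2 → ∀ A B : Subgroup Ω, A ≤ H → B ≤ H →
      IsMulCommutative ↥A → IsMulCommutative ↥B → (∀ a ∈ A, a ^ 4 = 1) → (∀ b ∈ B, b ^ 4 = 1) →
        E.homSet A B = F.homSet A B) :
    ∀ P : Subgroup Ω, E.Hom P = F.Hom P := by
  refine fun P => Set.Subset.antisymm (hEF P)
    (hom_subset_of_smallAb p hS hE hF hEF hH hcop (fun A hAH hA φ hφ => ?_) P)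
  have hB : φ.range ≤ H := by
    rintro _ ⟨a, rfl⟩
    exact map_mem_of_stronglyClosed hH hφ (hAH a.2)
  have hBs := smallAb_map hA φ
  have hmem : φ ∈ F.homSet A φ.range := ⟨hφ, fun x => ⟨x, rfl⟩⟩
  have hc : ∀ {C : Subgroup Ω}, SmallAb p C → IsMulCommutative C := fun hC =>
    ⟨⟨fun a b => Subtype.ext (hC.1 a a.2 b b.2)⟩⟩
  by_cases h2 : p = 2
  · have e : CfsgLib.OrderPFix.small p = 4 := if_pos h2
    rw [← htwo h2 A φ.range hAH hB (hc hA) (hc hBs) (fun a ha => e ▸ hA.2 a ha)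
      (fun a ha => e ▸ hBs.2 a ha)] at hmem
    exact hmem.1
  · have e : CfsgLib.OrderPFix.small p = p := if_neg h2
    rw [← hodd h2 A φ.range hAH hB ⟨hc hA, fun a ha => Eq.mp (by rw [e]) (hA.2 a ha)⟩
      ⟨hc hBs, fun a ha => Eq.mp (by rw [e]) (hBs.2 a ha)⟩] at hmem
    exact hmem.1

end CfsgLib.Fusion
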