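import Cfsg.Agent.S5128
import Cfsg.Agent.Fusion.SmallControl
import Cfsg.Agent.Fusion.Tate
import Cfsg.Agent.Fusion.SolvableSystem
import Cfsg.Agent.Fusion.Quotient
import Cfsg.Agent.Solvable.PGroupBasic

/-!
Saturated systems in which the subgroups of one order `d` are weakly embedded (for some strongly
closed `P`, both `Q ⊔ P` and `Q ⊓ P` are strongly closed) and carry no coprime fusion.
-/

set_option autoImplicit false
set_option linter.unusedSectionVars false
set_option linter.style.haveILetI false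

open Cfsg Cfsg.FusionSystem

namespace CfsgLib.Fusion

universe u

namespace WeakEmb

variable {Ω : Type u} [Group Ω] {S : Subgroup Ω} {F : FusionSystem S}

/-- The subgroups of order `d` are weakly embedded. -/
def Emb (F : FusionSystem S) (d : ℕ) : Prop :=
  ∀ Q : Subgroup Ω, Q ≤ S → Nat.card Q = d →
    ∃ P : Subgroup Ω, F.StronglyClosed P ∧ F.StronglyClosed (Q ⊔ P) ∧ F.StronglyClosed (Q ⊓ P)

/-- No automorphism of order prime to `p` moves a subgroup of order at least `d`. -/
def NoCop (F : FusionSystem S) (p d : ℕ) : Prop :=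
  ∀ E : Subgroup Ω, E ≤ S → d ≤ Nat.card E → ∀ α ∈ F.autGroup E, (orderOf α).Coprime p → α = 1

/-! ### Group lemmas -/

theorem sup_inf_eq {Q P B : Subgroup Ω} (hQ : Q ≤ Subgroup.normalizer (P : Set Ω)) (hQB : Q ≤ B) :
    (Q ⊔ P) ⊓ B = Q ⊔ (P ⊓ B) := by
  refine le_antisymm ?_ (sup_le (le_inf le_sup_left hQB)
    (le_inf (inf_le_left.trans le_sup_right) inf_le_right))
  rintro x ⟨hx, hxB⟩
  obtain ⟨a, ha, k, hk, rfl⟩ := (CfsgLib.Solvable.mem_sup_of_le_normalizer hQ).1 hx
  refine mul_mem (Subgroup.mem_sup_left ha) (Subgroup.mem_sup_right (Subgroup.mem_inf.2 ⟨hk, ?_⟩))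
  simpa using mul_mem (inv_mem (hQB ha)) hxB

theorem le_normalizer_sup {E X Y : Subgroup Ω} (hX : E ≤ Subgroup.normalizer (X : Set Ω))
    (hY : E ≤ Subgroup.normalizer (Y : Set Ω)) :
    E ≤ Subgroup.normalizer ((X ⊔ Y : Subgroup Ω) : Set Ω) := fun g hg => by
  rw [Subgroup.mem_normalizer_iff_map_conj_eq, Subgroup.map_sup,
    Subgroup.mem_normalizer_iff_map_conj_eq.1 (hX hg),
    Subgroup.mem_normalizer_iff_map_conj_eq.1 (hY hg)]

/-- Subgroups of `S` normalized by `S` and meeting trivially commute. -/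
theorem le_centralizer_of_disjoint [Finite S] {P R : Subgroup Ω} (hP : P ≤ S) (hR : R ≤ S)
    (hPn : S ≤ Subgroup.normalizer (P : Set Ω)) (hRn : S ≤ Subgroup.normalizer (R : Set Ω))
    (hd : P ⊓ R = ⊥) : P ≤ centralizerIn S R := fun a ha => by
  refine mem_centralizerIn.2 ⟨hP ha, fun b hb => ?_⟩
  have h1 : a * b * a⁻¹ * b⁻¹ ∈ P ⊓ R := by
    refine Subgroup.mem_inf.2 ⟨?_, mul_mem ((Subgroup.mem_normalizer_iff.1 (hRn (hP ha)) b).1 hb)
      (inv_mem hb)⟩
    have h2 := mul_mem ha ((Subgroup.mem_normalizer_iff.1 (hPn (hR hb)) _).1 (inv_mem ha))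
    simpa [mul_assoc] using h2
  rw [hd, Subgroup.mem_bot, mul_inv_eq_one, mul_inv_eq_iff_eq_mul] at h1
  exact h1.symm

/-- A subgroup of prescribed order in an interval of a `p`-group. -/
theorem exists_between [Finite S] (p : ℕ) [Fact p.Prime] (hS : IsPGroup p S) {A B : Subgroup Ω}
    (hAB : A ≤ B) (hB : B ≤ S) {k : ℕ} (hA : Nat.card A ≤ p ^ k) (hk : p ^ k ≤ Nat.card B) :
    ∃ Q : Subgroup Ω, A ≤ Q ∧ Q ≤ B ∧ Nat.card Q = p ^ k := by
  have hp := (Fact.out : p.Prime)
  have := finite_of_le hB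
  have := finite_of_le (hAB.trans hB)
  obtain ⟨j, hj⟩ := (isPGroup_of_le hS (hAB.trans hB)).exists_card_eq
  obtain ⟨n, hn⟩ := (isPGroup_of_le hS hB).exists_card_eq
  obtain ⟨Q, hQ, hAQ⟩ := Sylow.exists_subgroup_card_pow_prime_le p
    (hn ▸ pow_dvd_pow p ((Nat.pow_le_pow_iff_right hp.one_lt).1 (hn ▸ hk)) : p ^ k ∣ Nat.card B)
    (A.subgroupOf B) ((Nat.card_congr (Subgroup.subgroupOfEquivOfLe hAB).toEquiv).trans hj)
    ((Nat.pow_le_pow_iff_right hp.one_lt).1 (hj ▸ hA))
  refine ⟨Q.map B.subtype, fun a ha => ⟨⟨a, hAB ha⟩, hAQ (Subgroup.mem_subgroupOf.2 ha), rfl⟩,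
    Subgroup.map_subtype_le Q, ?_⟩
  rw [← hQ]
  exact (Nat.card_congr (Q.equivMapOfInjective _ B.subtype_injective).toEquiv).symm

/-- Invariant subgroups (an abstract class) reach the order `d` inside `E`. -/
theorem exists_invariant_card [Finite S] (p : ℕ) [Fact p.Prime] (hS : IsPGroup p S) {k : ℕ}
    (hemb : Emb F (p ^ k)) {E : Subgroup Ω} (hE : E ≤ S) (hk : p ^ k ≤ Nat.card E)
    (Inv : Subgroup Ω → Prop) (hle : ∀ X, Inv X → X ≤ E) (hbot : Inv ⊥) (htop : Inv E)
    (hinf : ∀ X Y, Inv X → Inv Y → Inv (X ⊓ Y)) (hsup : ∀ X Y, Inv X → Inv Y → Inv (X ⊔ Y))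
    (hnorm : ∀ X, Inv X → E ≤ Subgroup.normalizer (X : Set Ω))
    (hsc : ∀ P, F.StronglyClosed P → Inv (P ⊓ E)) :
    ∃ X, Inv X ∧ Nat.card X = p ^ k := by
  have hp := (Fact.out : p.Prime)
  obtain ⟨C, hC⟩ := Set.Finite.exists_maximal
    (s := {X : Subgroup Ω | Inv X ∧ Nat.card X ≤ p ^ k})
    ((finite_setOf_le E hE).subset fun X hX => hle X hX.1)
    ⟨⊥, hbot, by simp [Nat.one_le_pow _ _ hp.pos]⟩
  obtain ⟨hCi, hCc⟩ := hC.prop
  rcases hCc.eq_or_lt with h | h
  · exact ⟨C, hCi, h⟩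
  exfalso
  obtain ⟨B, hB⟩ := Set.Finite.exists_minimal (s := {X : Subgroup Ω | Inv X ∧ C < X})
    ((finite_setOf_le E hE).subset fun X hX => hle X hX.1)
    ⟨E, htop, lt_of_le_of_ne (hle C hCi) (by rintro rfl; omega)⟩
  obtain ⟨hBi, hCB⟩ := hB.prop
  have hBk : p ^ k < Nat.card B := lt_of_not_ge fun hge =>
    hCB.not_ge (hC.le_of_ge ⟨hBi, hge⟩ hCB.le)
  have hBS := (hle B hBi).trans hE
  obtain ⟨Q, hCQ, hQB, hQc⟩ := exists_between p hS hCB.le hBS hCc hBk.le
  have hnot : ¬ Inv Q := fun hQ => by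
    rcases hCQ.eq_or_lt with e | e
    · exact h.ne (e ▸ hQc)
    · have h1 : B ≤ Q := hB.le_of_le ⟨hQ, e⟩ hQB
      have h2 := card_le_of_le (hQB.trans hBS) h1
      omega
  obtain ⟨P, hP, hQP, hQiP⟩ := hemb Q (hQB.trans hBS) hQc
  have hPn : Q ≤ Subgroup.normalizer (P : Set Ω) :=
    (hQB.trans hBS).trans (stronglyClosed_normal_in_S hP)
  have hPB : Inv (P ⊓ B) := by
    have h1 := hinf _ _ (hsc P hP) hBi
    rwa [inf_assoc, inf_eq_right.2 (hle B hBi)] at h1
  have hQiP' : Inv (Q ⊓ P) := by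
    have h1 := hsc _ hQiP
    rwa [inf_eq_left.2 (inf_le_left.trans (hQB.trans (hle B hBi)))] at h1
  have hX : C ⊔ (P ⊓ B) ≤ B := sup_le hCB.le inf_le_right
  rcases (le_sup_left : C ≤ C ⊔ (P ⊓ B)).eq_or_lt with e | e
  · -- `P ⊓ B ≤ C`, so `(Q ⊔ P) ⊓ B = Q`
    refine hnot ?_
    have h1 := hinf _ _ (hsc _ hQP) hBi
    rwa [inf_assoc, inf_eq_right.2 (hle B hBi), sup_inf_eq hPn hQB,
      sup_eq_left.2 ((le_sup_right.trans e.ge).trans hCQ)] at h1
  · -- `C ⊔ (P ⊓ B) = B`, so `Q = C ⊔ (Q ⊓ P)`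
    refine hnot ?_
    have hB' : B ≤ C ⊔ (P ⊓ B) := hB.le_of_le ⟨hsup _ _ hCi hPB, e⟩ hX
    have hCn : C ≤ Subgroup.normalizer ((P ⊓ B : Subgroup Ω) : Set Ω) :=
      (hle C hCi).trans (hnorm _ hPB)
    suffices hQe : Q = C ⊔ (Q ⊓ P) by rw [hQe]; exact hsup _ _ hCi hQiP'
    refine le_antisymm (fun x hx => ?_) (sup_le hCQ inf_le_left)
    obtain ⟨c, hc, y, hy, rfl⟩ :=
      (CfsgLib.Solvable.mem_sup_of_le_normalizer hCn).1 (hB' (hQB hx))
    refine mul_mem (Subgroup.mem_sup_left hc)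
      (Subgroup.mem_sup_right (Subgroup.mem_inf.2 ⟨?_, (Subgroup.mem_inf.1 hy).1⟩))
    simpa using mul_mem (inv_mem (hCQ hc)) hx

/-- A `p`-power of an element has order prime to `p`. -/
theorem exists_pow_coprime {G : Type*} [Group G] [Finite G] (p : ℕ) [Fact p.Prime] (a : G) :
    ∃ m, (orderOf (a ^ p ^ m)).Coprime p := by
  have hp := (Fact.out : p.Prime)
  obtain ⟨e, n', hn', he⟩ := Nat.exists_eq_pow_mul_and_not_dvd (orderOf_pos a).ne' p hp.ne_one
  refine ⟨e, ?_⟩
  rw [orderOf_pow' a (pow_ne_zero _ hp.ne_zero), he, Nat.gcd_mul_right_left,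
    Nat.mul_div_cancel_left _ (pow_pos hp.pos e)]
  exact Nat.coprime_comm.1 ((Nat.Prime.coprime_iff_not_dvd hp).2 hn')

theorem isPGroup_aut_of_noCop [Finite S] (p : ℕ) [Fact p.Prime] {E : Subgroup Ω} (hE : E ≤ S)
    (h : ∀ α ∈ F.autGroup E, (orderOf α).Coprime p → α = 1) : IsPGroup p (F.autGroup E) := by
  have := finite_of_le hE
  have : Finite (MulAut E) := finite_mulAut
  intro a
  obtain ⟨m, hm⟩ := exists_pow_coprime p (a : MulAut E)
  exact ⟨m, Subtype.ext (by simpa using h _ (pow_mem a.2 _) hm)⟩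

/-- Automorphisms of a fully normalized subgroup are conjugations when they form a `p`-group. -/
theorem aut_conj_of_isPGroup [Finite S] (p : ℕ) [Fact p.Prime] (hS : IsPGroup p S)
    (hF : F.IsSaturated p) {E : Subgroup Ω} (hE : F.IsFullyNormalized E)
    (hp : IsPGroup p (F.autGroup E)) {a : MulAut E} (ha : a ∈ F.autGroup E) :
    ∃ g ∈ S, ∀ x : E, ((a x : E) : Ω) = g * x * g⁻¹ := by
  have := finite_of_le hE.1
  have : Finite (MulAut E) := finite_mulAut
  obtain ⟨-, R, hR⟩ := (good_of_fullyNormalized p hS hF hE).1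
  have htop : (⊤ : Subgroup (F.autGroup E)) = (R : Subgroup (F.autGroup E)) :=
    R.3 (hp.to_subgroup ⊤) le_top
  have h1 : (⟨a, ha⟩ : F.autGroup E) ∈ (R : Subgroup (F.autGroup E)) := htop ▸ trivial
  rw [hR] at h1
  exact mem_autInducedBy.1 h1

theorem fullyNormalized_of_stronglyClosed [Finite S] {R : Subgroup Ω} (hR : F.StronglyClosed R) :
    F.IsFullyNormalized R := by
  refine ⟨hR.1, fun Q _ => card_le_of_le (normalizerIn_le_S R) ?_⟩
  exact (normalizerIn_le_S Q).trans fun x hx => ⟨hx, stronglyClosed_normal_in_S hR hx⟩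

/-! ### The hypothesis on normalizers -/

/-- Inner normalizer systems in one order exclude coprime automorphisms above that order. -/
theorem noCop_of_innerAt [Finite S] (p : ℕ) [Fact p.Prime] (hS : IsPGroup p S)
    (hF : F.IsSaturated p) {k : ℕ} (hemb : Emb F (p ^ k))
    (hinn : ∀ H : Subgroup Ω, F.IsFullyNormalized H → Nat.card H = p ^ k → InnerAt F H) :
    NoCop F p (p ^ k) := by
  intro E hE hEk α hα hco
  have := finite_of_le hE
  have : Finite (MulAut E) := finite_mulAut
  have hαmem : E.subtype.comp α.toMonoidHom ∈ F.Hom E := (autGroup_carrier hE).1 hα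
  let Inv : Subgroup Ω → Prop := fun X =>
    X ≤ E ∧ E ≤ Subgroup.normalizer (X : Set Ω) ∧ ∀ x : E, (x : Ω) ∈ X → ((α x : E) : Ω) ∈ X
  obtain ⟨Q, ⟨hQE, hQn, hQα⟩, hQc⟩ := exists_invariant_card p hS hemb hE hEk Inv (fun X h => h.1)
    ⟨bot_le, fun g _ => Subgroup.mem_normalizer_iff.2 fun y => by simp [Subgroup.mem_bot], fun x hx => by
      rw [Subgroup.mem_bot] at hx ⊢
      rw [show x = 1 from Subtype.ext hx, map_one]
      rfl⟩
    ⟨le_rfl, Subgroup.le_normalizer, fun x _ => (α x).2⟩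
    (fun X Y hX hY => ⟨inf_le_left.trans hX.1, fun g hg => Subgroup.mem_normalizer_iff.2 fun y => by
        simp only [Subgroup.mem_inf]
        rw [Subgroup.mem_normalizer_iff.1 (hX.2.1 hg) y, Subgroup.mem_normalizer_iff.1 (hY.2.1 hg) y],
      fun x hx => Subgroup.mem_inf.2 ⟨hX.2.2 x (Subgroup.mem_inf.1 hx).1,
        hY.2.2 x (Subgroup.mem_inf.1 hx).2⟩⟩)
    (fun X Y hX hY => ⟨sup_le hX.1 hY.1, le_normalizer_sup hX.2.1 hY.2.1, fun x hx => by
      have hW : X ⊔ Y ≤ (((X ⊔ Y).subgroupOf E).comap α.toMonoidHom).map E.subtype :=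
        sup_le (fun y hy => ⟨⟨y, hX.1 hy⟩, Subgroup.mem_sup_left (hX.2.2 ⟨y, hX.1 hy⟩ hy), rfl⟩)
          fun y hy => ⟨⟨y, hY.1 hy⟩, Subgroup.mem_sup_right (hY.2.2 ⟨y, hY.1 hy⟩ hy), rfl⟩
      obtain ⟨z, hz, e⟩ := hW hx
      obtain rfl : z = x := Subtype.ext e
      exact hz⟩)
    (fun X h => h.2.1)
    (fun P hP => ⟨inf_le_right, fun g hg => Subgroup.mem_normalizer_iff.2 fun y => by
        simp only [Subgroup.mem_inf]
        rw [Subgroup.mem_normalizer_iff.1 (stronglyClosed_normal_in_S hP (hE hg)) y,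
          Subgroup.mem_normalizer_iff.1 (Subgroup.le_normalizer hg) y],
      fun x hx => Subgroup.mem_inf.2
        ⟨map_mem_ker hP hαmem (Subgroup.mem_inf.1 hx).1, (α x).2⟩⟩)
  have hQS := hQE.trans hE
  obtain ⟨H, hQH, hH⟩ := exists_fullyNormalized F hQS
  obtain ⟨h₁, h₂⟩ := good_of_fullyNormalized p hS hF hH
  obtain ⟨ψ, hψ, hψm, hψQ⟩ := exists_map_normalizer p hS h₁ h₂ hQH
  have hEN : E ≤ normalizerIn S Q := fun x hx => ⟨hE hx, hQn hx⟩
  let ψE := ψ.comp (Subgroup.inclusion hEN)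
  have hψE : ψE ∈ F.Hom E := restrict_mem hψ hEN
  let e := isoRange ψE (F.injective_of_mem hψE) (rfl : ψE.range = ψE.range)
  have hE'S : ψE.range ≤ S := range_le_S hψE
  have : Finite ψE.range := finite_of_le hE'S
  let β : MulAut ψE.range := MulAut.congr e α
  have hβ : β ∈ F.autGroup ψE.range := pow_mem_autGroup_iso hE hψE e (fun x => rfl) hα
  have hHle : H ≤ ψE.range := fun y hy => by
    rw [← hψQ] at hy
    obtain ⟨x, hx, rfl⟩ := hy
    exact ⟨⟨x, hQE hx⟩, rfl⟩
  have hcH : Nat.card H = p ^ k := (IsConj.card_eq hQH).trans hQc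
  have hsub : ψE.range ⊔ H ≤ ψE.range := sup_le le_rfl hHle
  obtain ⟨g, hg, hgx⟩ := hinn H hH hcH ψE.range (ψE.range.subtype.comp β.toMonoidHom)
    ⟨(autGroup_carrier hE'S).1 hβ, by rintro _ ⟨x, rfl⟩; exact hψm _,
      fun x => by
        obtain ⟨y, hy⟩ := (β x).2
        show ((β x : ψE.range) : Ω) ∈ _
        rw [← hy]
        exact hψm _,
      (ψE.range.subtype.comp β.toMonoidHom).comp (Subgroup.inclusion hsub),
      restrict_mem ((autGroup_carrier hE'S).1 hβ) hsub, fun x => rfl, by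
        refine eq_of_le_of_card_le hH.1 ?_ (card_map_subgroupOf (fun a b h =>
          Subgroup.inclusion_injective hsub (β.injective (Subtype.ext h))) le_sup_right).ge
        rintro _ ⟨x, hx, rfl⟩
        have hxr : (x : Ω) ∈ ψE.range := hsub x.2
        obtain ⟨y, hy⟩ := hxr
        have hyQ : (y : Ω) ∈ Q := by
          have h1 : ψE y ∈ H := hy ▸ hx
          rw [← hψQ] at h1
          obtain ⟨z, hz, e'⟩ := h1
          have h2 : Subgroup.inclusion hEN y = z := F.injective_of_mem hψ e'.symm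
          have h3 : (y : Ω) = (z : Ω) := congrArg Subtype.val h2
          rw [h3]
          exact hz
        have h4 : e.symm (Subgroup.inclusion hsub x) = y := by
          rw [MulEquiv.symm_apply_eq]
          exact Subtype.ext hy.symm
        refine hψQ.le ⟨Subgroup.inclusion hEN (α y), hQα y hyQ, ?_⟩
        show ψE (α y) = ((e (α (e.symm (Subgroup.inclusion hsub x))) : ψE.range) : Ω)
        rw [h4]
        rfl⟩
  have hco' : (orderOf β).Coprime p :=
    (orderOf_injective (MulAut.congr e).toMonoidHom (MulAut.congr e).injective α).symm ▸ hco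
  have hβS : β ∈ autInducedBy S ψE.range :=
    mem_autInducedBy.2 ⟨g, normalizerIn_le_S H hg, hgx⟩
  obtain ⟨m, hm⟩ := isPGroup_autInducedBy hS ψE.range ⟨β, hβS⟩
  have hβ1 : β = 1 := by
    rw [← orderOf_eq_one_iff]
    refine Nat.eq_one_of_dvd_coprimes (hco'.pow_right m) dvd_rfl ?_
    exact orderOf_dvd_of_pow_eq_one (congrArg Subtype.val hm)
  exact (MulAut.congr e).injective (hβ1.trans (map_one _).symm)

/-! ### The factor system -/

theorem noCop_factor [Finite S] (p : ℕ) [Fact p.Prime] {Ω' : Type u} [Group Ω'] {S' : Subgroup Ω'}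
    {θ : S →* Ω'} {R : Subgroup Ω} {E : FusionSystem S'} (hR : F.StronglyClosed R)
    (hE : F.IsFactorSystem R θ E) {d' : ℕ} (h : NoCop F p (d' * Nat.card R)) : NoCop E p d' := by
  intro P' hP' hd' α' hα' hco
  have : Finite S' := finite_factor hE
  have := finite_of_le hP'
  have : Finite (MulAut P') := finite_mulAut
  have hm := (autGroup_carrier hP').1 hα'
  obtain ⟨φ, hφ, hi⟩ := exists_lift_hom hE hm
  have hr : φ.range = preimg θ P' := by
    rw [range_lift hR hE hP' hφ hi, range_subtype_comp]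
  have hPS : preimg θ P' ≤ S := preimg_le P'
  have := finite_of_le hPS
  have : Finite (MulAut (preimg θ P')) := finite_mulAut
  let β := autOfRange φ (F.injective_of_mem hφ) hr
  have hβ : β ∈ F.autGroup (preimg θ P') := autOfRange_mem hφ hr
  obtain ⟨m, hm'⟩ := exists_pow_coprime p β
  have hd : d' * Nat.card R ≤ Nat.card (preimg θ P') := by
    rw [card_preimg hE hP']
    exact Nat.mul_le_mul_right _ hd'
  have hβ1 : β ^ p ^ m = 1 := h _ hPS hd _ (pow_mem hβ _) hm'
  have hpow : ∀ (n : ℕ) (x : preimg θ P') (hx : θ ⟨x, hPS x.2⟩ ∈ P'),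
      (((α' ^ n) ⟨_, hx⟩ : P') : Ω') = θ ⟨((β ^ n) x : preimg θ P'), hPS ((β ^ n) x).2⟩ := by
    intro n
    induction n with
    | zero => intro x hx; rfl
    | succ n ih =>
      intro x hx
      have h1 : (((α' ^ (n + 1)) ⟨_, hx⟩ : P') : Ω') = (α' ((α' ^ n) ⟨_, hx⟩) : P') := by
        rw [pow_succ']; rfl
      have hx' : θ ⟨((β ^ n) x : preimg θ P'), hPS ((β ^ n) x).2⟩ ∈ P' :=
        (mem_preimg.1 ((β ^ n) x).2).2
      rw [h1, show (α' ^ n) ⟨_, hx⟩ = (⟨_, hx'⟩ : P') from Subtype.ext (ih x hx)]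
      refine (induced_apply hi ((β ^ n) x) (hφ := apply_mem_S hφ _)).trans ?_
      refine congrArg θ (Subtype.ext ?_)
      rw [pow_succ']
      rfl
  have hα1 : α' ^ p ^ m = 1 := by
    ext y
    obtain ⟨s, hs⟩ := hE.2.2.1.ge (hP' y.2)
    have hy : θ s ∈ P' := hs ▸ y.2
    have h1 := hpow (p ^ m) ⟨s, mem_preimg.2 ⟨s.2, hy⟩⟩ hy
    rw [show (⟨_, hy⟩ : P') = y from Subtype.ext hs, hβ1] at h1
    exact h1.trans hs
  rw [← orderOf_eq_one_iff]
  exact Nat.eq_one_of_dvd_coprimes (hco.pow_right m) dvd_rfl (orderOf_dvd_of_pow_eq_one hα1)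

theorem emb_factor [Finite S] (p : ℕ) {Ω' : Type u} [Group Ω'] {S' : Subgroup Ω'}
    {θ : S →* Ω'} {R : Subgroup Ω} {E : FusionSystem S'}
    (hE : F.IsFactorSystem R θ E) {d' : ℕ} (h : Emb F (d' * Nat.card R)) : Emb E d' := by
  intro Q' hQ' hc
  obtain ⟨P, hP, h1, h2⟩ := h (preimg θ Q') (preimg_le Q') (by rw [card_preimg hE hQ', hc])
  have hQ : img θ (preimg θ Q') = Q' := img_preimg (by rw [hE.2.2.1]; exact hQ')
  refine ⟨img θ P, stronglyClosed_img hE hP, ?_, ?_⟩
  · have := stronglyClosed_img hE h1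
    rwa [img_sup (preimg_le Q') hP.1, hQ] at this
  · have e : img θ (preimg θ Q' ⊓ P) = Q' ⊓ img θ P := by
      refine le_antisymm (le_inf ((img_mono inf_le_left).trans hQ.le) (img_mono inf_le_right)) ?_
      rintro _ ⟨hy, x, hx, rfl⟩
      exact apply_mem_img (Subgroup.mem_inf.2 ⟨mem_preimg.2 ⟨x.2, hy⟩, hx⟩)
    rw [← e]
    exact stronglyClosed_img hE h2

/-- Coprime automorphisms move elements only inside a strongly closed subgroup with rigid factor. -/
theorem displacement_mem [Finite S] (p : ℕ) [Fact p.Prime] (hS : IsPGroup p S)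
    (hF : F.IsSaturated p) {Ω' : Type u} [Group Ω'] {S' : Subgroup Ω'}
    {θ : S →* Ω'} {R : Subgroup Ω} {E : FusionSystem S'} (hR : F.StronglyClosed R)
    (hE : F.IsFactorSystem R θ E) (hrig : NoCop E p 1) {P : Subgroup Ω} (hP : P ≤ S)
    {α : MulAut P} (hα : α ∈ F.autGroup P) (hco : (orderOf α).Coprime p) (x : P) :
    (x : Ω)⁻¹ * ((α x : P) : Ω) ∈ R := by
  have hS' : Finite S' := finite_factor hE
  obtain ⟨φ', hφ', hP0, hφS, hP', he⟩ := induces_of_mem hR hE p hS hF ((autGroup_carrier hP).1 hα)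
  have hI : img θ P ≤ S' := (img_le_range P).trans hE.2.2.1.le
  have := finite_of_le hI
  have hr : φ'.range = img θ P := by
    refine eq_of_le_of_card_le hI ?_ (card_range hφ').ge
    rintro _ ⟨⟨_, s, hs, rfl⟩, rfl⟩
    rw [show φ' ⟨θ s, _⟩ = _ from he ⟨s, hs⟩]
    exact apply_mem_img (ι := θ) (x := ⟨_, hφS _⟩) (α ⟨s, hs⟩).2
  let a := autOfRange φ' (E.injective_of_mem hφ') hr
  have ha : a ∈ E.autGroup (img θ P) := autOfRange_mem hφ' hr
  have hpow : ∀ (n : ℕ) (y : P),
      (((a ^ n) ⟨_, hP' y⟩ : img θ P) : Ω') = θ ⟨((α ^ n) y : P), hP ((α ^ n) y).2⟩ := by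
    intro n
    induction n with
    | zero => intro y; rfl
    | succ n ih =>
      intro y
      have h1 : (((a ^ (n + 1)) ⟨_, hP' y⟩ : img θ P) : Ω') =
          (a ((a ^ n) ⟨_, hP' y⟩) : img θ P) := by
        rw [pow_succ']; rfl
      rw [h1, show (a ^ n) ⟨_, hP' y⟩ = (⟨_, hP' ((α ^ n) y)⟩ : img θ P) from Subtype.ext (ih y)]
      refine (he ((α ^ n) y)).trans (congrArg θ (Subtype.ext ?_))
      rw [pow_succ']
      rfl
  have hao : a ^ orderOf α = 1 := by
    refine MulEquiv.ext ?_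
    rintro ⟨_, s, hs, rfl⟩
    refine Subtype.ext ?_
    have h1 := hpow (orderOf α) ⟨s, hs⟩
    rw [pow_orderOf_eq_one] at h1
    exact h1
  have h1 : a = 1 := hrig _ hI Nat.card_pos a ha
    (Nat.Coprime.coprime_dvd_left (orderOf_dvd_of_pow_eq_one hao) hco)
  have h2 := hpow 1 x
  rw [h1, one_pow, pow_one] at h2
  have h3 : θ (⟨x, hP x.2⟩⁻¹ * ⟨((α x : P) : Ω), hP (α x).2⟩) = 1 := by
    rw [map_mul, map_inv, ← h2]
    exact inv_mul_cancel _
  exact (hE.2.1 _).1 h3

/-- The hyperfocal subgroup is contained in any strongly closed subgroup containing all coprime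
displacements. -/
theorem hyperfocal_le [Finite S] (p : ℕ) {R : Subgroup Ω} (hR : F.StronglyClosed R)
    (h : ∀ (P : Subgroup Ω), P ≤ S → ∀ α ∈ F.autGroup P, (orderOf α).Coprime p →
      ∀ x : P, (x : Ω)⁻¹ * ((α x : P) : Ω) ∈ R) :
    F.hyperfocalSubgroup p ≤ R := by
  refine (Subgroup.closure_le _).2 ?_
  rintro _ ⟨P, α, x, hP, hα, rfl⟩
  induction hα using Subgroup.closure_induction generalizing x with
  | mem a ha => exact h P hP a a.2 (by rw [Subgroup.orderOf_coe]; exact ha) x
  | one => simp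
  | mul a b _ _ iha ihb =>
    have h1 := mul_mem (ihb x) (iha ((b : MulAut P) x))
    simpa [mul_assoc] using h1
  | inv a _ ih =>
    have h1 := Subgroup.inv_mem _ (ih ((a : MulAut P)⁻¹ x))
    simpa [mul_assoc] using h1

/-! ### Minimal strongly closed subgroups -/

/-- A minimal nontrivial strongly closed subgroup. -/
def IsMinSC (F : FusionSystem S) (R : Subgroup Ω) : Prop :=
  F.StronglyClosed R ∧ R ≠ ⊥ ∧ ∀ X : Subgroup Ω, F.StronglyClosed X → X ≤ R → X ≠ ⊥ → X = R

theorem exists_minSC [Finite S] {X : Subgroup Ω} (hX : F.StronglyClosed X) (hne : X ≠ ⊥) :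
    ∃ R, IsMinSC F R ∧ R ≤ X := by
  obtain ⟨R, hR⟩ := Set.Finite.exists_minimal
    (s := {Y : Subgroup Ω | F.StronglyClosed Y ∧ Y ≠ ⊥ ∧ Y ≤ X})
    ((finite_setOf_le X hX.1).subset fun Y hY => hY.2.2) ⟨X, hX, hne, le_rfl⟩
  obtain ⟨h1, h2, h3⟩ := hR.prop
  exact ⟨R, ⟨h1, h2, fun Y hY hle hY1 =>
    le_antisymm hle (hR.le_of_le ⟨hY, hY1, hle.trans h3⟩ hle)⟩, h3⟩

theorem IsMinSC.card_le [Finite S] (p : ℕ) [Fact p.Prime] (hS : IsPGroup p S)
    (hF : F.IsSaturated p) {k : ℕ} (hemb : Emb F (p ^ k)) (hk : 0 < k) {R : Subgroup Ω}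
    (hR : IsMinSC F R) : Nat.card R ≤ p ^ k := by
  by_contra hlt
  obtain ⟨X, ⟨hX, hXR⟩, hXc⟩ := exists_invariant_card p hS hemb hR.1.1 (not_le.1 hlt).le
    (fun X => F.StronglyClosed X ∧ X ≤ R) (fun X h => h.2) ⟨stronglyClosed_bot, bot_le⟩
    ⟨hR.1, le_rfl⟩ (fun X Y hX hY => ⟨stronglyClosed_inf hX.1 hY.1, inf_le_left.trans hX.2⟩)
    (fun X Y hX hY => ⟨Cfsg.Agent.S5128.result p hS F hF X Y hX.1 hY.1, sup_le hX.2 hY.2⟩)
    (fun X h => hR.1.1.trans (stronglyClosed_normal_in_S h.1))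
    (fun P hP => ⟨stronglyClosed_inf hP hR.1, inf_le_right⟩)
  refine hlt ?_
  rw [← hXc, hR.2.2 X hX hXR]
  rintro rfl
  rw [Subgroup.card_bot] at hXc
  exact (Nat.one_lt_pow hk.ne' (Fact.out : p.Prime).one_lt).ne hXc

/-- A subgroup of order `d` properly meeting a minimal strongly closed `R` covers it modulo
`C_S(R)`. -/
theorem IsMinSC.le_sup_centralizer [Finite S] {d : ℕ} (hemb : Emb F d) {R : Subgroup Ω}
    (hR : IsMinSC F R) {Q : Subgroup Ω} (hQS : Q ≤ S) (hQc : Nat.card Q = d)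
    (h1 : Q ⊓ R ≠ ⊥) (h2 : Q ⊓ R ≠ R) : R ≤ Q ⊔ centralizerIn S R := by
  obtain ⟨P, hP, hQP, hQiP⟩ := hemb Q hQS hQc
  have hPR : P ⊓ R = ⊥ := by
    by_contra h
    have hle : R ≤ P := (hR.2.2 _ (stronglyClosed_inf hP hR.1) inf_le_right h).ge.trans inf_le_left
    have e : (Q ⊓ P) ⊓ R = Q ⊓ R := by rw [inf_assoc, inf_eq_right.2 hle]
    have h3 := stronglyClosed_inf hQiP hR.1
    rw [e] at h3
    exact h2 (hR.2.2 _ h3 inf_le_right h1)
  have hPC := le_centralizer_of_disjoint hP.1 hR.1.1 (stronglyClosed_normal_in_S hP)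
    (stronglyClosed_normal_in_S hR.1) hPR
  have h4 : (Q ⊔ P) ⊓ R = R := hR.2.2 _ (stronglyClosed_inf hQP hR.1) inf_le_right fun hb =>
    h1 (le_bot_iff.1 ((inf_le_inf_right R le_sup_left).trans hb.le))
  exact (h4.ge.trans inf_le_left).trans (sup_le_sup_left hPC Q)

/-- A minimal strongly closed subgroup without coprime automorphisms is not an abelian group of
order larger than `p`. -/
theorem IsMinSC.card_of_abelian [Finite S] (p : ℕ) [Fact p.Prime] (hS : IsPGroup p S)
    (hF : F.IsSaturated p) {R : Subgroup Ω} (hR : IsMinSC F R)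
    (hab : R ≤ centralizerIn S R)
    (hno : ∀ α ∈ F.autGroup R, (orderOf α).Coprime p → α = 1) : Nat.card R = p := by
  have hp := (Fact.out : p.Prime)
  have hRS := hR.1.1
  have := finite_of_le hRS
  have : Group.IsNilpotent S := hS.isNilpotent
  have hRn : (R.subgroupOf S).Normal := normal_subgroupOf_of_stronglyClosed hR.1
  have hne : R.subgroupOf S ⊓ Subgroup.center S ≠ ⊥ := by
    refine CfsgLib.PGroupBasic.inf_center_ne_bot _ fun h => hR.2.1 ?_
    rw [← inf_eq_left.2 hRS, ← disjoint_iff]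
    exact Subgroup.subgroupOf_eq_bot.1 h
  obtain ⟨z, hz⟩ := exists_prime_orderOf_dvd_card' p (G := ↥(R.subgroupOf S ⊓ Subgroup.center S))
    (((hS.to_subgroup _).card_eq_or_dvd).resolve_left fun h => hne (Subgroup.card_eq_one.1 h))
  have hzR : (((z : S) : Ω)) ∈ R := (Subgroup.mem_inf.1 z.2).1
  have hzo : orderOf ((z : S) : Ω) = p := by rw [Subgroup.orderOf_coe, Subgroup.orderOf_coe, hz]
  have hZ : F.StronglyClosed (Subgroup.zpowers ((z : S) : Ω)) := by
    have hN : F.IsNormal R := isNormal_of_abelian p hS hF hR.1 ⟨⟨fun a b => Subtype.ext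
      ((mem_centralizerIn.1 (hab a.2)).2 b b.2).symm⟩⟩
    refine ⟨(Subgroup.zpowers_le.2 hzR).trans hRS, fun P hP φ hφ x => ?_⟩
    obtain ⟨ψ, hψ, he, hm⟩ := hN.2 P φ hφ
    let χ := ψ.comp (Subgroup.inclusion (le_sup_right : R ≤ P ⊔ R))
    have hχ : χ ∈ F.Hom R := restrict_mem hψ _
    have hχr : χ.range = R := (range_restrict ψ le_sup_right).trans hm
    obtain ⟨g, hg, hgx⟩ := aut_conj_of_isPGroup p hS hF (fullyNormalized_of_stronglyClosed hR.1)
      (isPGroup_aut_of_noCop p hRS hno) (autOfRange_mem hχ hχr)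
    have hxR : (x : Ω) ∈ R := (Subgroup.zpowers_le.2 hzR) (hP x.2)
    have h1 : φ x = g * x * g⁻¹ := by
      rw [← he x]
      exact (hgx ⟨x, hxR⟩)
    obtain ⟨i, hi⟩ := Subgroup.mem_zpowers_iff.1 (hP x.2)
    have hc : ((z : S) : Ω) * g = g * ((z : S) : Ω) := congrArg Subtype.val
      ((Subgroup.mem_center_iff.1 (Subgroup.mem_inf.1 z.2).2 ⟨g, hg⟩).symm)
    refine Subgroup.mem_zpowers_iff.2 ⟨i, ?_⟩
    rw [h1, ← hi, (Commute.zpow_left (hc : Commute _ g) i).symm.eq, mul_inv_cancel_right]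
  rw [← hR.2.2 _ hZ (Subgroup.zpowers_le.2 hzR) ?_, Nat.card_zpowers, hzo]
  rw [Ne, Subgroup.zpowers_eq_bot, ← orderOf_eq_one_iff, hzo]
  exact hp.ne_one

/-! ### The main induction -/

/-- In a rigid situation the hyperfocal subgroup is trivial; conversely. -/
theorem noCop_of_hyperfocal_eq_bot {p : ℕ} (h : F.hyperfocalSubgroup p = ⊥) : NoCop F p 1 := by
  intro P hP _ α hα hco
  refine MulEquiv.ext fun x => Subtype.ext ?_
  have h1 : (x : Ω)⁻¹ * ((α x : P) : Ω) ∈ F.hyperfocalSubgroup p :=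
    Subgroup.subset_closure ⟨P, ⟨α, hα⟩, x, hP,
      Subgroup.subset_closure (by rw [Set.mem_setOf_eq, ← Subgroup.orderOf_coe]; exact hco), rfl⟩
  rw [h, Subgroup.mem_bot, inv_mul_eq_one] at h1
  exact h1.symm

/-- Weakly embedded subgroups of one order without coprime fusion from that order on: no coprime
fusion at all. -/
theorem noCop_one (p : ℕ) [Fact p.Prime] : ∀ (N : ℕ) {Ω : Type u} [Group Ω] {S : Subgroup Ω}
    [Finite S], Nat.card S = N → IsPGroup p S → ∀ (F : FusionSystem S), F.IsSaturated p →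
    ∀ k : ℕ, 0 < k → p ^ k < Nat.card S → Emb F (p ^ k) → NoCop F p (p ^ k) → NoCop F p 1 := by
  intro N
  induction N using Nat.strong_induction_on with
  | _ N ih =>
  intro Ω _ S _ hN hS F hF k hk hkS hemb hno
  have hp := (Fact.out : p.Prime)
  classical
  by_cases hsmall : ∀ R, IsMinSC F R → Nat.card R = p ^ k
  · -- all minimal strongly closed subgroups have order `p ^ k`
    obtain ⟨R, hR, -⟩ := exists_minSC (F := F) stronglyClosed_self fun h => by
      rw [h, Subgroup.card_bot] at hkS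
      exact absurd hkS (not_lt.2 (Nat.one_le_pow _ _ hp.pos))
    rcases Nat.lt_or_ge 1 k with hk1 | hk1
    swap
    · -- `k = 1`
      obtain rfl : k = 1 := by omega
      intro P hP _ α hα hco
      by_cases hP1 : P = ⊥
      · subst hP1
        exact MulEquiv.ext fun x => Subsingleton.elim _ _
      · refine hno P hP ?_ α hα hco
        rw [pow_one]
        have := finite_of_le hP
        rcases (isPGroup_of_le hS hP).card_eq_or_dvd with h | h
        · exact absurd (Subgroup.card_eq_one.1 h) hP1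
        · exact Nat.le_of_dvd Nat.card_pos h
    exfalso
    have hRc := hsmall R hR
    have hRS := hR.1.1
    have := finite_of_le hRS
    have hnab : ¬ R ≤ centralizerIn S R := fun hab => by
      have h1 := hR.card_of_abelian p hS hF hab (hno R hRS hRc.ge)
      rw [hRc] at h1
      exact (Nat.pow_lt_pow_right hp.one_lt hk1).ne' (h1.trans (pow_one p).symm)
    have hne : ∀ {T : Subgroup Ω}, centralizerIn S R ⊓ R ≤ T → T ≠ ⊥ := fun {T} hT hb => by
      have : Nontrivial R := Finite.one_lt_card_iff_nontrivial.1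
        (hRc ▸ Nat.one_lt_pow hk.ne' hp.one_lt)
      have hc := (isPGroup_of_le hS hRS).center_nontrivial
      obtain ⟨z, hz⟩ := exists_ne (1 : Subgroup.center R)
      refine hz (Subtype.ext (Subtype.ext ?_))
      refine Subgroup.mem_bot.1 (hb.le (hT (Subgroup.mem_inf.2 ⟨?_, (z : R).2⟩)))
      refine mem_centralizerIn.2 ⟨hRS (z : R).2, fun b hb => ?_⟩
      exact congrArg Subtype.val (Subgroup.mem_center_iff.1 z.2 ⟨b, hb⟩)
    have hCn : ∀ {T : Subgroup Ω}, T ≤ R →
        T ≤ Subgroup.normalizer ((centralizerIn S R : Subgroup Ω) : Set Ω) := fun {T} hT t ht => by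
      refine mem_normalizer_of_conj_mem (centralizerIn_le_S R) fun y hy => ?_
      have h1 := (mem_centralizerIn.1 hy).2 t (hT ht)
      rw [show t * y * t⁻¹ = y by rw [h1, mul_inv_cancel_right]]
      exact hy
    by_cases hCR : centralizerIn S R ≤ R
    · obtain ⟨n, hn⟩ := hS.exists_card_eq
      obtain ⟨U, hRU, hUS, hUc⟩ := exists_between p hS hRS le_rfl (k := k + 1)
        (by rw [hRc]; exact Nat.pow_le_pow_right hp.pos (by omega))
        (by
          rw [hn] at hkS ⊢
          exact Nat.pow_le_pow_right hp.pos ((Nat.pow_lt_pow_iff_right hp.one_lt).1 hkS))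
      obtain ⟨y, hyU, hyR⟩ := SetLike.not_le_iff_exists.1 fun hUR : U ≤ R => by
        have h1 := card_le_of_le hRS hUR
        rw [hUc, hRc] at h1
        exact absurd h1 (not_le.2 (Nat.pow_lt_pow_right hp.one_lt (by omega)))
      have := finite_of_le hUS
      set W := centralizerIn S R ⊔ Subgroup.zpowers y with hW
      have hWU : W ≤ U := sup_le (hCR.trans hRU) (Subgroup.zpowers_le.2 hyU)
      by_cases hWe : W = U
      · -- then `R` is abelian
        refine hnab fun a ha => ?_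
        have hCn' : Subgroup.zpowers y ≤
            Subgroup.normalizer ((centralizerIn S R : Subgroup Ω) : Set Ω) := by
          refine Subgroup.zpowers_le.2 (mem_normalizer_of_conj_mem (centralizerIn_le_S R) ?_)
          intro c hc
          refine mem_centralizerIn.2 ⟨mul_mem (mul_mem (hUS hyU) (centralizerIn_le_S R hc))
            (inv_mem (hUS hyU)), fun b hb => ?_⟩
          have hb' := (Subgroup.mem_normalizer_iff''.1
            (stronglyClosed_normal_in_S hR.1 (hUS hyU)) b).1 hb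
          have h1 := (mem_centralizerIn.1 hc).2 _ hb'
          calc b * (y * c * y⁻¹) = y * ((y⁻¹ * b * y) * c) * y⁻¹ := by group
            _ = y * (c * (y⁻¹ * b * y)) * y⁻¹ := by rw [h1]
            _ = y * c * y⁻¹ * b := by group
        have hdec : ∀ r ∈ R, ∃ i : ℤ, ∃ c ∈ centralizerIn S R, y ^ i ∈ R ∧ y ^ i * c = r := by
          intro r hr
          have h1 : r ∈ Subgroup.zpowers y ⊔ centralizerIn S R := by
            rw [sup_comm, ← hW, hWe]; exact hRU hr
          obtain ⟨b, hb, c, hc, rfl⟩ := (CfsgLib.Solvable.mem_sup_of_le_normalizer hCn').1 h1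
          obtain ⟨i, rfl⟩ := Subgroup.mem_zpowers_iff.1 hb
          exact ⟨i, c, hc, by simpa using mul_mem hr (inv_mem (hCR hc)), rfl⟩
        obtain ⟨i, c, hc, hyi, rfl⟩ := hdec a ha
        refine mul_mem (mem_centralizerIn.2 ⟨hRS hyi, fun b hb => ?_⟩) hc
        obtain ⟨j, c', hc', hyj, rfl⟩ := hdec b hb
        have h1 : y ^ i * c' = c' * y ^ i := (mem_centralizerIn.1 hc').2 _ hyi
        have h2 : y ^ j * y ^ i = y ^ i * y ^ j := zpow_mul_comm y j i
        calc y ^ j * c' * y ^ i = y ^ j * (y ^ i * c') := by rw [mul_assoc, ← h1]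
          _ = y ^ i * (y ^ j * c') := by rw [← mul_assoc, h2, mul_assoc]
      · have hWc : Nat.card W ≤ p ^ k := by
          have := finite_of_le (hWU.trans hUS)
          obtain ⟨w, hw⟩ := (isPGroup_of_le hS (hWU.trans hUS)).exists_card_eq
          rw [hw]
          refine Nat.pow_le_pow_right hp.pos ?_
          by_contra hlt
          refine hWe (eq_of_le_of_card_le hUS hWU ?_)
          rw [hw, hUc]
          exact Nat.pow_le_pow_right hp.pos (by omega)
        obtain ⟨Q, hWQ, hQU, hQc⟩ := exists_between p hS hWU hUS hWc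
          (by rw [hUc]; exact Nat.pow_le_pow_right hp.pos (by omega))
        have hyQ : y ∈ Q := hWQ (Subgroup.mem_sup_right (Subgroup.mem_zpowers y))
        have hCQ : centralizerIn S R ≤ Q := le_sup_left.trans hWQ
        have hRQ : ¬ R ≤ Q := fun h => hyR (by
          rw [eq_of_le_of_card_le (hQU.trans hUS) h (by rw [hQc, hRc])]; exact hyQ)
        refine hRQ ((hR.le_sup_centralizer hemb (hQU.trans hUS) hQc
          (hne (inf_le_inf_right R hCQ)) fun h => hRQ (h ▸ inf_le_left)).trans ?_)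
        exact sup_le le_rfl hCQ
    · -- `C_S(R)` not inside `R`
      have hZ : centralizerIn S R ⊓ R < R := lt_of_le_of_ne inf_le_right fun h =>
        hnab (h.ge.trans inf_le_left)
      have hZc : Nat.card (centralizerIn S R ⊓ R : Subgroup Ω) ≤ p ^ (k - 1) := by
        have := finite_of_le (hZ.le.trans hRS)
        obtain ⟨w, hw⟩ := (isPGroup_of_le hS (hZ.le.trans hRS)).exists_card_eq
        rw [hw]
        refine Nat.pow_le_pow_right hp.pos ?_
        by_contra hlt
        refine hZ.ne (eq_of_le_of_card_le hRS hZ.le ?_)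
        rw [hw, hRc]
        exact Nat.pow_le_pow_right hp.pos (by omega)
      obtain ⟨T, hZT, hTR, hTc⟩ := exists_between p hS hZ.le hRS hZc
        (by rw [hRc]; exact Nat.pow_le_pow_right hp.pos (by omega))
      have hTS := hTR.trans hRS
      have hMS : T ⊔ centralizerIn S R ≤ S := sup_le hTS (centralizerIn_le_S R)
      have hMR : (T ⊔ centralizerIn S R) ⊓ R = T := by
        rw [sup_inf_eq (hCn hTR) hTR, sup_eq_left.2 hZT]
      have hMc : p ^ k ≤ Nat.card (T ⊔ centralizerIn S R : Subgroup Ω) := by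
        have := finite_of_le hMS
        obtain ⟨w, hw⟩ := (isPGroup_of_le hS hMS).exists_card_eq
        have hlt : T < T ⊔ centralizerIn S R := lt_of_le_of_ne le_sup_left fun h =>
          hCR ((le_sup_right.trans h.ge).trans hTR)
        have h1 : Nat.card T < Nat.card (T ⊔ centralizerIn S R : Subgroup Ω) :=
          lt_of_le_of_ne (card_le_of_le hMS hlt.le) fun he =>
            hlt.ne (eq_of_le_of_card_le hMS hlt.le he.ge)
        rw [hw, hTc, Nat.pow_lt_pow_iff_right hp.one_lt] at h1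
        rw [hw]
        exact Nat.pow_le_pow_right hp.pos (by omega)
      obtain ⟨Q, hTQ, hQM, hQc⟩ := exists_between p hS le_sup_left hMS
        (hTc ▸ Nat.pow_le_pow_right hp.pos (by omega)) hMc
      have hQR : Q ⊓ R = T := le_antisymm ((inf_le_inf_right R hQM).trans hMR.le) (le_inf hTQ hTR)
      have hTR' : T ≠ R := fun h => by
        rw [h, hRc] at hTc
        exact (Nat.pow_lt_pow_right hp.one_lt (by omega : k - 1 < k)).ne' hTc
      have h5 := hR.le_sup_centralizer hemb (hQM.trans hMS) hQc (hQR ▸ hne hZT) (hQR ▸ hTR')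
      refine hTR' (le_antisymm hTR ?_)
      rw [← hMR]
      exact le_inf (h5.trans (sup_le hQM le_sup_right)) le_rfl
  · push Not at hsmall
    obtain ⟨R₀, hR₀, hne₀⟩ := hsmall
    -- coprime displacements lie in every small minimal strongly closed subgroup
    have hdisp : ∀ R, IsMinSC F R → Nat.card R < p ^ k → ∀ (P : Subgroup Ω), P ≤ S →
        ∀ α ∈ F.autGroup P, (orderOf α).Coprime p →
        ∀ x : P, (x : Ω)⁻¹ * ((α x : P) : Ω) ∈ R := by
      intro R hR hlt P hP α hα hco x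
      have := finite_of_le hR.1.1
      haveI := normal_subgroupOf_of_stronglyClosed hR.1
      obtain ⟨E, hE⟩ := isFactorSystem_mk' hR.1
      have hfin := finite_factor hE
      obtain ⟨j, hj⟩ := (isPGroup_of_le hS hR.1.1).exists_card_eq
      have hjk : j < k := by rwa [hj, Nat.pow_lt_pow_iff_right hp.one_lt] at hlt
      have hd : p ^ k = p ^ (k - j) * Nat.card R := by rw [hj, ← pow_add]; congr 1; omega
      have hcS : Nat.card S =
          Nat.card (⊤ : Subgroup (↥S ⧸ R.subgroupOf S)) * Nat.card R := by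
        rw [Subgroup.card_top, Subgroup.card_eq_card_quotient_mul_card_subgroup (R.subgroupOf S),
          Nat.card_congr (Subgroup.subgroupOfEquivOfLe hR.1.1).toEquiv]
      have hR1 : 1 < Nat.card R := lt_of_le_of_ne Nat.card_pos fun h =>
        hR.2.1 (Subgroup.card_eq_one.1 h.symm)
      refine displacement_mem p hS hF hR.1 hE ?_ hP hα hco x
      refine ih (Nat.card (⊤ : Subgroup (↥S ⧸ R.subgroupOf S))) ?_ rfl (isPGroup_factor hE p hS) E
        (factor_saturated hR.1 hE p hS hF) (k - j) (by omega) ?_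
        (emb_factor p hE (hd ▸ hemb)) (noCop_factor p hR.1 hE (hd ▸ hno))
      · rw [← hN, hcS]
        exact lt_mul_of_one_lt_right Nat.card_pos hR1
      · refine Nat.lt_of_mul_lt_mul_right (a := Nat.card R) ?_
        rw [← hd, ← hcS]
        exact hkS
    refine noCop_of_hyperfocal_eq_bot ?_
    by_contra hhyp
    have hhypsc := stronglyClosed_hyperfocal (F := F) p hS hF
    have huniq : ∀ R, IsMinSC F R → Nat.card R < p ^ k → R = F.hyperfocalSubgroup p := fun R hR hlt =>
      (hR.2.2 _ hhypsc (hyperfocal_le p hR.1 (hdisp R hR hlt)) hhyp).symm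
    have hlt₀ : Nat.card R₀ < p ^ k := lt_of_le_of_ne (hR₀.card_le p hS hF hemb hk) hne₀
    have hR₀e := huniq R₀ hR₀ hlt₀
    have hR₀S := hR₀.1.1
    have := finite_of_le hR₀S
    obtain ⟨j, hj⟩ := (isPGroup_of_le hS hR₀S).exists_card_eq
    have hj0 : j ≠ 0 := by
      rintro rfl
      exact hR₀.2.1 (Subgroup.card_eq_one.1 (hj.trans (pow_zero p)))
    by_cases hj1 : j = 1
    · -- `R₀` of order `p`: central, so fixed by coprime automorphisms
      subst hj1
      rw [pow_one] at hj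
      refine hhyp (le_bot_iff.1 (hyperfocal_le p stronglyClosed_bot fun P hP α hα hco x => ?_))
      suffices hfix : ∀ r : P, (r : Ω) ∈ R₀ → α r = r by
        have := finite_of_le hP
        rw [aut_eq_one_of_displacement (isPGroup_of_le hS hP) hco (x := x)
          (hfix _ (by simpa using hdisp R₀ hR₀ hlt₀ P hP α hα hco x))]
        simp
      intro r hr
      by_cases hr1 : r = 1
      · rw [hr1, map_one]
      have hRP : R₀ ≤ P := by
        have hp' : Fact (Nat.card R₀).Prime := ⟨hj ▸ hp⟩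
        rcases (P.subgroupOf R₀).eq_bot_or_eq_top_of_prime_card with h | h
        · exfalso
          refine hr1 (Subtype.ext ?_)
          have h1 : (⟨r, hr⟩ : R₀) ∈ P.subgroupOf R₀ := Subgroup.mem_subgroupOf.2 r.2
          rw [h, Subgroup.mem_bot] at h1
          simpa using congrArg Subtype.val h1
        · exact Subgroup.subgroupOf_eq_top.1 h
      have hcen : S ≤ centralizerIn S R₀ := by
        have : Group.IsNilpotent S := hS.isNilpotent
        have hn := normal_subgroupOf_of_stronglyClosed hR₀.1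
        have hp' : Fact (Nat.card (R₀.subgroupOf S)).Prime :=
          ⟨by rw [Nat.card_congr (Subgroup.subgroupOfEquivOfLe hR₀S).toEquiv, hj]; exact hp⟩
        have hle : R₀.subgroupOf S ≤ Subgroup.center S := by
          rcases ((Subgroup.center S).subgroupOf (R₀.subgroupOf S)).eq_bot_or_eq_top_of_prime_card
            with h | h
          · exfalso
            refine CfsgLib.PGroupBasic.inf_center_ne_bot _ ?_
              (disjoint_iff.1 (Subgroup.subgroupOf_eq_bot.1 h).symm)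
            intro hb
            have h1 := hp'.out.ne_one
            rw [hb, Subgroup.card_bot] at h1
            exact h1 rfl
          · exact Subgroup.subgroupOf_eq_top.1 h
        intro g hg
        refine mem_centralizerIn.2 ⟨hg, fun b hb => ?_⟩
        exact congrArg Subtype.val (Subgroup.mem_center_iff.1
          (hle (x := ⟨b, hR₀S hb⟩) (Subgroup.mem_subgroupOf.2 hb)) ⟨g, hg⟩).symm
      have hαh := (autGroup_carrier hP).1 hα
      let φ : R₀ →* Ω := (P.subtype.comp α.toMonoidHom).comp (Subgroup.inclusion hRP)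
      have hφ : φ ∈ F.Hom R₀ := restrict_mem hαh hRP
      have hφr : φ.range = R₀ := (range_restrict _ hRP).trans (map_ker_eq hR₀.1 hαh hRP)
      obtain ⟨ψ, hψ, hψe⟩ := receptive_extend
        (good_of_fullyNormalized p hS hF (fullyNormalized_of_stronglyClosed hR₀.1)).2 hφ hφr
        (hcen.trans (centralizerIn_le_extender R₀ φ))
      let a := autOfRange ψ (F.injective_of_mem hψ) (range_eq_S hψ)
      have hpow : ∀ (n : ℕ) (s : P) (hs : (s : Ω) ∈ R₀),
          (((α ^ n) s : P) : Ω) ∈ R₀ ∧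
            (((a ^ n) ⟨s, hR₀S hs⟩ : S) : Ω) = (((α ^ n) s : P) : Ω) := by
        intro n
        induction n with
        | zero => intro s hs; exact ⟨hs, rfl⟩
        | succ n ihn =>
          intro s hs
          obtain ⟨h1, h2⟩ := ihn s hs
          rw [pow_succ', pow_succ']
          refine ⟨map_mem_ker hR₀.1 hαh h1, ?_⟩
          show ψ ((a ^ n) ⟨s, hR₀S hs⟩) = _
          rw [show (a ^ n) ⟨s, hR₀S hs⟩ = (⟨_, hR₀S h1⟩ : S) from Subtype.ext h2]
          exact hψe _ h1 (hR₀S h1)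
      have : Finite (MulAut S) := finite_mulAut
      obtain ⟨m, hm⟩ := exists_pow_coprime p a
      have ha1 : a ^ p ^ m = 1 :=
        hno S le_rfl hkS.le _ (pow_mem (autOfRange_mem hψ (range_eq_S hψ)) _) hm
      have hfixm : (α ^ p ^ m) r = r := Subtype.ext (by
        rw [← (hpow (p ^ m) r hr).2, ha1]; rfl)
      have : Finite P := finite_of_le hP
      have : Finite (MulAut P) := finite_mulAut
      obtain ⟨e, he⟩ := exists_pow_eq_self_of_coprime (x := α) ((hco.symm.pow_left m))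
      rw [← he]
      clear he
      induction e with
      | zero => rfl
      | succ e ihe =>
        rw [pow_succ']
        show (α ^ p ^ m) (((α ^ p ^ m) ^ e) r) = r
        rw [ihe, hfixm]
    · -- `|R₀| ≥ p²`: then `R₀ ≤ Φ(S)`
      have hjk : j < k := by rwa [hj, Nat.pow_lt_pow_iff_right hp.one_lt] at hlt₀
      have hpR : p < Nat.card R₀ := by
        rw [hj]
        calc p = p ^ 1 := (pow_one p).symm
          _ < p ^ j := Nat.pow_lt_pow_right hp.one_lt (by omega)
      -- every minimal strongly closed subgroup is `R₀`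
      have hall : ∀ R, IsMinSC F R → R = R₀ := by
        intro R hR
        by_contra hne
        have hRc : Nat.card R = p ^ k := (hR.card_le p hS hF hemb hk).lt_or_eq.resolve_left
          fun h => hne ((huniq R hR h).trans hR₀e.symm)
        have hd : R₀ ⊓ R = ⊥ := by
          by_contra h
          have h1 := hR₀.2.2 _ (stronglyClosed_inf hR₀.1 hR.1) inf_le_left h
          exact hne (hR.2.2 _ hR₀.1 (h1.ge.trans inf_le_right) hR₀.2.1).symm
        have hRS := hR.1.1
        obtain ⟨T, -, hTR, hTc⟩ := exists_between p hS (bot_le : ⊥ ≤ R₀) hR₀S (k := 1)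
          (by simp; exact hp.one_le) (by rw [pow_one]; exact hpR.le)
        obtain ⟨U, -, hUR, hUc⟩ := exists_between p hS (bot_le : ⊥ ≤ R) hRS (k := k - 1)
          (by simp; exact Nat.one_le_pow _ _ hp.pos)
          (by rw [hRc]; exact Nat.pow_le_pow_right hp.pos (by omega))
        rw [pow_one] at hTc
        have hTU : T ≤ Subgroup.normalizer (U : Set Ω) := fun t ht => by
          have h1 := le_centralizer_of_disjoint hR₀S hRS (stronglyClosed_normal_in_S hR₀.1)
            (stronglyClosed_normal_in_S hR.1) hd (hTR ht)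
          refine mem_normalizer_of_conj_mem (hUR.trans hRS) fun u hu => ?_
          have h2 := (mem_centralizerIn.1 h1).2 u (hUR hu)
          rw [show t * u * t⁻¹ = u by rw [← h2, mul_inv_cancel_right]]
          exact hu
        set Q := T ⊔ U with hQ
        have hQS : Q ≤ S := sup_le (hTR.trans hR₀S) (hUR.trans hRS)
        have hQc : Nat.card Q = p ^ k := by
          rw [hQ, CfsgLib.Solvable.card_sup_of_disjoint hTU
            (le_bot_iff.1 ((inf_le_inf hTR hUR).trans hd.le)), hTc, hUc, ← pow_succ']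
          congr 1; omega
        have hQR₀ : Q ⊓ R₀ = T := by
          rw [hQ, sup_inf_eq hTU hTR, sup_eq_left]
          exact ((inf_le_inf_right R₀ hUR).trans (le_of_eq (by rw [inf_comm, hd]))).trans bot_le
        have hUT : U ≤ Subgroup.normalizer (T : Set Ω) := fun u hu => by
          have h1 := le_centralizer_of_disjoint hRS hR₀S (stronglyClosed_normal_in_S hR.1)
            (stronglyClosed_normal_in_S hR₀.1) (inf_comm R₀ R ▸ hd) (hUR hu)
          refine mem_normalizer_of_conj_mem (hTR.trans hR₀S) fun t ht => ?_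
          have h2 := (mem_centralizerIn.1 h1).2 t (hTR ht)
          rw [show u * t * u⁻¹ = t by rw [← h2, mul_inv_cancel_right]]
          exact ht
        have hQR : Q ⊓ R = U := by
          rw [hQ, sup_comm, sup_inf_eq hUT hUR, sup_eq_left]
          exact ((inf_le_inf_right R hTR).trans hd.le).trans bot_le
        have hT0 : T ≠ ⊥ := fun h => by
          rw [h, Subgroup.card_bot] at hTc; exact hp.ne_one hTc.symm
        have hU0 : U ≠ ⊥ := fun h => by
          rw [h, Subgroup.card_bot] at hUc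
          exact (Nat.one_lt_pow (by omega : k - 1 ≠ 0) hp.one_lt).ne hUc
        have hTne : T ≠ R₀ := fun h => by rw [h] at hTc; omega
        have hUne : U ≠ R := fun h => by
          rw [h, hRc] at hUc
          exact (Nat.pow_lt_pow_right hp.one_lt (by omega : k - 1 < k)).ne' hUc
        obtain ⟨P, hP, hQP, hQiP⟩ := hemb Q hQS hQc
        have hP0 : ∀ {X : Subgroup Ω} (V : Subgroup Ω), IsMinSC F X → Q ⊓ X = V → V ≠ ⊥ → V ≠ X →
            P ⊓ X = ⊥ := by
          intro X V hX hV hV0 hVX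
          by_contra h
          have hle : X ≤ P := (hX.2.2 _ (stronglyClosed_inf hP hX.1) inf_le_right h).ge.trans
            inf_le_left
          have h3 := stronglyClosed_inf hQiP hX.1
          rw [inf_assoc, inf_eq_right.2 hle, hV] at h3
          exact hVX (hX.2.2 _ h3 (hV ▸ inf_le_right) hV0)
        have hP1 := hP0 T hR₀ hQR₀ hT0 hTne
        have hP2 := hP0 U hR hQR hU0 hUne
        have hKsc : F.StronglyClosed (R₀ ⊔ R) := Cfsg.Agent.S5128.result p hS F hF _ _ hR₀.1 hR.1
        have hPK : P ⊓ (R₀ ⊔ R) = ⊥ := by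
          by_contra h
          obtain ⟨X, hX, hXle⟩ := exists_minSC (stronglyClosed_inf hP hKsc) h
          have hc : Nat.card (P ⊓ (R₀ ⊔ R) : Subgroup Ω) ≤ Nat.card R₀ := by
            have h1 := CfsgLib.Solvable.card_sup_of_disjoint
              (A := P ⊓ (R₀ ⊔ R)) (K := R) ((inf_le_left.trans hP.1).trans
                (stronglyClosed_normal_in_S hR.1))
              (le_bot_iff.1 ((inf_le_inf_right R inf_le_left).trans hP2.le))
            have h2 := card_le_of_le hKsc.1 (sup_le inf_le_right le_sup_right :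
              (P ⊓ (R₀ ⊔ R)) ⊔ R ≤ R₀ ⊔ R)
            rw [h1, CfsgLib.Solvable.card_sup_of_disjoint
              (hR₀S.trans (stronglyClosed_normal_in_S hR.1)) hd] at h2
            exact Nat.le_of_mul_le_mul_right h2 (hRc ▸ pow_pos hp.pos k)
          have hXlt : Nat.card X < p ^ k := lt_of_le_of_lt
            ((card_le_of_le (inf_le_left.trans hP.1) hXle).trans hc) hlt₀
          have hXe := (huniq X hX hXlt).trans hR₀e.symm
          exact hR₀.2.1 (le_bot_iff.1 ((le_inf ((hXe ▸ hXle).trans inf_le_left) le_rfl).trans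
            hP1.le))
        have hQK : Q ≤ R₀ ⊔ R := sup_le_sup hTR hUR
        have h7 := stronglyClosed_inf hQP hKsc
        rw [sup_inf_eq (hQS.trans (stronglyClosed_normal_in_S hP)) hQK, hPK, sup_bot_eq] at h7
        have h8 := stronglyClosed_inf h7 hR₀.1
        rw [hQR₀] at h8
        exact hTne (hR₀.2.2 _ h8 hTR hT0)
      -- `R₀ ≤ Φ(S)`
      refine hhyp (hyperfocal_eq_bot_of_le_frattini p hS hF ?_)
      rw [← hR₀e]
      intro r hr
      refine ⟨⟨r, hR₀S hr⟩, ?_, rfl⟩
      show (⟨r, hR₀S hr⟩ : S) ∈ frattini S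
      suffices hle : R₀.subgroupOf S ≤ frattini S from hle (Subgroup.mem_subgroupOf.2 hr)
      refine le_iInf₂ fun M hM => ?_
      by_contra hRM
      set M' := M.map S.subtype with hM'
      have hM'S : M' ≤ S := Subgroup.map_subtype_le M
      have hM'R : ¬ R₀ ≤ M' := fun h => hRM fun x hx => by
        obtain ⟨y, hy, e⟩ := h (Subgroup.mem_subgroupOf.1 hx)
        rwa [← Subtype.ext e]
      set T := M' ⊓ R₀ with hT
      have hidx := CfsgLib.PGroupBasic.coatom_normal_index hS hM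
      obtain ⟨n, hn⟩ := hS.exists_card_eq
      have hkn : k < n := by rwa [hn, Nat.pow_lt_pow_iff_right hp.one_lt] at hkS
      have hMc : Nat.card M' * p = p ^ n := by
        rw [← hn, hM', ← Nat.card_congr (M.equivMapOfInjective _ S.subtype_injective).toEquiv,
          ← Subgroup.card_mul_index M, hidx.2]
      have hMk : p ^ k ≤ Nat.card M' := by
        refine Nat.le_of_mul_le_mul_right ?_ hp.pos
        rw [hMc, ← pow_succ]
        exact Nat.pow_le_pow_right hp.pos hkn
      have hT0 : T ≠ ⊥ := fun h => by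
        have h1 := CfsgLib.Solvable.card_sup_of_disjoint
          (A := M') (K := R₀) (hM'S.trans (stronglyClosed_normal_in_S hR₀.1)) h
        have h2 := card_le_of_le le_rfl (sup_le hM'S hR₀S : M' ⊔ R₀ ≤ S)
        rw [h1, hn, ← hMc] at h2
        have h3 := Nat.le_of_mul_le_mul_left h2 (lt_of_lt_of_le (pow_pos hp.pos k) hMk)
        omega
      have hTR : T ≠ R₀ := fun h => hM'R (h ▸ inf_le_left)
      have hTc : Nat.card T ≤ p ^ k := (card_le_of_le hR₀S inf_le_right).trans hlt₀.le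
      obtain ⟨Q, hTQ, hQM, hQc⟩ := exists_between p hS (inf_le_left : T ≤ M') hM'S hTc hMk
      have hQR : Q ⊓ R₀ = T := le_antisymm (inf_le_inf_right R₀ hQM) (le_inf hTQ inf_le_right)
      obtain ⟨P, hP, hQP, hQiP⟩ := hemb Q (hQM.trans hM'S) hQc
      have hcont : ∀ X, F.StronglyClosed X → X ≠ ⊥ → R₀ ≤ X := fun X hX hX0 => by
        obtain ⟨Y, hY, hYX⟩ := exists_minSC hX hX0
        exact hall Y hY ▸ hYX
      by_cases hP0 : P = ⊥
      · rw [hP0, sup_bot_eq] at hQP
        have hQ0 : Q ≠ ⊥ := fun h => by rw [h, bot_inf_eq] at hQR; exact hT0 hQR.symm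
        exact hTR (by rw [← hQR]; exact inf_eq_right.2 (hcont Q hQP hQ0))
      · have h3 := stronglyClosed_inf hQiP hR₀.1
        rw [inf_assoc, inf_eq_right.2 (hcont P hP hP0), hQR] at h3
        exact hTR (hR₀.2.2 _ h3 inf_le_right hT0)

end WeakEmb

end CfsgLib.Fusion
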