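import Cfsg.Agent.Fusion.InnerThompson

/-!
Sparse fusion systems are constrained (odd prime, or `S₄`-free).
-/

set_option autoImplicit false

open Cfsg Cfsg.FusionSystem

namespace CfsgLib.Fusion

universe u

variable {Ω : Type u} [Group Ω] {S : Subgroup Ω} [Finite S] {F : FusionSystem S}

/-- For a sparse system a subgroup normal in `S` has inner normalizer system or is normal. -/
theorem innerAt_or_normal_of_sparse (p : ℕ) [Fact p.Prime] (hS : IsPGroup p S) (hF : F.IsSaturated p)
    (hsp : ∀ E : FusionSystem S, E.IsSaturated p → E.IsSubsystemOf F →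
      (∀ P, E.Hom P = F.Hom P) ∨ ∀ P, E.Hom P = (innerFusionSystem S).Hom P)
    {Q : Subgroup Ω} (hQ : Q ≤ S) (hQn : S ≤ Subgroup.normalizer (Q : Set Ω)) :
    InnerAt F Q ∨ F.IsNormal Q := by
  obtain ⟨E, hE, hEs, -, hEn, hEF, -⟩ :=
    exists_normSystem_eq p hS hF (fun {_} _ => True) hQ hQn fun _ _ => trivial
  rcases hsp E hEs hEF with h | h
  · refine Or.inr ⟨hQ, fun P φ hφ => ?_⟩
    obtain ⟨ψ, hψ, h1, h2⟩ := hEn.2 P φ (h P ▸ hφ)
    exact ⟨ψ, hEF _ hψ, h1, h2⟩
  · refine Or.inl fun P φ hφ => ?_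
    rw [← hE, h] at hφ
    obtain ⟨-, g, hg, hgx⟩ := hφ
    exact ⟨g, ⟨hg, hQn hg⟩, hgx⟩

/-- A sparse system is constrained, for `p` odd or `S₄`-free systems. -/
theorem isConstrained_of_sparse (p : ℕ) [Fact p.Prime] (hS : IsPGroup p S) (hF : F.IsSaturated p)
    (hne : ¬ ∀ P, F.Hom P = (innerFusionSystem S).Hom P)
    (hsp : ∀ E : FusionSystem S, E.IsSaturated p → E.IsSubsystemOf F →
      (∀ P, E.Hom P = F.Hom P) ∨ ∀ P, E.Hom P = (innerFusionSystem S).Hom P)
    (hp : p ≠ 2 ∨ F.IsSectionFree p (Equiv.Perm (Fin 4))) : F.IsConstrained p := by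
  by_contra hcon
  have hninn : ¬ IsInner F := fun h => hne (isInner_iff.1 h)
  have halt := fun {Q : Subgroup Ω} => innerAt_or_normal_of_sparse p hS hF hsp (Q := Q)
  have hQ : F.IsNormal F.core := isNormal_core
  have hQn : S ≤ Subgroup.normalizer (F.core : Set Ω) := normal_S_le_normalizer hQ
  have hc : ¬ centralizerIn S F.core ≤ F.core := fun h => hcon ⟨hF, F.core, hQ, core_le_S,
    fun R hR => by
      obtain ⟨φ, hφ, rfl⟩ := hR
      rwa [(weaklyClosed_of_stronglyClosed (stronglyClosed_of_isNormal hQ)).2 φ hφ]⟩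
  have hSne : S ≠ ⊥ := fun h => hc
    ((centralizerIn_le_S _).trans (h.le.trans bot_le))
  -- some characteristic subgroup is normal in the system
  have hQ1 : F.core ≠ ⊥ := by
    intro h0
    apply hninn
    obtain ⟨hC, hJ⟩ := thompsonLoc_of_char (F := F) p hS hSne fun C hCchar hC1 =>
      (halt hCchar.1 hCchar.le_normalizer).resolve_right fun hn => hC1
        (le_bot_iff.1 (h0 ▸ le_core hn))
    exact isInner_of_thompson p hS hF hp hC hJ
  apply hninn
  intro P φ hφ
  obtain ⟨ψ, hψ, he, hm⟩ := hQ.2 P φ hφ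
  have hinn : InnerAt F F.core := by
    refine innerAt_step p (criterionThompson p)
      (fun S' E hfin hS' hcard hE hfree hloc => isInner_of_criterion p (criterionThompson p) _ S' E
        hfin hS' rfl hE hfree hloc) hS hF hp core_le_S hQ1 hQn (fun h => absurd h hc) ?_ ?_
    · intro a ha _
      refine aut_S_inner p hS hF ?_ ha
      by_contra hpg
      rcases halt (Q := S) le_rfl Subgroup.le_normalizer with h | h
      · refine hpg ((isPGroup_autInducedBy hS S).to_le fun b hb => ?_)
        have hsub : S ⊔ S ≤ S := sup_le le_rfl le_rfl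
        obtain ⟨g, hg, hgx⟩ := h S (S.subtype.comp b.toMonoidHom)
          ⟨(autGroup_carrier le_rfl).1 hb, normalizerIn_self.ge,
            fun x => normalizerIn_self.ge (b x).2,
            (S.subtype.comp b.toMonoidHom).comp (Subgroup.inclusion hsub),
            restrict_mem ((autGroup_carrier le_rfl).1 hb) hsub, fun x => rfl, by
              rw [map_subgroupOf_congr (ψ := (S.subtype.comp b.toMonoidHom).comp
                (Subgroup.inclusion hsub)) (χ := S.subtype.comp b.toMonoidHom) le_sup_right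
                le_rfl fun _ _ => rfl, map_subgroupOf_self, range_subtype_comp]⟩
        exact mem_autInducedBy.2 ⟨g, normalizerIn_le_S S hg, hgx⟩
      · exact hc ((centralizerIn_le_S _).trans (le_core h))
    · intro X hX hXS hstab
      refine (halt hXS fun g hg => ?_).resolve_right fun h => hX.not_ge (le_core h)
      refine mem_normalizer_of_conj_mem hXS fun x hx => ?_
      exact (hstab (MulAut.conj ⟨g, hg⟩)
        (fun y => ((Subgroup.mem_normalizer_iff.1 (hQn hg)) y).symm) ⟨x, hXS hx⟩).2 hx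
  obtain ⟨g, hg, hgx⟩ := hinn P φ ⟨hφ, le_inf (le_of_mem_hom hφ) ((le_of_mem_hom hφ).trans hQn),
    fun x => ⟨apply_mem_S hφ x, hQn (apply_mem_S hφ x)⟩, ψ, hψ, he, hm⟩
  exact ⟨g, normalizerIn_le_S _ hg, hgx⟩

end CfsgLib.Fusion
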