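import Cfsg.Agent.Fusion.Saturation
import Cfsg.Agent.Fusion.Centric
import Mathlib.GroupTheory.GroupAction.Quotient

/-!
A stable virtual biset of a saturated fusion system: an integral combination of transitive
`S × S`-sets with graphs of maps as stabilizers, whose marks do not change under fusion in the
first coordinate and whose degree is prime to `p`.
-/

set_option autoImplicit false
set_option linter.unusedSectionVars false
set_option linter.style.haveILetI false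

open Cfsg Cfsg.FusionSystem

namespace CfsgLib.Fusion

universe u

/-! ### Marks -/

section Marks

variable {G : Type u} [Group G] [Finite G]

/-- The number of cosets of `H` fixed by `K`. -/
noncomputable def fixCount (H K : Subgroup G) : ℕ :=
  Nat.card {q : G ⧸ H // ∀ k ∈ K, k • q = q}

theorem smul_mk_eq_iff {H : Subgroup G} {k g : G} :
    k • (g : G ⧸ H) = (g : G ⧸ H) ↔ g⁻¹ * k * g ∈ H := by
  have h : k • (g : G ⧸ H) = ((k * g : G) : G ⧸ H) := rfl
  rw [h, eq_comm, QuotientGroup.eq, mul_assoc]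

theorem exists_conj_of_fixCount_ne {H K : Subgroup G} (h : fixCount H K ≠ 0) :
    ∃ g : G, K.map (MulAut.conj g).toMonoidHom ≤ H := by
  have : Nonempty {q : G ⧸ H // ∀ k ∈ K, k • q = q} := (Nat.card_ne_zero.1 h).1
  obtain ⟨q, hq⟩ := this
  obtain ⟨g, rfl⟩ := QuotientGroup.mk_surjective q
  refine ⟨g⁻¹, ?_⟩
  rintro _ ⟨k, hk, rfl⟩
  simpa using smul_mk_eq_iff.1 (hq k hk)

theorem fixCount_conj_right (H K : Subgroup G) (g : G) :
    fixCount H (K.map (MulAut.conj g).toMonoidHom) = fixCount H K := by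
  refine Nat.card_congr ⟨fun q => ⟨g⁻¹ • q.1, fun k hk => ?_⟩, fun q => ⟨g • q.1, ?_⟩,
    fun q => Subtype.ext (smul_inv_smul g q.1), fun q => Subtype.ext (inv_smul_smul g q.1)⟩
  · have h := q.2 (g * k * g⁻¹) ⟨k, hk, rfl⟩
    rw [smul_smul, show k * g⁻¹ = g⁻¹ * (g * k * g⁻¹) by group, ← smul_smul, h]
  · rintro _ ⟨k, hk, rfl⟩
    show (g * k * g⁻¹) • g • q.1 = g • q.1
    rw [smul_smul, inv_mul_cancel_right, ← smul_smul, q.2 k hk]

theorem fixCount_map (e : MulAut G) (H K : Subgroup G) :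
    fixCount (H.map e.toMonoidHom) (K.map e.toMonoidHom) = fixCount H K := by
  let f : G ⧸ H ≃ G ⧸ H.map e.toMonoidHom :=
    { toFun := Quotient.map' e fun a b h => by
        rw [QuotientGroup.leftRel_apply] at h ⊢
        exact ⟨_, h, by simp⟩
      invFun := Quotient.map' e.symm fun a b h => by
        rw [QuotientGroup.leftRel_apply] at h ⊢
        obtain ⟨c, hc, hce⟩ := h
        have : (e.symm a)⁻¹ * e.symm b = c := by
          rw [← map_inv, ← map_mul, ← hce]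
          simp
        rw [this]
        exact hc
      left_inv := fun q => by
        obtain ⟨g, rfl⟩ := QuotientGroup.mk_surjective q
        exact congrArg QuotientGroup.mk (e.symm_apply_apply g)
      right_inv := fun q => by
        obtain ⟨g, rfl⟩ := QuotientGroup.mk_surjective q
        exact congrArg QuotientGroup.mk (e.apply_symm_apply g) }
  have key : ∀ (k : G) (q : G ⧸ H), e k • f q = f (k • q) := by
    intro k q
    obtain ⟨g, rfl⟩ := QuotientGroup.mk_surjective q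
    show ((e k * e g : G) : G ⧸ H.map e.toMonoidHom) = ((e (k * g) : G) : G ⧸ H.map e.toMonoidHom)
    rw [map_mul]
  refine (Nat.card_congr (f.subtypeEquiv fun q => ?_)).symm
  constructor
  · rintro h _ ⟨k, hk, rfl⟩
    exact (key k q).trans (congrArg f (h k hk))
  · intro h k hk
    exact f.injective ((key k q).symm.trans (h (e k) ⟨k, hk, rfl⟩))

theorem fixCount_self_mul (H : Subgroup G) :
    fixCount H H * Nat.card H = Nat.card (Subgroup.normalizer (H : Set G)) := by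
  rw [fixCount, mul_comm, ← Nat.card_prod]
  refine Nat.card_congr
    ((QuotientGroup.preimageMkEquivSubgroupProdSet H {q : G ⧸ H | ∀ k ∈ H, k • q = q}).symm.trans
      (Equiv.subtypeEquivRight fun g => ?_))
  show (∀ k ∈ H, k • (g : G ⧸ H) = (g : G ⧸ H)) ↔ g ∈ Subgroup.normalizer (H : Set G)
  simp only [smul_mk_eq_iff]
  rw [← Subgroup.inv_mem_iff]
  constructor
  · intro h
    refine Subgroup.mem_normalizer_iff_map_conj_eq.2
      (Subgroup.eq_of_le_of_card_ge ?_ (Nat.card_congr (H.equivMapOfInjective _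
        (MulAut.conj g⁻¹).injective).toEquiv).le)
    rintro _ ⟨k, hk, rfl⟩
    simpa using h k hk
  · intro h k hk
    simpa using (Subgroup.mem_normalizer_iff.1 h k).1 hk

theorem fixCount_self_ne_zero (H : Subgroup G) : fixCount H H ≠ 0 := by
  refine Nat.card_ne_zero.2 ⟨⟨⟨((1 : G) : G ⧸ H), fun k hk => ?_⟩⟩, inferInstance⟩
  rw [smul_mk_eq_iff]
  simpa using hk

/-- The marks of a virtual set given by coefficients. -/
noncomputable def mark (c : Subgroup G → ℤ) (K : Subgroup G) : ℤ :=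
  ∑ᶠ H : Subgroup G, c H * fixCount H K

theorem mark_add (c d : Subgroup G → ℤ) (K : Subgroup G) :
    mark (c + d) K = mark c K + mark d K := by
  have : Finite (Subgroup G) := inferInstance
  simp only [mark, Pi.add_apply, add_mul]
  exact finsum_add_distrib (Set.toFinite _) (Set.toFinite _)

open Classical in
theorem mark_single (H K : Subgroup G) (k : ℤ) :
    mark (fun H' => if H' = H then k else 0) K = k * fixCount H K := by
  rw [mark, finsum_eq_single _ H fun H' h => by rw [if_neg h, zero_mul]]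
  rw [if_pos rfl]

theorem mark_conj (c : Subgroup G → ℤ) (K : Subgroup G) (g : G) :
    mark c (K.map (MulAut.conj g).toMonoidHom) = mark c K := by
  simp only [mark, fixCount_conj_right]

theorem mark_eq_zero {c : Subgroup G → ℤ} {K : Subgroup G}
    (h : ∀ H, c H ≠ 0 → fixCount H K = 0) : mark c K = 0 := by
  refine finsum_eq_zero_of_forall_eq_zero fun H => ?_
  by_cases hc : c H = 0
  · rw [hc, zero_mul]
  · rw [h H hc]; simp

/-- The orbit count: the order of a group acting on fixed points divides a sum of marks. -/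
theorem card_dvd_sum_mark {L : Type u} [Group L] [Fintype L] (e : L →* G) (K₀ : Subgroup L)
    [K₀.Normal] (c : Subgroup G → ℤ) :
    (Nat.card L : ℤ) ∣ ∑ l : L, mark c ((K₀ ⊔ Subgroup.zpowers l).map e) := by
  classical
  have : Fintype (Subgroup G) := Fintype.ofFinite _
  simp only [mark, finsum_eq_sum_of_fintype]
  rw [Finset.sum_comm]
  refine Finset.dvd_sum fun H _ => ?_
  rw [← Finset.mul_sum]
  refine Dvd.dvd.mul_left ?_ _
  rw [← Nat.cast_sum, Int.natCast_dvd_natCast]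
  let Y := {q : G ⧸ H // ∀ k ∈ K₀, e k • q = q}
  let act : MulAction L Y :=
    { smul := fun l q => ⟨e l • q.1, fun k hk => by
        have h := q.2 (l⁻¹ * k * l) (by simpa using ‹K₀.Normal›.conj_mem k hk l⁻¹)
        rw [map_mul, map_mul, map_inv] at h
        rw [smul_smul, show e k * e l = e l * ((e l)⁻¹ * e k * e l) by group, ← smul_smul, h]⟩
      one_smul := fun q => Subtype.ext (show e 1 • q.1 = q.1 by rw [map_one, one_smul])
      mul_smul := fun a b q => Subtype.ext (show e (a * b) • q.1 = e a • e b • q.1 by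
        rw [map_mul, mul_smul]) }
  have : Fintype Y := Fintype.ofFinite _
  have key : ∀ l : L,
      fixCount H ((K₀ ⊔ Subgroup.zpowers l).map e) = Fintype.card (MulAction.fixedBy Y l) := by
    intro l
    rw [Fintype.card_eq_nat_card, fixCount]
    refine Nat.card_congr
      ⟨fun q => ⟨⟨q.1, fun k hk => q.2 _ ⟨k, Subgroup.mem_sup_left hk, rfl⟩⟩,
          Subtype.ext (q.2 _ ⟨l, Subgroup.mem_sup_right (Subgroup.mem_zpowers l), rfl⟩)⟩,
        fun q => ⟨q.1.1, ?_⟩, fun q => rfl, fun q => rfl⟩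
    have hle : K₀ ⊔ Subgroup.zpowers l ≤ (MulAction.stabilizer G q.1.1).comap e := by
      refine sup_le (fun k hk => q.1.2 k hk) (Subgroup.zpowers_le.2 ?_)
      exact congrArg Subtype.val q.2
    rintro _ ⟨k, hk, rfl⟩
    exact hle hk
  simp only [key]
  rw [MulAction.sum_card_fixedBy_eq_card_orbits_mul_card_group, Nat.card_eq_fintype_card]
  exact dvd_mul_left _ _

end Marks

/-! ### Graphs -/

variable {Ω : Type u} [Group Ω] {S : Subgroup Ω} [Finite S] (F : FusionSystem S)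

/-- `H` is the graph of the map `η` on `R`, read from the second coordinate to the first. -/
def IsGraphOf (H : Subgroup (S × S)) (R : Subgroup Ω) (η : R →* Ω) : Prop :=
  ∀ w : S × S, w ∈ H ↔ ∃ h : (w.2 : Ω) ∈ R, η ⟨w.2, h⟩ = w.1

/-- The graphs of maps of the system. -/
def IsGraph (H : Subgroup (S × S)) : Prop :=
  ∃ (R : Subgroup Ω) (η : R →* Ω), η ∈ F.Hom R ∧ IsGraphOf H R η

/-- The domain of a graph. -/
def graphDom (H : Subgroup (S × S)) : Subgroup Ω :=
  (H.map (MonoidHom.snd S S)).map S.subtype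

variable {F}

theorem IsGraphOf.dom {H : Subgroup (S × S)} {R : Subgroup Ω} {η : R →* Ω}
    (h : IsGraphOf H R η) (hη : η ∈ F.Hom R) : graphDom H = R := by
  ext x
  constructor
  · rintro ⟨_, ⟨w, hw, rfl⟩, rfl⟩
    exact ((h w).1 hw).1
  · intro hx
    exact ⟨⟨x, le_of_mem_hom hη hx⟩,
      ⟨(⟨η ⟨x, hx⟩, apply_mem_S hη _⟩, ⟨x, le_of_mem_hom hη hx⟩), (h _).2 ⟨hx, rfl⟩, rfl⟩, rfl⟩

theorem exists_isGraphOf {R : Subgroup Ω} {η : R →* Ω} (hη : η ∈ F.Hom R) :
    ∃ H : Subgroup (S × S), IsGraphOf H R η := by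
  refine ⟨((η.codRestrict S (apply_mem_S hη)).prod (Subgroup.inclusion (le_of_mem_hom hη))).range,
    fun w => ⟨?_, ?_⟩⟩
  · rintro ⟨x, rfl⟩
    exact ⟨x.2, rfl⟩
  · rintro ⟨h, he⟩
    exact ⟨⟨w.2, h⟩, Prod.ext (Subtype.ext he) (Subtype.ext rfl)⟩

theorem IsGraphOf.unique {H H' : Subgroup (S × S)} {R : Subgroup Ω} {η : R →* Ω}
    (h : IsGraphOf H R η) (h' : IsGraphOf H' R η) : H = H' :=
  Subgroup.ext fun w => (h w).trans (h' w).symm

theorem IsGraphOf.card_eq {H : Subgroup (S × S)} {R : Subgroup Ω} {η : R →* Ω}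
    (h : IsGraphOf H R η) (hη : η ∈ F.Hom R) : Nat.card H = Nat.card R := by
  refine Nat.card_congr
    ⟨fun w => ⟨w.1.2, ((h w.1).1 w.2).1⟩,
      fun x => ⟨(⟨η x, apply_mem_S hη x⟩, ⟨x, le_of_mem_hom hη x.2⟩), (h _).2 ⟨x.2, rfl⟩⟩,
      fun w => ?_, fun x => rfl⟩
  obtain ⟨hw, he⟩ := (h w.1).1 w.2
  exact Subtype.ext (Prod.ext (Subtype.ext he) rfl)

theorem IsGraph.card_eq {H : Subgroup (S × S)} (h : IsGraph F H) :
    Nat.card (graphDom H) = Nat.card H := by
  obtain ⟨R, η, hη, hg⟩ := h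
  rw [hg.dom hη, hg.card_eq hη]

theorem IsGraph.of_le {H M : Subgroup (S × S)} (h : IsGraph F H) (hM : M ≤ H) : IsGraph F M := by
  obtain ⟨R, η, hη, hg⟩ := h
  have hle : graphDom M ≤ R := by
    rintro _ ⟨_, ⟨w, hw, rfl⟩, rfl⟩
    exact ((hg w).1 (hM hw)).1
  refine ⟨graphDom M, η.comp (Subgroup.inclusion hle), restrict_mem hη hle,
    fun w => ⟨fun hw => ?_, ?_⟩⟩
  · obtain ⟨hR, he⟩ := (hg w).1 (hM hw)
    exact ⟨⟨w.2, ⟨w, hw, rfl⟩, rfl⟩, he⟩
  · rintro ⟨⟨_, ⟨w', hw', rfl⟩, hw2⟩, he⟩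
    obtain ⟨hR, he'⟩ := (hg w').1 (hM hw')
    have : w = w' := Prod.ext (Subtype.ext (he.symm.trans ((apply_congr η hw2.symm).trans he')))
      (Subtype.ext hw2.symm)
    exact this ▸ hw'

theorem IsGraphOf.conj {H : Subgroup (S × S)} {R : Subgroup Ω} {η : R →* Ω}
    (h : IsGraphOf H R η) (hη : η ∈ F.Hom R) (g : S × S) :
    ∃ η' ∈ F.Hom (R.map (MulAut.conj (g.2 : Ω)).toMonoidHom),
      IsGraphOf (H.map (MulAut.conj g).toMonoidHom) (R.map (MulAut.conj (g.2 : Ω)).toMonoidHom)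
        η' := by
  have hR : R.map (MulAut.conj (g.2 : Ω)).toMonoidHom ≤ S := by
    rintro _ ⟨x, hx, rfl⟩
    exact mul_mem (mul_mem g.2.2 (le_of_mem_hom hη hx)) (inv_mem g.2.2)
  set R' := R.map (MulAut.conj (g.2 : Ω)).toMonoidHom with hR'
  have hin : ∀ x : R', conjHom R' (g.2 : Ω)⁻¹ x ∈ R := by
    rintro ⟨_, x, hx, rfl⟩
    show (g.2 : Ω)⁻¹ * ((g.2 : Ω) * x * (g.2 : Ω)⁻¹) * ((g.2 : Ω)⁻¹)⁻¹ ∈ R
    rwa [inv_inv, mul_assoc, inv_mul_cancel_right, inv_mul_cancel_left]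
  let η₁ : R' →* Ω := η.comp ((conjHom R' (g.2 : Ω)⁻¹).codRestrict R hin)
  have hη₁ : η₁ ∈ F.Hom R' := F.comp_mem (F.conj_mem hR (inv_mem g.2.2)) hη hin
  let η₂ : R' →* Ω := (conjHom S (g.1 : Ω)).comp (η₁.codRestrict S (apply_mem_S hη₁))
  refine ⟨η₂, F.comp_mem hη₁ (F.conj_mem le_rfl g.1.2) _, fun w => ⟨?_, ?_⟩⟩
  · rintro ⟨v, hv, rfl⟩
    obtain ⟨hvR, he⟩ := (h v).1 hv
    refine ⟨⟨v.2, hvR, rfl⟩, ?_⟩
    show (g.1 : Ω) * η ⟨_, _⟩ * (g.1 : Ω)⁻¹ = (g.1 : Ω) * (v.1 : Ω) * (g.1 : Ω)⁻¹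
    rw [← he]
    congr 2
    refine apply_congr η ?_
    show (g.2 : Ω)⁻¹ * ((g.2 : Ω) * (v.2 : Ω) * (g.2 : Ω)⁻¹) * ((g.2 : Ω)⁻¹)⁻¹ = (v.2 : Ω)
    group
  · rintro ⟨hw, he⟩
    refine ⟨g⁻¹ * w * g, (h _).2 ⟨?_, ?_⟩, ?_⟩
    · have := hin ⟨_, hw⟩
      change (g.2 : Ω)⁻¹ * (w.2 : Ω) * ((g.2 : Ω)⁻¹)⁻¹ ∈ R at this
      rwa [inv_inv] at this
    · show η ⟨(g.2 : Ω)⁻¹ * (w.2 : Ω) * (g.2 : Ω), _⟩ = (g.1 : Ω)⁻¹ * (w.1 : Ω) * (g.1 : Ω)
      rw [← he]
      show _ = (g.1 : Ω)⁻¹ * ((g.1 : Ω) * η ⟨_, _⟩ * (g.1 : Ω)⁻¹) * (g.1 : Ω)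
      rw [mul_assoc (g.1 : Ω) , inv_mul_cancel_left, inv_mul_cancel_right]
      refine apply_congr η ?_
      show (g.2 : Ω)⁻¹ * (w.2 : Ω) * (g.2 : Ω) = (g.2 : Ω)⁻¹ * (w.2 : Ω) * ((g.2 : Ω)⁻¹)⁻¹
      rw [inv_inv]
    · show g * (g⁻¹ * w * g) * g⁻¹ = w
      group

theorem IsGraph.conj {H : Subgroup (S × S)} (h : IsGraph F H) (g : S × S) :
    IsGraph F (H.map (MulAut.conj g).toMonoidHom) := by
  obtain ⟨R, η, hη, hg⟩ := h
  obtain ⟨η', hη', hg'⟩ := hg.conj hη g
  exact ⟨_, η', hη', hg'⟩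

theorem IsGraph.of_fixCount {H K : Subgroup (S × S)} (h : IsGraph F H) (hK : fixCount H K ≠ 0) :
    IsGraph F K := by
  obtain ⟨g, hg⟩ := exists_conj_of_fixCount_ne hK
  have h1 := (h.of_le hg).conj g⁻¹
  rwa [Subgroup.map_map, show (MulAut.conj g⁻¹).toMonoidHom.comp (MulAut.conj g).toMonoidHom =
    MonoidHom.id _ from MonoidHom.ext fun x => by simp [mul_assoc], Subgroup.map_id] at h1

theorem mark_eq_zero_of_not_graph {c : Subgroup (S × S) → ℤ}
    (hsupp : ∀ H, c H ≠ 0 → IsGraph F H) {K : Subgroup (S × S)} (hK : ¬ IsGraph F K) :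
    mark c K = 0 :=
  mark_eq_zero fun H hH => by
    by_contra h
    exact hK ((hsupp H hH).of_fixCount h)

/-- The marks of the graphs with domain of order at least `n` depend on the domain only. -/
def StableFrom (F : FusionSystem S) (c : Subgroup (S × S) → ℤ) (n : ℕ) : Prop :=
  ∀ (H H' : Subgroup (S × S)), IsGraph F H → IsGraph F H' → graphDom H = graphDom H' →
    n ≤ Nat.card (graphDom H) → mark c H = mark c H'

/-- Graphs with the same domain differ in marks by a multiple of the orbit length, if one of them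
has the largest normalizer. -/
theorem dvd_mark_sub {p : ℕ} [Fact p.Prime] (hS : IsPGroup p S) (hF : F.IsSaturated p)
    {R : Subgroup Ω} (hR : R ≤ S) :
    ∃ H₀ : Subgroup (S × S), IsGraph F H₀ ∧ graphDom H₀ = R ∧
      ∀ (c : Subgroup (S × S) → ℤ), (∀ H, c H ≠ 0 → IsGraph F H) →
        StableFrom F c (Nat.card R + 1) →
          ∀ H, IsGraph F H → graphDom H = R → (fixCount H H : ℤ) ∣ mark c H - mark c H₀ := by
  classical
  obtain ⟨Q, hQ, hQn⟩ := exists_fullyNormalized F hR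
  obtain ⟨hQa, hQr⟩ := good_of_fullyNormalized p hS hF hQn
  obtain ⟨χ, hχ, hχN, hχR⟩ := exists_map_normalizer p hS hQa hQr hQ
  have hRN := le_normalizerIn (S := S) hR
  have hη₀ : χ.comp (Subgroup.inclusion hRN) ∈ F.Hom R := restrict_mem hχ hRN
  obtain ⟨H₀, hH₀⟩ := exists_isGraphOf hη₀
  refine ⟨H₀, ⟨R, _, hη₀, hH₀⟩, hH₀.dom hη₀, fun c hsupp hst H hH hdom => ?_⟩
  obtain ⟨R', η, hη, hg⟩ := hH
  rw [hg.dom hη] at hdom
  subst hdom
  -- the map between the images
  set P := η.range with hP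
  obtain ⟨ηi, hηi, -, hηi1, hηi2⟩ := exists_inv hη hP.symm
  have hin : ∀ y : P, ηi y ∈ normalizerIn S R' := fun y => by
    obtain ⟨_, ⟨x, rfl⟩⟩ := y
    exact Set.mem_of_eq_of_mem (hηi1 x _) (hRN x.2)
  let ψ : P →* Ω := χ.comp (ηi.codRestrict _ hin)
  have hψ : ψ ∈ F.Hom P := F.comp_mem hηi hχ hin
  have hψη : ∀ (x : R') (hx : η x ∈ P), ψ ⟨η x, hx⟩ = χ (Subgroup.inclusion hRN x) := fun x hx =>
    apply_congr χ (hηi1 x hx)
  have hψr : ψ.range = Q := by
    refine le_antisymm ?_ fun y hy => ?_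
    · rintro _ ⟨⟨_, x, rfl⟩, rfl⟩
      exact Set.mem_of_eq_of_mem (hψη x ⟨x, rfl⟩) (hχR.le (apply_mem_map_subgroupOf χ x.2))
    · obtain ⟨x, hxN, hx, rfl⟩ := mem_map_subgroupOf.1 (hχR.ge hy)
      exact ⟨⟨η ⟨x, hx⟩, ⟨_, rfl⟩⟩, hψη ⟨x, hx⟩ _⟩
  set L := Subgroup.normalizer (H : Set (S × S)) with hL
  -- the facts about an element of the normalizer
  have hnorm : ∀ w ∈ L, ((w.2 : Ω) ∈ normalizerIn S R') ∧ ((w.1 : Ω) ∈ normalizerIn S P) ∧
      ∀ (x : R') (hx : (w.2 : Ω) * x * (w.2 : Ω)⁻¹ ∈ R'),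
        η ⟨_, hx⟩ = (w.1 : Ω) * η x * (w.1 : Ω)⁻¹ := by
    intro w hw
    have key : ∀ x : R', ∃ h : (w.2 : Ω) * x * (w.2 : Ω)⁻¹ ∈ R',
        η ⟨_, h⟩ = (w.1 : Ω) * η x * (w.1 : Ω)⁻¹ := by
      intro x
      exact (hg (w * (⟨η x, apply_mem_S hη x⟩, ⟨x, le_of_mem_hom hη x.2⟩) * w⁻¹)).1
        ((Subgroup.mem_normalizer_iff.1 hw _).1 ((hg _).2 ⟨x.2, rfl⟩))
    refine ⟨⟨w.2.2, mem_normalizer_of_conj_mem hR fun x hx => (key ⟨x, hx⟩).1⟩,
      ⟨w.1.2, mem_normalizer_of_conj_mem (range_le_S hη) ?_⟩,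
      fun x hx => (key x).2⟩
    rintro _ ⟨x, rfl⟩
    exact ⟨_, (key x).2⟩
  set U : Subgroup Ω := (L.map (MonoidHom.fst S S)).map S.subtype with hU
  have hUext : U ≤ extender S P ψ := by
    rintro _ ⟨_, ⟨w, hw, rfl⟩, rfl⟩
    obtain ⟨h2, h1, hconj⟩ := hnorm w hw
    refine mem_extender.2 ⟨h1.1, h1.2, χ ⟨w.2, h2⟩, apply_mem_S hχ _, fun y hy => ?_⟩
    obtain ⟨_, x, rfl⟩ := y
    have hx : (w.2 : Ω) * x * (w.2 : Ω)⁻¹ ∈ R' := (Subgroup.mem_normalizer_iff.1 h2.2 x).1 x.2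
    refine (apply_congr ψ (y := ⟨η ⟨_, hx⟩, ⟨_, rfl⟩⟩) (hconj x hx).symm).trans ?_
    refine (hψη ⟨_, hx⟩ _).trans ((apply_congr χ (y := ⟨w.2, h2⟩ * Subgroup.inclusion hRN x *
      (⟨w.2, h2⟩ : normalizerIn S R')⁻¹) rfl).trans ?_)
    rw [map_mul, map_mul, map_inv]
    exact congrArg (fun t => χ ⟨w.2, h2⟩ * t * (χ ⟨w.2, h2⟩)⁻¹) (hψη x ⟨x, rfl⟩).symm
  obtain ⟨Ψ, hΨ, hΨe⟩ := receptive_extend hQr hψ hψr hUext
  have hUmem : ∀ w : L, ((w : S × S).1 : Ω) ∈ U := fun w => ⟨_, ⟨w, w.2, rfl⟩, rfl⟩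
  let e : L →* S × S := MonoidHom.prod
    ((Ψ.codRestrict S (apply_mem_S hΨ)).comp
      (((S.subtype.comp (MonoidHom.fst S S)).comp L.subtype).codRestrict U hUmem))
    ((MonoidHom.snd S S).comp L.subtype)
  set K₀ := H.subgroupOf L with hK₀
  have hK₀n : K₀.Normal := Subgroup.normal_in_normalizer
  have hHL : H ≤ L := Subgroup.le_normalizer
  -- the value of `e` on the graph
  have heH : K₀.map e = H₀ := by
    ext w
    constructor
    · rintro ⟨v, hv, rfl⟩
      obtain ⟨hvR, hve⟩ := (hg v).1 hv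
      refine (hH₀ _).2 ⟨hvR, ?_⟩
      have hU' : η ⟨_, hvR⟩ ∈ U := Set.mem_of_eq_of_mem hve (hUmem v)
      exact (hψη ⟨_, hvR⟩ ⟨_, rfl⟩).symm.trans ((hΨe _ ⟨_, rfl⟩ hU').symm.trans
        (apply_congr Ψ (y := ⟨_, hUmem v⟩) hve))
    · intro hw
      obtain ⟨hwR, hwe⟩ := (hH₀ w).1 hw
      have hv : ((⟨η ⟨_, hwR⟩, apply_mem_S hη _⟩, w.2) : S × S) ∈ H := (hg _).2 ⟨hwR, rfl⟩
      refine ⟨⟨_, hHL hv⟩, hv, Prod.ext (Subtype.ext ?_) rfl⟩
      exact ((hΨe _ ⟨_, rfl⟩ _).trans (hψη ⟨_, hwR⟩ _)).trans hwe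
  have : Fintype L := Fintype.ofFinite _
  have d1 := card_dvd_sum_mark L.subtype K₀ c
  have d2 := card_dvd_sum_mark e K₀ c
  -- the terms outside `H` agree
  have hterm : ∀ l : L, l ∉ K₀ → mark c ((K₀ ⊔ Subgroup.zpowers l).map L.subtype) =
      mark c ((K₀ ⊔ Subgroup.zpowers l).map e) := by
    intro l hl
    set M := K₀ ⊔ Subgroup.zpowers l with hM
    by_cases hgM : IsGraph F (M.map L.subtype)
    · have hlt : H < M.map L.subtype := by
        refine lt_of_le_not_ge ?_ fun hle => hl (hle ⟨l, Subgroup.mem_sup_right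
          (Subgroup.mem_zpowers l), rfl⟩)
        intro w hw
        exact ⟨⟨w, hHL hw⟩, Subgroup.mem_sup_left hw, rfl⟩
      obtain ⟨R₂, η₂, hη₂, hg₂⟩ := hgM
      have hη₂U : ∀ x, η₂ x ∈ U := fun x => by
        obtain ⟨v, hv, hve⟩ := (hg₂ (⟨η₂ x, apply_mem_S hη₂ x⟩, ⟨x, le_of_mem_hom hη₂ x.2⟩)).2
          ⟨x.2, rfl⟩
        exact ⟨⟨η₂ x, apply_mem_S hη₂ x⟩, ⟨v, v.2, congrArg Prod.fst hve⟩, rfl⟩
      have hη₃ : Ψ.comp (η₂.codRestrict U hη₂U) ∈ F.Hom R₂ := F.comp_mem hη₂ hΨ _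
      have hg₃ : IsGraphOf (M.map e) R₂ (Ψ.comp (η₂.codRestrict U hη₂U)) := by
        intro w
        constructor
        · rintro ⟨v, hv, rfl⟩
          obtain ⟨hvR, hve⟩ := (hg₂ v).1 ⟨v, hv, rfl⟩
          exact ⟨hvR, apply_congr Ψ hve⟩
        · rintro ⟨hwR, hwe⟩
          obtain ⟨v, hv, hve⟩ := (hg₂ (⟨η₂ ⟨_, hwR⟩, apply_mem_S hη₂ _⟩, w.2)).2 ⟨hwR, rfl⟩
          refine ⟨v, hv, Prod.ext (Subtype.ext ?_) (congrArg Prod.snd hve :)⟩
          refine (apply_congr Ψ ?_).trans hwe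
          exact congrArg (fun z : S × S => (z.1 : Ω)) hve
      refine hst _ _ ⟨R₂, η₂, hη₂, hg₂⟩ ⟨R₂, _, hη₃, hg₃⟩
        ((hg₂.dom hη₂).trans (hg₃.dom hη₃).symm) ?_
      rw [hg₂.dom hη₂, ← hg₂.card_eq hη₂, ← hg.card_eq hη]
      exact Nat.succ_le_of_lt (lt_of_le_of_ne (Subgroup.card_le_of_le hlt.le) fun he =>
        hlt.ne (Subgroup.eq_of_le_of_card_ge hlt.le he.ge))
    · rw [mark_eq_zero_of_not_graph hsupp hgM, mark_eq_zero_of_not_graph hsupp fun h2 => hgM ?_]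
      obtain ⟨R₂, θ, hθ, hg₂⟩ := h2
      obtain ⟨Ψi, hΨi, -, hΨi1, -⟩ := exists_inv hΨ (rfl : Ψ.range = Ψ.range)
      have hθr : ∀ x, θ x ∈ Ψ.range := fun x => by
        obtain ⟨v, hv, hve⟩ := (hg₂ (⟨θ x, apply_mem_S hθ x⟩, ⟨x, le_of_mem_hom hθ x.2⟩)).2
          ⟨x.2, rfl⟩
        exact ⟨_, congrArg (fun z : S × S => (z.1 : Ω)) hve⟩
      refine ⟨R₂, Ψi.comp (θ.codRestrict _ hθr), F.comp_mem hθ hΨi hθr, fun w => ⟨?_, ?_⟩⟩
      · rintro ⟨v, hv, rfl⟩
        obtain ⟨hvR, hve⟩ := (hg₂ (e v)).1 ⟨v, hv, rfl⟩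
        refine ⟨hvR, (apply_congr Ψi ?_).trans (hΨi1 ⟨_, hUmem v⟩ ⟨_, rfl⟩)⟩
        exact hve
      · rintro ⟨hwR, hwe⟩
        obtain ⟨v, hv, hve⟩ := (hg₂ (⟨θ ⟨_, hwR⟩, apply_mem_S hθ _⟩, w.2)).2 ⟨hwR, rfl⟩
        refine ⟨v, hv, Prod.ext (Subtype.ext ?_) (congrArg Prod.snd hve :)⟩
        refine ((hΨi1 ⟨_, hUmem v⟩ ⟨_, rfl⟩).symm.trans ((apply_congr Ψi ?_).trans hwe))
        exact congrArg (fun z : S × S => (z.1 : Ω)) hve
  have hconst : ∀ l : L, l ∈ K₀ → K₀ ⊔ Subgroup.zpowers l = K₀ := fun l hl =>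
    sup_eq_left.2 (Subgroup.zpowers_le.2 hl)
  have h1 := dvd_sub d1 d2
  rw [← Finset.sum_sub_distrib, ← Finset.sum_filter_add_sum_filter_not Finset.univ (· ∈ K₀),
    Finset.sum_eq_zero (s := Finset.univ.filter (fun l => ¬ l ∈ K₀)) fun l hl => by
      rw [hterm l (Finset.mem_filter.1 hl).2, sub_self], add_zero,
    Finset.sum_congr rfl fun l hl => by rw [hconst l (Finset.mem_filter.1 hl).2],
    Finset.sum_const, nsmul_eq_mul, heH,
    show K₀.map L.subtype = H from Subgroup.map_subgroupOf_eq_of_le hHL] at h1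
  have hcardK : (Finset.univ.filter (fun l : L => l ∈ K₀)).card = Nat.card H := by
    rw [← Fintype.card_subtype, Fintype.card_eq_nat_card]
    exact Nat.card_congr (Subgroup.subgroupOfEquivOfLe hHL).toEquiv
  rw [hcardK, hL, ← fixCount_self_mul H, Nat.cast_mul, mul_comm] at h1
  exact (mul_dvd_mul_iff_left (Nat.cast_ne_zero.2 Nat.card_pos.ne')).1 h1

/-- The degree of a combination of graphs. -/
noncomputable def degree (c : Subgroup (S × S) → ℤ) : ℤ :=
  ∑ᶠ H : Subgroup (S × S), c H * (Nat.card S / Nat.card H : ℕ)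

/-- Correcting one level. -/
theorem stableFrom_step {p : ℕ} [Fact p.Prime] (hS : IsPGroup p S) (hF : F.IsSaturated p) {n : ℕ}
    (hn : n < Nat.card S) (c : Subgroup (S × S) → ℤ) (hsupp : ∀ H, c H ≠ 0 → IsGraph F H)
    (hdeg : ¬ (p : ℤ) ∣ degree c) (hst : StableFrom F c (n + 1)) :
    ∃ c' : Subgroup (S × S) → ℤ, (∀ H, c' H ≠ 0 → IsGraph F H) ∧ ¬ (p : ℤ) ∣ degree c' ∧
      StableFrom F c' n := by
  classical
  have : Fintype (Subgroup (S × S)) := Fintype.ofFinite _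
  -- classes of domains and their targets
  let r : Setoid (Subgroup Ω) :=
    { r := fun R R' => ∃ b ∈ S, R' = R.map (MulAut.conj b).toMonoidHom
      iseqv := ⟨fun R => ⟨1, one_mem S, by ext; simp⟩,
        fun ⟨b, hb, h⟩ => ⟨b⁻¹, inv_mem hb, by rw [h]; ext; simp [mul_assoc]⟩,
        fun ⟨b, hb, h⟩ ⟨b', hb', h'⟩ => ⟨b' * b, mul_mem hb' hb, by
          rw [h', h, Subgroup.map_map, map_mul]; rfl⟩⟩ }
  let rep : Subgroup Ω → Subgroup Ω := fun R => (Quotient.mk r R).out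
  have hrep : ∀ R, ∃ b ∈ S, R = (rep R).map (MulAut.conj b).toMonoidHom := fun R =>
    Quotient.exact (Quotient.out_eq (Quotient.mk r R))
  let T : Subgroup (S × S) → ℤ := fun H =>
    if h : rep (graphDom H) ≤ S then mark c (dvd_mark_sub hS hF h).choose else 0
  -- the target is invariant, and congruent
  have hTconj : ∀ H (g : S × S), IsGraph F H → T (H.map (MulAut.conj g).toMonoidHom) = T H := by
    intro H g hH
    obtain ⟨R, η, hη, hg⟩ := hH
    obtain ⟨η', hη', hg'⟩ := hg.conj hη g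
    have : rep (graphDom (H.map (MulAut.conj g).toMonoidHom)) = rep (graphDom H) := by
      rw [hg'.dom hη', hg.dom hη]
      exact congrArg Quotient.out (Quotient.sound ⟨(g.2 : Ω)⁻¹, inv_mem g.2.2, by
        ext; simp [mul_assoc]⟩)
    simp only [T, this]
  have hdiv : ∀ H, IsGraph F H → Nat.card H = n → (fixCount H H : ℤ) ∣ T H - mark c H := by
    intro H hH hcard
    obtain ⟨b, hb, hRb⟩ := hrep (graphDom H)
    let g : S × S := (1, ⟨b⁻¹, inv_mem hb⟩)
    obtain ⟨R, η, hη, hg⟩ := hH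
    obtain ⟨η', hη', hg'⟩ := hg.conj hη g
    have hdom : graphDom (H.map (MulAut.conj g).toMonoidHom) = rep (graphDom H) := by
      rw [hg'.dom hη']
      conv_lhs => rw [← hg.dom hη, hRb]
      ext; simp [g, mul_assoc]
    have hle : rep (graphDom H) ≤ S := by
      rw [← hdom, hg'.dom hη']
      exact le_of_mem_hom hη'
    have hcard' : Nat.card (rep (graphDom H)) = n := by
      rw [← hdom, IsGraph.card_eq ⟨_, η', hη', hg'⟩, ← hcard]
      exact (Nat.card_congr (H.equivMapOfInjective _ (MulAut.conj g).injective).toEquiv).symm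
    have h1 := (dvd_mark_sub hS hF hle).choose_spec.2.2 c hsupp (hcard' ▸ hst) _
      ⟨_, η', hη', hg'⟩ hdom
    rw [fixCount_map, mark_conj] at h1
    simp only [T, dif_pos hle]
    exact dvd_sub_comm.1 h1
  -- the loop
  let bad : (Subgroup (S × S) → ℤ) → Finset (Subgroup (S × S)) := fun c' =>
    Finset.univ.filter fun H => IsGraph F H ∧ Nat.card H = n ∧ mark c' H ≠ T H
  have loop : ∀ (k : ℕ) (c' : Subgroup (S × S) → ℤ), (bad c').card = k →
      (∀ H, c' H ≠ 0 → IsGraph F H) → ¬ (p : ℤ) ∣ degree c' →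
      (∀ H, IsGraph F H → n < Nat.card H → mark c' H = mark c H) →
      (∀ H, IsGraph F H → Nat.card H = n → mark c' H ≠ T H → mark c' H = mark c H) →
      ∃ c'' : Subgroup (S × S) → ℤ, (∀ H, c'' H ≠ 0 → IsGraph F H) ∧ ¬ (p : ℤ) ∣ degree c'' ∧
        (∀ H, IsGraph F H → n < Nat.card H → mark c'' H = mark c H) ∧
        ∀ H, IsGraph F H → Nat.card H = n → mark c'' H = T H := by
    intro k
    induction k using Nat.strong_induction_on with
    | _ k ih =>
    intro c' hk hs hd habove hlevel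
    by_cases hgood : ∀ H, IsGraph F H → Nat.card H = n → mark c' H = T H
    · exact ⟨c', hs, hd, habove, hgood⟩
    push Not at hgood
    obtain ⟨H, hH, hHn, hHb⟩ := hgood
    obtain ⟨q, hq⟩ := hdiv H hH hHn
    rw [← hlevel H hH hHn hHb] at hq
    let c₁ : Subgroup (S × S) → ℤ := c' + fun H' => if H' = H then q else 0
    have hmark : ∀ K, mark c₁ K = mark c' K + q * fixCount H K := fun K => by
      rw [show mark c₁ K = _ from mark_add c' _ K, mark_single]
    have hsame : ∀ K : Subgroup (S × S), n ≤ Nat.card K →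
        (¬ ∃ g, H = K.map (MulAut.conj g).toMonoidHom) → mark c₁ K = mark c' K := by
      intro K hK hne
      rw [hmark]
      by_cases h0 : fixCount H K = 0
      · rw [h0]; simp
      obtain ⟨g, hg⟩ := exists_conj_of_fixCount_ne h0
      refine absurd ⟨g, (Subgroup.eq_of_le_of_card_ge hg ?_).symm⟩ hne
      rw [hHn, ← Nat.card_congr (K.equivMapOfInjective _ (MulAut.conj g).injective).toEquiv]
      exact hK
    have hHfix : mark c₁ H = T H := by
      rw [hmark, mul_comm, ← hq]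
      ring
    have hclass : ∀ K, (∃ g, H = K.map (MulAut.conj g).toMonoidHom) → IsGraph F K →
        mark c₁ K = T K := by
      rintro K ⟨g, hg⟩ hK
      rw [← mark_conj c₁ K g, ← hTconj K g hK, ← hg, hHfix]
    refine ih (bad c₁).card ?_ c₁ rfl ?_ ?_ ?_ ?_
    · rw [← hk]
      refine Finset.card_lt_card ⟨fun K hK => ?_, fun hsub => ?_⟩
      · obtain ⟨hKg, hKn, hKb⟩ := (Finset.mem_filter.1 hK).2
        refine Finset.mem_filter.2 ⟨Finset.mem_univ _, hKg, hKn, ?_⟩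
        rwa [← hsame K hKn.ge fun hc => hKb (hclass K hc hKg)]
      · exact (Finset.mem_filter.1 (hsub (Finset.mem_filter.2
          ⟨Finset.mem_univ _, hH, hHn, hHb⟩))).2.2.2 hHfix
    · intro H' hH'
      by_cases he : H' = H
      · exact he ▸ hH
      · refine hs H' ?_
        simpa [c₁, he] using hH'
    · have : degree c₁ = degree c' + q * (Nat.card S / Nat.card H : ℕ) := by
        simp only [degree, finsum_eq_sum_of_fintype, c₁, Pi.add_apply, add_mul,
          Finset.sum_add_distrib, ite_mul, zero_mul, Finset.sum_ite_eq', Finset.mem_univ, if_true]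
      rw [this]
      refine fun hdvd => hd ((dvd_add_left (Dvd.dvd.mul_left ?_ _)).1 hdvd)
      rw [Int.natCast_dvd_natCast, hHn]
      obtain ⟨R, η, hη, hg⟩ := hH
      have hRS := le_of_mem_hom hη
      have hRn : Nat.card R = n := (hg.card_eq hη).symm.trans hHn
      have := finite_of_le hRS
      obtain ⟨a, ha⟩ := IsPGroup.iff_card.1 hS
      obtain ⟨b, hb⟩ := IsPGroup.iff_card.1 (isPGroup_of_le hS hRS)
      rw [ha, ← hRn, hb]
      have hba : b < a := (Nat.pow_lt_pow_iff_right (Fact.out : p.Prime).one_lt).1 (by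
        rw [← ha, ← hb, hRn]; exact hn)
      rw [Nat.pow_div hba.le (Fact.out : p.Prime).pos]
      exact dvd_pow_self p (by omega)
    · intro K hK hKn
      rw [hsame K hKn.le (by
        rintro ⟨g, rfl⟩
        rw [← Nat.card_congr (K.equivMapOfInjective _ (MulAut.conj g).injective).toEquiv] at hHn
        omega)]
      exact habove K hK hKn
    · intro K hK hKn hKb
      have hne : ¬ ∃ g, H = K.map (MulAut.conj g).toMonoidHom := fun hc => hKb (hclass K hc hK)
      rw [hsame K hKn.ge hne] at hKb ⊢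
      exact hlevel K hK hKn hKb
  obtain ⟨c', hs, hd, habove, hlevel⟩ := loop _ c rfl hsupp hdeg (fun _ _ _ => rfl)
    fun _ _ _ _ => rfl
  refine ⟨c', hs, hd, fun H H' hH hH' hdom hcard => ?_⟩
  rw [IsGraph.card_eq hH] at hcard
  have hcc : Nat.card H' = Nat.card H := by rw [← IsGraph.card_eq hH', ← hdom, IsGraph.card_eq hH]
  rcases hcard.eq_or_lt with he | hlt
  · rw [hlevel H hH he.symm, hlevel H' hH' (hcc.trans he.symm)]
    simp only [T, hdom]
  · rw [habove H hH hlt, habove H' hH' (hcc ▸ hlt)]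
    exact hst H H' hH hH' hdom (by rw [IsGraph.card_eq hH]; exact hlt)

theorem stableFrom_top {p : ℕ} [Fact p.Prime] (hS : IsPGroup p S) (hF : F.IsSaturated p) :
    ∃ c : Subgroup (S × S) → ℤ, (∀ H, c H ≠ 0 → IsGraph F H) ∧ ¬ (p : ℤ) ∣ degree c ∧
      StableFrom F c (Nat.card S) := by
  classical
  have : Fintype (Subgroup (S × S)) := Fintype.ofFinite _
  have : Finite (MulAut S) := finite_mulAut
  set A := F.autGroup S with hA
  have hInnA : Inn S ≤ A := inn_le_autGroup le_rfl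
  set I := (Inn S).subgroupOf A with hI
  have hIn : I.Normal := inn_subgroupOf_normal S
  have : Fintype (A ⧸ I) := Fintype.ofFinite _
  -- the graph of an automorphism
  let gr : MulAut S → Subgroup (S × S) := fun α => (α.toMonoidHom.prod (MonoidHom.id S)).range
  have hgr : ∀ (α : MulAut S), IsGraphOf (gr α) S (S.subtype.comp α.toMonoidHom) := by
    intro α w
    constructor
    · rintro ⟨x, rfl⟩
      exact ⟨x.2, rfl⟩
    · rintro ⟨_, he⟩
      exact ⟨w.2, Prod.ext (Subtype.ext he) rfl⟩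
  have hgrA : ∀ α ∈ A, IsGraph F (gr α) := fun α hα =>
    ⟨S, _, (autGroup_carrier le_rfl).1 hα, hgr α⟩
  have hconj : ∀ α : MulAut S, ∀ g : S × S,
      (gr α).map (MulAut.conj g).toMonoidHom = gr (MulAut.conj g.1 * α * (MulAut.conj g.2)⁻¹) := by
    intro α g
    ext w
    constructor
    · rintro ⟨_, ⟨x, rfl⟩, rfl⟩
      refine ⟨g.2 * x * g.2⁻¹, Prod.ext ?_ rfl⟩
      simp [MulAut.mul_apply, mul_assoc]
    · rintro ⟨y, rfl⟩
      refine ⟨_, ⟨g.2⁻¹ * y * g.2, rfl⟩, Prod.ext ?_ ?_⟩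
      · simp [MulAut.mul_apply]
      · simp [mul_assoc]
  have hinj : ∀ α β : MulAut S, gr α = gr β → α = β := by
    intro α β h
    refine MulEquiv.ext fun x => ?_
    obtain ⟨y, hy⟩ := h.le (⟨x, rfl⟩ : (α x, x) ∈ gr α)
    obtain rfl : y = x := congrArg Prod.snd hy
    exact (congrArg Prod.fst hy).symm
  let reps : A ⧸ I → Subgroup (S × S) := fun q => gr ((Quotient.out q : A) : MulAut S)
  let c : Subgroup (S × S) → ℤ := fun H => ∑ q : A ⧸ I, if reps q = H then 1 else 0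
  have hmark : ∀ K, mark c K = ∑ q : A ⧸ I, (fixCount (reps q) K : ℤ) := by
    intro K
    simp only [mark, finsum_eq_sum_of_fintype, c, Finset.sum_mul, ite_mul, one_mul, zero_mul]
    rw [Finset.sum_comm]
    simp
  refine ⟨c, fun H hH => ?_, ?_, ?_⟩
  · obtain ⟨q, -, hq⟩ := Finset.exists_ne_zero_of_sum_ne_zero hH
    have : reps q = H := by by_contra h; exact hq (if_neg h)
    exact this ▸ hgrA _ (Quotient.out q : A).2
  · have hcardgr : ∀ α, Nat.card (gr α) = Nat.card S := fun α =>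
      (Nat.card_congr (MonoidHom.ofInjective (f := α.toMonoidHom.prod (MonoidHom.id S))
        fun a b h => congrArg Prod.snd h).toEquiv).symm
    have : degree c = (Nat.card (A ⧸ I) : ℤ) := by
      simp only [degree, finsum_eq_sum_of_fintype, c, Finset.sum_mul, ite_mul, one_mul, zero_mul]
      rw [Finset.sum_comm]
      simp only [reps, hcardgr, Nat.div_self Nat.card_pos, Finset.sum_ite_eq, Finset.mem_univ, if_true, Nat.cast_one, Finset.sum_const, Finset.card_univ, nsmul_eq_mul, mul_one, Nat.card_eq_fintype_card]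
    rw [this, Int.natCast_dvd_natCast]
    obtain ⟨-, R, hR⟩ := (good_of_fullyNormalized p hS hF isFullyNormalized_S).1
    have hRI : (R : Subgroup A) = I := by rw [hR, hI, inn_eq_autInducedBy]
    have := R.not_dvd_index
    rwa [hRI] at this
  · intro H H' hH hH' hdom hcard
    -- every graph over `S` has the mark of the diagonal
    suffices key : ∀ K, IsGraph F K → Nat.card S ≤ Nat.card (graphDom K) →
        mark c K = fixCount (gr 1) (gr 1) by
      rw [key H hH hcard, key H' hH' (hdom ▸ hcard)]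
    rintro K ⟨R, η, hη, hg⟩ hcard
    rw [hg.dom hη] at hcard
    obtain rfl : R = S := eq_of_le_of_card_le le_rfl (le_of_mem_hom hη) hcard
    have hr : η.range = R := range_eq_S hη
    set α := autOfRange η (F.injective_of_mem hη) hr with hα
    have hαA : α ∈ A := autOfRange_mem hη hr
    have hK : K = gr α := by
      refine hg.unique fun w => ?_
      rw [hgr α w]
      exact Iff.rfl
    subst hK
    rw [hmark, Finset.sum_eq_single (QuotientGroup.mk ⟨α, hαA⟩ : A ⧸ I)]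
    · set β : A := Quotient.out (QuotientGroup.mk ⟨α, hαA⟩ : A ⧸ I)
      have hβ : (⟨α, hαA⟩ : A)⁻¹ * β ∈ I :=
        QuotientGroup.eq.1 (Quotient.out_eq (QuotientGroup.mk ⟨α, hαA⟩ : A ⧸ I)).symm
      obtain ⟨s, hs⟩ := hβ
      have hb : (β : MulAut R) = α * MulAut.conj s := by
        rw [hs]; simp
      have e1 : gr (β : MulAut R) = (gr α).map (MulAut.conj ((1 : R), s⁻¹)).toMonoidHom := by
        rw [hconj, hb]; simp
      show (fixCount (gr (β : MulAut R)) (gr α) : ℤ) = _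
      rw [e1, Nat.cast_inj, ← fixCount_conj_right _ (gr α) ((1 : R), s⁻¹), fixCount_map]
      -- translate by `α`
      let Φ : MulAut (R × R) := MulEquiv.prodCongr α (MulEquiv.refl R)
      have e2 : (gr 1).map Φ.toMonoidHom = gr α := by
        ext w
        constructor
        · rintro ⟨_, ⟨x, rfl⟩, rfl⟩; exact ⟨x, rfl⟩
        · rintro ⟨x, rfl⟩; exact ⟨_, ⟨x, rfl⟩, rfl⟩
      rw [← e2, fixCount_map]
    · intro q _ hq
      rw [Nat.cast_eq_zero]
      by_contra h0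
      obtain ⟨g, hle⟩ := exists_conj_of_fixCount_ne h0
      rw [hconj] at hle
      have heq : gr (MulAut.conj g.1 * α * (MulAut.conj g.2)⁻¹) = gr ((Quotient.out q : A) : MulAut R) := by
        refine Subgroup.eq_of_le_of_card_ge hle (le_of_eq ?_)
        rw [(hgr _).card_eq ((autGroup_carrier le_rfl).1 (Quotient.out q : A).2)]
        exact (Nat.card_congr (MonoidHom.ofInjective (f := (MulAut.conj g.1 * α *
          (MulAut.conj g.2)⁻¹).toMonoidHom.prod (MonoidHom.id R))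
          fun a b h => congrArg Prod.snd h).toEquiv)
      have hα' := hinj _ _ heq
      refine hq ?_
      rw [← QuotientGroup.out_eq' q, QuotientGroup.eq]
      show ((Quotient.out q : A)⁻¹ * ⟨α, hαA⟩ : A).1 ∈ Inn R
      rw [Subgroup.coe_mul, Subgroup.coe_inv, ← hα']
      refine ⟨g.2 * α⁻¹ g.1⁻¹, ?_⟩
      refine MulEquiv.ext fun x => ?_
      simp [MulAut.mul_apply, mul_assoc]
    · simp

/-- **A stable virtual biset** of degree prime to `p`. -/
theorem exists_stable_biset {p : ℕ} [Fact p.Prime] (hS : IsPGroup p S) (hF : F.IsSaturated p) :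
    ∃ c : Subgroup (S × S) → ℤ, (∀ H, c H ≠ 0 → IsGraph F H) ∧ ¬ (p : ℤ) ∣ degree c ∧
      StableFrom F c 0 := by
  suffices H : ∀ k, k ≤ Nat.card S → ∃ c : Subgroup (S × S) → ℤ,
      (∀ H, c H ≠ 0 → IsGraph F H) ∧ ¬ (p : ℤ) ∣ degree c ∧ StableFrom F c (Nat.card S - k) by
    have := H (Nat.card S) le_rfl
    rwa [Nat.sub_self] at this
  intro k
  induction k with
  | zero => exact fun _ => stableFrom_top hS hF
  | succ k ih =>
    intro hk
    obtain ⟨c, h1, h2, h3⟩ := ih (by omega)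
    refine stableFrom_step hS hF (by omega) c h1 h2 ?_
    rwa [show Nat.card S - (k + 1) + 1 = Nat.card S - k by omega]

end CfsgLib.Fusion
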