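import Cfsg.Agent.Fusion.PSolvableExt
import Cfsg.Agent.Fusion.SolvableSystem
import Cfsg.Agent.Fusion.SolvableRealized
import Cfsg.Agent.Fusion.Tate
import Cfsg.Agent.Fusion.PIndex.Main
import Cfsg.Agent.Fusion.PIndex.Normal
import Cfsg.Agent.Fusion.PPrime.Residual
import Cfsg.Agent.Fusion.PPrime.Trivial
import Cfsg.Agent.Fusion.PrimeResidual
import Cfsg.Agent.Coprime.InvariantFactors

/-!
Systems with a terminating residual series are the constrained systems with `p`-soluble models.
-/

set_option autoImplicit false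
set_option linter.unusedSectionVars false
set_option linter.style.haveILetI false
universe u

open Cfsg Cfsg.FusionSystem CfsgLib.Fusion
open scoped commutatorElement

namespace CfsgLib.Terminating

variable {Ω : Type u} [Group Ω] {S T : Subgroup Ω}

theorem card_lt_of_lt_finite {A B : Subgroup Ω} [Finite B] (h : A < B) :
    Nat.card A < Nat.card B := by
  haveI := finite_of_le h.le
  refine lt_of_le_of_ne (Nat.card_le_card_of_injective _ (Subgroup.inclusion_injective h.le))
    fun he => h.ne (eq_of_le_of_card_le le_rfl h.le he.ge)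

/-- A system is weakly normal in itself. -/
theorem isWeaklyNormalIn_self {F : FusionSystem S} (p : ℕ) (hF : F.IsSaturated p) :
    F.IsWeaklyNormalIn F p := by
  refine ⟨hF, hF, fun _ => subset_rfl, stronglyClosed_self, fun P hPS φ hφ α hα => ?_,
    fun P hPS φ hφ => ⟨1, one_mem _, φ, hφ, fun _ _ => rfl⟩⟩
  have hαi := (autGroup_carrier le_rfl).1 (inv_mem hα)
  have hαf := (autGroup_carrier le_rfl).1 hα
  have hP' : (P.subgroupOf S).map (S.subtype.comp α.toMonoidHom) ≤ S := by
    rintro _ ⟨x, -, rfl⟩; exact (α x).2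
  have ha := restrict_mem hαi hP'
  have hmem : ∀ y, ((S.subtype.comp (α⁻¹).toMonoidHom).comp (Subgroup.inclusion hP')) y ∈ P := by
    rintro ⟨_, x, hx, rfl⟩
    show ((α⁻¹ ⟨((α x : S) : Ω), (α x).2⟩ : S) : Ω) ∈ P
    rw [Subtype.coe_eta, MulAut.inv_apply_self]
    exact hx
  refine ⟨_, F.comp_mem (F.comp_mem ha hφ hmem) hαf (fun y => apply_mem_S hφ _),
    fun x hφx hαx => ?_⟩
  refine congrArg (fun z : S => ((α z : S) : Ω)) (Subtype.ext ?_)
  show φ ⟨((α⁻¹ ⟨((α ⟨x, hPS x.2⟩ : S) : Ω), _⟩ : S) : Ω), _⟩ = φ x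
  congr 1
  apply Subtype.ext
  show ((α⁻¹ ⟨((α ⟨x, hPS x.2⟩ : S) : Ω), (α ⟨x, hPS x.2⟩).2⟩ : S) : Ω) = x
  rw [Subtype.coe_eta, MulAut.inv_apply_self]

/-- The chain of an invariant subsystem continues that of the system. -/
theorem solvChain_of_invariant {F : FusionSystem S} {E : FusionSystem T} (hE : E.IsInvariantIn F)
    (hT : SolvChain F T) : ∀ {W : Subgroup Ω}, SolvChain E W → SolvChain F (autInf F T W) := by
  intro W hW
  induction hW with
  | top => rwa [autInf_self]
  | @step W V hWV hW hcomm hV ih =>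
    refine .step ?_ (stronglyClosed_autInf hE hW) (commutator_autInf_le hcomm) ih
    intro x hx
    obtain ⟨hxT, h⟩ := mem_autInf.1 hx
    exact mem_autInf.2 ⟨hxT, fun α hα => hWV (h α hα)⟩

/-- A chain restricts to a subsystem over a strongly closed subgroup. -/
theorem solvChain_restrict {F : FusionSystem S} {E : FusionSystem T} (hE : E.IsSubsystemOf F)
    (hT : T ≤ S) : ∀ {W : Subgroup Ω}, SolvChain F W → SolvChain E (W ⊓ T) := by
  intro W hW
  induction hW with
  | top => rw [inf_eq_right.2 hT]; exact .top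
  | @step W V hWV hW hcomm hV ih =>
    refine .step (inf_le_inf_right T hWV) ⟨inf_le_right, fun R hR φ hφ x =>
      ⟨hW.2 R (hR.trans inf_le_left) φ (hE R hφ) x, apply_mem_S hφ x⟩⟩ ?_ ih
    exact le_inf ((Subgroup.commutator_mono inf_le_left inf_le_left).trans hcomm)
      ((Subgroup.commutator_mono inf_le_right inf_le_right).trans (Subgroup.commutator_le_self _))

/-- A normal subgroup containing the hyperfocal subgroup is joined to `S` by a chain. -/
theorem solvChain_hyperfocal [Finite S] {F : FusionSystem S} (p : ℕ) [Fact p.Prime]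
    (hS : IsPGroup p S) (hF : F.IsSaturated p) : SolvChain F (F.hyperfocalSubgroup p) := by
  set T := F.hyperfocalSubgroup p with hTdef
  have hTS : T ≤ S := hyperfocalSubgroup_le_S p
  suffices ∀ (n : ℕ) (V : Subgroup Ω), Nat.card V = n → T ≤ V → V ≤ S →
      S ≤ Subgroup.normalizer (V : Set Ω) → SolvChain F V → SolvChain F T from
    this _ S rfl hTS le_rfl Subgroup.le_normalizer .top
  intro n
  induction n using Nat.strong_induction_on with
  | _ n IH =>
  intro V hn hTV hVS hVn hV
  haveI := finite_of_le hVS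
  have hTn : S ≤ Subgroup.normalizer (T : Set Ω) := le_normalizer_hyperfocal p
  haveI : (T.subgroupOf V).Normal :=
    Subgroup.normal_subgroupOf_iff_le_normalizer hTV |>.2 (hVS.trans hTn)
  by_cases he : ⁅V, V⁆ ⊔ T = V
  · have hidx : ∃ m, T.relIndex V = p ^ m := by
      obtain ⟨k, hk⟩ := (hS.to_le hVS).index (T.subgroupOf V)
      exact ⟨k, hk⟩
    rwa [CfsgLib.PSolvableExt.eq_of_commutator_sup_eq hTV hidx he]
  have hle : ⁅V, V⁆ ⊔ T ≤ V := sup_le (Subgroup.commutator_le_self V) hTV
  have hlt : ⁅V, V⁆ ⊔ T < V := lt_of_le_of_ne hle he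
  have hn' : S ≤ Subgroup.normalizer ((⁅V, V⁆ ⊔ T : Subgroup Ω) : Set Ω) := by
    intro g hg
    refine CfsgLib.Fusion.mem_normalizer_of_conj_mem (hle.trans hVS) fun x hx => ?_
    have hmap : (⁅V, V⁆ ⊔ T).map (MulAut.conj g).toMonoidHom ≤ ⁅V, V⁆ ⊔ T := by
      rw [Subgroup.map_sup, Subgroup.map_commutator]
      refine sup_le_sup (Subgroup.commutator_mono ?_ ?_) ?_ <;>
        rintro _ ⟨y, hy, rfl⟩
      · exact (Subgroup.mem_normalizer_iff.1 (hVn hg) y).1 hy
      · exact (Subgroup.mem_normalizer_iff.1 (hVn hg) y).1 hy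
      · exact (Subgroup.mem_normalizer_iff.1 (hTn hg) y).1 hy
    exact hmap ⟨x, hx, rfl⟩
  refine IH _ ?_ _ rfl le_sup_right (hle.trans hVS) hn' (.step hle ?_ le_sup_left hV)
  · exact hn ▸ card_lt_of_lt_finite hlt
  · refine ⟨hle.trans hVS, fun R hR φ hφ x => ?_⟩
    obtain ⟨s, hs, hsx⟩ := exists_inner_mod p hS hF hn' le_sup_right hφ
    have h1 := mul_mem ((Subgroup.mem_normalizer_iff.1 (hn' hs) _).1 (hR x.2)) (hsx x)
    simpa only [mul_inv_cancel_left] using h1

/-- `SolvChain` to the bottom together with `p`-soluble automisers. -/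
def Good (F : FusionSystem S) (p : ℕ) : Prop :=
  SolvChain F ⊥ ∧ ∀ R : Subgroup Ω, R ≤ S → Cfsg.IsPSolvable p (F.autGroup R)

theorem autInf_bot {F : FusionSystem S} : autInf F T (⊥ : Subgroup Ω) = ⊥ :=
  le_bot_iff.1 autInf_le_arg

/-- Automisers of a system whose `p'`-residual has `p`-soluble automisers. -/
theorem good_of_pPrimeResidual [Finite S] {F E : FusionSystem S} (p : ℕ) [Fact p.Prime]
    (hS : IsPGroup p S) (hF : F.IsSaturated p) (hE : F.IsPPrimeResidual p E) (h : Good E p) :
    Good F p := by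
  have hN := pPrimeResidual_normal hS (isWeaklyNormalIn_self p hF) hE
  refine ⟨?_, fun R hR => ?_⟩
  · have := solvChain_of_invariant hN.1.2.2 SolvChain.top h.1
    rwa [autInf_bot] at this
  · haveI := finite_of_le hR
    haveI := finite_mulAut (P := R)
    refine CfsgLib.PSolvableExt.isPSolvable_of_pElements ?_
    have hle := hE.2.1.2 R hR
    let f : ↥(Subgroup.closure {α : F.autGroup R | ∃ k : ℕ, orderOf α = p ^ k}) →* E.autGroup R :=
      ((F.autGroup R).subtype.comp (Subgroup.subtype _)).codRestrict _ fun a => hle ⟨a, a.2, rfl⟩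
    exact CfsgLib.PConstrained.isPSolvable_comap f
      (fun a b hab => Subtype.ext (Subtype.ext (congrArg (fun z : E.autGroup R => (z : MulAut R)) hab))) (h.2 R hR)

/-- Automisers of a system whose `p`-residual has `p`-soluble automisers. -/
theorem good_of_pResidual [Finite S] {E : FusionSystem S} (p : ℕ) [Fact p.Prime]
    (hS : IsPGroup p S) (hE : E.IsSaturated p) {D : FusionSystem (E.hyperfocalSubgroup p)}
    (hD : E.IsPResidual p D) (h : Good D p) : Good E p := by
  have hTS : (E.hyperfocalSubgroup p) ≤ S := hyperfocalSubgroup_le_S p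
  have hN := pPowerIndex_normal p hS hE hTS (le_normalizer_hyperfocal p) le_rfl hD.1 hD.2
  refine ⟨?_, fun Q hQ => ?_⟩
  · have := solvChain_of_invariant hN.1.2.2 (solvChain_hyperfocal p hS hE) h.1
    rwa [autInf_bot] at this
  · haveI := finite_of_le hQ
    haveI := finite_mulAut (P := Q)
    have hQT : Q ⊓ (E.hyperfocalSubgroup p) ≤ S := inf_le_left.trans hQ
    haveI := finite_of_le hQT
    haveI := finite_mulAut (P := (Q ⊓ (E.hyperfocalSubgroup p) : Subgroup Ω))
    refine CfsgLib.PSolvableExt.isPSolvable_of_pResidual ?_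
    -- restriction of the automisers to `Q ∩ (E.hyperfocalSubgroup p)`
    have hT := stronglyClosed_hyperfocal (F := E) p hS hE
    have hrest : ∀ a : E.autGroup Q, ∀ x : Q, (x : Ω) ∈ (E.hyperfocalSubgroup p) → (((a : MulAut Q) x : Q) : Ω) ∈ (E.hyperfocalSubgroup p) :=
      fun a x hx => hT.2 (Q ⊓ (E.hyperfocalSubgroup p)) inf_le_right _
        (restrict_mem ((autGroup_carrier hQ).1 a.2) inf_le_left) ⟨x, x.2, hx⟩
    let i : ↥(Q ⊓ (E.hyperfocalSubgroup p)) →* Q := Subgroup.inclusion inf_le_left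
    have hex : ∀ a : E.autGroup Q, ∃ b : E.autGroup (Q ⊓ (E.hyperfocalSubgroup p) : Subgroup Ω),
        ∀ x, (((b : MulAut ↥(Q ⊓ (E.hyperfocalSubgroup p))) x : ↥(Q ⊓ (E.hyperfocalSubgroup p))) : Ω) = (((a : MulAut Q) (i x) : Q) : Ω) := by
      intro a
      refine ⟨⟨
        { toFun := fun x => ⟨((a : MulAut Q) (i x) : Q), SetLike.coe_mem _, hrest a _ x.2.2⟩
          invFun := fun x => ⟨((a : MulAut Q)⁻¹ (i x) : Q), SetLike.coe_mem _, hrest a⁻¹ _ x.2.2⟩
          left_inv := fun x => Subtype.ext (by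
            show (((a : MulAut Q)⁻¹ ⟨(((a : MulAut Q) (i x) : Q) : Ω), _⟩ : Q) : Ω) = _
            rw [Subtype.coe_eta, MulAut.inv_apply_self]; rfl)
          right_inv := fun x => Subtype.ext (by
            show (((a : MulAut Q) ⟨(((a : MulAut Q)⁻¹ (i x) : Q) : Ω), _⟩ : Q) : Ω) = _
            rw [Subtype.coe_eta, MulAut.apply_inv_self]; rfl)
          map_mul' := fun x y => Subtype.ext (by
            show (((a : MulAut Q) (i (x * y)) : Q) : Ω) = _
            rw [map_mul, map_mul]; rfl) }, ?_⟩, fun x => rfl⟩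
      refine (autGroup_carrier hQT).2 ?_
      exact restrict_mem_of_eq ((autGroup_carrier hQ).1 a.2) inf_le_left fun x => rfl
    choose b hb using hex
    let r : E.autGroup Q →* E.autGroup (Q ⊓ (E.hyperfocalSubgroup p) : Subgroup Ω) := MonoidHom.mk' b fun a a' => by
      refine Subtype.ext (MulEquiv.ext fun x => Subtype.ext ?_)
      show _ = (((b a : MulAut ↥(Q ⊓ (E.hyperfocalSubgroup p))) ((b a' : MulAut ↥(Q ⊓ (E.hyperfocalSubgroup p))) x) : ↥(Q ⊓ (E.hyperfocalSubgroup p))) : Ω)
      rw [hb, hb]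
      refine congrArg (fun z : Q => (((a : MulAut Q) z : Q) : Ω)) (Subtype.ext ?_)
      exact (hb a' x).symm
    let A := Cfsg.pResidual p (E.autGroup Q)
    have hr : ∀ a : A, ((r a : E.autGroup (Q ⊓ (E.hyperfocalSubgroup p) : Subgroup Ω)) : MulAut ↥(Q ⊓ (E.hyperfocalSubgroup p))) ∈
        D.autGroup (Q ⊓ (E.hyperfocalSubgroup p)) := fun a =>
      hD.2.2.2 _ inf_le_right ⟨r a, CfsgLib.PResidual.map_pResidual_le r ⟨a, a.2, rfl⟩, rfl⟩
    let f : A →* D.autGroup (Q ⊓ (E.hyperfocalSubgroup p)) :=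
      (((E.autGroup (Q ⊓ (E.hyperfocalSubgroup p))).subtype.comp r).comp A.subtype).codRestrict _ hr
    refine CfsgLib.PSolvableExt.isPSolvable_of_kernel_step f.rangeRestrict
      f.rangeRestrict_surjective (Or.inl ?_)
      (CfsgLib.PConstrained.isPSolvable_comap f.range.subtype (Subgroup.subtype_injective _)
        (h.2 _ inf_le_right))
    rw [MonoidHom.ker_rangeRestrict]
    refine IsPGroup.iff_card.1 ?_
    refine ((isPGroup_pStab (F := E) hS (P := Q ⊓ (E.hyperfocalSubgroup p)) hQ).comap_of_injective A.subtype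
      A.subtype_injective).to_le fun a ha => ?_
    have ha' : b (a : E.autGroup Q) = 1 := Subtype.ext (congrArg Subtype.val (MonoidHom.mem_ker.1 ha) : )
    refine ⟨fun x hx => Subtype.ext ?_, fun x => ?_⟩
    · have := hb (a : E.autGroup Q) ⟨x, hx⟩
      rw [ha'] at this
      exact this.symm
    · exact ⟨SetLike.coe_mem _, Subgroup.subset_closure ⟨Q, a, x, hQ, a.2, rfl⟩⟩

/-- Systems over the trivial subgroup. -/
theorem good_of_eq_bot {F : FusionSystem S} (p : ℕ) [Fact p.Prime] (hS : S = ⊥) : Good F p := by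
  refine ⟨hS ▸ SolvChain.top, fun R hR => ?_⟩
  subst hS
  obtain rfl := le_bot_iff.1 hR
  refine CfsgLib.PSolvableExt.isPSolvable_of_card (Or.inl ⟨0, ?_⟩)
  rw [pow_zero, Nat.card_eq_one_iff_unique]
  exact ⟨⟨fun a b => Subtype.ext (MulEquiv.ext fun x => Subsingleton.elim _ _)⟩, ⟨1⟩⟩

/-- A terminating series forces a soluble system with `p`-soluble automisers. -/
theorem good_of_terminating (p : ℕ) [Fact p.Prime] {S : Subgroup Ω} {F : FusionSystem S}
    (h : F.HasTerminatingResidualSeries p) :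
    Finite S → IsPGroup p S → F.IsSaturated p → Good F p := by
  revert ‹Fact p.Prime›
  induction h with
  | trivial F p hbot => intro _ _ _ _; exact good_of_eq_bot p hbot
  | step F E p D hE hD _ ih =>
    intro _ _ hS hF
    refine good_of_pPrimeResidual p hS hF hE (good_of_pResidual p hS hE.1 hD ?_)
    exact ih (finite_of_le (hyperfocalSubgroup_le_S p))
      (isPGroup_of_le hS (hyperfocalSubgroup_le_S p)) hD.1

section Realized

variable [Finite S] {F : FusionSystem S} {G : Type u} [Group G] {ι : S →* G}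

theorem stronglyClosed_preimg_normal (h : F.IsRealizedBy ι) {N : Subgroup G} (hN : N.Normal) :
    F.StronglyClosed (preimg ι N) := by
  refine ⟨preimg_le N, fun R hR φ hφ x => ?_⟩
  obtain ⟨g, hg⟩ := realized_hom h hφ
  refine mem_preimg.2 ⟨apply_mem_S hφ x, ?_⟩
  rw [hg]
  exact hN.conj_mem _ (mem_preimg.1 (hR x.2)).2 g

theorem preimg_mono' {M N : Subgroup G} (h : M ≤ N) : preimg ι M ≤ preimg ι N := fun _ hx =>
  mem_preimg.2 ⟨(mem_preimg.1 hx).1, h (mem_preimg.1 hx).2⟩

theorem commutator_preimg_le {M N : Subgroup G} (h : ⁅N, N⁆ ≤ M) :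
    ⁅preimg ι N, preimg ι N⁆ ≤ preimg ι M := by
  rw [Subgroup.commutator_le]
  intro a ha b hb
  obtain ⟨haS, ha'⟩ := mem_preimg.1 ha
  obtain ⟨hbS, hb'⟩ := mem_preimg.1 hb
  refine mem_preimg.2 ⟨(⁅(⟨a, haS⟩ : S), ⟨b, hbS⟩⁆ : S).2, ?_⟩
  have h1 := h (Subgroup.commutator_mem_commutator ha' hb')
  rwa [← map_commutatorElement] at h1

theorem preimg_top : preimg ι (⊤ : Subgroup G) = S :=
  le_antisymm (preimg_le _) fun _ hx => mem_preimg.2 ⟨hx, trivial⟩

theorem preimg_bot (h : Function.Injective ι) : preimg ι (⊥ : Subgroup G) = ⊥ := by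
  refine le_bot_iff.1 fun x hx => ?_
  obtain ⟨hxS, hx'⟩ := mem_preimg.1 hx
  have := congrArg Subtype.val (h ((Subgroup.mem_bot.1 hx').trans ι.map_one.symm))
  exact Subgroup.mem_bot.2 this

/-- A system realized by a `p`-soluble group has the chain. -/
theorem solvChain_of_realized [Finite G] (p : ℕ) [Fact p.Prime] (hS : IsPGroup p S)
    (h : F.IsRealizedBy ι) (hG : Cfsg.IsPSolvable p G) : SolvChain F ⊥ := by
  obtain ⟨n, C, h0, hn, hm, hnor, hstep⟩ := hG
  have key : ∀ i, SolvChain F (preimg ι (C i)) := by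
    intro i
    induction i using Fin.reverseInduction with
    | last => rw [hn, preimg_top]; exact .top
    | cast i ih =>
      have hle : C i.castSucc ≤ C i.succ := hm Fin.castSucc_lt_succ.le
      rcases hstep i with hpow | hcop
      · suffices ∀ (k : ℕ) (K : Subgroup G), Nat.card K = k → C i.castSucc ≤ K → K ≤ C i.succ →
            K.Normal → SolvChain F (preimg ι K) → SolvChain F (preimg ι (C i.castSucc)) from
          this _ _ rfl hle le_rfl (hnor _) ih
        intro k
        induction k using Nat.strong_induction_on with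
        | _ k IH =>
        intro K hk hMK hKN hKn hK
        haveI := hnor i.castSucc
        haveI := hKn
        by_cases he : ⁅K, K⁆ ⊔ C i.castSucc = K
        · obtain ⟨m, hm'⟩ := hpow
          have hd : (C i.castSucc).relIndex K ∣ p ^ m :=
            hm' ▸ Dvd.intro _ (Subgroup.relIndex_mul_relIndex _ _ _ hMK hKN)
          obtain ⟨j, -, hj⟩ := (Nat.dvd_prime_pow Fact.out).1 hd
          rwa [CfsgLib.PSolvableExt.eq_of_commutator_sup_eq hMK ⟨j, hj⟩ he]
        · have hle' : ⁅K, K⁆ ⊔ C i.castSucc ≤ K := sup_le (Subgroup.commutator_le_self K) hMK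
          refine IH _ (hk ▸ CfsgLib.Solvable.card_lt_of_lt (lt_of_le_of_ne hle' he)) _ rfl le_sup_right
            (hle'.trans hKN) inferInstance ?_
          exact .step (preimg_mono' hle') (stronglyClosed_preimg_normal h inferInstance)
            (commutator_preimg_le le_sup_left) hK
      · have he : preimg ι (C i.castSucc) = preimg ι (C i.succ) := by
          refine le_antisymm (preimg_mono' hle) fun x hx => ?_
          obtain ⟨hxS, hxN⟩ := mem_preimg.1 hx
          refine mem_preimg.2 ⟨hxS, ?_⟩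
          haveI := hnor i.castSucc
          obtain ⟨k, hk⟩ := hS ⟨x, hxS⟩
          let y : C i.succ := ⟨ι ⟨x, hxS⟩, hxN⟩
          have h1 := Subgroup.pow_index_mem ((C i.castSucc).subgroupOf (C i.succ)) y
          have h2 : y ^ p ^ k = 1 := Subtype.ext (by
            show ι ⟨x, hxS⟩ ^ p ^ k = 1
            rw [← map_pow, hk, map_one])
          have h3 : y ∈ (C i.castSucc).subgroupOf (C i.succ) := by
            have hy := (pow_gcd_eq_one (m := ((C i.castSucc).relIndex (C i.succ))) (n := p ^ k)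
              (a := QuotientGroup.mk' ((C i.castSucc).subgroupOf (C i.succ)) y)).2
              ⟨by rw [← map_pow]; exact (QuotientGroup.eq_one_iff _).2 h1,
              by rw [← map_pow, h2, map_one]⟩
            rw [Nat.Coprime.gcd_eq_one (hcop.pow_right k), pow_one] at hy
            exact (QuotientGroup.eq_one_iff _).1 hy
          exact h3
        rwa [he]
  have := key 0
  rwa [h0, preimg_bot h.1] at this

/-- A system realized by a `p`-soluble group has `p`-soluble automisers. -/
theorem isPSolvable_autGroup_of_realized [Finite G] (p : ℕ) [Fact p.Prime]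
    (h : F.IsRealizedBy ι) (hG : Cfsg.IsPSolvable p G) {R : Subgroup Ω} (hR : R ≤ S) :
    Cfsg.IsPSolvable p (F.autGroup R) := by
  let P := img ι R
  let N := Subgroup.normalizer (P : Set G)
  let ψ : N →* MulAut P := P.normalizerMonoidHom
  have hN : Cfsg.IsPSolvable p ψ.range := CfsgLib.PConstrained.isPSolvable_map ψ.rangeRestrict
    ψ.rangeRestrict_surjective (CfsgLib.PConstrained.isPSolvable_comap N.subtype N.subtype_injective hG)
  let e := MulAut.congr (imgEquiv h.1 hR)
  let f : F.autGroup R →* ψ.range :=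
    (e.toMonoidHom.comp (F.autGroup R).subtype).codRestrict _ fun α => by
      obtain ⟨g, -, hg⟩ := mem_autInducedBy.1 ((mem_autGroup_iff_realized h hR).1 α.2)
      have hgN : g ∈ N := CfsgLib.Fusion.mem_normalizer_of_conj_mem (S := ⊤) le_top fun x hx => by
        rw [← hg ⟨x, hx⟩]; exact SetLike.coe_mem _
      exact ⟨⟨g, hgN⟩, MulEquiv.ext fun x => Subtype.ext (hg x).symm⟩
  exact CfsgLib.PConstrained.isPSolvable_comap f
    (fun a b hab => Subtype.ext (e.injective (congrArg Subtype.val hab))) hN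

/-- The maps induced by elements of `K`. -/
def indSystem (h : F.IsRealizedBy ι) (K : Subgroup G) (hK : ι.range ≤ K) : FusionSystem S where
  Hom P := {φ | ∃ hφ : φ ∈ F.Hom P, ∃ g ∈ K, ∀ x : P,
    ι ⟨φ x, apply_mem_S hφ x⟩ = g * ι ⟨x, le_of_mem_hom hφ x.2⟩ * g⁻¹}
  le_of_mem hφ := F.le_of_mem hφ.1
  injective_of_mem hφ := F.injective_of_mem hφ.1
  conj_mem {P g} hP hg := ⟨F.conj_mem hP hg, ι ⟨g, hg⟩, hK ⟨_, rfl⟩, fun x => by
    rw [← map_inv, ← map_mul, ← map_mul]; rfl⟩
  comp_mem {P Q φ ψ} := by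
    rintro ⟨hφ, a, ha, hae⟩ ⟨hψ, b, hb, hbe⟩ hPQ
    refine ⟨F.comp_mem hφ hψ hPQ, b * a, mul_mem hb ha, fun x => ?_⟩
    refine (hbe ⟨φ x, hPQ x⟩).trans ?_
    show b * ι ⟨φ x, _⟩ * b⁻¹ = _
    rw [hae x]
    group
  inv_mem {P φ} := by
    rintro ⟨hφ, a, ha, hae⟩
    obtain ⟨ψ, hψ, he⟩ := F.inv_mem hφ
    refine ⟨ψ, ⟨hψ, a⁻¹, inv_mem ha, ?_⟩, he⟩
    rintro ⟨_, x, rfl⟩
    have h1 : (⟨ψ ⟨φ x, ⟨x, rfl⟩⟩, apply_mem_S hψ _⟩ : S) = ⟨x, le_of_mem_hom hφ x.2⟩ :=
      Subtype.ext (he x)
    rw [h1, hae x]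
    group

/-- Automorphisms of order prime to the index come from the normal subgroup. -/
theorem exists_mem_of_coprime_index (h : F.IsRealizedBy ι) {K : Subgroup G} [K.Normal]
    {R : Subgroup Ω} (hR : R ≤ S) {α : F.autGroup R} (hα : (orderOf α).Coprime K.index)
    [Finite G] : ∃ g ∈ K, ∀ x : R, ι ⟨((α : MulAut R) x : R), hR ((α : MulAut R) x).2⟩ =
      g * ι ⟨x, hR x.2⟩ * g⁻¹ := by
  let M : Subgroup (F.autGroup R) :=
    { carrier := {β | ∃ g ∈ K, ∀ x : R, ι ⟨((β : MulAut R) x : R), hR ((β : MulAut R) x).2⟩ =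
        g * ι ⟨x, hR x.2⟩ * g⁻¹}
      one_mem' := ⟨1, one_mem _, fun x => by simp⟩
      mul_mem' := by
        rintro a b ⟨g, hg, he⟩ ⟨k, hk, he'⟩
        refine ⟨g * k, mul_mem hg hk, fun x => ?_⟩
        refine (he ((b : MulAut R) x)).trans ?_
        rw [he' x]; group
      inv_mem' := by
        rintro a ⟨g, hg, he⟩
        refine ⟨g⁻¹, inv_mem hg, fun x => ?_⟩
        have h1 := he (((a⁻¹ : F.autGroup R) : MulAut R) x)
        have h2 : (a : MulAut R) (((a⁻¹ : F.autGroup R) : MulAut R) x) = x :=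
          MulAut.apply_inv_self _ _ _
        simp only [h2] at h1
        rw [h1]; group }
  suffices α ∈ M from this
  obtain ⟨g, hg⟩ := realized_hom h ((autGroup_carrier hR).1 α.2)
  have hpow : ∀ j : ℕ, ∀ x : R,
      ι ⟨(((α ^ j : F.autGroup R) : MulAut R) x : R), hR (((α ^ j : F.autGroup R) : MulAut R) x).2⟩ =
        g ^ j * ι ⟨x, hR x.2⟩ * (g ^ j)⁻¹ := by
    intro j
    induction j with
    | zero => intro x; simp
    | succ j ih =>
      intro x
      have e : (((α ^ (j + 1) : F.autGroup R) : MulAut R) x) =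
          (α : MulAut R) (((α ^ j : F.autGroup R) : MulAut R) x) := by
        rw [pow_succ']; rfl
      simp only [e]
      refine (hg _).trans ?_
      rw [ih x, pow_succ']
      group
  have hK : α ^ K.index ∈ M := ⟨g ^ K.index, K.pow_index_mem g, hpow _⟩
  obtain ⟨m, hm⟩ := exists_pow_eq_self_of_coprime hα.symm
  rw [← hm]
  exact pow_mem hK m

theorem ne_bot_nontrivial (h : F.IsRealizedBy ι) (hne : S ≠ ⊥) : Nontrivial G := by
  obtain ⟨x, hx, hx1⟩ := (Subgroup.bot_or_exists_ne_one S).resolve_left hne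
  exact ⟨⟨ι ⟨x, hx⟩, 1, fun e => hx1 (congrArg Subtype.val (h.1 (e.trans ι.map_one.symm)))⟩⟩

/-- A `p`-soluble model of a system equal to its `p'`-residual shrinks the hyperfocal subgroup. -/
theorem hyperfocal_lt {F' : FusionSystem S} (p : ℕ) [Fact p.Prime] (hS : IsPGroup p S) (hne : S ≠ ⊥)
    (hE : F'.IsPPrimeResidual p F) (hm : F.IsModel p G ι) (hG : Cfsg.IsPSolvable p G) :
    F.hyperfocalSubgroup p < S := by
  obtain ⟨hfin, hr, ⟨P, hP⟩, hC⟩ := hm
  haveI := ne_bot_nontrivial hr hne
  obtain ⟨K, hKn, hKne, hKs⟩ : ∃ K : Subgroup G, K.Normal ∧ K ≠ ⊤ ∧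
      ((∃ m, K.index = p ^ m) ∨ K.index.Coprime p) := by
    obtain ⟨n, C, h0, hn, -, hnor, hstep⟩ := hG
    by_contra hno
    push Not at hno
    have : ∀ i, C i = ⊤ := by
      intro i
      induction i using Fin.reverseInduction with
      | last => exact hn
      | cast i ih =>
        by_contra hne'
        have h1 := hstep i
        rw [ih, Subgroup.relIndex_top_right] at h1
        obtain ⟨h2, h3⟩ := hno _ (hnor _) hne'
        rcases h1 with ⟨m, hm⟩ | hc
        · exact h2 m hm
        · exact h3 hc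
    exact bot_ne_top (h0 ▸ this 0)
  haveI := hKn
  rcases hKs with ⟨m, hm⟩ | hc
  · have hle : F.hyperfocalSubgroup p ≤ preimg ι K := by
      refine (Subgroup.closure_le _).2 ?_
      rintro _ ⟨R, α, x, hR, hα, rfl⟩
      have key : ∀ x : R, (x : Ω)⁻¹ * (((α : MulAut R) x : R) : Ω) ∈ preimg ι K := by
        induction hα using Subgroup.closure_induction with
        | mem α hα =>
          intro x
          obtain ⟨g, hg, he⟩ := exists_mem_of_coprime_index hr hR (α := α)
            (hm ▸ Nat.Coprime.pow_right m hα)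
          refine mem_preimg.2 ⟨mul_mem (Subgroup.inv_mem _ (hR x.2)) (hR ((α : MulAut R) x).2), ?_⟩
          have e : ι ⟨(x : Ω)⁻¹ * (((α : MulAut R) x : R) : Ω),
              mul_mem (Subgroup.inv_mem _ (hR x.2)) (hR ((α : MulAut R) x).2)⟩ =
              (ι ⟨x, hR x.2⟩)⁻¹ * g * ι ⟨x, hR x.2⟩ * g⁻¹ := by
            rw [show (⟨(x : Ω)⁻¹ * (((α : MulAut R) x : R) : Ω), _⟩ : S) =
              (⟨x, hR x.2⟩ : S)⁻¹ * ⟨((α : MulAut R) x : R), hR ((α : MulAut R) x).2⟩ from rfl,
              map_mul, map_inv, he x]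
            group
          rw [e]
          refine mul_mem ?_ (inv_mem hg)
          simpa using hKn.conj_mem _ hg (ι ⟨x, hR x.2⟩)⁻¹
        | one => intro x; simp
        | mul a b _ _ ha hb =>
          intro x
          have := mul_mem (hb x) (ha ((b : MulAut R) x))
          simpa [mul_assoc] using this
        | inv a _ ha =>
          intro x
          have := Subgroup.inv_mem _ (ha (((a⁻¹ : F.autGroup R) : MulAut R) x))
          simpa [mul_assoc] using this
      exact key x
    refine lt_of_le_of_ne (hyperfocalSubgroup_le_S p) fun he => hKne ?_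
    have hrange : ι.range ≤ K := by
      rintro _ ⟨s, rfl⟩
      exact (mem_preimg.1 (hle (he.symm ▸ s.2))).2
    have hd : K.index ∣ (P : Subgroup G).index := Subgroup.index_dvd_of_le (hP ▸ hrange)
    refine Subgroup.index_eq_one.1 ?_
    rcases Nat.eq_zero_or_pos m with rfl | hpos
    · simpa using hm
    · exact absurd ((dvd_pow_self p hpos.ne').trans (hm ▸ hd)) P.not_dvd_index
  · exfalso
    have hrange : ι.range ≤ K := by
      rintro _ ⟨s, rfl⟩
      obtain ⟨k, hk⟩ := hS s
      have h1 := K.pow_index_mem (ι s)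
      have hy := (pow_gcd_eq_one (m := K.index) (n := p ^ k) (a := QuotientGroup.mk' K (ι s))).2
        ⟨by rw [← map_pow]; exact (QuotientGroup.eq_one_iff _).2 h1,
        by rw [← map_pow, ← map_pow, hk, map_one, map_one]⟩
      rw [Nat.Coprime.gcd_eq_one (hc.pow_right k), pow_one] at hy
      exact (QuotientGroup.eq_one_iff _).1 hy
    let D := indSystem hr K hrange
    let ι' : S →* K := ι.codRestrict K fun s => hrange ⟨s, rfl⟩
    have hreal : D.IsRealizedBy ι' := by
      refine ⟨fun a b hab => hr.1 (congrArg Subtype.val hab), fun R hR φ hφ => ⟨?_, ?_⟩⟩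
      · rintro ⟨h1, g, hg, he⟩
        exact ⟨⟨g, hg⟩, fun x => Subtype.ext (he x)⟩
      · rintro ⟨g, he⟩
        exact ⟨(hr.2 R hR φ hφ).2 ⟨g, fun x => congrArg Subtype.val (he x)⟩, g, g.2,
          fun x => congrArg Subtype.val (he x)⟩
    have hPK : (P : Subgroup G) ≤ K := hP ▸ hrange
    have hDs : D.IsSaturated p := by
      refine saturated_of_realized p hS hreal (P.subtype hPK) ?_
      ext y
      show (y : G) ∈ (P : Subgroup G) ↔ _
      rw [hP]
      exact ⟨fun ⟨s, hs⟩ => ⟨s, Subtype.ext hs⟩, fun ⟨s, hs⟩ => ⟨s, congrArg Subtype.val hs⟩⟩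
    have hDi : D.HasPrimeToPIndexIn F' p := by
      refine ⟨fun R φ hφ => hE.2.1.1 R hφ.1, fun R hR => ?_⟩
      rw [MonoidHom.map_closure, Subgroup.closure_le]
      rintro _ ⟨α, ⟨k, hk⟩, rfl⟩
      have hαE : (α : MulAut R) ∈ F.autGroup R :=
        hE.2.1.2 R hR ⟨α, Subgroup.subset_closure ⟨k, hk⟩, rfl⟩
      obtain ⟨g, hg, he⟩ := exists_mem_of_coprime_index (K := K) hr hR (α := ⟨α, hαE⟩) (by
        rw [← Subgroup.orderOf_coe]
        show (orderOf (α : MulAut R)).Coprime K.index
        rw [Subgroup.orderOf_coe, hk]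
        exact (hc.pow_right k).symm)
      exact (autGroup_carrier hR).2 ⟨(autGroup_carrier hR).1 hαE, g, hg, he⟩
    have hsub := hE.2.2 D hDs hDi
    refine hKne ((Subgroup.eq_top_iff' K).2 fun g => ?_)
    have hcore : Cfsg.pCore p G ≤ ι.range := pCore_le_range p P hP
    obtain ⟨φ, hφ, hg⟩ := exists_realized_hom hr (preimg_le (ι := ι) (Cfsg.pCore p G)) (g := g)
      fun x => hcore ((CfsgLib.Solvable.pCore_normal p).conj_mem _ (mem_preimg.1 x.2).2 g)
    obtain ⟨h1, k, hk, he⟩ := hsub _ hφ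
    have hcen : k⁻¹ * g ∈ Subgroup.centralizer ((Cfsg.pCore p G : Subgroup G) : Set G) := by
      refine Subgroup.mem_centralizer_iff.2 fun y hy => ?_
      obtain ⟨s, rfl⟩ := hcore hy
      have h2 := (he ⟨s, mem_preimg.2 ⟨s.2, hy⟩⟩).symm.trans (hg ⟨s, mem_preimg.2 ⟨s.2, hy⟩⟩)
      simp only [Subtype.coe_eta] at h2
      calc ι s * (k⁻¹ * g) = k⁻¹ * (k * ι s * k⁻¹) * g := by group
        _ = k⁻¹ * (g * ι s * g⁻¹) * g := by rw [h2]
        _ = k⁻¹ * g * ι s := by group
    simpa using mul_mem hk (hrange (hcore (hC hcen)))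

end Realized

/-- A soluble system with `p`-soluble automisers has a terminating series. -/
theorem terminating_of_good (p : ℕ) [Fact p.Prime] :
    ∀ {S : Subgroup Ω} [Finite S], IsPGroup p S → ∀ (F : FusionSystem S), F.IsSaturated p →
      Good F p → F.HasTerminatingResidualSeries p := by
  intro S
  induction hn : Nat.card S using Nat.strong_induction_on generalizing S with
  | _ n IH =>
  subst hn
  intro _ hS F hF h
  rcases eq_or_ne S ⊥ with hbot | hne
  · exact .trivial F p hbot
  obtain ⟨E, hE⟩ := exists_pPrimeResidual p hS hF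
  have hEsub : E.IsSubsystemOf F := hE.2.1.1
  have hEgood : Good E p := by
    refine ⟨?_, fun R hR => ?_⟩
    · have := solvChain_restrict hEsub le_rfl h.1
      rwa [bot_inf_eq] at this
    · haveI := finite_of_le hR
      haveI := finite_mulAut (P := R)
      exact CfsgLib.PConstrained.isPSolvable_comap
        (Subgroup.inclusion (autGroup_mono' hEsub R)) (Subgroup.inclusion_injective _) (h.2 R hR)
  have hEc := isConstrained_of_solvable p hS hE.1 ((isSolvableSystem_iff_chain p hS hE.1).2 hEgood.1)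
  obtain ⟨-, Q, hQn, hQc⟩ := id hEc
  obtain ⟨H, _, ι, hm⟩ := exists_model p hS hE.1 hQn hQc
  have hH := (pSolvable_model_iff p hS hEc hm).2 (hEgood.2 _ core_le_S)
  have hlt := hyperfocal_lt p hS hne hE hm hH
  obtain ⟨D, hDs, hDi⟩ :=
    exists_pPowerIndex_subsystem p hS E hE.1 _ (hyperfocalSubgroup_le_S p) le_rfl
  refine .step F E p D hE ⟨hDs, hDi⟩ ?_
  haveI := finite_of_le hlt.le
  refine IH _ (card_lt_of_lt_finite hlt) rfl (isPGroup_of_le hS hlt.le) D hDs
    ⟨?_, fun R hR => ?_⟩
  · have := solvChain_restrict hDi.1 hlt.le hEgood.1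
    rwa [bot_inf_eq] at this
  · haveI := finite_of_le (hR.trans hlt.le)
    haveI := finite_mulAut (P := R)
    exact CfsgLib.PConstrained.isPSolvable_comap
      (Subgroup.inclusion (autGroup_mono' hDi.1 R)) (Subgroup.inclusion_injective _)
      (hEgood.2 R (hR.trans hlt.le))

/-- **Terminating residual series.** -/
theorem terminating_iff [Finite S] (p : ℕ) [Fact p.Prime] (hS : IsPGroup p S) (F : FusionSystem S)
    (hF : F.IsSaturated p) : F.HasTerminatingResidualSeries p ↔ (F.IsConstrained p ∧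
      ∀ (G : Type u) [Group G] (ι : S →* G), F.IsModel p G ι → Cfsg.IsPSolvable p G) := by
  constructor
  · intro h
    have hgood := good_of_terminating p h ‹_› hS hF
    have hc := isConstrained_of_solvable p hS hF ((isSolvableSystem_iff_chain p hS hF).2 hgood.1)
    exact ⟨hc, fun G _ ι hm => (pSolvable_model_iff p hS hc hm).2 (hgood.2 _ core_le_S)⟩
  · rintro ⟨hc, hmod⟩
    obtain ⟨-, Q, hQn, hQc⟩ := id hc
    obtain ⟨G, _, ι, hm⟩ := exists_model p hS hF hQn hQc
    haveI := hm.1
    have hG := hmod G ι hm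
    exact terminating_of_good p hS F hF
      ⟨solvChain_of_realized p hS hm.2.1 hG, fun R hR => isPSolvable_autGroup_of_realized p hm.2.1 hG hR⟩

end CfsgLib.Terminating
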