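import Cfsg.Agent.Fusion.Transfer

/-!
Transfer of homs defined on the first projections of the graphs only, with a shift of values.
-/

set_option autoImplicit false
set_option linter.style.haveILetI false

open Cfsg Cfsg.FusionSystem

namespace CfsgLib.Fusion

universe u v

section Detect

variable {Ω : Type u} [Group Ω] {S : Subgroup Ω} [Finite S] {F : FusionSystem S}
variable {A : Type v} [CommGroup A]

open Classical in
/-- Fixed points of `(x ^ n, y)` with `y` in a class-closed set, counted through a hom on the first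
projection that detects the set. -/
theorem sum_fixCount_detect (Pr : S → Prop) (hPr : ∀ s y : S, Pr y → Pr (s * y * s⁻¹))
    {H : Subgroup (S × S)} (h : IsGraph F H) (f : H.map (MonoidHom.fst S S) →* A) [Fintype S] (x : S)
    (n : ℕ) (a : A)
    (hdet : ∀ w (hw : w ∈ H) (g : S), w.1 = g⁻¹ * x ^ n * g →
      (f ⟨w.1, ⟨w, hw, rfl⟩⟩ = a ↔ Pr w.2)) :
    (∑ y : S, if Pr y then fixCount H (Subgroup.zpowers ((x ^ n, y) : S × S)) else 0) =
      valCount f x n a * Nat.card S := by
  have hfix : ∀ (y : S), fixCount H (Subgroup.zpowers ((x ^ n, y) : S × S)) =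
      Nat.card {q : (S × S) ⧸ H // ((x ^ n, y) : S × S) • q = q} := fun y =>
    Nat.card_congr (Equiv.subtypeEquivRight fun q => ⟨fun hq => hq _ (Subgroup.mem_zpowers _),
      fun hq k hk => (Subgroup.zpowers_le (H := MulAction.stabilizer (S × S) q)).2 hq hk⟩)
  simp only [hfix]
  rw [← Finset.sum_filter]
  let T := {z : ((S × S) ⧸ H) × S // Pr z.2 ∧ ((x ^ n, z.2) : S × S) • z.1 = z.1}
  have hT : Nat.card T = ∑ y ∈ Finset.univ.filter (fun y : S => Pr y),
      Nat.card {q : (S × S) ⧸ H // ((x ^ n, y) : S × S) • q = q} := by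
    let e : T ≃ Σ y : {y : S // Pr y}, {q : (S × S) ⧸ H // ((x ^ n, y.1) : S × S) • q = q} :=
      { toFun := fun z => ⟨⟨z.1.2, z.2.1⟩, ⟨z.1.1, z.2.2⟩⟩
        invFun := fun z => ⟨(z.2.1, z.1.1), z.1.2, z.2.2⟩
        left_inv := fun _ => rfl
        right_inv := fun _ => rfl }
    rw [Nat.card_congr e, Nat.card_sigma]
    exact (Finset.sum_subtype _ (fun y => by simp) fun y =>
      Nat.card {q : (S × S) ⧸ H // ((x ^ n, y) : S × S) • q = q}).symm
  rw [← hT, valCount, ← Nat.card_prod]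
  symm
  have hw : ∀ r : {r : S ⧸ (H.map (MonoidHom.fst S S)) // ∃ h : r.out⁻¹ * x ^ n * r.out ∈ (H.map (MonoidHom.fst S S)),
      f ⟨_, h⟩ = a}, ∃ w ∈ H, w.1 = r.1.out⁻¹ * x ^ n * r.1.out ∧ Pr w.2 := by
    rintro ⟨r, hr, hra⟩
    obtain ⟨w, hw, hwe⟩ := hr
    change w.1 = _ at hwe
    refine ⟨w, hw, hwe, ?_⟩
    exact (hdet w hw r.out hwe).1 ((congrArg f (Subtype.ext hwe)).trans hra)
  choose w hwH hw1 hwa using hw
  refine Nat.card_eq_of_bijective (fun z : _ × S => (⟨(((z.1.1.out, z.2) : S × S),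
    z.2 * (w z.1).2 * z.2⁻¹), ?_, ?_⟩ : T)) ⟨?_, ?_⟩
  · exact hPr z.2 _ (hwa z.1)
  · rw [smul_mk_eq_iff]
    refine Set.mem_of_eq_of_mem (Prod.ext ?_ ?_) (hwH z.1)
    · exact (hw1 z.1).symm
    · show z.2⁻¹ * (z.2 * (w z.1).2 * z.2⁻¹) * z.2 = (w z.1).2
      group
  · rintro ⟨r, s⟩ ⟨r', s'⟩ he
    have h1 := congrArg (fun t : T => t.1.1) he
    change ((((r.1.out, s) : S × S)) : (S × S) ⧸ H) = (((r'.1.out, s') : S × S) : (S × S) ⧸ H) at h1
    rw [QuotientGroup.eq] at h1
    have hr : r = r' := Subtype.ext (by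
      rw [← QuotientGroup.out_eq' r.1, ← QuotientGroup.out_eq' r'.1, QuotientGroup.eq]
      exact ⟨_, h1, rfl⟩)
    subst hr
    have := h.fst_inj h1 (one_mem H) (inv_mul_cancel r.1.out)
    exact Prod.ext rfl (inv_mul_eq_one.1 (congrArg Prod.snd this))
  · rintro ⟨⟨q, y⟩, hya, hq⟩
    obtain ⟨⟨g, k⟩, rfl⟩ := QuotientGroup.mk_surjective q
    obtain ⟨π, hπ⟩ := QuotientGroup.mk_out_eq_mul (H.map (MonoidHom.fst S S)) g
    obtain ⟨v, hv, hv1⟩ := π.2
    change v.1 = _ at hv1
    rw [smul_mk_eq_iff] at hq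
    set u : S × S := v⁻¹ * ((g, k)⁻¹ * (x ^ n, y) * (g, k)) * v
    have hu : u ∈ H := mul_mem (mul_mem (inv_mem hv) hq) hv
    have hu1 : u.1 = (g : S ⧸ (H.map (MonoidHom.fst S S))).out⁻¹ * x ^ n * (g : S ⧸ (H.map (MonoidHom.fst S S))).out := by
      show v.1⁻¹ * (g⁻¹ * x ^ n * g) * v.1 = _
      rw [hπ, hv1]; group
    have hu2 : u.2 = v.2⁻¹ * (k⁻¹ * y * k) * v.2 := rfl
    have hmem : (g : S ⧸ (H.map (MonoidHom.fst S S))).out⁻¹ * x ^ n * (g : S ⧸ (H.map (MonoidHom.fst S S))).out ∈ (H.map (MonoidHom.fst S S)) := ⟨u, hu, hu1⟩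
    have hval : f ⟨_, hmem⟩ = a := by
      refine (congrArg f (Subtype.ext hu1.symm : _ = (⟨u.1, ⟨u, hu, rfl⟩⟩ : (H.map (MonoidHom.fst S S))))).trans
        ((hdet u hu _ hu1).2 ?_)
      have h1 := hPr (v.2⁻¹ * k⁻¹) y hya
      rw [hu2]
      simpa [mul_assoc] using h1
    refine ⟨(⟨(g : S ⧸ (H.map (MonoidHom.fst S S))), hmem, hval⟩, k * v.2), Subtype.ext (Prod.ext ?_ ?_)⟩
    · show ((((g : S ⧸ (H.map (MonoidHom.fst S S))).out, k * v.2) : S × S) : (S × S) ⧸ H) = (((g, k) : S × S) : (S × S) ⧸ H)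
      rw [show (((g : S ⧸ (H.map (MonoidHom.fst S S))).out, k * v.2) : S × S) = (g, k) * v from
        Prod.ext (by rw [hπ, ← hv1]; rfl) rfl, QuotientGroup.mk_mul_of_mem _ hv]
    · have := h.fst_inj (hwH ⟨(g : S ⧸ (H.map (MonoidHom.fst S S))), hmem, hval⟩) hu ((hw1 _).trans hu1.symm)
      show k * v.2 * (w ⟨(g : S ⧸ (H.map (MonoidHom.fst S S))), hmem, hval⟩).2 * (k * v.2)⁻¹ = y
      rw [this, hu2]
      group

end Detect

section Shift

open MulAction Function

variable {G : Type u} [Group G] [Finite G] {A : Type v} [CommGroup A] [Fintype A] {ι : Type*}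

open Classical in
/-- The orbit lengths add up to the index. -/
theorem sum_orbCount {P : Subgroup G} (f : P →* A) (x : G) :
    ∑ n ∈ Finset.range (Nat.card G + 1), ∑ a : A, n * orbCount f x n a = P.index := by
  have : Fintype (Quotient (orbitRel (Subgroup.zpowers x) (G ⧸ P))) := Fintype.ofFinite _
  rw [Subgroup.index_eq_sum_minimalPeriod P x, ← Finset.sum_product']
  rw [← Finset.sum_fiberwise_of_maps_to
    (s := (Finset.univ : Finset (Quotient (orbitRel (Subgroup.zpowers x) (G ⧸ P)))))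
    (g := fun q => (orbLen x q, orbVal f x q))
    (t := Finset.range (Nat.card G + 1) ×ˢ (Finset.univ : Finset A))
    (fun q _ => Finset.mem_product.2
      ⟨Finset.mem_range.2 (Nat.lt_succ_of_le (orbLen_le x q)), Finset.mem_univ _⟩)]
  refine Finset.sum_congr rfl fun na _ => ?_
  symm
  refine (Finset.sum_congr rfl (g := fun _ => na.1) ?_).trans ?_
  · intro q hq
    exact congrArg Prod.fst (Finset.mem_filter.1 hq).2
  rw [Finset.sum_const, smul_eq_mul, mul_comm]
  congr 1
  rw [orbCount, Nat.card_eq_fintype_card, Fintype.card_subtype]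
  congr 1
  ext q
  simp [Prod.ext_iff]

open Classical in
/-- Combinations of transfers at elements whose counts differ by a shift `s`. -/
theorem transfer_combination_shift (S₀ : Finset ι) (c : ι → ℤ) (P : ι → Subgroup G)
    (f : ∀ i, P i →* A) (x x' : G) (s : A)
    (h : ∀ n, 0 < n → ∀ a, ∑ i ∈ S₀, c i * valCount (f i) x n a =
      ∑ i ∈ S₀, c i * valCount (f i) x' n (a * s ^ n)) :
    (∏ i ∈ S₀, MonoidHom.transfer (f i) x ^ c i) * s ^ (∑ i ∈ S₀, c i * (P i).index) =
      ∏ i ∈ S₀, MonoidHom.transfer (f i) x' ^ c i := by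
  have hshift : ∀ (n d : ℕ), d ∣ n → ∀ a b : A,
      (b * s ^ d) ^ (n / d) = a * s ^ n ↔ b ^ (n / d) = a := fun n d hd a b => by
    rw [mul_pow, ← pow_mul, Nat.mul_div_cancel' hd, mul_left_inj]
  have key : ∀ n a, ∑ i ∈ S₀, c i * orbCount (f i) x n a =
      ∑ i ∈ S₀, c i * orbCount (f i) x' n (a * s ^ n) := by
    intro n
    induction n using Nat.strong_induction_on with
    | _ n ih =>
    intro a
    rcases Nat.eq_zero_or_pos n with rfl | hn
    · have h0 : ∀ (i : ι) (y : G) (b : A), orbCount (f i) y 0 b = 0 := fun i y b =>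
        Nat.card_eq_zero.2 (Or.inl ⟨fun q => (orbLen_pos y q.1).ne' q.2.1⟩)
      simp [h0]
    have e : ∀ (y : G) (a : A), (∑ i ∈ S₀, c i * valCount (f i) y n a) =
        (n : ℤ) * (∑ i ∈ S₀, c i * orbCount (f i) y n a) +
        ∑ d ∈ n.properDivisors, ∑ b : A, if b ^ (n / d) = a then
          (d : ℤ) * ∑ i ∈ S₀, c i * orbCount (f i) y d b else 0 := by
      intro y a
      simp only [valCount_orbCount _ y n a hn, ← Nat.cons_self_properDivisors hn.ne',
        Finset.sum_cons, Nat.div_self hn, pow_one, Finset.sum_ite_eq', Finset.mem_univ, if_true,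
        Nat.cast_add, Nat.cast_mul, Nat.cast_sum, Nat.cast_ite, Nat.cast_zero, mul_add,
        Finset.sum_add_distrib, Finset.mul_sum, mul_ite, mul_zero]
      congr 1
      · exact Finset.sum_congr rfl fun i _ => by ring
      · rw [Finset.sum_comm]
        refine Finset.sum_congr rfl fun d _ => ?_
        rw [Finset.sum_comm]
        refine Finset.sum_congr rfl fun b _ => ?_
        split_ifs
        · exact Finset.sum_congr rfl fun i _ => by ring
        · simp
    have h1 := h n hn a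
    rw [e x, e x'] at h1
    have h2 : (∑ d ∈ n.properDivisors, ∑ b : A, if b ^ (n / d) = a then
          (d : ℤ) * ∑ i ∈ S₀, c i * orbCount (f i) x d b else 0) =
        ∑ d ∈ n.properDivisors, ∑ b : A, if b ^ (n / d) = a * s ^ n then
          (d : ℤ) * ∑ i ∈ S₀, c i * orbCount (f i) x' d b else 0 := by
      refine Finset.sum_congr rfl fun d hd => ?_
      refine Fintype.sum_equiv (Equiv.mulRight (s ^ d)) _ _ fun b => ?_
      rw [Equiv.coe_mulRight, ih d (Nat.mem_properDivisors.1 hd).2 b,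
        propext (hshift n d (Nat.mem_properDivisors.1 hd).1 a b)]
    rw [h2] at h1
    exact mul_left_cancel₀ (Int.natCast_ne_zero.2 hn.ne') (add_right_cancel h1)
  have hz : ∀ (a : A) (t : Finset ι) (g : ι → ℤ), a ^ (∑ i ∈ t, g i) = ∏ i ∈ t, a ^ g i :=
    fun a t g => map_prod (zpowersHom A a) (fun i => Multiplicative.ofAdd (g i)) t
  have e : ∀ y : G, ∏ i ∈ S₀, MonoidHom.transfer (f i) y ^ c i =
      ∏ n ∈ Finset.range (Nat.card G + 1), ∏ a : A, a ^ (∑ i ∈ S₀, c i * orbCount (f i) y n a) := by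
    intro y
    simp only [transfer_eq_prod, hz, ← Finset.prod_zpow]
    rw [Finset.prod_comm]
    refine Finset.prod_congr rfl fun n _ => ?_
    rw [Finset.prod_comm]
    refine Finset.prod_congr rfl fun a _ => Finset.prod_congr rfl fun i _ => ?_
    rw [← zpow_natCast, ← zpow_mul, mul_comm]
  have hidx : s ^ (∑ i ∈ S₀, c i * (P i).index) =
      ∏ n ∈ Finset.range (Nat.card G + 1), ∏ a : A,
        (s ^ n) ^ (∑ i ∈ S₀, c i * orbCount (f i) x n a) := by
    rw [Finset.sum_congr rfl fun i _ => by rw [← sum_orbCount (f i) x]]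
    push_cast
    simp only [Finset.mul_sum]
    rw [hz]
    simp only [hz]
    have hz2 : ∀ (t : Finset ℕ) (g : ℕ → ℤ), s ^ (∑ n ∈ t, g n) = ∏ n ∈ t, s ^ g n :=
      fun t g => map_prod (zpowersHom A s) (fun n => Multiplicative.ofAdd (g n)) t
    have hz3 : ∀ (g : A → ℤ), s ^ (∑ a : A, g a) = ∏ a : A, s ^ g a :=
      fun g => map_prod (zpowersHom A s) (fun n => Multiplicative.ofAdd (g n)) _
    simp only [hz2, hz3]
    rw [Finset.prod_comm]
    refine Finset.prod_congr rfl fun n _ => ?_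
    rw [Finset.prod_comm]
    refine Finset.prod_congr rfl fun a _ => Finset.prod_congr rfl fun i _ => ?_
    rw [← zpow_natCast s n, ← zpow_mul]
    push_cast
    ring_nf
  rw [e x, e x', hidx, ← Finset.prod_mul_distrib]
  refine Finset.prod_congr rfl fun n _ => ?_
  rw [← Finset.prod_mul_distrib]
  refine Fintype.prod_equiv (Equiv.mulRight (s ^ n)) _ _ fun a => ?_
  rw [Equiv.coe_mulRight, ← mul_zpow, key n a]

end Shift

end CfsgLib.Fusion
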