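import Cfsg.Agent.Fusion.Transfer
import Cfsg.Agent.Fusion.TransferShift

/-!
The Thompson transfer lemma for saturated systems, from a stable virtual biset.
-/

set_option autoImplicit false
set_option linter.style.haveILetI false
set_option linter.unusedSectionVars false

open Cfsg Cfsg.FusionSystem

namespace CfsgLib.Fusion

universe u

open MulAction Function

/-- A transfer to `ℤˣ` at an involution counts the fixed cosets of value `-1`. -/
theorem transfer_involution {G : Type u} [Group G] [Finite G] {P : Subgroup G} (f : P →* ℤˣ)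
    (x : G) (hx : x * x = 1) :
    MonoidHom.transfer f x = (-1 : ℤˣ) ^ valCount f x 1 (-1) ∧
      (P.index : ℤ) ≡ (valCount f x 1 1 + valCount f x 1 (-1) : ℕ) [ZMOD 2] := by
  classical
  have hper : ∀ q : G ⧸ P, Function.IsPeriodicPt (x • ·) 2 q := fun q => by
    show x • x • q = q
    rw [smul_smul, hx, one_smul]
  have hlen : ∀ q : Quotient (orbitRel (Subgroup.zpowers x) (G ⧸ P)),
      orbLen x q = 1 ∨ orbLen x q = 2 := fun q =>
    (Nat.dvd_prime Nat.prime_two).1 (hper q.out).minimalPeriod_dvd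
  have hval : ∀ q : Quotient (orbitRel (Subgroup.zpowers x) (G ⧸ P)),
      orbLen x q = 2 → orbVal f x q = 1 := fun q hq => by
    unfold orbVal
    refine Eq.trans (congrArg f (Subtype.ext ?_)) (map_one f)
    show _ * x ^ _ * _ = (1 : G)
    rw [show Function.minimalPeriod (x • ·) q.out = 2 from hq, pow_two, hx, mul_one, inv_mul_cancel]
  have hz : ∀ n a, n ≠ 1 → n ≠ 2 → orbCount f x n a = 0 := fun n a h1 h2 =>
    Nat.card_eq_zero.2 (Or.inl ⟨fun q => by rcases hlen q.1 with h | h <;> omega⟩)
  have h21 : orbCount f x 2 (-1) = 0 :=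
    Nat.card_eq_zero.2 (Or.inl ⟨fun q => by
      have := (hval q.1 q.2.1).symm.trans q.2.2
      exact absurd this (by decide)⟩)
  have hone : ∀ a, valCount f x 1 a = orbCount f x 1 a := fun a => by
    rw [valCount_orbCount f x 1 a one_pos]
    rcases Int.units_eq_one_or a with rfl | rfl <;> simp
  have huniv : (Finset.univ : Finset ℤˣ) = {1, -1} := by decide
  constructor
  · rw [transfer_eq_prod, hone]
    by_cases h : 1 ∈ Finset.range (Nat.card G + 1)
    · rw [Finset.prod_eq_single_of_mem 1 h fun n _ hn => ?_]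
      · rw [huniv, Finset.prod_pair (by decide)]
        simp
      · rw [huniv, Finset.prod_pair (by decide)]
        rcases eq_or_ne n 2 with rfl | h2
        · rw [h21]; simp
        · simp [hz n 1 hn h2, hz n (-1) hn h2]
    · have := Nat.card_pos (α := G)
      exact absurd (Finset.mem_range.2 (by omega)) h
  · have h := sum_orbCount f x
    rw [← h]
    push_cast
    have hsum : ∀ n ∈ Finset.range (Nat.card G + 1), n ≠ 1 →
        ((∑ a : ℤˣ, n * orbCount f x n a : ℕ) : ℤ) ≡ 0 [ZMOD 2] := by
      intro n _ hn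
      rcases eq_or_ne n 2 with rfl | h2
      · rw [← Finset.mul_sum]
        exact (Int.modEq_zero_iff_dvd).2 ⟨_, by push_cast; rfl⟩
      · simp [hz n _ hn h2]
    have h1 : 1 ∈ Finset.range (Nat.card G + 1) := by
      have := Nat.card_pos (α := G)
      exact Finset.mem_range.2 (by omega)
    rw [← Finset.add_sum_erase _ _ h1]
    refine (Int.ModEq.add_left _ ((Int.modEq_zero_iff_dvd).2 (Finset.dvd_sum fun n hn => ?_))).trans ?_
    · have := hsum n (Finset.mem_of_mem_erase hn) (Finset.ne_of_mem_erase hn)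
      push_cast at this
      exact Int.modEq_zero_iff_dvd.1 this
    · rw [huniv, Finset.sum_pair (by decide), hone, hone]
      simp

variable {Ω : Type u} [Group Ω] {S : Subgroup Ω} [Finite S] {F : FusionSystem S}

/-- Left translations by the centralizer of `j` act freely on the fixed points of `(j, y)`. -/
theorem card_centralizer_dvd_fixCount {H : Subgroup (S × S)} (h : IsGraph F H) (j y : S) :
    Nat.card (Subgroup.centralizer ({j} : Set S)) ∣
      fixCount H (Subgroup.zpowers ((j, y) : S × S)) := by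
  classical
  let C := Subgroup.centralizer ({j} : Set S)
  let X := {q : (S × S) ⧸ H // ∀ k ∈ Subgroup.zpowers ((j, y) : S × S), k • q = q}
  let act : C → X → X := fun s q => ⟨((s : S), (1 : S)) • q.1, fun k hk => by
    obtain ⟨i, rfl⟩ := Subgroup.mem_zpowers_iff.1 hk
    have hc : Commute ((j, y) : S × S) ((s : S), (1 : S)) :=
      Prod.ext (Subgroup.mem_centralizer_singleton_iff.1 s.2).symm
        ((mul_one y).trans (one_mul y).symm)
    rw [smul_smul, (hc.zpow_left i).eq, ← smul_smul, q.2 _ (zpow_mem (Subgroup.mem_zpowers _) i)]⟩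
  letI : SMul C X := ⟨act⟩
  letI : MulAction C X :=
    { one_smul := fun q => Subtype.ext (one_smul (S × S) q.1)
      mul_smul := fun s t q => Subtype.ext (by
        show (((s * t : C) : S), (1 : S)) • q.1 = ((s : S), (1 : S)) • ((t : S), (1 : S)) • q.1
        rw [smul_smul, Prod.mk_mul_mk, one_mul]
        rfl) }
  have hfree : ∀ q : X, MulAction.stabilizer C q = ⊥ := fun q => by
    rw [eq_bot_iff]
    intro s hs
    obtain ⟨g, hg⟩ := QuotientGroup.mk_surjective q.1
    have h1 : ((s : S), (1 : S)) • q.1 = q.1 := congrArg Subtype.val hs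
    rw [← hg, smul_mk_eq_iff] at h1
    obtain ⟨R, η, hη, hgo⟩ := h
    obtain ⟨hR, he⟩ := (hgo _).1 h1
    have e0 : ((g⁻¹ * ((s : S), (1 : S)) * g).2 : Ω) = 1 := by simp
    have e1 : η ⟨_, hR⟩ = 1 := (apply_congr η (y := 1) (by simpa using e0)).trans (map_one η)
    rw [e1] at he
    have e2 : g.1⁻¹ * (s : S) * g.1 = 1 := Subtype.ext (by simpa using he.symm)
    rw [Subgroup.mem_bot]
    refine Subtype.ext ?_
    have : g.1 * (g.1⁻¹ * (s : S) * g.1) * g.1⁻¹ = 1 := by rw [e2]; simp
    simpa [mul_assoc] using this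
  refine ⟨Nat.card (Quotient (MulAction.orbitRel C X)), ?_⟩
  show Nat.card X = _
  rw [Nat.card_congr (MulAction.selfEquivSigmaOrbitsQuotientStabilizer C X)]
  have : Fintype (Quotient (MulAction.orbitRel C X)) := Fintype.ofFinite _
  rw [Nat.card_sigma, mul_comm, Finset.sum_congr rfl fun q _ => show
    Nat.card (C ⧸ MulAction.stabilizer C q.out) = Nat.card C by
      rw [← Subgroup.index, hfree, Subgroup.index_bot]]
  rw [Finset.sum_const, Finset.card_univ, smul_eq_mul, ← Nat.card_eq_fintype_card]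

/-- The normalizer of a subgroup generated by an involution is its centralizer. -/
theorem card_normalizerIn_zpowers {x : S} (hx : x * x = 1) :
    Nat.card (normalizerIn S (Subgroup.zpowers (x : Ω))) =
      Nat.card (Subgroup.centralizer ({x} : Set S)) := by
  have key : ∀ g : S, (g : Ω) ∈ Subgroup.normalizer (Subgroup.zpowers (x : Ω) : Set Ω) ↔
      g ∈ Subgroup.centralizer ({x} : Set S) := by
    intro g
    have hmem : ∀ z : Ω, z ∈ Subgroup.zpowers (x : Ω) → z = 1 ∨ z = x := by
      intro z hz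
      obtain ⟨k, rfl⟩ := Subgroup.mem_zpowers_iff.1 hz
      have hx2 : (x : Ω) ^ (2 : ℤ) = 1 := by
        rw [zpow_two]; exact congrArg Subtype.val hx
      rcases Int.even_or_odd k with ⟨m, rfl⟩ | ⟨m, rfl⟩
      · left; rw [← two_mul, zpow_mul, hx2, one_zpow]
      · right; rw [zpow_add, zpow_mul, hx2, one_zpow, one_mul, zpow_one]
    rw [Subgroup.mem_centralizer_singleton_iff]
    constructor
    · intro hg
      rcases hmem _ ((Subgroup.mem_normalizer_iff.1 hg _).1 (Subgroup.mem_zpowers _)) with h | h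
      · have : (x : Ω) = 1 := by
          calc (x : Ω) = (g : Ω)⁻¹ * (g * x * (g : Ω)⁻¹) * g := by group
            _ = 1 := by rw [h]; group
        rw [show x = 1 from Subtype.ext this]
        simp
      · refine Subtype.ext ?_
        show (g : Ω) * x = x * g
        calc (g : Ω) * x = (g * x * (g : Ω)⁻¹) * g := by group
          _ = x * g := by rw [h]
    · intro hg
      have hg' : (g : Ω) * x = x * g := congrArg Subtype.val hg
      refine centralizer_le_normalizer' _ (Subgroup.mem_centralizer_iff.2 fun z hz => ?_)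
      rcases hmem z hz with rfl | rfl
      · simp
      · exact hg'.symm
  exact Nat.card_congr
    ⟨fun g => ⟨⟨g, g.2.1⟩, (key ⟨g, g.2.1⟩).1 g.2.2⟩, fun g => ⟨g.1, g.1.2, (key g.1).2 g.2⟩,
      fun _ => rfl, fun _ => rfl⟩

/-- An invariant hom that is nontrivial on the involution `i`, when no fully normalized conjugate
of `i` lies in the subgroup `T` of index two. -/
theorem thompson_transfer (hS : IsPGroup 2 S) (hF : F.IsSaturated 2) {T : Subgroup Ω}
    (hT : T.relIndex S = 2) {i : Ω} (hi : i ∈ S) (hi2 : orderOf i = 2)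
    (h : ∀ j : Ω, F.IsConjElt i j → F.IsFullyNormalized (Subgroup.zpowers j) → j ∉ T) :
    i ∉ F.focalSubgroup := by
  classical
  have : Fintype S := Fintype.ofFinite S
  have : Fintype (Subgroup (S × S)) := Fintype.ofFinite _
  have hidx : (T.subgroupOf S).index = 2 := hT
  let θ : S →* ℤˣ := MonoidHom.mk' (fun s => if (s : Ω) ∈ T then 1 else -1) fun a b => by
    have := Subgroup.mul_mem_iff_of_index_two hidx (a := a) (b := b)
    simp only [Subgroup.mem_subgroupOf, Subgroup.coe_mul] at this
    by_cases ha : (a : Ω) ∈ T <;> by_cases hb : (b : Ω) ∈ T <;> simp [this, ha, hb]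
  have hθ : ∀ y : S, θ y = 1 ↔ (y : Ω) ∈ T := fun y => by
    show (if (y : Ω) ∈ T then (1 : ℤˣ) else -1) = 1 ↔ _
    split_ifs with hy <;> simp [hy]
  obtain ⟨c, hsupp, hdeg, hst⟩ := exists_stable_biset (p := 2) hS hF
  set s : Finset (Subgroup (S × S)) := Finset.univ.filter (IsGraph F) with hs
  set x : S := ⟨i, hi⟩ with hx
  have hxx : x * x = 1 := Subtype.ext (by
    show i * i = 1
    rw [← pow_two, ← hi2, pow_orderOf_eq_one])
  intro hfoc
  -- the transfer is trivial at `i`
  have hμ : ∀ y : S, (y : Ω) ∈ F.focalSubgroup →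
      ∏ H ∈ s, MonoidHom.transfer (graphHom F θ H) y ^ c H = 1 := by
    let μ : S →* ℤˣ := MonoidHom.mk'
      (fun y => ∏ H ∈ s, MonoidHom.transfer (graphHom F θ H) y ^ c H) fun a b => by
        simp only [map_mul, mul_zpow, Finset.prod_mul_distrib]
    have hker : F.focalSubgroup ≤ μ.ker.map S.subtype := by
      refine (Subgroup.closure_le _).2 ?_
      rintro _ ⟨P, φ, z, hφ, rfl⟩
      refine ⟨⟨z, le_of_mem_hom hφ z.2⟩⁻¹ * ⟨φ z, apply_mem_S hφ z⟩, ?_, rfl⟩
      rw [SetLike.mem_coe, MonoidHom.mem_ker, map_mul, map_inv,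
        show μ ⟨φ z, apply_mem_S hφ z⟩ = μ ⟨z, le_of_mem_hom hφ z.2⟩ from
          prod_transfer_invariant hsupp hst θ hφ z, inv_mul_cancel]
    intro y hy
    obtain ⟨w, hw, hwe⟩ := hker hy
    obtain rfl : w = y := Subtype.ext hwe
    exact hw
  set v : Subgroup (S × S) → ℤˣ → ℤ := fun H a => (valCount (graphHom F θ H) x 1 a : ℤ) with hv
  -- hence the count of fixed cosets of value `-1` is even
  have heven : Even (∑ H ∈ s, c H * v H (-1)) := by
    have h1 := hμ x hfoc
    rw [Finset.prod_congr rfl fun H _ => by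
      rw [(transfer_involution (graphHom F θ H) x hxx).1, ← zpow_natCast, ← zpow_mul,
        mul_comm]] at h1
    have hz : ∀ (g : Subgroup (S × S) → ℤ),
        (-1 : ℤˣ) ^ (∑ H ∈ s, g H) = ∏ H ∈ s, (-1 : ℤˣ) ^ g H := fun g =>
      map_prod (zpowersHom ℤˣ (-1)) (fun H => Multiplicative.ofAdd (g H)) s
    rw [← hz] at h1
    by_contra ho
    rw [Int.not_even_iff_odd] at ho
    obtain ⟨m, hm⟩ := ho
    rw [show (∑ H ∈ s, c H * (valCount (graphHom F θ H) x 1 (-1) : ℤ)) = 2 * m + 1 from hm,
      zpow_add, zpow_mul] at h1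
    simp at h1
  -- the total is odd
  have hodd : Odd ((∑ H ∈ s, c H * v H 1) + ∑ H ∈ s, c H * v H (-1)) := by
    have hmod : degree c ≡ (∑ H ∈ s, c H * v H 1) + ∑ H ∈ s, c H * v H (-1) [ZMOD 2] := by
      rw [degree, finsum_eq_sum_of_fintype, ← Finset.sum_add_distrib,
        ← Finset.sum_subset (Finset.subset_univ s) fun H _ hH => by
          rw [show c H = 0 by
            by_contra hc
            exact hH (Finset.mem_filter.2 ⟨Finset.mem_univ _, hsupp H hc⟩), zero_mul]]
      refine Int.ModEq.sum fun H hH => ?_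
      have hg := (Finset.mem_filter.1 hH).2
      rw [← mul_add]
      refine Int.ModEq.mul_left _ ?_
      have hh := (transfer_involution (graphHom F θ H) x hxx).2
      rw [show (H.map (MonoidHom.fst S S)).index = Nat.card S / Nat.card H by
        rw [← Subgroup.card_mul_index (H.map (MonoidHom.fst S S)),
          ← Nat.card_congr (Equiv.ofBijective ((MonoidHom.fst S S).subgroupMap H)
            ⟨fun a b he => Subtype.ext (hg.fst_inj a.2 b.2 (congrArg Subtype.val he)),
              (MonoidHom.fst S S).subgroupMap_surjective H⟩),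
          Nat.mul_div_cancel_left _ Nat.card_pos]] at hh
      simpa [hv] using hh
    rw [Int.odd_iff]
    have h2 : ¬ (2 : ℤ) ∣ degree c := by exact_mod_cast hdeg
    have h3 : degree c % 2 = 1 := by omega
    rw [Int.ModEq] at hmod
    omega
  -- the count of value `1` is even
  suffices heven1 : Even (∑ H ∈ s, c H * v H 1) from
    (Int.not_even_iff_odd.2 hodd) (heven1.add heven)
  have hsum : (∑ H ∈ s, c H * v H 1) * (Nat.card S : ℤ) =
      ∑ y : S, if θ y = 1 then mark c (Subgroup.zpowers ((x, y) : S × S)) else 0 := by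
    have hmark : ∀ y : S, mark c (Subgroup.zpowers ((x, y) : S × S)) =
        ∑ H ∈ s, c H * fixCount H (Subgroup.zpowers ((x, y) : S × S)) := by
      intro y
      rw [mark, finsum_eq_sum_of_fintype]
      refine (Finset.sum_subset (Finset.subset_univ s) fun H _ hH => ?_).symm
      rw [show c H = 0 by
        by_contra hc
        exact hH (Finset.mem_filter.2 ⟨Finset.mem_univ _, hsupp H hc⟩), zero_mul]
    rw [Finset.sum_mul]
    simp only [hmark]
    rw [Finset.sum_congr rfl fun H hH => show
      c H * v H 1 * (Nat.card S : ℤ) =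
        c H * ((∑ y : S, if θ y = 1 then fixCount H (Subgroup.zpowers ((x ^ 1, y) : S × S))
          else 0 : ℕ) : ℤ) by
      rw [mul_assoc, hv, ← Nat.cast_mul]
      congr 2
      convert (sum_fixCount θ (Finset.mem_filter.1 hH).2 x 1 1).symm using 3]
    simp only [Nat.cast_sum, Finset.mul_sum, pow_one]
    rw [Finset.sum_comm]
    refine Finset.sum_congr rfl fun y _ => ?_
    split_ifs <;> simp
  suffices hdvd : (2 * Nat.card S : ℤ) ∣
      ∑ y : S, if θ y = 1 then mark c (Subgroup.zpowers ((x, y) : S × S)) else 0 by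
    rw [← hsum] at hdvd
    exact even_iff_two_dvd.2
      ((mul_dvd_mul_iff_right (Int.natCast_ne_zero.2 (Nat.card_pos (α := S)).ne')).1 hdvd)
  rw [← Finset.sum_fiberwise_of_maps_to (g := fun y : S => ConjClasses.mk y)
    (t := Finset.univ.image fun y : S => ConjClasses.mk y)
    (fun y hy => Finset.mem_image_of_mem _ hy)]
  refine Finset.dvd_sum fun K hK => ?_
  obtain ⟨y, -, rfl⟩ := Finset.mem_image.1 hK
  set val : S → ℤ := fun w => if θ w = 1 then mark c (Subgroup.zpowers ((x, w) : S × S)) else 0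
  have hconst : ∀ w ∈ Finset.univ.filter (fun w : S => ConjClasses.mk w = ConjClasses.mk y),
      val w = val y := by
    intro w hw
    obtain ⟨g, rfl⟩ := isConj_iff.1
      (ConjClasses.mk_eq_mk_iff_isConj.1 (Finset.mem_filter.1 hw).2).symm
    show (if θ (g * y * g⁻¹) = 1 then _ else 0) = _
    rw [show θ (g * y * g⁻¹) = θ y by rw [map_mul, map_mul, map_inv, mul_comm (θ g), mul_inv_cancel_right]]
    by_cases hy : θ y = 1
    · rw [if_pos hy, show val y = _ from if_pos hy,
        ← mark_conj c (Subgroup.zpowers ((x, y) : S × S)) ((1 : S), g), MonoidHom.map_zpowers]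
      congr 2
      simp
    · rw [if_neg hy, show val y = _ from if_neg hy]
  show _ ∣ ∑ w ∈ _, val w
  rw [Finset.sum_congr rfl hconst, Finset.sum_const, nsmul_eq_mul]
  by_cases hy : θ y = 1
  swap
  · rw [show val y = 0 from if_neg hy, mul_zero]; exact dvd_zero _
  rw [show val y = _ from if_pos hy]
  by_cases hgr : IsGraph F (Subgroup.zpowers ((x, y) : S × S))
  swap
  · rw [mark_eq_zero_of_not_graph hsupp hgr, mul_zero]; exact dvd_zero _
  -- `y` is conjugate to `i`
  obtain ⟨R, η, hη, hgo⟩ := hgr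
  obtain ⟨hyR, hyi⟩ := (hgo ((x, y) : S × S)).1 (Subgroup.mem_zpowers _)
  obtain ⟨ξ, hξ, -, hξ1, -⟩ := exists_inv hη (rfl : η.range = η.range)
  have hxr : i ∈ η.range := ⟨_, hyi⟩
  have hξy : ξ ⟨i, hxr⟩ = (y : Ω) :=
    (apply_congr ξ hyi.symm).trans (hξ1 ⟨y, hyR⟩ ⟨_, rfl⟩)
  have hyy : y * y = 1 := by
    refine Subtype.ext ?_
    have h1 : η (⟨y, hyR⟩ * ⟨y, hyR⟩) = η 1 := by
      rw [map_mul, map_one]
      show η ⟨(((x, y) : S × S).2 : Ω), hyR⟩ * η ⟨(((x, y) : S × S).2 : Ω), hyR⟩ = 1
      rw [hyi]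
      exact congrArg Subtype.val hxx
    exact congrArg (fun t : R => (t : Ω)) (F.injective_of_mem hη h1)
  have hiy : F.IsConjElt i y :=
    ⟨_, restrict_mem hξ (Subgroup.zpowers_le.2 hxr), hξy⟩
  have hyT : (y : Ω) ∈ T := (hθ y).1 hy
  -- a fully normalized conjugate
  have hnfn : ¬ F.IsFullyNormalized (Subgroup.zpowers (y : Ω)) := fun hfn => h y hiy hfn hyT
  obtain ⟨Q, hQ, hfn⟩ := exists_fullyNormalized F (P := Subgroup.zpowers (y : Ω))
    (Subgroup.zpowers_le.2 y.2)
  obtain ⟨φ, hφ, rfl⟩ := hQ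
  set j : S := ⟨φ ⟨y, Subgroup.mem_zpowers _⟩, apply_mem_S hφ _⟩ with hj
  have hjj : j * j = 1 := by
    refine Subtype.ext ?_
    show φ ⟨y, Subgroup.mem_zpowers _⟩ * φ ⟨y, Subgroup.mem_zpowers _⟩ = 1
    rw [← map_mul, ← map_one φ]
    exact apply_congr φ (congrArg (fun t : S => (t : Ω)) hyy)
  have hrange : φ.range = Subgroup.zpowers (j : Ω) := by
    apply le_antisymm
    · rintro _ ⟨⟨_, k, rfl⟩, rfl⟩
      refine ⟨k, ?_⟩
      show φ ⟨(y : Ω), _⟩ ^ k = _
      rw [← map_zpow]
      exact apply_congr φ (by simp)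
    · exact Subgroup.zpowers_le.2 ⟨_, rfl⟩
  rw [hrange] at hfn
  -- the marks
  have hm : mark c (Subgroup.zpowers ((x, y) : S × S)) =
      mark c (Subgroup.zpowers ((j, y) : S × S)) := by
    have h1 := mark_zpowers_eq (y := y) hsupp hst hξ (x := x) (x' := y) hxr hξy
    have h2 := mark_zpowers_eq (y := y) hsupp hst hφ (x := y) (x' := j) (Subgroup.mem_zpowers _) rfl
    exact h1.trans h2
  have hCj : (Nat.card (Subgroup.centralizer ({j} : Set S)) : ℤ) ∣
      mark c (Subgroup.zpowers ((j, y) : S × S)) := by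
    rw [mark, finsum_eq_sum_of_fintype]
    refine Finset.dvd_sum fun H _ => ?_
    by_cases hc : c H = 0
    · rw [hc, zero_mul]; exact dvd_zero _
    · exact (Int.natCast_dvd_natCast.2 (card_centralizer_dvd_fixCount (hsupp H hc) j y)).mul_left _
  have hlt : 2 * Nat.card (Subgroup.centralizer ({y} : Set S)) ∣
      Nat.card (Subgroup.centralizer ({j} : Set S)) := by
    obtain ⟨a, ha⟩ := IsPGroup.iff_card.1 (hS.to_subgroup (Subgroup.centralizer ({y} : Set S)))
    obtain ⟨b, hb⟩ := IsPGroup.iff_card.1 (hS.to_subgroup (Subgroup.centralizer ({j} : Set S)))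
    have hab : a < b := by
      by_contra hba
      refine hnfn ⟨Subgroup.zpowers_le.2 y.2, fun U hU => ?_⟩
      refine (hfn.2 U ?_).trans ?_
      · exact isConj_trans (isConj_symm ⟨φ, hφ, hrange⟩) hU
      · rw [card_normalizerIn_zpowers hjj, card_normalizerIn_zpowers hyy, ha, hb]
        exact Nat.pow_le_pow_right two_pos (not_lt.1 hba)
    rw [ha, hb, ← pow_succ']
    exact Nat.pow_dvd_pow 2 hab
  have hcls : (Finset.univ.filter fun w : S => ConjClasses.mk w = ConjClasses.mk y).card *
      Nat.card (Subgroup.centralizer ({y} : Set S)) = Nat.card S := by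
    have e : (Finset.univ.filter fun w : S => ConjClasses.mk w = ConjClasses.mk y).card =
        Nat.card (MulAction.orbit (ConjAct S) y) := by
      rw [← Fintype.card_subtype, Fintype.card_eq_nat_card]
      refine Nat.card_congr (Equiv.subtypeEquivRight fun w => ?_)
      rw [ConjAct.mem_orbit_conjAct, ConjClasses.mk_eq_mk_iff_isConj]
    have e2 : Nat.card (MulAction.stabilizer (ConjAct S) y) =
        Nat.card (Subgroup.centralizer ({y} : Set S)) := by
      refine Nat.card_congr (Equiv.subtypeEquiv ConjAct.ofConjAct.toEquiv fun g => ?_)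
      rw [MulAction.mem_stabilizer_iff, ConjAct.smul_def, mul_inv_eq_iff_eq_mul]
      exact Subgroup.mem_centralizer_singleton_iff.symm
    rw [e, ← e2, ← Nat.card_prod,
      Nat.card_congr (MulAction.orbitProdStabilizerEquivGroup (ConjAct S) y)]
    rfl
  obtain ⟨m, hm'⟩ := hCj
  obtain ⟨d, hd⟩ := hlt
  rw [hm, hm', hd]
  refine ⟨(d : ℤ) * m, ?_⟩
  rw [← hcls]
  push_cast
  ring

end CfsgLib.Fusion
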