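import Cfsg.Agent.Fusion.Transport
import Cfsg.Agent.Fusion.Local

/-!
Transport of subsystems, normality, subnormality, quasisimplicity along an isomorphism of the underlying groups.
-/

set_option autoImplicit false
set_option linter.style.haveILetI false

open Cfsg Cfsg.FusionSystem

namespace CfsgLib.Fusion.Tr

variable {Ω : Type*} [Group Ω] {Ω' : Type*} [Group Ω'] {S : Subgroup Ω} {S' : Subgroup Ω'}
  (t : Tr S S')

/-- Systems over corresponding subgroups that correspond under the restriction of `t`. -/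
structure Rel {U : Subgroup Ω} {U' : Subgroup Ω'} (D : FusionSystem U) (D' : FusionSystem U') : Prop where
  le : U ≤ S
  im_eq : t.im U = U'
  corr : (t.sub le im_eq).Corr D D'

variable {t} {U : Subgroup Ω} {U' : Subgroup Ω'} {D : FusionSystem U} {D' : FusionSystem U'}

theorem Rel.of_corr {F : FusionSystem S} {F' : FusionSystem S'} (c : t.Corr F F') : t.Rel F F' :=
  ⟨le_rfl, t.im_top, c⟩

theorem Rel.le' (r : t.Rel D D') : U' ≤ S' := r.im_eq ▸ t.im_le U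

theorem Rel.symm (r : t.Rel D D') : t.symm.Rel D' D :=
  ⟨r.le', by rw [← r.im_eq]; exact t.symm_im_im r.le, r.corr.symm⟩

theorem Rel.sub (r : t.Rel D D') {W : Subgroup Ω} {W' : Subgroup Ω'} (hU : U ≤ W) (hW : W ≤ S)
    (h : t.im W = W') : (t.sub hW h).Rel D D' :=
  ⟨hU, (t.sub_im hW h hU).trans r.im_eq, r.corr⟩

theorem Rel.fwd (r : t.Rel D D') {P : Subgroup Ω} {φ : P →* Ω} (hφ : φ ∈ D.Hom P) {P' : Subgroup Ω'}
    (hP' : t.im P = P') : ∃ φ' ∈ D'.Hom P', ∀ (x : Ω) (hx : x ∈ P) (hx' : t.f x ∈ P'),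
      φ' ⟨t.f x, hx'⟩ = t.f (φ ⟨x, hx⟩) :=
  r.corr.fwd hφ ((t.sub_im r.le r.im_eq (le_of_mem_hom hφ)).trans hP')

theorem Rel.bwd (r : t.Rel D D') {P' : Subgroup Ω'} {φ' : P' →* Ω'} (hφ' : φ' ∈ D'.Hom P') :
    ∃ φ ∈ D.Hom (t.symm.im P'), ∀ (y : Ω') (hy : y ∈ P') (hy' : t.g y ∈ t.symm.im P'),
      φ' ⟨y, hy⟩ = t.f (φ ⟨t.g y, hy'⟩) := by
  obtain ⟨φ, hφ, he⟩ := r.symm.fwd hφ' (P' := t.symm.im P') rfl
  refine ⟨φ, hφ, fun y hy hy' => ?_⟩
  have h1 : φ ⟨t.g y, hy'⟩ = t.g (φ' ⟨y, hy⟩) := he y hy hy'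
  rw [h1]
  exact (t.fg _ (r.le' (apply_mem_S hφ' _))).symm

theorem Rel.mono (r : t.Rel D D') {V : Subgroup Ω} {V' : Subgroup Ω'} {E : FusionSystem V}
    {E' : FusionSystem V'} (q : t.Rel E E') (h : D.IsSubsystemOf E) : D'.IsSubsystemOf E' := by
  intro P' φ' hφ'
  have hP' : P' ≤ S' := (le_of_mem_hom hφ').trans r.le'
  obtain ⟨φ, hφ, he⟩ := r.bwd hφ'
  obtain ⟨ψ', hψ', he'⟩ := q.fwd (h _ hφ) (t.im_symm_im hP')
  refine restrict_mem_of_eq hψ' le_rfl fun y => ?_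
  have hgy : t.g y ∈ t.symm.im P' := t.symm.f_mem_im hP' y.2
  have hfg : t.f (t.g y) = y := t.fg _ (hP' y.2)
  rw [he y y.2 hgy, ← he' (t.g y) hgy (by rw [hfg]; exact y.2)]
  exact apply_congr ψ' hfg

/-- The subsystem transported to the image of its group. -/
def mapSub (t : Tr S S') (hU : U ≤ S) (D : FusionSystem U) : FusionSystem (t.im U) :=
  (t.sub hU rfl).map D

theorem rel_mapSub (t : Tr S S') (hU : U ≤ S) (D : FusionSystem U) : t.Rel D (t.mapSub hU D) :=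
  ⟨hU, rfl, (t.sub hU rfl).corr_map D⟩

theorem Rel.eq_im {V' : Subgroup Ω'} {E' : FusionSystem V'} (r : t.Rel D D') (q : t.Rel D E') :
    U' = V' := r.im_eq.symm.trans q.im_eq

theorem Rel.congr_mem (r : t.Rel D D') {W : Subgroup Ω} (hW : W ≤ U) {W' : Subgroup Ω'} (h : t.im W = W')
    {α : MulAut W} :
    MulAut.congr (t.equiv (hW.trans r.le) h) α ∈ D'.autGroup W' ↔ α ∈ D.autGroup W :=
  r.corr.congr_mem hW ((t.sub_im r.le r.im_eq hW).trans h)

theorem Rel.saturated (r : t.Rel D D') {p : ℕ} [Fact p.Prime] [Finite U] (h : D.IsSaturated p) :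
    D'.IsSaturated p := r.corr.saturated h

theorem im_map_aut (t : Tr S S') {T : Subgroup Ω} (hT : T ≤ S) {T' : Subgroup Ω'} (h : t.im T = T')
    {P : Subgroup Ω} (hP : P ≤ T) (α : MulAut T) :
    t.im ((P.subgroupOf T).map (T.subtype.comp α.toMonoidHom)) =
      ((t.im P).subgroupOf T').map (T'.subtype.comp (MulAut.congr (t.equiv hT h) α).toMonoidHom) := by
  subst h
  ext y
  constructor
  · rintro ⟨hy, x, hx, hxy⟩
    have hfx : t.f (x : Ω) ∈ t.im P := t.f_mem_im (hP.trans hT) hx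
    refine ⟨⟨t.f (x : Ω), t.im_mono hP hfx⟩, hfx, ?_⟩
    show t.f ((α ⟨t.g (t.f x), _⟩ : T) : Ω) = y
    rw [← t.fg y hy, ← hxy]
    exact congrArg (fun z : T => t.f ((α z : T) : Ω)) (Subtype.ext (t.gf _ (hT x.2)))
  · rintro ⟨z, hz, rfl⟩
    refine ⟨t.f_mem _ (hT (α ⟨t.g z, z.2.2⟩).2), ⟨t.g z, z.2.2⟩, hz.2, ?_⟩
    exact (t.gf _ (hT (α ⟨t.g z, z.2.2⟩).2)).symm

theorem Rel.invariant {F : FusionSystem S} {F' : FusionSystem S'} (r : t.Rel D D') (c : t.Corr F F')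
    (h : D.IsInvariantIn F) : D'.IsInvariantIn F' := by
  obtain ⟨hsub, hscl, hinv, hfrat⟩ := h
  refine ⟨r.mono (Rel.of_corr c) hsub, r.im_eq ▸ c.stronglyClosed hscl, ?_, ?_⟩
  · intro P' hP' φ' hφ' α' hα'
    obtain ⟨α, rfl⟩ := (MulAut.congr (t.equiv r.le r.im_eq)).surjective α'
    rw [c.congr_mem r.le r.im_eq] at hα'
    obtain ⟨φ, hφ, he⟩ := r.bwd hφ'
    have hP : t.symm.im P' ≤ U := le_of_mem_hom hφ
    have himP : t.im (t.symm.im P') = P' := t.im_symm_im (hP'.trans r.le')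
    obtain ⟨χ, hχ, hχe⟩ := hinv _ hP φ hφ α hα'
    obtain ⟨χ', hχ', hχe'⟩ := r.fwd hχ ((t.im_map_aut r.le r.im_eq hP α).trans (by rw [himP]))
    refine ⟨χ', hχ', fun y hy hαy => ?_⟩
    have hgy : t.g y ∈ t.symm.im P' := t.symm.f_mem_im (hP'.trans r.le') y.2
    have h1 := hχe ⟨t.g y, hgy⟩ (apply_mem_S hφ _)
      (apply_mem_map_subgroupOf (U.subtype.comp α.toMonoidHom) (x := ⟨t.g y, hP hgy⟩) hgy)
    refine (hχe' ((α ⟨t.g y, hP hgy⟩ : U) : Ω)
      (apply_mem_map_subgroupOf (U.subtype.comp α.toMonoidHom) (x := ⟨t.g y, hP hgy⟩) hgy) hαy).trans ?_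
    rw [h1]
    refine congrArg (fun z : U => t.f ((α z : U) : Ω)) (Subtype.ext ?_)
    show φ _ = t.g (φ' y)
    rw [he y y.2 hgy, t.gf _ (r.le (apply_mem_S hφ _))]
  · intro P' hP' φ' hφ'
    obtain ⟨φ, hφ, he⟩ := (Rel.of_corr c).bwd hφ'
    have hP : t.symm.im P' ≤ U := by
      rw [← t.symm_im_im r.le, r.im_eq]
      exact t.symm.im_mono hP'
    obtain ⟨α, hα, φ₀, hφ₀, hd⟩ := hfrat _ hP φ hφ
    obtain ⟨φ₀', hφ₀', he₀⟩ := r.fwd hφ₀ (t.im_symm_im (hP'.trans r.le'))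
    refine ⟨MulAut.congr (t.equiv r.le r.im_eq) α, (c.congr_mem r.le r.im_eq).2 hα, φ₀', hφ₀', fun y hy => ?_⟩
    have hgy : t.g y ∈ t.symm.im P' := t.symm.f_mem_im (hP'.trans r.le') y.2
    rw [he y y.2 hgy, hd ⟨t.g y, hgy⟩ (apply_mem_S hφ₀ _)]
    refine congrArg (fun z : U => t.f ((α z : U) : Ω)) (Subtype.ext ?_)
    show φ₀ _ = t.g (φ₀' y)
    have hfg : t.f (t.g y) = y := t.fg _ (r.le' (hP' y.2))
    rw [← apply_congr φ₀' (x := ⟨t.f (t.g y), hfg.symm ▸ y.2⟩) (y := y) hfg, he₀ _ hgy _,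
      t.gf _ (r.le (apply_mem_S hφ₀ _))]

theorem Rel.normal {F : FusionSystem S} {F' : FusionSystem S'} {p : ℕ} [Fact p.Prime] [Finite S]
    (r : t.Rel D D') (c : t.Corr F F') (h : D.IsNormalIn F p) : D'.IsNormalIn F' p := by
  obtain ⟨⟨hD, hF, hinv⟩, hext⟩ := h
  haveI : Finite U := finite_of_le r.le
  refine ⟨⟨r.saturated hD, c.saturated hF, r.invariant c hinv⟩, fun α' hα' => ?_⟩
  obtain ⟨α, rfl⟩ := (MulAut.congr (t.equiv r.le r.im_eq)).surjective α'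
  have hα : α ∈ D.autGroup U := (r.congr_mem le_rfl r.im_eq).1 hα'
  obtain ⟨β, hβ, hβr, hβc⟩ := hext α hα
  have hW : U ⊔ centralizerIn S U ≤ S := sup_le r.le inf_le_left
  have hWim : t.im (U ⊔ centralizerIn S U) = U' ⊔ centralizerIn S' U' := by
    rw [t.im_sup r.le (centralizerIn_le_S U), t.im_centralizerIn r.le, r.im_eq]
  refine ⟨MulAut.congr (t.equiv hW hWim) β, (c.congr_mem hW hWim).2 hβ, fun y => ?_, fun y hy => ?_⟩
  · exact congrArg t.f (hβr ⟨t.g y, (r.im_eq.ge y.2).2⟩)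
  · have hcim : (y : Ω') ∈ t.im (centralizerIn S U) := by rwa [t.im_centralizerIn r.le, r.im_eq]
    have hwW : t.g y ∈ U ⊔ centralizerIn S U := le_sup_right (a := U) hcim.2
    have h1 := hβc ⟨t.g y, hwW⟩ hcim.2
    have hbS : ((β ⟨t.g y, hwW⟩ : ↥(U ⊔ centralizerIn S U)) : Ω) ∈ S := hW (β _).2
    have h2 : t.f ((t.g y)⁻¹ * ((β ⟨t.g y, hwW⟩ : ↥(U ⊔ centralizerIn S U)) : Ω)) ∈
        (t.sub r.le r.im_eq).im (centralizerIn U U) := (t.sub r.le r.im_eq).f_mem_im inf_le_left h1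
    rw [(t.sub r.le r.im_eq).im_centralizerIn le_rfl, (t.sub r.le r.im_eq).im_top,
      t.f_mul _ (inv_mem hcim.2.1) _ hbS, t.f_inv hcim.2.1, t.fg _ hcim.1] at h2
    exact h2

theorem subnormal_le {T S : Subgroup Ω} {E : FusionSystem T} {F : FusionSystem S} {p : ℕ}
    (h : E.IsSubnormalIn F p) : E.IsSubsystemOf F ∧ T ≤ S := by
  induction h with
  | refl => exact ⟨fun _ => subset_rfl, le_rfl⟩
  | step _ hn ih => exact ⟨fun P => (ih.1 P).trans (hn.1.2.2.1 P), ih.2.trans hn.1.2.2.2.1.1⟩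

theorem subnormal_aux {T S : Subgroup Ω} {E : FusionSystem T} {F : FusionSystem S} {p : ℕ}
    (h : E.IsSubnormalIn F p) : p.Prime → Finite S → ∀ (S' : Subgroup Ω') (t : Tr S S') (F' : FusionSystem S'),
      t.Corr F F' → ∀ (T' : Subgroup Ω') (E' : FusionSystem T'), t.Rel E E' → E'.IsSubnormalIn F' p := by
  induction h with
  | refl F p =>
    intro _ _ S' t F' c T' E' r
    obtain rfl : S' = T' := Rel.eq_im (Rel.of_corr c) r
    obtain rfl : E' = F' := le_antisymm' (r.mono (Rel.of_corr c) fun _ => subset_rfl)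
      ((Rel.of_corr c).mono r fun _ => subset_rfl)
    exact IsSubnormalIn.refl _ _
  | @step U S E D F p hED hn ih =>
    intro hp hfin S' t F' c T' E' r
    haveI := Fact.mk hp
    have hU : U ≤ S := hn.1.2.2.2.1.1
    have rD := t.rel_mapSub hU D
    exact IsSubnormalIn.step (ih hp (finite_of_le hU) _ _ _ rD.corr _ _ (r.sub (subnormal_le hED).2 hU rfl))
      (rD.normal c hn)

theorem Rel.subnormal {T : Subgroup Ω} {E : FusionSystem T} {F : FusionSystem S} {p : ℕ}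
    (h : E.IsSubnormalIn F p) [Fact p.Prime] [Finite S] {F' : FusionSystem S'} (c : t.Corr F F')
    {T' : Subgroup Ω'} {E' : FusionSystem T'} (r : t.Rel E E') : E'.IsSubnormalIn F' p :=
  subnormal_aux h Fact.out inferInstance _ t _ c _ _ r

theorem pResidual_map_le {G H : Type*} [Group G] [Group H] (f : G →* H) (hf : Function.Injective f) (p : ℕ) :
    (pResidual p G).map f ≤ pResidual p H := by
  rw [pResidual, MonoidHom.map_closure, Subgroup.closure_le]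
  rintro _ ⟨g, hg, rfl⟩
  refine Subgroup.subset_closure ?_
  show Nat.Coprime (orderOf (f g)) p
  rw [orderOf_injective f hf g]
  exact hg

section
variable {F : FusionSystem S} {F' : FusionSystem S'}

theorem hyperfocal_le (F : FusionSystem S) (p : ℕ) : F.hyperfocalSubgroup p ≤ S := by
  rw [FusionSystem.hyperfocalSubgroup, Subgroup.closure_le]
  rintro _ ⟨P, α, x, hP, -, rfl⟩
  exact mul_mem (inv_mem (hP x.2)) (hP ((α : MulAut P) x).2)

theorem im_hyperfocal_le (c : t.Corr F F') (p : ℕ) :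
    t.im (F.hyperfocalSubgroup p) ≤ F'.hyperfocalSubgroup p := by
  refine (t.im_le_iff (hyperfocal_le F p) (hyperfocal_le F' p)).2 ?_
  rw [FusionSystem.hyperfocalSubgroup, Subgroup.closure_le]
  rintro _ ⟨P, α, x, hP, hα, rfl⟩
  have hS : (x : Ω)⁻¹ * ((α : MulAut P) x : P) ∈ S := mul_mem (inv_mem (hP x.2)) (hP ((α : MulAut P) x).2)
  refine ⟨hS, ?_⟩
  show t.f _ ∈ _
  let e := MulAut.congr (t.equiv hP (rfl : t.im P = t.im P))
  let ψ : F.autGroup P →* F'.autGroup (t.im P) :=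
    MonoidHom.mk' (fun a => ⟨e a, (c.congr_mem hP rfl).2 a.2⟩) fun a b => Subtype.ext (map_mul e _ _)
  have hψ : Function.Injective ψ := fun a b h => Subtype.ext (e.injective (congrArg Subtype.val h))
  refine Subgroup.subset_closure ⟨t.im P, ψ α, ⟨t.f x, t.f_mem_im hP x.2⟩, t.im_le P,
    pResidual_map_le ψ hψ p ⟨α, hα, rfl⟩, ?_⟩
  show _ = (t.f x)⁻¹ * t.f (((α : MulAut P) ⟨t.g (t.f x), _⟩ : P) : Ω)
  rw [t.f_mul _ (inv_mem (hP x.2)) _ (hP ((α : MulAut P) x).2), t.f_inv (hP x.2)]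
  exact congrArg (fun z : P => (t.f x)⁻¹ * t.f (((α : MulAut P) z : P) : Ω))
    (Subtype.ext (t.gf _ (hP x.2)).symm)

theorem im_hyperfocal (c : t.Corr F F') (p : ℕ) :
    t.im (F.hyperfocalSubgroup p) = F'.hyperfocalSubgroup p :=
  le_antisymm (im_hyperfocal_le c p) ((t.im_symm_im (hyperfocal_le F' p)).ge.trans
    (t.im_mono (im_hyperfocal_le c.symm p)))

theorem isCentral_im (c : t.Corr F F') {Q : Subgroup Ω} (h : F.IsCentral Q) : F'.IsCentral (t.im Q) := by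
  refine ⟨t.im_le Q, fun P' φ' hφ' => ?_⟩
  have hP' := le_of_mem_hom hφ'
  obtain ⟨φ, hφ, he⟩ := (Rel.of_corr c).bwd hφ'
  obtain ⟨ψ, hψ, hψP, hψQ⟩ := h.2 _ φ hφ
  obtain ⟨ψ', hψ', he'⟩ := c.fwd hψ (P' := P' ⊔ t.im Q)
    (by rw [t.im_sup (t.symm.im_le P') h.1, t.im_symm_im hP'])
  refine ⟨ψ', hψ', fun y => ?_, fun y => ?_⟩
  · have hgy : t.g y ∈ t.symm.im P' := t.symm.f_mem_im hP' y.2
    have hfg : t.f (t.g y) = y := t.fg _ (hP' y.2)
    have h1 := he' (t.g y) (le_sup_left (b := Q) hgy) (by rw [hfg]; exact le_sup_left (b := t.im Q) y.2)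
    refine Eq.trans ?_ (h1.trans (Eq.trans (congrArg t.f (hψP ⟨t.g y, hgy⟩)) (he y y.2 hgy).symm))
    exact apply_congr ψ' hfg.symm
  · have hfg : t.f (t.g y) = y := t.fg _ y.2.1
    have h1 := he' (t.g y) (le_sup_right (a := t.symm.im P') y.2.2)
      (by rw [hfg]; exact le_sup_right (a := P') y.2)
    refine Eq.trans ?_ (h1.trans (Eq.trans (congrArg t.f (hψQ ⟨t.g y, y.2.2⟩)) hfg))
    exact apply_congr ψ' hfg.symm

theorem im_center (c : t.Corr F F') [Finite S] [Finite S'] : t.im F.center = F'.center :=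
  le_antisymm (le_sSup (isCentral_im c isCentral_center))
    ((t.im_symm_im center_le_S).ge.trans
      (t.im_mono (le_sSup (isCentral_im c.symm isCentral_center))))

end

section
variable {Ω₁ Ω₂ : Type*} [Group Ω₁] [Group Ω₂] {R : Subgroup Ω₁} {R' : Subgroup Ω₂}
  {F : FusionSystem S} {F' : FusionSystem S'} {E : FusionSystem R} {E' : FusionSystem R'}

theorem isFactorSystem_transfer (c : t.Corr F F') {θ : S →* Ω₁} {θ' : S' →* Ω₂} {Z : Subgroup Ω}
    {Z' : Subgroup Ω'} {t2 : Tr R R'} (c2 : t2.Corr E E') (hθ : ∀ s : S, θ s ∈ R)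
    (hsq : ∀ s : S, θ' ⟨t.f s, t.f_mem _ s.2⟩ = t2.f (θ s)) (hE' : F'.IsFactorSystem Z' θ' E')
    (hZS : Z ≤ S) (hk : ∀ s : S, θ s = 1 ↔ (s : Ω) ∈ Z) (hr : θ.range = R) :
    F.IsFactorSystem Z θ E := by
  refine ⟨hZS, hk, hr, fun P₁ ψ => ?_⟩
  have hpre : ∀ P, P ≤ R → t.im (preimageAlong θ P) = preimageAlong θ' (t2.im P) := by
    intro P hP
    ext y
    constructor
    · rintro ⟨hy, s, hs, hsy⟩
      refine ⟨⟨y, hy⟩, ?_, rfl⟩
      have e : (⟨y, hy⟩ : S') = ⟨t.f s, t.f_mem _ s.2⟩ := Subtype.ext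
        (by show y = t.f (s : Ω); rw [show (s : Ω) = t.g y from hsy, t.fg y hy])
      show θ' _ ∈ t2.im P
      rw [e, hsq]
      exact t2.f_mem_im hP hs
    · rintro ⟨s', hs', rfl⟩
      refine ⟨s'.2, ⟨t.g s', t.g_mem _ s'.2⟩, ?_, rfl⟩
      have e : (⟨t.f (t.g s'), t.f_mem _ (t.g_mem _ s'.2)⟩ : S') = s' := Subtype.ext (t.fg _ s'.2)
      have h1 := hsq ⟨t.g s', t.g_mem _ s'.2⟩
      rw [e] at h1
      have h2 : θ' s' ∈ t2.im P := hs'
      rw [h1] at h2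
      exact t2.mem_of_f_mem_im (hθ _) h2
  have hpreS : ∀ P, preimageAlong θ P ≤ S := fun P => by rintro _ ⟨s, -, rfl⟩; exact s.2
  constructor
  · intro hψ
    have hP₁ := le_of_mem_hom hψ
    obtain ⟨ψ', hψ', he⟩ := c2.fwd hψ (P' := t2.im P₁) rfl
    obtain ⟨-, φ', hφ', hQ, hφS, hmem, hind⟩ := (hE'.2.2.2 _ ψ').1 hψ'
    obtain ⟨φ, hφ, hφe⟩ := c.bwd (hpreS P₁) (hpre P₁ hP₁) hφ'
    have hm : ∀ x : ↥(preimageAlong θ P₁), θ ⟨x, hpreS P₁ x.2⟩ ∈ P₁ := by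
      rintro ⟨x, s, hs, rfl⟩
      exact hs
    refine ⟨hP₁, φ, hφ, hpreS P₁, apply_mem_S hφ, hm, fun x => ?_⟩
    have hfx : t.f x ∈ preimageAlong θ' (t2.im P₁) := hpre P₁ hP₁ ▸ t.f_mem_im (hpreS P₁) x.2
    refine t2.f_inj (apply_mem_S hψ _) (hθ _) ?_
    rw [← hsq ⟨φ x, apply_mem_S hφ x⟩, ← he _ (hm x) (t2.f_mem_im hP₁ (hm x))]
    refine Eq.trans (apply_congr ψ' (hsq ⟨x, hpreS P₁ x.2⟩).symm) ((hind ⟨t.f x, hfx⟩).trans ?_)
    exact congrArg θ' (Subtype.ext (hφe x x.2 hfx))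
  · rintro ⟨hP₁, φ, hφ, hQ, hφS, hm, hind⟩
    obtain ⟨φ', hφ', hφe⟩ := c.fwd hφ (hpre P₁ hP₁)
    let ψ₂ : t2.im P₁ →* Ω₂ := MonoidHom.mk' (fun y => t2.f (ψ ⟨t2.g y, y.2.2⟩)) fun a b => by
      have hR : ∀ z : P₁, ψ z ∈ R := fun z => by
        obtain ⟨s, hs⟩ : (z : Ω₁) ∈ θ.range := hr.ge (hP₁ z.2)
        have hx : (s : Ω) ∈ preimageAlong θ P₁ := ⟨s, show θ s ∈ P₁ by rw [hs]; exact z.2, rfl⟩
        rw [← apply_congr ψ (x := ⟨θ s, hm ⟨s, hx⟩⟩) (y := z) hs]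
        exact (hind ⟨s, hx⟩).symm ▸ hθ _
      rw [← t2.f_mul _ (hR _) _ (hR _), ← map_mul]
      exact congrArg t2.f (apply_congr ψ (t2.g_mul a.2.1 b.2.1))
    have hψ₂ : ψ₂ ∈ E'.Hom (t2.im P₁) := by
      refine (hE'.2.2.2 _ ψ₂).2 ⟨t2.im_le P₁, φ', hφ', ?_⟩
      refine ⟨fun x hx => (le_of_mem_hom hφ') hx, apply_mem_S hφ', ?_, ?_⟩
      · rintro ⟨x, s, hs, rfl⟩
        exact hs
      · intro x'
        obtain ⟨x, hx, hxy⟩ := t.exists_of_mem_im (hpreS P₁) ((hpre P₁ hP₁).ge x'.2)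
        have hfx : t.f x ∈ preimageAlong θ' (t2.im P₁) := hxy ▸ x'.2
        obtain rfl : x' = ⟨t.f x, hfx⟩ := Subtype.ext hxy.symm
        show t2.f (ψ ⟨t2.g (θ' _), _⟩) = _
        refine Eq.trans (congrArg t2.f ((apply_congr ψ ?_).trans (hind ⟨x, hx⟩))) ?_
        · show t2.g (θ' ⟨t.f x, _⟩) = θ ⟨x, _⟩
          rw [hsq ⟨x, hpreS P₁ hx⟩, t2.gf _ (hθ _)]
        · rw [← hsq]
          exact congrArg θ' (Subtype.ext (hφe x hx hfx).symm)
    obtain ⟨ψ₀, hψ₀, he⟩ := c2.bwd hP₁ rfl hψ₂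
    refine restrict_mem_of_eq hψ₀ le_rfl fun z => ?_
    have h1 := he z z.2 (t2.f_mem_im hP₁ z.2)
    have h2 : t2.f (ψ z) = t2.f (ψ₀ z) := by
      rw [← h1]
      exact congrArg t2.f (apply_congr ψ (t2.gf _ (hP₁ z.2)).symm)
    refine t2.f_inj ?_ (apply_mem_S hψ₀ _) h2
    obtain ⟨s, hs⟩ : (z : Ω₁) ∈ θ.range := hr.ge (hP₁ z.2)
    have hx : (s : Ω) ∈ preimageAlong θ P₁ := ⟨s, show θ s ∈ P₁ by rw [hs]; exact z.2, rfl⟩
    rw [← apply_congr ψ (x := ⟨θ s, hm ⟨s, hx⟩⟩) (y := z) hs]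
    exact (hind ⟨s, hx⟩).symm ▸ hθ _

theorem Corr.simple (c : t.Corr F F') {p : ℕ} [Fact p.Prime] [Finite S] [Finite S'] (h : F.IsSimple p) :
    F'.IsSimple p := by
  obtain ⟨hF, hne, hnorm⟩ := h
  refine ⟨c.saturated hF, fun hb => hne (t.im_inj le_rfl bot_le (by rw [t.im_top, t.im_bot, hb])),
    fun T' E' hE' => ?_⟩
  have hT' : T' ≤ S' := hE'.1.2.2.2.1.1
  have r := t.symm.rel_mapSub hT' E'
  rcases hnorm _ _ (r.normal c.symm hE') with h | ⟨h, hh⟩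
  · exact Or.inl (by rw [← t.im_symm_im hT', h, t.im_bot])
  · refine Or.inr ⟨by rw [← t.im_symm_im hT', h, t.im_top], fun P' => ?_⟩
    exact Set.Subset.antisymm ((r.symm.mono (Rel.of_corr c)) (fun Q => (hh Q).subset) P')
      ((Rel.of_corr c).mono r.symm (fun Q => (hh Q).superset) P')

end

theorem Corr.quasisimple {F : FusionSystem S} {F' : FusionSystem S'} (c : t.Corr F F') {p : ℕ}
    [Fact p.Prime] [Finite S] [Finite S'] (h : F.Quasisimple p) : F'.Quasisimple p := by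
  obtain ⟨hF, hhyp, hsimp⟩ := h
  refine ⟨c.saturated hF, by rw [← im_hyperfocal c p, hhyp, t.im_top], fun E' hE' => ?_⟩
  let e : S ≃* S' := t.equiv le_rfl t.im_top
  have he : (F.center.subgroupOf S).map e.toMonoidHom = F'.center.subgroupOf S' := by
    ext y
    rw [Subgroup.mem_subgroupOf, ← im_center c]
    constructor
    · rintro ⟨x, hx, rfl⟩
      exact t.f_mem_im center_le_S hx
    · intro hy
      exact ⟨⟨t.g y, hy.2 |> fun h => center_le_S h⟩, hy.2, Subtype.ext (t.fg y hy.1)⟩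
  let q : S ⧸ F.center.subgroupOf S ≃* S' ⧸ F'.center.subgroupOf S' := QuotientGroup.congr _ _ e he
  let t2 : Tr (⊤ : Subgroup (S ⧸ F.center.subgroupOf S)) (⊤ : Subgroup (S' ⧸ F'.center.subgroupOf S')) :=
    { f := q, g := q.symm, f_mem := fun _ _ => trivial, g_mem := fun _ _ => trivial
      gf := fun x _ => q.symm_apply_apply x, fg := fun y _ => q.apply_symm_apply y
      f_mul := fun x _ y _ => map_mul q x y }
  let E := t2.symm.map E'
  have c2 : t2.Corr E E' := (t2.symm.corr_map E').symm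
  have hE : F.IsFactorSystem F.center (QuotientGroup.mk' (F.center.subgroupOf S)) E := by
    refine isFactorSystem_transfer (R := ⊤) (R' := ⊤) c c2 (fun _ => trivial) (fun s => ?_) hE' center_le_S
      (fun s => by rw [QuotientGroup.mk'_apply, QuotientGroup.eq_one_iff, Subgroup.mem_subgroupOf])
      (MonoidHom.range_eq_top.2 (QuotientGroup.mk'_surjective _))
    exact (QuotientGroup.congr_mk' _ _ e he s).symm
  exact c2.simple (hsimp E hE)

theorem Rel.component {F : FusionSystem S} {F' : FusionSystem S'} {p : ℕ} [Fact p.Prime] [Finite S]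
    [Finite S'] (r : t.Rel D D') (c : t.Corr F F') (h : D.IsComponentIn F p) : D'.IsComponentIn F' p := by
  haveI : Finite U := finite_of_le r.le
  haveI : Finite U' := finite_of_le r.le'
  exact ⟨Rel.subnormal h.1 c r, r.corr.quasisimple h.2⟩

/-- The layer is carried into itself by every automorphism of the system. -/
theorem layer_subsystem {F : FusionSystem S} {p : ℕ} [Fact p.Prime] [Finite S] {F' : FusionSystem S'}
    [Finite S'] (c : t.Corr F F') {T : Subgroup Ω} {E : FusionSystem T} (hE : E.IsNormalIn F p)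
    (hcomp : ∀ (U : Subgroup Ω) (C : FusionSystem U), C.IsComponentIn F p → C.IsSubsystemOf E)
    {T' : Subgroup Ω'} {E' : FusionSystem T'}
    (hmin : ∀ (R : Subgroup Ω') (D : FusionSystem R), D.IsNormalIn F' p →
      (∀ (U : Subgroup Ω') (C : FusionSystem U), C.IsComponentIn F' p → C.IsSubsystemOf D) →
      E'.IsSubsystemOf D) :
    ∃ hT : T ≤ S, E'.IsSubsystemOf (t.mapSub hT E) := by
  have hT : T ≤ S := hE.1.2.2.2.1.1
  have r := t.rel_mapSub hT E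
  refine ⟨hT, hmin _ _ (r.normal c hE) fun U C hC => ?_⟩
  have hU : U ≤ S' := (subnormal_le hC.1).2
  have q := t.symm.rel_mapSub hU C
  exact q.symm.mono r (hcomp _ _ (q.component c.symm hC))

end CfsgLib.Fusion.Tr
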