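import Cfsg.Agent.Fusion.GlaubermanFunctor
import Cfsg.Agent.Fusion.InnerZJ
import Cfsg.Agent.ZJ.ZJCenter
import Cfsg.Prelude.Def_FusionComponents

/-!
The ZJ functor for Qd(p)-free systems, and solvability from a functor.
-/

set_option autoImplicit false
set_option linter.style.haveILetI false

open Cfsg Cfsg.FusionSystem

namespace CfsgLib.Fusion

universe u w

/-- `Z(J)` is a functor for systems free of Qd(p). -/
theorem isFunctorFor_centerThompsonA (p : ℕ) [Fact p.Prime] (hp : p ≠ 2) :
    IsFunctorFor.{u} p (fun (Q : Type u) _ => centerThompsonA Q) ↥(Cfsg.qd p) where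
  ne_bot Q _ _ hQ hne := by
    intro h
    have h1 := center_le_centerThompsonA.trans h.le
    have := hQ.center_nontrivial
    exact (Subgroup.nontrivial_iff_ne_bot _).1 this (le_bot_iff.1 h1)
  map _ _ _ _ _ _ φ := centerThompsonA_map φ
  normal L _ _ P hC hno := by
    rw [← centerThompsonAOf_eq, ← CfsgLib.ZJ.famCenter_abelian_eq]
    exact CfsgLib.ZJ.famCenter_normal hp CfsgLib.ZJ.admissible_abelian P _
      (CfsgLib.ZJ.stronglyClosed_self P) (CfsgLib.ZJ.stableNormal_of_free hp hno) hC

variable {p : ℕ} {W : ∀ (Q : Type u) [Group Q], Subgroup Q} {X : Type w} [Group X]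

/-- **Solvability from a functor**: every free saturated system is solvable. -/
theorem IsFunctorFor.isSolvableSystem (hW : IsFunctorFor p W X) [Fact p.Prime] {Ω : Type u}
    [Group Ω] {S : Subgroup Ω} [Finite S] (hS : IsPGroup p S) {F : FusionSystem S}
    (hF : F.IsSaturated p) (hfree : F.IsSectionFree p X) : F.IsSolvableSystem := by
  intro R hR hRS _ E hE hcore
  let T := (⊤ : Subgroup (S ⧸ R.subgroupOf S))
  have hpT : IsPGroup p T :=
    (hS.of_surjective _ (QuotientGroup.mk'_surjective (R.subgroupOf S))).to_subgroup ⊤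
  have hne : T ≠ ⊥ := by
    intro h
    refine hRS (le_antisymm hR.1 fun x hx => ?_)
    have h1 : QuotientGroup.mk' (R.subgroupOf S) ⟨x, hx⟩ = 1 :=
      Subgroup.mem_bot.1 (h ▸ Subgroup.mem_top _)
    exact (QuotientGroup.eq_one_iff (⟨x, hx⟩ : S)).1 h1
  have hn := hW.isNormal (Nat.card T) T E inferInstance hpT rfl (factor_saturated hR hE p hS hF)
    (sectionFree_factor p hS hF hR hfree hE)
  exact hW.wOf_ne_bot hpT hne (le_bot_iff.1 ((le_core hn).trans hcore.le))

end CfsgLib.Fusion
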