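import Cfsg.Agent.WS.Functor
import Cfsg.Agent.Fusion.ZJNormal
import Cfsg.Agent.Fusion.SolvableSystem

/-!
The largest nice subgroup as a functor for `S₄`-free fusion systems; realizability of systems free of
a section with a functor.
-/

set_option autoImplicit false
set_option linter.unusedSectionVars false
set_option linter.style.haveILetI false

open Cfsg Cfsg.FusionSystem

namespace CfsgLib.Fusion

universe u w

theorem isFunctorFor_wFun :
    IsFunctorFor.{u} 2 CfsgLib.WS.wFun.{u} (Equiv.Perm (Fin 4)) where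
  ne_bot Q _ _ hQ hne := @CfsgLib.WS.wFun_ne_bot Q _ _ hQ hne
  map _ _ _ _ _ _ φ := CfsgLib.WS.wFun_map φ
  normal L _ _ P hC hno := by
    rw [show (CfsgLib.WS.wFun ↥(P : Subgroup L)).map (P : Subgroup L).subtype =
      CfsgLib.WS.wOf (P : Subgroup L) from CfsgLib.WS.induced_wFun _]
    exact CfsgLib.WS.wOf_normal_of_free hC hno P

theorem isFunctorFor_wFun_qd :
    IsFunctorFor.{u} 2 CfsgLib.WS.wFun.{u} ↥(Cfsg.qd 2) where
  ne_bot := isFunctorFor_wFun.ne_bot
  map := isFunctorFor_wFun.map
  normal L _ _ P hC hno := isFunctorFor_wFun.normal L P hC fun h =>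
    hno (CfsgLib.SThreeFree.involves_qd_two_iff.2 h)

theorem exists_functorFor_qd (p : ℕ) [Fact p.Prime] :
    ∃ W : ∀ (Q : Type u) [Group Q], Subgroup Q, IsFunctorFor.{u} p W ↥(Cfsg.qd p) := by
  by_cases hp : p = 2
  · subst hp
    exact ⟨_, isFunctorFor_wFun_qd⟩
  · exact ⟨_, isFunctorFor_centerThompsonA p hp⟩

variable {p : ℕ} {W : ∀ (Q : Type u) [Group Q], Subgroup Q} {X : Type w} [Group X]
variable {Ω : Type u} [Group Ω] {S : Subgroup Ω} [Finite S]

/-- The value of the functor is a nontrivial characteristic subgroup. -/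
theorem IsFunctorFor.characteristic (hW : IsFunctorFor p W X) (hS : IsPGroup p S) :
    ((wOf W S).subgroupOf S).Characteristic := by
  rw [show (wOf W S).subgroupOf S = W ↥S by
    unfold wOf Subgroup.subgroupOf
    rw [Subgroup.comap_map_eq_self_of_injective S.subtype_injective]]
  exact Subgroup.characteristic_iff_map_eq.2 fun φ => hW.map _ _ hS φ

theorem IsFunctorFor.isNormal' (hW : IsFunctorFor p W X) [Fact p.Prime] (hS : IsPGroup p S)
    {F : FusionSystem S} (hF : F.IsSaturated p) (hfree : F.IsSectionFree p X) :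
    F.IsNormal (wOf W S) :=
  hW.isNormal (Nat.card S) S F inferInstance hS rfl hF hfree

theorem IsFunctorFor.isRealizable (hW : IsFunctorFor p W X) [Fact p.Prime] (hS : IsPGroup p S)
    {F : FusionSystem S} (hF : F.IsSaturated p) (hfree : F.IsSectionFree p X) :
    F.IsRealizable p := by
  obtain ⟨-, Q, hQn, hQc⟩ :=
    isConstrained_of_solvable p hS hF (hW.isSolvableSystem hS hF hfree)
  obtain ⟨G, hG, ι, hm⟩ := exists_model p hS hF hQn hQc
  exact ⟨G, hG, hm.1, ι, hm.2.1, hm.2.2.1⟩

end CfsgLib.Fusion
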