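import Cfsg.Agent.Fusion.Transfer
import Cfsg.Agent.Fusion.OrbitWreath

/-!
Yoshida's theorem for saturated fusion systems.
-/

set_option autoImplicit false
set_option linter.style.haveILetI false

open Cfsg Cfsg.FusionSystem
open scoped commutatorElement

namespace CfsgLib.Fusion

universe u

/-- Transfer commutes with homs of the values. -/
theorem comp_transfer {G A B : Type*} [Group G] [Finite G] [CommGroup A] [CommGroup B]
    {P : Subgroup G} (π : A →* B) (f : P →* A) (g : G) :
    π (MonoidHom.transfer f g) = MonoidHom.transfer (π.comp f) g := by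
  have : Fintype (G ⧸ P) := Fintype.ofFinite _
  rw [CfsgLib.WY.transfer_eq_eta, CfsgLib.WY.transfer_eq_eta, CfsgLib.WY.eta, CfsgLib.WY.eta,
    map_prod]
  rfl

variable {Ω : Type u} [Group Ω] {S : Subgroup Ω} [Finite S] {F : FusionSystem S}

theorem graphHom_comp {A B : Type*} [CommGroup A] [CommGroup B] (π : A →* B) (θ : S →* A)
    (H : Subgroup (S × S)) : π.comp (graphHom F θ H) = graphHom F (π.comp θ) H := by
  unfold graphHom
  split_ifs with h
  · rfl
  · exact MonoidHom.ext fun _ => map_one π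

/-- A character with trivial transfer that does not separate `Aut_F(S)`-orbits: the wreath product
is an image of `S`. -/
theorem exists_wreath_of_character (p : ℕ) [Fact p.Prime] (hS : IsPGroup p S)
    [Fintype (Subgroup (S × S))] {c : Subgroup (S × S) → ℤ}
    (hsupp : ∀ H, c H ≠ 0 → IsGraph F H) (hdeg : ¬ (p : ℤ) ∣ degree c)
    (θ : S →* Multiplicative (ZMod p)) (hθ : θ ≠ 1)
    (hN : ∀ (φ : S →* Ω) (hφ : φ ∈ F.Hom S) (y : S), θ ⟨φ y, apply_mem_S hφ y⟩ = θ y)
    (hμ : ∀ (s : Finset (Subgroup (S × S))), (∀ H, H ∈ s ↔ IsGraph F H) → ∀ x : S,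
      ∏ H ∈ s, MonoidHom.transfer (graphHom F θ H) x ^ c H = 1) :
    ∃ (Q : Sylow p (Equiv.Perm (Fin (p ^ 2))))
      (ψ : S →* ↥(Q : Subgroup (Equiv.Perm (Fin (p ^ 2))))), Function.Surjective ψ := by
  classical
  have : Fintype S := Fintype.ofFinite S
  obtain ⟨y₀, hy₀⟩ : ∃ y, θ y ≠ 1 := by
    by_contra h
    push Not at h
    exact hθ (MonoidHom.ext h)
  obtain ⟨x, hx, hxmin⟩ := Finset.exists_min_image
    (Finset.univ.filter fun s : S => θ s ≠ 1) (fun s : S => orderOf s)
    ⟨y₀, Finset.mem_filter.2 ⟨Finset.mem_univ _, hy₀⟩⟩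
  have hθx := (Finset.mem_filter.1 hx).2
  by_contra hno
  let s : Finset (Subgroup (S × S)) := Finset.univ.filter (IsGraph F)
  have hone : ∀ H ∈ s, MonoidHom.transfer (graphHom F θ H) x =
      θ x ^ (H.map (MonoidHom.fst S S)).index := by
    intro H hH
    have hg := (Finset.mem_filter.1 hH).2
    -- the value at a power of smaller order
    have hsmall : ∀ n : ℕ, orderOf (x ^ n) < orderOf x → ∀ (a : S)
        (h : a⁻¹ * x ^ n * a ∈ H.map (MonoidHom.fst S S)),
        graphHom F θ H ⟨a⁻¹ * x ^ n * a, h⟩ = 1 := by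
      intro n hn a h
      have hord : orderOf (a⁻¹ * x ^ n * a) = orderOf (x ^ n) := by
        simpa using (MulAut.conj a⁻¹).orderOf_eq (x ^ n)
      obtain ⟨w, hw, hw1⟩ := h
      change w.1 = _ at hw1
      refine ((congrArg (graphHom F θ H) (Subtype.ext hw1.symm :
        _ = (⟨w.1, ⟨w, hw, rfl⟩⟩ : H.map (MonoidHom.fst S S)))).trans
        (graphHom_apply hg hw _)).trans ?_
      by_contra hne
      have h1 := hxmin w.2 (Finset.mem_filter.2 ⟨Finset.mem_univ _, hne⟩)
      obtain ⟨R, η, hη, hgo⟩ := hg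
      obtain ⟨hwR, he⟩ := (hgo w).1 hw
      have h2 : orderOf (η ⟨_, hwR⟩) = orderOf w.2 := by
        rw [orderOf_injective η (F.injective_of_mem hη), ← Subgroup.orderOf_coe]
        exact Subgroup.orderOf_coe w.2
      rw [he, Subgroup.orderOf_coe, hw1, hord] at h2
      omega
    by_cases htop : H.map (MonoidHom.fst S S) = ⊤
    · rw [show (H.map (MonoidHom.fst S S)).index = 1 from Subgroup.index_eq_one.2 htop, pow_one]
      have hxm : x ∈ H.map (MonoidHom.fst S S) := htop ▸ Subgroup.mem_top x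
      letI : Fintype (Quotient (MulAction.orbitRel (Subgroup.zpowers x)
        (S ⧸ H.map (MonoidHom.fst S S)))) := Fintype.ofFinite _
      rw [MonoidHom.transfer_eq_prod_quotient_orbitRel_zpowers_quot]
      have hsub : Subsingleton (S ⧸ H.map (MonoidHom.fst S S)) := by
        rw [htop]; exact QuotientGroup.subsingleton_quotient_top
      have : Subsingleton (Quotient (MulAction.orbitRel (Subgroup.zpowers x)
          (S ⧸ H.map (MonoidHom.fst S S)))) := ⟨fun a b => by
        obtain ⟨a, rfl⟩ := Quotient.exists_rep a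
        obtain ⟨b, rfl⟩ := Quotient.exists_rep b
        rw [Subsingleton.elim a b]⟩
      rw [Fintype.prod_eq_single (Quotient.mk'' ((1 : S) : S ⧸ H.map (MonoidHom.fst S S)))
        fun b hb => absurd (Subsingleton.elim b _) hb]
      -- (Quotient.mk'' ((1 : S) : S ⧸ H.map (MonoidHom.fst S S)))]
      set q : S ⧸ H.map (MonoidHom.fst S S) :=
        Quotient.out (Quotient.mk'' ((1 : S) : S ⧸ H.map (MonoidHom.fst S S)) :
          Quotient (MulAction.orbitRel (Subgroup.zpowers x) (S ⧸ H.map (MonoidHom.fst S S))))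
      have hmp : Function.minimalPeriod (x • ·) q = 1 :=
        Function.minimalPeriod_eq_one_iff_isFixedPt.2 (Subsingleton.elim _ _)
      have hmem : q.out⁻¹ * x ^ Function.minimalPeriod (x • ·) q * q.out ∈
          H.map (MonoidHom.fst S S) := QuotientGroup.out_conj_pow_minimalPeriod_mem _ x q
      obtain ⟨w, hw, hw1⟩ := id hmem
      change w.1 = _ at hw1
      refine ((congrArg (graphHom F θ H) (Subtype.ext hw1.symm :
        _ = (⟨w.1, ⟨w, hw, rfl⟩⟩ : H.map (MonoidHom.fst S S)))).trans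
        (graphHom_apply hg hw _)).trans ?_
      obtain ⟨R, η, hη, hgo⟩ := hg
      obtain ⟨hwR, he⟩ := (hgo w).1 hw
      have hRS := le_of_mem_hom hη
      -- `η` is defined on all of `S`
      have hr : η.range = S := by
        refine le_antisymm (range_le_S hη) fun y hy => ?_
        obtain ⟨v, hv, hv1⟩ := htop.ge (Subgroup.mem_top (⟨y, hy⟩ : S))
        obtain ⟨hvR, hve⟩ := (hgo v).1 hv
        exact ⟨⟨_, hvR⟩, hve.trans (congrArg Subtype.val hv1)⟩
      obtain ⟨ψ, hψ, -, hψ1, -⟩ := exists_inv hη hr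
      have h1 : ψ w.1 = (w.2 : Ω) :=
        (apply_congr ψ (y := ⟨η ⟨_, hwR⟩, he ▸ w.1.2⟩) he.symm).trans (hψ1 ⟨_, hwR⟩ _)
      rw [show w.2 = ⟨ψ w.1, apply_mem_S hψ _⟩ from Subtype.ext h1.symm, hN ψ hψ w.1, hw1,
        map_mul, map_mul, map_inv, mul_comm (θ q.out)⁻¹, inv_mul_cancel_right, hmp, pow_one]
    · have htr : MonoidHom.transfer (graphHom F θ H) x = 1 := by
        by_contra hne
        exact hno (CfsgLib.WY.exists_wreath_of_transfer hS _ htop (graphHom F θ H) x hsmall hne)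
      obtain ⟨k, hk⟩ := hS.index (H.map (MonoidHom.fst S S))
      have hk0 : k ≠ 0 := by
        rintro rfl
        exact htop (Subgroup.index_eq_one.1 (by simpa using hk))
      rw [htr, hk]
      obtain ⟨j, rfl⟩ := Nat.exists_eq_succ_of_ne_zero hk0
      rw [pow_succ', pow_mul, CfsgLib.WY.cp_pow, one_pow]
  have h1 := hμ s (fun H => by simp [s]) x
  have h2 : θ x ^ degree c = 1 := by
    rw [← h1, degree, finsum_eq_sum_of_fintype]
    have hz : ∀ (g : Subgroup (S × S) → ℤ), θ x ^ (∑ H ∈ s, g H) = ∏ H ∈ s, θ x ^ g H := fun g =>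
      map_prod (zpowersHom _ (θ x)) (fun H => Multiplicative.ofAdd (g H)) s
    rw [← Finset.sum_subset (Finset.subset_univ s) fun H _ hH => by
      rw [show c H = 0 by
        by_contra hc0
        exact hH (Finset.mem_filter.2 ⟨Finset.mem_univ _, hsupp H hc0⟩), zero_mul], hz]
    refine Finset.prod_congr rfl fun H hH => ?_
    have hg := (Finset.mem_filter.1 hH).2
    rw [hone H hH, ← zpow_natCast (θ x), ← zpow_mul, mul_comm (c H)]
    congr 3
    rw [← Subgroup.card_mul_index (H.map (MonoidHom.fst S S)),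
      ← Nat.card_congr (Equiv.ofBijective ((MonoidHom.fst S S).subgroupMap H)
        ⟨fun a b he => Subtype.ext (hg.fst_inj a.2 b.2 (congrArg Subtype.val he)),
          (MonoidHom.fst S S).subgroupMap_surjective H⟩),
      Nat.mul_div_cancel_left _ Nat.card_pos]
  have h3 : θ x ^ (p : ℤ) = 1 := by rw [zpow_natCast]; exact CfsgLib.WY.cp_pow _
  obtain ⟨i, j, hij⟩ : IsCoprime (degree c) (p : ℤ) :=
    (((Nat.prime_iff_prime_int.1 (Fact.out : p.Prime)).coprime_iff_not_dvd.2 hdeg)).symm
  refine hθx ?_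
  rw [← zpow_one (θ x), ← hij, zpow_add, mul_comm i, mul_comm j, zpow_mul, zpow_mul, h2, h3,
    one_zpow, one_zpow, one_mul]

/-- **Yoshida's theorem**: if `N_F(S)` does not control transfer, `S` maps onto `Z_p ≀ Z_p`. -/
theorem exists_wreath_of_focal_ne (p : ℕ) [Fact p.Prime] (hS : IsPGroup p S)
    (hF : F.IsSaturated p) {T : Subgroup Ω} (hT : ⁅S, S⁆ ≤ T) (hTF : T ≤ F.focalSubgroup)
    (hne : T ≠ F.focalSubgroup)
    (hfix : ∀ (φ : S →* Ω), φ ∈ F.Hom S → ∀ y : S, (y : Ω)⁻¹ * φ y ∈ T) :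
    ∃ (Q : Sylow p (Equiv.Perm (Fin (p ^ 2))))
      (ψ : S →* ↥(Q : Subgroup (Equiv.Perm (Fin (p ^ 2))))), Function.Surjective ψ := by
  classical
  have hfS : F.focalSubgroup ≤ S := by
    refine (Subgroup.closure_le _).2 ?_
    rintro _ ⟨P, φ, x, hφ, rfl⟩
    exact mul_mem (Subgroup.inv_mem _ (le_of_mem_hom hφ x.2)) (apply_mem_S hφ x)
  have hKc : commutator S ≤ T.subgroupOf S := fun x hx => Subgroup.mem_subgroupOf.2
    (hT (S.map_subtype_commutator ▸ (Subgroup.mem_map_of_mem S.subtype hx)))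
  have : (T.subgroupOf S).Normal := ⟨fun x hx g => by
    have h1 := mul_mem (hKc (Subgroup.commutator_mem_commutator
      (Subgroup.mem_top g) (Subgroup.mem_top x))) hx
    rw [commutatorElement_def] at h1
    simpa using h1⟩
  letI : CommGroup (S ⧸ T.subgroupOf S) :=
    { (inferInstance : Group (S ⧸ T.subgroupOf S)) with
      mul_comm := fun a b => by
        obtain ⟨x, rfl⟩ := QuotientGroup.mk'_surjective _ a
        obtain ⟨y, rfl⟩ := QuotientGroup.mk'_surjective _ b
        rw [← map_mul, ← map_mul]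
        refine QuotientGroup.eq.2 (hKc ?_)
        have h1 := Subgroup.commutator_mem_commutator (Subgroup.mem_top y⁻¹) (Subgroup.mem_top x⁻¹)
        rw [commutatorElement_def] at h1
        rw [commutator_def]
        simpa [mul_assoc] using h1 }
  let θ₀ : S →* S ⧸ T.subgroupOf S := QuotientGroup.mk' _
  obtain ⟨c, hsupp, hdeg, hst⟩ := exists_stable_biset hS hF
  have : Fintype S := Fintype.ofFinite S
  have : Fintype (Subgroup (S × S)) := Fintype.ofFinite _
  let s : Finset (Subgroup (S × S)) := Finset.univ.filter (IsGraph F)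
  let μ₀ : S →* S ⧸ T.subgroupOf S := MonoidHom.mk'
    (fun x => ∏ H ∈ s, MonoidHom.transfer (graphHom F θ₀ H) x ^ c H) fun x y => by
      simp only [map_mul, mul_zpow, Finset.prod_mul_distrib]
  have hker : F.focalSubgroup.subgroupOf S ≤ μ₀.ker := by
    have h1 : F.focalSubgroup ≤ μ₀.ker.map S.subtype := by
      refine (Subgroup.closure_le _).2 ?_
      rintro _ ⟨P, φ, x, hφ, rfl⟩
      refine ⟨⟨x, le_of_mem_hom hφ x.2⟩⁻¹ * ⟨φ x, apply_mem_S hφ x⟩, ?_, rfl⟩
      rw [SetLike.mem_coe, MonoidHom.mem_ker, map_mul, map_inv, inv_mul_eq_one]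
      exact (prod_transfer_invariant hsupp hst θ₀ hφ x).symm
    intro x hx
    obtain ⟨v, hv, hvx⟩ := h1 (Subgroup.mem_subgroupOf.1 hx)
    exact Subtype.ext hvx ▸ hv
  -- `μ₀` is not surjective
  have hrange : μ₀.range ≠ ⊤ := by
    intro htop
    have h1 : (T.subgroupOf S).index = μ₀.ker.index := by
      rw [Subgroup.index_ker, htop, Subgroup.card_top, Subgroup.index_eq_card]
    have hle : T.subgroupOf S ≤ F.focalSubgroup.subgroupOf S := fun x hx => hTF hx
    have h2 := Subgroup.index_dvd_of_le hker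
    have h3 := Subgroup.index_dvd_of_le hle
    have h4 : (T.subgroupOf S).index = (F.focalSubgroup.subgroupOf S).index :=
      Nat.dvd_antisymm (h1 ▸ h2) h3
    have h5 : T.subgroupOf S = F.focalSubgroup.subgroupOf S := by
      refine Subgroup.eq_of_le_of_card_ge hle (le_of_eq ?_)
      have e1 := (T.subgroupOf S).card_mul_index
      have e2 := (F.focalSubgroup.subgroupOf S).card_mul_index
      rw [h4] at e1
      exact Nat.eq_of_mul_eq_mul_right (Nat.pos_of_ne_zero Subgroup.index_ne_zero_of_finite)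
        (e2.trans e1.symm)
    refine hne (le_antisymm hTF fun x hx => ?_)
    exact Subgroup.mem_subgroupOf.1 (h5.ge (show (⟨x, hfS hx⟩ : S) ∈ _ from hx))
  have hpA : IsPGroup p (S ⧸ T.subgroupOf S) := hS.to_quotient _
  obtain ⟨M₀, hM₀, hle₀⟩ := (eq_top_or_exists_le_coatom _).resolve_left hrange
  obtain ⟨hM₀n, hM₀i⟩ := CfsgLib.PGroupBasic.coatom_normal_index hpA hM₀
  haveI := hM₀n
  haveI : IsCyclic ((S ⧸ T.subgroupOf S) ⧸ M₀) :=
    isCyclic_of_prime_card (p := p) (by rw [← Subgroup.index_eq_card, hM₀i])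
  let eC : (S ⧸ T.subgroupOf S) ⧸ M₀ ≃* Multiplicative (ZMod p) :=
    mulEquivOfCyclicCardEq (by rw [← Subgroup.index_eq_card, hM₀i]; simp)
  let π : (S ⧸ T.subgroupOf S) →* Multiplicative (ZMod p) :=
    eC.toMonoidHom.comp (QuotientGroup.mk' M₀)
  have hπ : ∀ a, π a = 1 ↔ a ∈ M₀ := fun a => by
    show eC (QuotientGroup.mk' M₀ a) = 1 ↔ _
    rw [map_eq_one_iff _ eC.injective]
    exact QuotientGroup.eq_one_iff a
  refine exists_wreath_of_character p hS hsupp hdeg (π.comp θ₀) (fun h => hM₀.1 ?_) ?_ ?_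
  · refine eq_top_iff.2 fun a _ => ?_
    obtain ⟨y, rfl⟩ := QuotientGroup.mk'_surjective _ a
    exact (hπ _).1 (DFunLike.congr_fun h y)
  · intro φ hφ y
    show π (θ₀ _) = π (θ₀ y)
    congr 1
    symm
    refine QuotientGroup.eq.2 (Subgroup.mem_subgroupOf.2 ?_)
    exact hfix φ hφ y
  · intro s' hs' x
    have hss : s' = s := Finset.ext fun H => by rw [hs' H]; simp [s]
    rw [hss]
    have h1 : π (μ₀ x) = 1 := (hπ _).2 (hle₀ ⟨x, rfl⟩)
    rw [← h1, show μ₀ x = ∏ H ∈ s, MonoidHom.transfer (graphHom F θ₀ H) x ^ c H from rfl, map_prod]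
    refine Finset.prod_congr rfl fun H _ => ?_
    rw [map_zpow, comp_transfer, graphHom_comp]

end CfsgLib.Fusion
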